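import Groth.Agent.SpFP87.DecentDim
import Mathlib.AlgebraicGeometry.Morphisms.Integral
import Mathlib.RingTheory.Ideal.GoingUp
/-!
Integral morphisms, specializations and dimension.
-/

set_option autoImplicit false
set_option linter.style.haveILetI false
set_option backward.isDefEq.respectTransparency false
universe u
open CategoryTheory CategoryTheory.Limits AlgebraicGeometry Opposite Topology
open AlgSp
open Groth.Agent.SpPts86

namespace Groth.Agent.SpFP87

/-- Integral morphisms have no specializations in their fibres. -/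
theorem eq_of_specializes_of_integral {A B : Scheme.{u}} (f : A ⟶ B) [IsIntegralHom f] {a b : ↥A}
    (h : a ⤳ b) (e : f a = f b) : a = b := by
  obtain ⟨V, hV, hbV, -⟩ := exists_isAffineOpen_mem_and_subset (U := (⊤ : B.Opens)) (x := f b) trivial
  have hU : IsAffineOpen (f ⁻¹ᵁ V) := hV.preimage f
  have hbU : b ∈ f ⁻¹ᵁ V := hbV
  have haU : a ∈ f ⁻¹ᵁ V := h.mem_open (f ⁻¹ᵁ V).isOpen hbU
  haveI : IsAffine (f ⁻¹ᵁ V).toScheme := hU
  haveI : IsAffine V.toScheme := hV
  haveI : IsIntegralHom (f ∣_ V) := inferInstance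
  let a' : ↥(f ⁻¹ᵁ V).toScheme := ⟨a, haU⟩
  let b' : ↥(f ⁻¹ᵁ V).toScheme := ⟨b, hbU⟩
  have h' : a' ⤳ b' := (subtype_specializes_iff _ _).2 h
  have e' : (f ∣_ V) a' = (f ∣_ V) b' := by
    refine V.ι.isOpenEmbedding.injective ?_
    rw [← Scheme.Hom.comp_apply, ← Scheme.Hom.comp_apply, morphismRestrict_ι]
    exact e
  obtain ⟨φ, hφ⟩ := Spec.map_surjective (((f ⁻¹ᵁ V).toScheme.isoSpec.inv ≫ (f ∣_ V)) ≫ V.toScheme.isoSpec.hom)
  have hint : φ.hom.IsIntegral := by
    rw [← IsIntegralHom.SpecMap_iff, hφ]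
    infer_instance
  algebraize [φ.hom]
  let P := (f ⁻¹ᵁ V).toScheme.isoSpec.hom a'
  let Q := (f ⁻¹ᵁ V).toScheme.isoSpec.hom b'
  have hPQ : P ⤳ Q := h'.map (f ⁻¹ᵁ V).toScheme.isoSpec.hom.continuous
  have hc : Spec.map φ P = Spec.map φ Q := by
    rw [hφ]
    simp only [P, Q, ← Scheme.Hom.comp_apply, Category.assoc, Iso.hom_inv_id_assoc]
    simp only [Scheme.Hom.comp_apply, e']
  have : P = Q := by
    refine PrimeSpectrum.ext (le_antisymm ((PrimeSpectrum.le_iff_specializes _ _).2 hPQ) fun x hx => ?_)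
    by_contra hxP
    haveI := P.isPrime
    exact (Ideal.comap_lt_comap_of_integral_mem_sdiff ((PrimeSpectrum.le_iff_specializes _ _).2 hPQ) ⟨hx, hxP⟩
      (Algebra.IsIntegral.isIntegral x)).ne (congrArg PrimeSpectrum.asIdeal hc)
  exact congrArg Subtype.val ((f ⁻¹ᵁ V).toScheme.isoSpec.hom.homeomorph.injective this)

attribute [local instance 50] specializationOrder

theorem coheight_eq_of_etale {A B : Scheme.{u}} (f : A ⟶ B) [Etale f] (a : ↥A) :
    Order.coheight a = Order.coheight (f a) := by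
  haveI : LocallyQuasiFinite f := Groth.Agent.Unr55.locallyQuasiFinite_of_formallyUnramified f
  refine Order.coheight_eq_of_strictMono _ (fun a b (hab : a < b) => ?_) (fun a x hax => ?_) a
  · exact lt_of_le_of_ne ((show b ⤳ a from hab.le).map f.continuous) fun e =>
      hab.ne (eq_of_specializes_of_locallyQuasiFinite f hab.le e.symm).symm
  · obtain ⟨a', ha', rfl⟩ := Flat.generalizingMap (f := f) hax.le
    exact ⟨a', lt_of_le_of_ne ha' (fun e => hax.ne (by rw [e])), rfl⟩

theorem coheight_le_of_integral {A B : Scheme.{u}} (f : A ⟶ B) [IsIntegralHom f] (a : ↥A) :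
    Order.coheight a ≤ Order.coheight (f a) :=
  Order.coheight_le_coheight_apply_of_strictMono (fun x => f x) (fun a b (hab : a < b) => lt_of_le_of_ne ((show b ⤳ a from hab.le).map f.continuous)
    fun e => hab.ne (eq_of_specializes_of_integral f hab.le e.symm).symm) a

theorem height_eq_of_integral {A B : Scheme.{u}} (f : A ⟶ B) [IsIntegralHom f] (a : ↥A) :
    Order.height a = Order.height (f a) := by
  refine Order.height_eq_of_strictMono _ (fun a b (hab : a < b) => ?_) (fun a x hxa => ?_) a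
  · exact lt_of_le_of_ne ((show b ⤳ a from hab.le).map f.continuous) fun e =>
      hab.ne (eq_of_specializes_of_integral f hab.le e.symm).symm
  · have hx : f a ⤳ x := hxa.le
    obtain ⟨a', ha', rfl⟩ : x ∈ f '' closure {a} :=
      hx.mem_closed (f.isClosedMap _ isClosed_closure) ⟨a, subset_closure rfl, rfl⟩
    exact ⟨a', lt_of_le_of_ne (specializes_iff_mem_closure.2 ha') (fun e => hxa.ne (by rw [e])), rfl⟩

theorem topologicalKrullDim_le_of_integral_surjective {A B : Scheme.{u}} (f : A ⟶ B) [IsIntegralHom f]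
    [Surjective f] : topologicalKrullDim ↥B ≤ topologicalKrullDim ↥A := by
  rw [topologicalKrullDim, topologicalKrullDim,
    Order.krullDim_eq_of_orderIso (irreducibleSetEquivPoints (α := ↥B)),
    Order.krullDim_eq_of_orderIso (irreducibleSetEquivPoints (α := ↥A))]
  rw [Order.krullDim_eq_iSup_height, Order.krullDim_eq_iSup_height]
  refine iSup_le (α := WithBot ℕ∞) fun b => ?_
  obtain ⟨a, rfl⟩ := f.surjective b
  rw [← height_eq_of_integral]
  exact le_iSup (α := WithBot ℕ∞) (fun y : ↥A => ((Order.height y : ℕ∞) : WithBot ℕ∞)) a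

variable {S : Scheme.{u}} {X Y : Sp S}

/-- An integral morphism pulled back to an affine chart is integral. -/
theorem exists_integral_chart {f : X ⟶ Y} (hf : IsIntegralMor f) {V : Over S} [IsAffine V.left]
    (b : (yon S).obj V ⟶ Y) :
    ∃ (W : Over S) (i : W ⟶ V) (fst : (yon S).obj W ⟶ X),
      IsPullback fst ((yon S).map i) f b ∧ IsIntegralHom i.left := by
  obtain ⟨W, i, fst, sq, -, hi⟩ := hf ‹_› b
  exact ⟨W, i, fst, sq, hi⟩

theorem dim_le_of_integral (hX : IsAlgSpace X) (hY : IsAlgSpace Y) (f : X ⟶ Y) (hf : IsIntegralMor f) :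
    dim X ≤ dim Y := by
  refine iSup_le (α := WithBot ℕ∞) fun U => iSup_le fun a => iSup_le fun ha => ?_
  rw [topologicalKrullDim_eq_iSup]
  refine iSup_le (α := WithBot ℕ∞) fun u => ?_
  obtain ⟨B, b, hb, hbs⟩ := hY.atlas
  obtain ⟨w₀, hw₀⟩ := surjective_ofPt hbs (Points.map f (Points.ofPt a u))
  obtain ⟨N, hN, hwN, hNb⟩ := exists_affine_subchart hb w₀
  haveI := hN
  obtain ⟨W, i, fst, sq, _⟩ := exists_integral_chart hf ((yon S).map (Over.homMk N.ι rfl : Over.mk (N.ι ≫ B.hom) ⟶ B) ≫ b)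
  have hfst : RepWith @Etale fst := (repWith_isStableUnderBaseChange _).of_isPullback sq.flip hNb
  obtain ⟨w, hw, -⟩ := exists_pt_of_isPullback sq (Points.ofPt a u) (⟨w₀, hwN⟩ : N.toScheme) (by
    rw [ofPt_comp]; exact hw₀.symm)
  obtain ⟨R, p, q, _, _, sqR, -, -, -⟩ := exists_common_chart hX ha hfst
  obtain ⟨r, hr1, hr2⟩ := exists_pt_common_chart sqR u w hw.symm
  calc ((Order.coheight u : ℕ∞) : WithBot ℕ∞)
      = ((Order.coheight w : ℕ∞) : WithBot ℕ∞) := by
        rw [← hr1, ← hr2, ← coheight_eq_of_etale, ← coheight_eq_of_etale]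
    _ ≤ ((Order.coheight (i.left w) : ℕ∞) : WithBot ℕ∞) := WithBot.coe_le_coe.2 (coheight_le_of_integral i.left w)
    _ ≤ topologicalKrullDim ↥(Over.mk (N.ι ≫ B.hom) : Over S).left := by
        rw [topologicalKrullDim_eq_iSup]
        exact le_iSup (α := WithBot ℕ∞)
          (fun y : ↥(Over.mk (N.ι ≫ B.hom) : Over S).left => ((Order.coheight y : ℕ∞) : WithBot ℕ∞)) (i.left w)
    _ ≤ dim Y := le_iSup_of_le (α := WithBot ℕ∞) _ (le_iSup_of_le _ (le_iSup_of_le hNb le_rfl))

theorem dim_le_of_integral_surjective (hY : IsAlgSpace Y) (f : X ⟶ Y) (hf : IsIntegralMor f)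
    (hs : IsSurjectiveMor f) : dim Y ≤ dim X := by
  refine iSup_le (α := WithBot ℕ∞) fun V => iSup_le fun b => iSup_le fun hb => ?_
  rw [topologicalKrullDim_eq_iSup]
  refine iSup_le (α := WithBot ℕ∞) fun v => ?_
  obtain ⟨N, hN, hvN, hNb⟩ := exists_affine_subchart hb v
  haveI := hN
  obtain ⟨W, i, fst, sq, _⟩ := exists_integral_chart hf ((yon S).map (Over.homMk N.ι rfl : Over.mk (N.ι ≫ V.hom) ⟶ V) ≫ b)
  have hfst : RepWith @Etale fst := (repWith_isStableUnderBaseChange _).of_isPullback sq.flip hNb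
  haveI : Surjective i.left := ⟨fun z => by
    obtain ⟨x, hx⟩ := hs (Points.ofPt ((yon S).map (Over.homMk N.ι rfl : Over.mk (N.ι ≫ V.hom) ⟶ V) ≫ b) z)
    obtain ⟨w, -, hw⟩ := exists_pt_of_isPullback sq x z hx
    exact ⟨w, hw⟩⟩
  calc ((Order.coheight v : ℕ∞) : WithBot ℕ∞)
      = ((Order.coheight (α := ↥N.toScheme) ⟨v, hvN⟩ : ℕ∞) : WithBot ℕ∞) :=
        WithBot.coe_inj.2 (coheight_eq_of_etale N.ι (⟨v, hvN⟩ : ↥N.toScheme)).symm
    _ ≤ topologicalKrullDim ↥(Over.mk (N.ι ≫ V.hom) : Over S).left := by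
        rw [topologicalKrullDim_eq_iSup]
        exact le_iSup (α := WithBot ℕ∞)
          (fun y : ↥(Over.mk (N.ι ≫ V.hom) : Over S).left => ((Order.coheight y : ℕ∞) : WithBot ℕ∞)) _
    _ ≤ topologicalKrullDim ↥W.left := topologicalKrullDim_le_of_integral_surjective i.left
    _ ≤ dim X := le_iSup_of_le (α := WithBot ℕ∞) _ (le_iSup_of_le _ (le_iSup_of_le hfst le_rfl))

/-- Specializations lift along integral morphisms. -/
theorem exists_specialization_lift_of_integral (hY : IsAlgSpace Y) (f : X ⟶ Y)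
    (hf : IsIntegralMor f) (x : Points X) (y : Points Y) (h : Points.map f x ⤳ y) :
    ∃ x', x ⤳ x' ∧ Points.map f x' = y := by
  obtain ⟨V₀, b₀, hb₀, hb₀s⟩ := hY.atlas
  obtain ⟨v₀, hv₀⟩ := surjective_ofPt hb₀s y
  obtain ⟨N, hN, hvN, hNb⟩ := exists_affine_subchart hb₀ v₀
  haveI := hN
  let ψ := (yon S).map (Over.homMk N.ι rfl : Over.mk (N.ι ≫ V₀.hom) ⟶ V₀) ≫ b₀
  obtain ⟨W, i, fst, sq, _⟩ := exists_integral_chart hf ψ
  have hfst : RepWith @Etale fst := (repWith_isStableUnderBaseChange _).of_isPullback sq.flip hNb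
  let T : Set ↥W.left := Points.ofPt fst ⁻¹' closure {x}
  have hT : IsClosed (i.left '' T) :=
    i.left.isClosedMap _ (isClosed_closure.preimage (Points.continuous_ofPt fst))
  have hv : (⟨v₀, hvN⟩ : N.toScheme) ∈ closure (i.left '' T) := by
    refine mem_closure_iff.2 fun O hO hvO => ?_
    have : Points.map f x ∈ Points.ofPt ψ '' O := h.mem_open (isOpenMap_ofPt hNb _ hO) ⟨_, hvO, by
      rw [ofPt_comp]; exact hv₀⟩
    obtain ⟨z, hz, hzx⟩ := this
    obtain ⟨w, hw, hwz⟩ := exists_pt_of_isPullback sq x z hzx.symm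
    refine ⟨z, hz, w, ?_, hwz⟩
    show Points.ofPt fst w ∈ closure {x}
    rw [hw]
    exact subset_closure rfl
  rw [hT.closure_eq] at hv
  obtain ⟨w, hw, hwv⟩ := hv
  refine ⟨Points.ofPt fst w, specializes_iff_mem_closure.2 hw, ?_⟩
  rw [Points.map_ofPt, sq.w, ofPt_comp, hwv]
  show Points.ofPt ((yon S).map _ ≫ b₀) _ = _
  rw [ofPt_comp]
  exact hv₀

theorem eq_of_specializes_of_integralMor (hX : IsAlgSpace X) (hY : IsAlgSpace Y) (f : X ⟶ Y)
    (hf : IsIntegralMor f) (hd : IsDecent Y) {x x' : Points X} (h : x ⤳ x')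
    (e : Points.map f x = Points.map f x') (hdX : IsDecent X) : x = x' := by
  obtain ⟨V₀, b₀, hb₀, hb₀s⟩ := hY.atlas
  obtain ⟨v₀, hv₀⟩ := surjective_ofPt hb₀s (Points.map f x')
  obtain ⟨N, hN, hvN, hNb⟩ := exists_affine_subchart hb₀ v₀
  haveI := hN
  let ψ := (yon S).map (Over.homMk N.ι rfl : Over.mk (N.ι ≫ V₀.hom) ⟶ V₀) ≫ b₀
  obtain ⟨W, i, fst, sq, _⟩ := exists_integral_chart hf ψ
  have hfst : RepWith @Etale fst := (repWith_isStableUnderBaseChange _).of_isPullback sq.flip hNb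
  obtain ⟨w', hw', -⟩ := exists_pt_of_isPullback sq x' (⟨v₀, hvN⟩ : N.toScheme) (by
    rw [ofPt_comp]; exact hv₀.symm)
  obtain ⟨w, hww', hw⟩ := exists_generalization_lift hX hdX hfst (b := w') (show x ⤳ Points.ofPt fst w' by rw [hw']; exact h)
  have hi : i.left w = i.left w' := by
    refine eq_of_specializes_of_decent hY hd hNb (hww'.map i.left.continuous) ?_
    have key : ∀ u, Points.ofPt ψ (i.left u) = Points.map f (Points.ofPt fst u) := fun u => by
      rw [Points.map_ofPt, sq.w]; exact (ofPt_comp _ _ _).symm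
    rw [key, key, hw, hw', e]
  have := eq_of_specializes_of_integral i.left hww' hi
  rw [← hw, ← hw', this]

theorem isDimensionFunction_of_integral (hX : IsAlgSpace X) (hY : IsAlgSpace Y) (f : Y ⟶ X)
    (hf : IsIntegralMor f) (hs : IsSurjectiveMor f) (hdX : IsDecent X) (hdY : IsDecent Y) (δ : Points X → ℤ)
    (hδ : ∀ a b : Points Y, a ⤳ b → a ≠ b → (δ ∘ Points.map f) b < (δ ∘ Points.map f) a ∧
      ((∀ c : Points Y, a ⤳ c → c ⤳ b → c = a ∨ c = b) → (δ ∘ Points.map f) a = (δ ∘ Points.map f) b + 1)) :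
    ∀ a b : Points X, a ⤳ b → a ≠ b → δ b < δ a ∧
      ((∀ c : Points X, a ⤳ c → c ⤳ b → c = a ∨ c = b) → δ a = δ b + 1) := by
  intro a b hab hne
  obtain ⟨a', rfl⟩ := hs a
  obtain ⟨b', hab', rfl⟩ := exists_specialization_lift_of_integral hX f hf a' b hab
  obtain ⟨h1, h2⟩ := hδ a' b' hab' (fun e => hne (by rw [e]))
  refine ⟨h1, fun h => h2 fun c hac hcb => ?_⟩
  rcases h (Points.map f c) (hac.map (Points.continuous_map f)) (hcb.map (Points.continuous_map f)) with e | e
  · exact Or.inl (eq_of_specializes_of_integralMor hY hX f hf hdX hac e.symm hdY).symm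
  · exact Or.inr (eq_of_specializes_of_integralMor hY hX f hf hdX hcb e hdY)

end Groth.Agent.SpFP87
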