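import Groth.Agent.SpFP87.EtDescRing
import Mathlib.RingTheory.Etale.Kaehler
import Mathlib.RingTheory.Flat.Localization
import Mathlib.RingTheory.Smooth.Flat
import Mathlib.RingTheory.QuasiFinite.Basic

set_option autoImplicit false
set_option linter.style.haveILetI false
open TensorProduct

namespace Groth.Agent.SpFP87

universe u

theorem subsingleton_of_faithfullyFlat {A B M : Type u} [CommRing A] [CommRing B] [Algebra A B]
    [Module.FaithfullyFlat A B] [AddCommGroup M] [Module A M] (h : Subsingleton (B ⊗[A] M)) :
    Subsingleton M :=
  Module.FaithfullyFlat.lTensor_reflects_triviality A B M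

theorem faithfullyFlat_of_flat_surjective {A B : Type u} [CommRing A] [CommRing B] [Algebra A B]
    [Module.Flat A B] (hs : Function.Surjective (PrimeSpectrum.comap (algebraMap A B))) :
    Module.FaithfullyFlat A B := Module.FaithfullyFlat.of_comap_surjective hs

theorem formallyUnramified_of_etale_cover (R : Type u) {A B : Type u} [CommRing R] [CommRing A]
    [CommRing B] [Algebra R A] [Algebra A B] [Algebra R B] [IsScalarTower R A B] [Algebra.Etale A B]
    (hs : Function.Surjective (PrimeSpectrum.comap (algebraMap A B)))
    [Algebra.FormallyUnramified R B] : Algebra.FormallyUnramified R A := by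
  have := faithfullyFlat_of_flat_surjective hs
  refine ⟨subsingleton_of_faithfullyFlat (A := A) (B := B) ?_⟩
  exact (KaehlerDifferential.tensorKaehlerEquivOfFormallyEtale R A B).subsingleton

theorem formallySmooth_of_etale_cover (R : Type u) {A B : Type u} [CommRing R] [CommRing A]
    [CommRing B] [Algebra R A] [Algebra A B] [Algebra R B] [IsScalarTower R A B] [Algebra.Etale A B]
    (hs : Function.Surjective (PrimeSpectrum.comap (algebraMap A B))) [Algebra.FinitePresentation R A]
    [Algebra.FormallySmooth R B] : Algebra.FormallySmooth R A := by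
  have hff := faithfullyFlat_of_flat_surjective hs
  have hΩ : Module.Flat A Ω[A⁄R] := by
    have : Module.Flat B Ω[B⁄R] := inferInstance
    have : Module.Flat B (B ⊗[A] Ω[A⁄R]) :=
      .of_linearEquiv (KaehlerDifferential.tensorKaehlerEquivOfFormallyEtale R A B)
    exact Module.Flat.of_flat_tensorProduct _ _ B
  refine ⟨Module.Flat.projective_of_finitePresentation, subsingleton_of_faithfullyFlat (A := A) (B := B) ?_⟩
  -- extension `P → A` by polynomials, lifted to `C → B`
  let P : Algebra.Extension R A := (Algebra.Generators.self R A).toExtension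
  letI : Algebra P.Ring B := ((algebraMap A B).comp (algebraMap P.Ring A)).toAlgebra
  haveI : IsScalarTower P.Ring A B := .of_algebraMap_eq fun _ => rfl
  haveI : Algebra.IsStandardSmoothOfRelativeDimension 0 A B :=
    Algebra.Etale.iff_isStandardSmoothOfRelativeDimension_zero.1 inferInstance
  obtain ⟨C, _, _, g, hC, hg, hker⟩ := exists_lift_standardSmooth (P := P.Ring) (A := A) (B := B)
    P.algebraMap_surjective
  letI : Algebra R C := ((algebraMap P.Ring C).comp (algebraMap R P.Ring)).toAlgebra
  haveI : IsScalarTower R P.Ring C := .of_algebraMap_eq fun _ => rfl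
  haveI : IsScalarTower R P.Ring B := .of_algebraMap_eq fun r => by
    change algebraMap R B r = algebraMap A B (algebraMap P.Ring A (algebraMap R P.Ring r))
    rw [← IsScalarTower.algebraMap_apply R P.Ring A, ← IsScalarTower.algebraMap_apply R A B]
  let Q : Algebra.Extension R B := .ofSurjective (g.restrictScalars R) hg
  letI : Algebra P.Ring Q.Ring := (inferInstance : Algebra P.Ring C)
  let f : P.Hom Q :=
    { toRingHom := algebraMap P.Ring C
      toRingHom_algebraMap := fun x => rfl
      algebraMap_toRingHom := fun x => g.commutes x }
  haveI : Algebra.FormallySmooth R P.Ring := inferInstanceAs (Algebra.FormallySmooth R (MvPolynomial A R))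
  haveI : Algebra.FormallySmooth R C := .comp R P.Ring C
  haveI : Algebra.FormallySmooth R Q.Ring := ‹Algebra.FormallySmooth R C›
  have key : Function.Bijective ((f.mapKer rfl).liftBaseChange Q.Ring) := by
    haveI : Module.Flat P.Ring C := inferInstance
    constructor
    · have h1 : Function.Injective (LinearMap.lTensor C (P.ker.subtype)) :=
        Module.Flat.lTensor_preserves_injective_linearMap _ Subtype.val_injective
      have h2 : ∀ z, ((f.mapKer rfl).liftBaseChange Q.Ring z : Q.Ring) =
          TensorProduct.rid P.Ring C (LinearMap.lTensor C P.ker.subtype z) := by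
        intro z
        induction z using TensorProduct.induction_on with
        | zero => simp only [map_zero]; rfl
        | tmul c x =>
          rw [LinearMap.liftBaseChange_tmul]
          show (HMul.hMul (α := C) (β := C) c (algebraMap P.Ring C x.1)) = x.1 • (c : C)
          rw [Algebra.smul_def, mul_comm]; rfl
        | add a b ha hb =>
          let L := (TensorProduct.rid P.Ring C).toLinearMap.comp (LinearMap.lTensor C P.ker.subtype)
          rw [map_add]
          exact (congrArg₂ (fun s t : C => s + t) ha hb).trans (L.map_add a b).symm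
      intro a b hab
      exact h1 ((TensorProduct.rid P.Ring C).injective (by rw [← h2, ← h2, hab]))
    · rintro ⟨z, hz⟩
      have hz' : z ∈ Ideal.map (algebraMap P.Ring C) P.ker := hker ▸ hz
      suffices z ∈ Submodule.map (Q.ker.subtype) (LinearMap.range ((f.mapKer rfl).liftBaseChange Q.Ring)) by
        obtain ⟨w, ⟨v, rfl⟩, hw⟩ := this
        exact ⟨v, Subtype.ext hw⟩
      refine (Submodule.span_le (R := Q.Ring)).2 ?_ hz'
      rintro _ ⟨x, hx, rfl⟩
      refine ⟨_, ⟨(1 : Q.Ring) ⊗ₜ ⟨x, hx⟩, rfl⟩, ?_⟩
      rw [LinearMap.liftBaseChange_tmul, one_smul]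
      rfl
  have e1 := Algebra.Extension.tensorH1CotangentOfFormallyEtale f rfl
    (RingHom.formallyEtale_algebraMap.mpr (inferInstance : Algebra.FormallyEtale P.Ring C)) key
  have e2 := Algebra.Extension.equivH1CotangentOfFormallySmooth Q
  exact (e1 ≪≫ₗ e2).subsingleton

theorem smooth_of_etale_cover (R : Type u) {A B : Type u} [CommRing R] [CommRing A]
    [CommRing B] [Algebra R A] [Algebra A B] [Algebra R B] [IsScalarTower R A B] [Algebra.Etale A B]
    (hs : Function.Surjective (PrimeSpectrum.comap (algebraMap A B)))
    [Algebra.Smooth R B] : Algebra.Smooth R A := by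
  haveI := finitePresentation_of_etale_cover R hs
  exact ⟨formallySmooth_of_etale_cover R hs, inferInstance⟩

theorem etale_of_etale_cover (R : Type u) {A B : Type u} [CommRing R] [CommRing A]
    [CommRing B] [Algebra R A] [Algebra A B] [Algebra R B] [IsScalarTower R A B] [Algebra.Etale A B]
    (hs : Function.Surjective (PrimeSpectrum.comap (algebraMap A B)))
    [Algebra.Etale R B] : Algebra.Etale R A := by
  haveI := finitePresentation_of_etale_cover R hs
  haveI := formallyUnramified_of_etale_cover R hs
  haveI := formallySmooth_of_etale_cover R hs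
  exact ⟨Algebra.FormallyEtale.iff_formallyUnramified_and_formallySmooth.2 ⟨‹_›, ‹_›⟩, inferInstance⟩

theorem quasiFinite_of_etale_cover (R : Type u) {A B : Type u} [CommRing R] [CommRing A]
    [CommRing B] [Algebra R A] [Algebra A B] [Algebra R B] [IsScalarTower R A B] [Algebra.Etale A B]
    (hs : Function.Surjective (PrimeSpectrum.comap (algebraMap A B)))
    [Algebra.QuasiFinite R B] : Algebra.QuasiFinite R A := by
  have := faithfullyFlat_of_flat_surjective hs
  refine ⟨fun p _ => ?_⟩
  let φ : p.Fiber A →ₐ[p.ResidueField] p.Fiber B :=
    Algebra.TensorProduct.map (AlgHom.id _ _) (IsScalarTower.toAlgHom R A B)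
  have hφ : Function.Injective φ := by
    let e : B ⊗[A] (A ⊗[R] p.ResidueField) ≃ₗ[A] B ⊗[R] p.ResidueField :=
      TensorProduct.AlgebraTensorModule.cancelBaseChange R A A B p.ResidueField
    let c1 := TensorProduct.comm R p.ResidueField A
    let c2 := TensorProduct.comm R p.ResidueField B
    have h : ∀ z, e (1 ⊗ₜ c1 z) = c2 (φ z) := by
      intro z
      induction z using TensorProduct.induction_on with
      | zero => simp
      | tmul k a => simp [e, c1, c2, φ, TensorProduct.smul_tmul', Algebra.smul_def]
      | add a b ha hb => simp only [map_add, TensorProduct.tmul_add, ha, hb]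
    intro x y hxy
    apply c1.injective
    apply Module.FaithfullyFlat.tensorProduct_mk_injective (A := A) (B := B) (A ⊗[R] p.ResidueField)
    apply e.injective
    rw [TensorProduct.mk_apply, TensorProduct.mk_apply, h, h, hxy]
  exact Module.Finite.of_injective φ.toLinearMap hφ

end Groth.Agent.SpFP87
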