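import Groth.Agent.SpFP87.LocP
import Groth.Agent.SpFP87.EtDescSmooth
import Mathlib.AlgebraicGeometry.Morphisms.QuasiFinite
import Mathlib.AlgebraicGeometry.Morphisms.Etale
import Mathlib.AlgebraicGeometry.Morphisms.UniversallyOpen
import Mathlib.RingTheory.Unramified.LocalStructure

set_option autoImplicit false
set_option linter.style.haveILetI false
universe u
open CategoryTheory CategoryTheory.Limits AlgebraicGeometry Opposite
open scoped TensorProduct

namespace Groth.Agent.SpFP87

variable {P : MorphismProperty Scheme.{u}}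
  {Q : ∀ {R S : Type u} [CommRing R] [CommRing S], (R →+* S) → Prop}

theorem exists_affine_surjective {X X' : Scheme.{u}} [IsAffine X] (c : X' ⟶ X) (hc : Etale c)
    (hs : Surjective c) :
    ∃ (W : Scheme.{u}) (σ : W ⟶ X'), IsAffine W ∧ Etale σ ∧ Surjective (σ ≫ c) := by
  classical
  have hop : IsOpenMap c.base := c.isOpenMap
  let O : X'.affineOpens → Set X := fun U => c.base '' (U.1 : Set X')
  have hcov : (Set.univ : Set X) ⊆ ⋃ U, O U := by
    intro x _
    obtain ⟨x', rfl⟩ := c.surjective x
    obtain ⟨U, hU, hxU, -⟩ := exists_isAffineOpen_mem_and_subset (U := (⊤ : X'.Opens)) (x := x') trivial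
    exact Set.mem_iUnion.2 ⟨⟨U, hU⟩, ⟨x', hxU, rfl⟩⟩
  obtain ⟨t, ht⟩ := (isCompact_univ (X := ↥X)).elim_finite_subcover O (fun U => hop _ U.1.2) hcov
  have (i : ↥t) : IsAffine (i.1.1 : X'.Opens).toScheme := i.1.2
  refine ⟨∐ fun i : ↥t => (i.1.1 : X'.Opens).toScheme, Sigma.desc fun i => (i.1.1 : X'.Opens).ι,
    inferInstance, (haveI : IsZariskiLocalAtSource (@Etale.{u} : MorphismProperty Scheme.{u}) :=
      HasRingHomProperty.instIsZariskiLocalAtSource (Q := @RingHom.Etale); IsZariskiLocalAtSource.sigmaDesc (fun i => inferInstance)), ⟨fun x => ?_⟩⟩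
  obtain ⟨U, hU, x', hx', rfl⟩ := Set.mem_iUnion₂.1 (ht (Set.mem_univ x))
  refine ⟨(Sigma.ι (fun i : ↥t => (i.1.1 : X'.Opens).toScheme) ⟨U, hU⟩).base ⟨x', hx'⟩, ?_⟩
  exact congrArg c.base (congrArg (fun m : (U.1 : X'.Opens).toScheme ⟶ X' => m.base ⟨x', hx'⟩)
    (Sigma.ι_desc (fun i : ↥t => (i.1.1 : X'.Opens).ι) ⟨U, hU⟩))

/-- Reduce locality on the source for the etale topology to a statement about rings. -/
theorem of_cover_of_ringHom [HasRingHomProperty P Q] [P.IsStableUnderBaseChange]
    [P.IsStableUnderComposition] (hle : ∀ {X Y : Scheme.{u}} (f : X ⟶ Y), Etale f → P f)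
    (hQ : ∀ {R A B : Type u} [CommRing R] [CommRing A] [CommRing B] (φ : R →+* A) (ψ : A →+* B),
      ψ.Etale → Function.Surjective (PrimeSpectrum.comap ψ) → Q (ψ.comp φ) → Q φ)
    {X' X Y : Scheme.{u}} (c : X' ⟶ X) (f : X ⟶ Y) (hc : Etale c) (hs : Surjective c) (h : P (c ≫ f)) :
    P f := by
  have := hc; have := hs
  refine HasRingHomProperty.iff_appLE.2 fun U V e => ?_
  let g : (V.1 : X.Opens).toScheme ⟶ (U.1 : Y.Opens).toScheme := f.resLE U.1 V.1 e
  have : IsAffine (V.1 : X.Opens).toScheme := V.2
  have : IsAffine (U.1 : Y.Opens).toScheme := U.2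
  have hg : P ((c ∣_ V.1) ≫ g) := by
    apply P.of_postcomp (W' := @IsOpenImmersion) _ (U.1 : Y.Opens).ι inferInstance
    rw [Category.assoc, Scheme.Hom.resLE_comp_ι, morphismRestrict_ι_assoc]
    exact P.comp_mem _ _ (hle _ inferInstance) h
  have : Surjective (c ∣_ V.1) := IsZariskiLocalAtTarget.restrict hs _
  obtain ⟨W, σ, _, hσ, hσs⟩ := exists_affine_surjective (c ∣_ V.1) inferInstance inferInstance
  let d := σ ≫ (c ∣_ V.1)
  have hd : Etale d := inferInstance
  have hdg : P (d ≫ g) := by
    rw [Category.assoc]; exact P.comp_mem _ _ (hle _ hσ) hg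
  have h1 : Q (d ≫ g).appTop.hom := (HasRingHomProperty.iff_of_isAffine (P := P)).1 hdg
  rw [Scheme.Hom.comp_appTop, CommRingCat.hom_comp] at h1
  have h2 : RingHom.Etale d.appTop.hom := (HasRingHomProperty.iff_of_isAffine (P := @Etale.{u})).1 hd
  have h3 : Function.Surjective (PrimeSpectrum.comap d.appTop.hom) := by
    have : Surjective (Spec.map d.appTop) := by
      have e2 : Spec.map d.appTop = W.isoSpec.inv ≫ d ≫ (V.1 : X.Opens).toScheme.isoSpec.hom := by
        rw [← Scheme.isoSpec_hom_naturality, Iso.inv_hom_id_assoc]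
      rw [e2]; infer_instance
    exact (Spec.map d.appTop).surjective
  have h4 : Q g.appTop.hom := hQ _ _ h2 h3 h1
  have := RingHom.toMorphismProperty_respectsIso_iff.mp
    (HasRingHomProperty.isLocal_ringHomProperty P (Q := Q)).respectsIso
  exact (MorphismProperty.arrow_mk_iso_iff (RingHom.toMorphismProperty Q)
      (arrowResLEAppIso f U.1 V.1 e)).1 h4

section RingHom

variable {R A B : Type u} [CommRing R] [CommRing A] [CommRing B] (φ : R →+* A) (ψ : A →+* B)

theorem ringHom_descends (h1 : ψ.Etale) (h2 : Function.Surjective (PrimeSpectrum.comap ψ)) :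
    ((ψ.comp φ).FiniteType → φ.FiniteType) ∧ ((ψ.comp φ).FinitePresentation → φ.FinitePresentation) ∧
    ((ψ.comp φ).Smooth → φ.Smooth) ∧ ((ψ.comp φ).Etale → φ.Etale) ∧
    ((ψ.comp φ).FormallyUnramified → φ.FormallyUnramified) ∧ ((ψ.comp φ).QuasiFinite → φ.QuasiFinite) ∧
    ((ψ.comp φ).Flat → φ.Flat) := by
  algebraize [φ, ψ, ψ.comp φ]
  haveI : Algebra.Etale A B := RingHom.etale_algebraMap.1 h1
  haveI := faithfullyFlat_of_flat_surjective (A := A) (B := B) h2
  refine ⟨fun h => ?_, fun h => ?_, fun h => ?_, fun h => ?_, fun h => ?_, fun h => ?_, fun h => ?_⟩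
  · haveI : Algebra.FiniteType R B := h
    exact finiteType_of_etale_cover R h2
  · haveI : Algebra.FinitePresentation R B := h
    exact finitePresentation_of_etale_cover R h2
  · haveI : Algebra.Smooth R B := h
    exact smooth_of_etale_cover R h2
  · haveI : Algebra.Etale R B := h
    exact etale_of_etale_cover R h2
  · haveI : Algebra.FormallyUnramified R B := h
    exact formallyUnramified_of_etale_cover R h2
  · haveI : Algebra.QuasiFinite R B := h
    exact quasiFinite_of_etale_cover R h2
  · haveI : Module.Flat R B := h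
    refine Module.Flat.iff_lTensor_preserves_injective_linearMap.2 fun N P _ _ _ _ f hf => ?_
    let F : A ⊗[R] N →ₗ[A] A ⊗[R] P := f.baseChange A
    suffices hF : Function.Injective F from hF
    suffices hB : Function.Injective (F.baseChange B) by
      intro x y hxy
      exact Module.FaithfullyFlat.tensorProduct_mk_injective (A := A) (B := B) _
        (hB (by simp [hxy]))
    have h' := Module.Flat.lTensor_preserves_injective_linearMap (M := B) f hf
    let e1 := TensorProduct.AlgebraTensorModule.cancelBaseChange R A B B N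
    let e2 := TensorProduct.AlgebraTensorModule.cancelBaseChange R A B B P
    have hc : ∀ z, e2 (F.baseChange B z) = f.lTensor B (e1 z) := fun z => by
      induction z using TensorProduct.induction_on with
      | zero => simp
      | tmul b w =>
        induction w using TensorProduct.induction_on with
        | zero => simp
        | tmul a n => simp [e1, e2, F]
        | add a c ha hb => simp only [TensorProduct.tmul_add, map_add, ha, hb]
      | add a c ha hb => simp only [map_add, ha, hb]
    intro x y hxy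
    exact e1.injective (h' (by rw [← hc, ← hc, hxy]))

end RingHom

instance etaleStableComp : MorphismProperty.IsStableUnderComposition (@Etale.{u} : MorphismProperty Scheme.{u}) :=
  ⟨fun f g hf hg => @Etale.etale_comp _ _ f _ g hf hg⟩

instance : EtLoc (@Etale.{u} : MorphismProperty Scheme.{u}) where
  of_etale _ h := h
  of_cover :=
    of_cover_of_ringHom (P := (@Etale.{u} : MorphismProperty Scheme.{u})) (fun _ h => h) (fun φ ψ h1 h2 => (ringHom_descends φ ψ h1 h2).2.2.2.1)

instance : EtLoc (@Smooth.{u} : MorphismProperty Scheme.{u}) where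
  of_etale _ _ := inferInstance
  of_cover := of_cover_of_ringHom (P := (@Smooth.{u} : MorphismProperty Scheme.{u})) (fun _ _ => inferInstance) (fun φ ψ h1 h2 => (ringHom_descends φ ψ h1 h2).2.2.1)

instance : EtLoc (@LocallyOfFiniteType.{u} : MorphismProperty Scheme.{u}) where
  of_etale _ _ := inferInstance
  of_cover := of_cover_of_ringHom (P := (@LocallyOfFiniteType.{u} : MorphismProperty Scheme.{u})) (fun _ _ => inferInstance) (fun φ ψ h1 h2 => (ringHom_descends φ ψ h1 h2).1)

instance : EtLoc (@LocallyOfFinitePresentation.{u} : MorphismProperty Scheme.{u}) where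
  of_etale _ _ := inferInstance
  of_cover := of_cover_of_ringHom (P := (@LocallyOfFinitePresentation.{u} : MorphismProperty Scheme.{u})) (fun _ _ => inferInstance) (fun φ ψ h1 h2 => (ringHom_descends φ ψ h1 h2).2.1)

instance : EtLoc (@FormallyUnramified.{u} : MorphismProperty Scheme.{u}) where
  of_etale _ _ := inferInstance
  of_cover := of_cover_of_ringHom (P := (@FormallyUnramified.{u} : MorphismProperty Scheme.{u})) (fun _ _ => inferInstance) (fun φ ψ h1 h2 => (ringHom_descends φ ψ h1 h2).2.2.2.2.1)

instance : EtLoc (@Flat.{u} : MorphismProperty Scheme.{u}) where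
  of_etale _ _ := inferInstance
  of_cover := of_cover_of_ringHom (P := (@Flat.{u} : MorphismProperty Scheme.{u})) (fun _ _ => inferInstance) (fun φ ψ h1 h2 => (ringHom_descends φ ψ h1 h2).2.2.2.2.2.2)

theorem etale_locallyQuasiFinite {X Y : Scheme.{u}} (f : X ⟶ Y) (h : Etale f) : LocallyQuasiFinite f := by
  rw [HasRingHomProperty.iff_appLE (P := @LocallyQuasiFinite.{u})]
  intro U V e
  have := f.etale_appLE U.2 V.2 e
  algebraize [(f.appLE U.1 V.1 e).hom]
  show (f.appLE U.1 V.1 e).hom.QuasiFinite
  delta RingHom.QuasiFinite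
  infer_instance

instance : EtLoc (@LocallyQuasiFinite.{u} : MorphismProperty Scheme.{u}) where
  of_etale := etale_locallyQuasiFinite
  of_cover := of_cover_of_ringHom etale_locallyQuasiFinite (fun φ ψ h1 h2 => (ringHom_descends φ ψ h1 h2).2.2.2.2.2.1)

instance etLoc_inf (P Q : MorphismProperty Scheme.{u}) [EtLoc P] [EtLoc Q] : EtLoc (P ⊓ Q) where
  toIsStableUnderBaseChange := MorphismProperty.IsStableUnderBaseChange.inf
  toIsStableUnderComposition :=
    ⟨fun f g hf hg => ⟨P.comp_mem f g hf.1 hg.1, Q.comp_mem f g hf.2 hg.2⟩⟩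
  of_etale f h := ⟨EtLoc.of_etale f h, EtLoc.of_etale f h⟩
  of_cover c f hc hs h := ⟨EtLoc.of_cover c f hc hs h.1, EtLoc.of_cover c f hc hs h.2⟩

end Groth.Agent.SpFP87
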