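import Groth.Agent.SpFP87.LocP
import Mathlib.CategoryTheory.MorphismProperty.Descent

set_option autoImplicit false
universe u
open CategoryTheory CategoryTheory.Limits AlgebraicGeometry Opposite

namespace Groth.Agent.SpFP87
open AlgSp

variable {S : Scheme.{u}}

theorem isPullback_left {A B C D : Over S} {p : A ⟶ B} {q : A ⟶ C} {r : B ⟶ D} {s : C ⟶ D}
    (sq : IsPullback ((yon S).map p) ((yon S).map q) ((yon S).map r) ((yon S).map s)) :
    IsPullback p.left q.left r.left s.left :=
  (IsPullback.of_map (yon S)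
    ((yon S).map_injective (by rw [Functor.map_comp, Functor.map_comp]; exact sq.w)) sq).map (Over.forget S)

/-- Descend a property of a representable map along a map with local lifts. -/
theorem repWith_of_baseChange {P : MorphismProperty Scheme.{u}} [P.IsStableUnderBaseChange]
    [P.DescendsAlong fppfSurj] {X Y X' Y' : Sp S} {fst : X' ⟶ X} {snd : X' ⟶ Y'} {f : X ⟶ Y}
    {p : Y' ⟶ Y} (h : IsPullback fst snd f p) (hp : LocLift p) (hf : Representable f)
    (hsnd : RepWith P snd) : RepWith P f := by
  refine ⟨hf, fun T A g fstA sndA sq => ?_⟩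
  obtain ⟨W, c, l, hc, hl⟩ := hp T g
  obtain ⟨B, sndB, fstB, sqB⟩ := hsnd.rep l
  have h1 : IsPullback (fstB ≫ fst) ((yon S).map sndB) f ((yon S).map c ≫ g) := by
    rw [← hl]; exact sqB.paste_horiz h
  let m : (yon S).obj B ⟶ (yon S).obj A :=
    sq.lift (fstB ≫ fst) ((yon S).map (sndB ≫ c))
      (by rw [h1.w, Functor.map_comp, Category.assoc])
  have h2 : IsPullback ((yon S).map ((yon S).preimage m)) ((yon S).map sndB) ((yon S).map sndA)
      ((yon S).map c) := by
    refine IsPullback.of_right (h₁₂ := fstA) (v₁₃ := f) (h₂₂ := g) ?_ ?_ sq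
    · rw [Functor.map_preimage, sq.lift_fst]; exact h1
    · rw [Functor.map_preimage, sq.lift_snd, Functor.map_comp]
  exact MorphismProperty.of_isPullback_of_descendsAlong (Q := fppfSurj) (isPullback_left h2).flip hc
    (hsnd.property l _ _ sqB)

/-- For a representable map the two meanings of `P` agree. -/
theorem repWith_of_locP {P : MorphismProperty Scheme.{u}} [EtLoc P] [P.DescendsAlong fppfSurj]
    {X Y : Sp S} {f : X ⟶ Y} (hY : IsAlgSpace Y) (hf : Representable f) (h : LocP P f) : RepWith P f := by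
  have := EtLoc.respectsIso P
  obtain ⟨V, b, hb, hbs⟩ := hY.atlas
  obtain ⟨U, q, a, sq⟩ := hf b
  refine repWith_of_baseChange sq (locLift_of_atlas hb hbs) hf ((repWith_yon_map_iff P q).2 ?_)
  exact h a b q ((repWith_isStableUnderBaseChange (@Etale : MorphismProperty Scheme.{u})).of_isPullback
    sq.flip hb) hb sq.w

theorem locP_of_repWith {P : MorphismProperty Scheme.{u}} [EtLoc P] {X Y : Sp S} {f : X ⟶ Y}
    (hX : Representable (Limits.diag X)) (hY : IsAlgSpace Y) (h : RepWith P f) : LocP P f := by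
  obtain ⟨V, b, hb, hbs⟩ := hY.atlas
  obtain ⟨U, q, a, sq⟩ := h.rep b
  exact locP_of_chart hX hY.diag
    ((repWith_isStableUnderBaseChange (@Etale : MorphismProperty Scheme.{u})).of_isPullback sq.flip hb)
    ((repWith_isStableUnderBaseChange (@Surjective : MorphismProperty Scheme.{u})).of_isPullback sq.flip hbs)
    hb sq.w (h.property b a q sq)

theorem locP_iff_repWith {P : MorphismProperty Scheme.{u}} [EtLoc P] [P.DescendsAlong fppfSurj]
    {X Y : Sp S} {f : X ⟶ Y} (hX : Representable (Limits.diag X)) (hY : IsAlgSpace Y)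
    (hf : Representable f) : LocP P f ↔ RepWith P f :=
  ⟨repWith_of_locP hY hf, locP_of_repWith hX hY⟩

theorem locP_yon_map_iff {P : MorphismProperty Scheme.{u}} [EtLoc P] {U V : Over S} (g : U ⟶ V) :
    LocP P ((yon S).map g) ↔ P g.left :=
  ⟨locP_yon_map, fun h => locP_of_repWith (IsAlgSpace.yon_obj U).diag (IsAlgSpace.yon_obj V)
    ((repWith_yon_map_iff P g).2 h)⟩

theorem locP_of_isIso {P : MorphismProperty Scheme.{u}} [EtLoc P] [P.ContainsIdentities] {X Y : Sp S}
    (f : X ⟶ Y) [IsIso f] (hX : IsAlgSpace X) (hY : IsAlgSpace Y) : LocP P f := by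
  obtain ⟨U, a, ha, has⟩ := hX.atlas
  refine locP_of_chart (h := 𝟙 U) (b := a ≫ f) hX.diag hY.diag ha has
    (MorphismProperty.RespectsIso.postcomp (RepWith (@Etale : MorphismProperty Scheme.{u})) f a ha)
    (by simp) ?_
  exact P.id_mem _

end Groth.Agent.SpFP87
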