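import Groth.Agent.SpFP87.EtLocInst
import Groth.Agent.SpFP87.LocPRep
import Groth.Agent.SpPts86.Basic
import Groth.Prelude.Def_AlgSpCov
/-!
Coverings of algebraic spaces: base change and composition of fpqc coverings, fppf coverings.
-/

set_option autoImplicit false
set_option linter.style.haveILetI false
universe u
open CategoryTheory CategoryTheory.Limits AlgebraicGeometry Opposite
open AlgSp
open Groth.Agent.SpPts86

namespace Groth.Agent.SpFP87

variable {S : Scheme.{u}}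

/-- Finitely many affine opens of an open jointly surjective family over a quasi-compact target. -/
theorem exists_affine_opens_cover {Z : Scheme.{u}} [CompactSpace Z] {ι : Type*} {V : ι → Scheme.{u}}
    (c : ∀ i, V i ⟶ Z) (hopen : ∀ i, IsOpenMap (c i)) (hsurj : ∀ z : Z, ∃ i, z ∈ Set.range (c i)) :
    ∃ (m : ℕ) (i : Fin m → ι) (W : ∀ j, (V (i j)).Opens),
      (∀ j, IsAffineOpen (W j)) ∧ ∀ z : Z, ∃ j, z ∈ Set.range ((W j).ι ≫ c (i j)) := by
  classical
  let O : (Σ i, (V i).affineOpens) → Set Z := fun r => c r.1 '' (r.2.1 : Set (V r.1))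
  have hcov : (Set.univ : Set Z) ⊆ ⋃ r, O r := by
    intro z _
    obtain ⟨i, v, rfl⟩ := hsurj z
    obtain ⟨U, hU, hv, -⟩ := exists_isAffineOpen_mem_and_subset (U := (⊤ : (V i).Opens)) (x := v) trivial
    exact Set.mem_iUnion.2 ⟨⟨i, U, hU⟩, v, hv, rfl⟩
  obtain ⟨t, ht⟩ := isCompact_univ.elim_finite_subcover O (fun r => hopen _ _ r.2.1.2) hcov
  let e := t.equivFin
  refine ⟨t.card, fun j => (e.symm j).1.1, fun j => (e.symm j).1.2.1, fun j => (e.symm j).1.2.2,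
    fun z => ?_⟩
  obtain ⟨r, hr, v, hv, rfl⟩ := Set.mem_iUnion₂.1 (ht (Set.mem_univ z))
  obtain ⟨j, hj⟩ := e.symm.surjective ⟨r, hr⟩
  have hr' : (e.symm j).1 = r := congrArg Subtype.val hj
  clear hj
  subst hr'
  exact ⟨j, ⟨v, hv⟩, rfl⟩

theorem isFpqcCover_baseChange {X X' : Sp S} (a : X' ⟶ X) {ι : Type u} (Y : ι → Sp S) (g : ∀ i, Y i ⟶ X)
    (Y' : ι → Sp S) (q : ∀ i, Y' i ⟶ X') (p : ∀ i, Y' i ⟶ Y i)
    (sq : ∀ i, IsPullback (q i) (p i) a (g i)) (hX : IsAlgSpace X) (hX' : IsAlgSpace X')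
    (hY : ∀ i, IsAlgSpace (Y i)) (h : IsFpqcCover Y g) : IsFpqcCover Y' q := by
  refine ⟨fun i => locP_baseChange (sq i).flip (hY i) hX hX' (h.1 i), fun Z hZ z => ?_⟩
  obtain ⟨m, W, c, h1, h2, h3, h4⟩ := h.2 Z hZ (z ≫ a)
  refine ⟨m, W, c, h1, h2, h3, fun j => ?_⟩
  obtain ⟨i, l, hl⟩ := h4 j
  exact ⟨i, (sq i).lift ((yon S).map (c j) ≫ z) l (by rw [Category.assoc]; exact hl.symm),
    (sq i).lift_fst _ _ _⟩

theorem isFpqcCover_comp {X : Sp S} {ι : Type u} (Y : ι → Sp S) (g : ∀ i, Y i ⟶ X) (κ : ι → Type u)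
    (Y' : ∀ i, κ i → Sp S) (g' : ∀ i j, Y' i j ⟶ Y i) (hX : IsAlgSpace X) (hY : ∀ i, IsAlgSpace (Y i))
    (hY' : ∀ i j, IsAlgSpace (Y' i j)) (h : IsFpqcCover Y g) (h' : ∀ i, IsFpqcCover (Y' i) (g' i)) :
    IsFpqcCover (fun r : Σ i, κ i => Y' r.1 r.2) (fun r => g' r.1 r.2 ≫ g r.1) := by
  classical
  refine ⟨fun r => locP_comp (hY' _ _) (hY _) hX ((h' r.1).1 r.2) (h.1 r.1), fun Z hZ z => ?_⟩
  obtain ⟨m, W, c, h1, h2, h3, h4⟩ := h.2 Z hZ z
  choose i l hl using h4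
  choose n W' c' k1 k2 k3 k4 using fun j => (h' (i j)).2 (W j) (h1 j) (l j)
  let e := (Fintype.equivFin (Σ j : Fin m, Fin (n j))).symm
  refine ⟨_, fun r => W' (e r).1 (e r).2, fun r => c' (e r).1 (e r).2 ≫ c (e r).1,
    fun r => k1 _ _, fun r => ?_, fun z' => ?_, fun r => ?_⟩
  · rw [Over.comp_left]
    haveI := k2 (e r).1 (e r).2
    haveI := h2 (e r).1
    infer_instance
  · obtain ⟨j, w, rfl⟩ := h3 z'
    obtain ⟨j', v, rfl⟩ := k3 j w
    have key : ∀ s : Σ j : Fin m, Fin (n j),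
        (c j).left ((c' j j').left v) ∈ Set.range (c' s.1 s.2 ≫ c s.1).left →
        ∃ r, (c j).left ((c' j j').left v) ∈ Set.range (c' (e r).1 (e r).2 ≫ c (e r).1).left := fun s hs => by
      obtain ⟨r, rfl⟩ := e.surjective s
      exact ⟨r, hs⟩
    exact key ⟨j, j'⟩ ⟨v, rfl⟩
  · obtain ⟨k, l', hl'⟩ := k4 (e r).1 (e r).2
    exact ⟨⟨i (e r).1, k⟩, l', by
      rw [← Category.assoc, hl', Category.assoc, hl, Functor.map_comp, Category.assoc]⟩

/-- Over a scheme, an fppf covering of an algebraic space is refined by a family of flat, locally finitely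
presented morphisms of schemes which is jointly surjective. -/
theorem exists_fppf_family {X : Sp S} {ι : Type u} (Y : ι → Sp S) (g : ∀ i, Y i ⟶ X) (hX : IsAlgSpace X)
    (hY : ∀ i, IsAlgSpace (Y i)) (h : IsFppfCover Y g) {Z : Over S} (z : (yon S).obj Z ⟶ X) :
    ∃ (V : ι → Over S) (c : ∀ i, V i ⟶ Z) (l : ∀ i, (yon S).obj (V i) ⟶ Y i),
      (∀ i, Flat (c i).left ∧ LocallyOfFinitePresentation (c i).left) ∧
      (∀ t : ↥Z.left, ∃ i, t ∈ Set.range (c i).left) ∧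
      ∀ i, l i ≫ g i = (yon S).map (c i) ≫ z := by
  choose U a ha has using fun i => (hY i).atlas
  choose V p q sq using fun i => exists_isPullback_yon hX.diag (a i ≫ g i) z
  have key : ∀ (P : MorphismProperty Scheme.{u}) [EtLoc P], (∀ i, LocP P (g i)) →
      ∀ i, P (q i).left := by
    intro P _ hg i
    exact locP_yon_map (locP_baseChange (sq i) (IsAlgSpace.yon_obj _) hX (IsAlgSpace.yon_obj _)
      (locP_comp (IsAlgSpace.yon_obj _) (hY i) hX
        (locP_of_repWith (IsAlgSpace.yon_obj _).diag (hY i)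
          (repWith_mono (fun _ _ f hf => EtLoc.of_etale f hf) (ha i))) (hg i)))
  refine ⟨V, q, fun i => (yon S).map (p i) ≫ a i, fun i => ⟨key _ (fun j => (h.1 j).1) i,
    key _ (fun j => (h.1 j).2) i⟩, fun t => ?_, fun i => by rw [Category.assoc]; exact (sq i).w⟩
  obtain ⟨i, y, hy⟩ := h.2 (Points.ofPt z t)
  obtain ⟨u, rfl⟩ := surjective_ofPt (has i) y
  obtain ⟨v, hv⟩ := exists_pt_of_isPullback (sq i) (Points.ofScheme (U i) u) t (by
    rw [← Points.ofPt_eq_map_ofScheme, ← Points.map_ofPt]; exact hy)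
  exact ⟨i, v, hv.2⟩

theorem isFpqcCover_of_isFppfCover {X : Sp S} {ι : Type u} (Y : ι → Sp S) (g : ∀ i, Y i ⟶ X)
    (hX : IsAlgSpace X) (hY : ∀ i, IsAlgSpace (Y i)) (h : IsFppfCover Y g) : IsFpqcCover Y g := by
  refine ⟨fun i => (h.1 i).1, fun Z hZ z => ?_⟩
  obtain ⟨V, c, l, hc, hsurj, hl⟩ := exists_fppf_family Y g hX hY h z
  haveI := hZ
  have hopen : ∀ i, IsOpenMap (c i).left := fun i => by
    haveI := (hc i).1; haveI := (hc i).2
    exact (c i).left.isOpenMap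
  obtain ⟨m, i, W, hW, hcov⟩ := exists_affine_opens_cover (fun i => (c i).left) hopen hsurj
  let w : ∀ j, (Over.mk ((W j).ι ≫ (V (i j)).hom) : Over S) ⟶ V (i j) := fun j => Over.homMk (W j).ι rfl
  refine ⟨m, fun j => Over.mk ((W j).ι ≫ (V (i j)).hom), fun j => w j ≫ c (i j), hW, fun j => ?_,
    hcov, fun j => ⟨i j, (yon S).map (w j) ≫ l (i j), ?_⟩⟩
  · haveI := (hc (i j)).1
    exact (inferInstance : Flat ((W j).ι ≫ (c (i j)).left))
  · rw [Category.assoc, hl, Functor.map_comp, Category.assoc]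

theorem ofArrows_mem_of_fppf {T : Over S} {ι : Type u} (V : ι → Over S) (c : ∀ i, V i ⟶ T)
    (hc : ∀ i, Flat (c i).left ∧ LocallyOfFinitePresentation (c i).left)
    (hsurj : ∀ t : ↥T.left, ∃ i, t ∈ Set.range (c i).left) :
    Sieve.ofArrows V c ∈ J S T := by
  rw [GrothendieckTopology.mem_over_iff, Sieve.ofArrows, Sieve.overEquiv_generate]
  refine GrothendieckTopology.superset_covering _ ?_
    (Precoverage.generate_mem_toGrothendieck (J := Scheme.fppfPrecoverage)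
      (R := Presieve.ofArrows (fun i => (V i).left) (fun i => (c i).left)) ?_)
  · rw [Sieve.generate_le_iff]
    rintro Z f ⟨i⟩
    exact Sieve.le_generate _ _ _ ⟨V i, c i, 𝟙 _, ⟨i⟩, by simp⟩
  · exact (Scheme.ofArrows_mem_precoverage_iff _).2 ⟨hsurj, hc⟩

theorem isFpqcCover_of_chart {X : Sp S} {ι : Type u} (Y : ι → Sp S) (g : ∀ i, Y i ⟶ X) {U : Over S}
    (p : (yon S).obj U ⟶ X) (hp : RepWith @Etale p) (hps : RepWith @Surjective p)
    (Ui : ι → Sp S) (q : ∀ i, Ui i ⟶ (yon S).obj U) (p' : ∀ i, Ui i ⟶ Y i)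
    (sq : ∀ i, IsPullback (q i) (p' i) p (g i)) (hX : IsAlgSpace X) (hY : ∀ i, IsAlgSpace (Y i))
    (hUi : ∀ i, IsAlgSpace (Ui i)) (h : IsFpqcCover Ui q) : IsFpqcCover Y g := by
  refine ⟨fun i => ?_, fun Z hZ z => ?_⟩
  · obtain ⟨A, a, ha, has⟩ := (hUi i).atlas
    obtain ⟨s, hs⟩ := (yon S).map_surjective (a ≫ q i)
    have hp' : RepWith (@Etale ⊓ @Surjective) (p' i) :=
      (repWith_isStableUnderBaseChange (@Etale ⊓ @Surjective : MorphismProperty Scheme.{u})).of_isPullback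
        (sq i) ((repWith_inf_iff p).2 ⟨hp, hps⟩)
    have hap : RepWith (@Etale ⊓ @Surjective) (a ≫ p' i) :=
      MorphismProperty.comp_mem (W := RepWith (@Etale ⊓ @Surjective : MorphismProperty Scheme.{u})) _ _
        ((repWith_inf_iff a).2 ⟨ha, has⟩) hp'
    obtain ⟨h1, h2⟩ := (repWith_inf_iff _).1 hap
    refine locP_of_chart (h := s) (hY i).diag hX.diag h1 h2 hp ?_ ?_
    · rw [Category.assoc, ← (sq i).w, hs, Category.assoc]
    · exact h.1 i a (𝟙 _) s ha (repWith_id _ U) (by simpa using hs.symm)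
  · obtain ⟨V, r, c, sqV⟩ := exists_isPullback_yon hX.diag p z
    have hc : Etale c.left := etale_snd_of_isPullback sqV hp
    have hcs : Surjective c.left := etale_snd_of_isPullback sqV hps
    haveI := hZ
    obtain ⟨W₀, σ, hW₀, hσ, hσs⟩ := exists_affine_surjective c.left hc hcs
    let w : (Over.mk (σ ≫ V.hom) : Over S) ⟶ V := Over.homMk σ rfl
    obtain ⟨m, W, c', h1, h2, h3, h4⟩ := h.2 _ hW₀ ((yon S).map (w ≫ r))
    refine ⟨m, W, fun j => c' j ≫ w ≫ c, h1, fun j => ?_, fun t => ?_, fun j => ?_⟩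
    · haveI := h2 j; haveI := hc; haveI := hσ
      exact (inferInstance : Flat ((c' j).left ≫ σ ≫ c.left))
    · obtain ⟨t₀, rfl⟩ := (σ ≫ c.left).surjective t
      obtain ⟨j, v, rfl⟩ := h3 t₀
      exact ⟨j, v, rfl⟩
    · obtain ⟨i, l, hl⟩ := h4 j
      refine ⟨i, l ≫ p' i, ?_⟩
      rw [Category.assoc, ← (sq i).w, ← Category.assoc, hl, Functor.map_comp, Functor.map_comp,
        Functor.map_comp, Category.assoc, Category.assoc, sqV.w, Category.assoc, Category.assoc]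

end Groth.Agent.SpFP87
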