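import Groth.Agent.SpFP87.EtaleMor
import Groth.Agent.SpFP87.Covers
import Groth.Prelude.Def_AlgSpCov
/-!
Formal calculus of smooth-local and etale-smooth-local properties on source-and-target.
-/

set_option autoImplicit false
set_option linter.style.haveILetI false
universe u
open CategoryTheory CategoryTheory.Limits AlgebraicGeometry Opposite
open AlgSp
open Groth.Agent.SpPts86

namespace Groth.Agent.SpFP87

variable {S : Scheme.{u}} {X Y Z X' Y' : Sp S}

theorem isSurjectiveMor_id (X : Sp S) : IsSurjectiveMor (𝟙 X) := fun x => ⟨x, Points.map_id x⟩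

theorem isSurjectiveMor_baseChange {fst : X' ⟶ X} {snd : X' ⟶ Y'} {f : X ⟶ Y} {g : Y' ⟶ Y}
    (sq : IsPullback fst snd f g) (hf : IsSurjectiveMor f) : IsSurjectiveMor snd := fun y => by
  obtain ⟨x, hx⟩ := hf (Points.map g y)
  obtain ⟨z, -, hz⟩ := exists_of_isPullback sq x y hx
  exact ⟨z, hz⟩

theorem locP_smooth_id (hX : IsAlgSpace X) : LocP @Smooth (𝟙 X) :=
  haveI : MorphismProperty.ContainsIdentities (@Smooth.{u} : MorphismProperty Scheme.{u}) :=
    ⟨fun _ => inferInstanceAs (Smooth (𝟙 _))⟩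
  locP_of_isIso (𝟙 X) hX hX

theorem isEtaleMor_id (X : Sp S) : IsEtaleMor (𝟙 X) := fun _ φ hφ => by rwa [Category.comp_id]

theorem locP_smooth_of_etale {f : X ⟶ Y} (hX : IsAlgSpace X) (hY : IsAlgSpace Y) (hf : IsEtaleMor f) :
    LocP @Smooth f :=
  LocP.of_le (fun _ _ k hk => by haveI : Etale k := hk; exact inferInstanceAs (Smooth k))
    ((isEtaleMor_iff_locP f hX hY).1 hf)

/-- Cancellation of an etale morphism on the target. -/
theorem locP_of_comp_etaleMor {P : MorphismProperty Scheme.{u}} {f : X ⟶ Y} {g : Y ⟶ Z}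
    (hg : IsEtaleMor g) (h : LocP P (f ≫ g)) : LocP P f :=
  fun _ _ a b k ha hb w => h a (b ≫ g) k ha (hg b hb)
    (by rw [← Category.assoc, w, Category.assoc])

theorem isEtaleMor_of_comp {f : X ⟶ Y} {g : Y ⟶ Z} (hX : IsAlgSpace X) (hY : IsAlgSpace Y)
    (hZ : IsAlgSpace Z) (hg : IsEtaleMor g) (h : IsEtaleMor (f ≫ g)) : IsEtaleMor f :=
  (isEtaleMor_iff_locP f hX hY).2 (locP_of_comp_etaleMor hg ((isEtaleMor_iff_locP _ hX hZ).1 h))

theorem isPullback_id {X Y : Sp S} (f : X ⟶ Y) : IsPullback (𝟙 X) f f (𝟙 Y) :=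
  IsPullback.of_horiz_isIso ⟨by simp⟩

/-- The two member family consisting of a morphism and an identity. -/
abbrev pairObj (W X : Sp S) : ULift.{u} Bool → Sp S := fun j => cond j.down W X

/-- The two member family consisting of a morphism and an identity. -/
def pairHom {W X : Sp S} (g : W ⟶ X) : ∀ j, pairObj W X j ⟶ X
  | ⟨true⟩ => g
  | ⟨false⟩ => 𝟙 X

theorem pair_surj {W X : Sp S} (g : W ⟶ X) (x : Points X) : ∃ j, x ∈ Set.range (Points.map (pairHom g j)) :=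
  ⟨⟨false⟩, x, Points.map_id x⟩

theorem isCover_pair {P : MorphismProperty (Sp S)} {W X : Sp S} (g : W ⟶ X) (hg : P g) (h1 : P (𝟙 X)) :
    IsCover P (pairObj W X) (pairHom g) :=
  ⟨fun j => match j with | ⟨true⟩ => hg | ⟨false⟩ => h1, pair_surj g⟩

theorem isCover_single {P : MorphismProperty (Sp S)} {X : Sp S} (h1 : P (𝟙 X)) :
    IsCover P (fun _ : PUnit.{u + 1} => X) (fun _ => 𝟙 X) :=
  ⟨fun _ => h1, fun x => ⟨⟨⟩, x, Points.map_id x⟩⟩

/-- Precomposition from locality on the source. -/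
theorem precomp_of_localOnSource {τ : MorphismProperty (Sp S)} {P : MorphismProperty (Sp S)}
    (h1 : IsLocalOnSource (fun _ _ Y g => IsCover τ Y g) P) (hX : IsAlgSpace X) (hY : IsAlgSpace Y)
    (hZ : IsAlgSpace Z) (hid : τ (𝟙 Y)) {f : X ⟶ Y} {g : Y ⟶ Z} (hf : τ f) (hg : P g) : P (f ≫ g) :=
  (h1 (pairObj X Y) (pairHom f) hY (fun j => match j with | ⟨true⟩ => hX | ⟨false⟩ => hY)
    (isCover_pair f hf hid) g hZ).1 hg ⟨true⟩

/-- Stability under base change from locality on the base. -/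
theorem baseChange_of_localOnBase {τ : MorphismProperty (Sp S)} {P : MorphismProperty (Sp S)}
    (h2 : IsLocalOnBase (fun _ _ Y g => IsCover τ Y g) P) (hX : IsAlgSpace X) (hY : IsAlgSpace Y)
    (hX' : IsAlgSpace X') (hY' : IsAlgSpace Y') (hid : τ (𝟙 Y)) {f : X ⟶ Y} {g : Y' ⟶ Y} {f' : X' ⟶ Y'}
    {g' : X' ⟶ X} (sq : IsPullback g' f' f g) (hg : τ g) (hf : P f) : P f' :=
  (h2 (pairObj Y' Y) (pairHom g) hY (fun j => match j with | ⟨true⟩ => hY' | ⟨false⟩ => hY)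
    (isCover_pair g hg hid) f hX (pairObj X' X)
    (fun j => match j with | ⟨true⟩ => f' | ⟨false⟩ => f)
    (fun j => match j with | ⟨true⟩ => g' | ⟨false⟩ => 𝟙 X)
    (fun j => match j with | ⟨true⟩ => hX' | ⟨false⟩ => hX)
    (fun j => match j with | ⟨true⟩ => sq | ⟨false⟩ => isPullback_id f)).1 hf ⟨true⟩

/-- A family indexed by a type in the universe of the base, from a pointwise condition. -/
theorem exists_small_choice (hX : IsAlgSpace X) {C : Points X → Prop} (h : ∀ x, C x) :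
    ∃ (ι : Type u) (x : ι → Points X), Function.Surjective x ∧ ∀ i, C (x i) := by
  obtain ⟨U, a, -, has⟩ := hX.atlas
  exact ⟨↥U.left, Points.ofPt a, surjective_ofPt has, fun i => h _⟩

variable {P : MorphismProperty (Sp S)}

theorem IsSmoothLocalST.localOnSource (hP : IsSmoothLocalST P) :
    IsLocalOnSource (IsSmCover (S := S)) P := by
  intro ι X Xi g hX hXi hg Y f hY
  refine ⟨fun h i => hP.precomp (hXi i) hX hY _ _ (hg.1 i) h, fun h => (hP.locality hX hY f).2 fun x => ?_⟩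
  obtain ⟨i, v, hv⟩ := hg.2 x
  exact ⟨Xi i, Y, g i, 𝟙 Y, g i ≫ f, v, hXi i, hY, hg.1 i, locP_smooth_id hY,
    (Category.comp_id _).symm, hv, h i⟩

theorem IsSmoothLocalST.localOnBase (hP : IsSmoothLocalST P) :
    IsLocalOnBase (IsSmCover (S := S)) P := by
  intro ι Y Yi g hY hYi hg X f hX Xi p q hXi sq
  refine ⟨fun h i => hP.baseChange hX hY (hXi i) (hYi i) f (g i) (p i) (q i) (sq i) (hg.1 i) h,
    fun h => (hP.locality hX hY f).2 fun x => ?_⟩
  obtain ⟨i, y, hy⟩ := hg.2 (Points.map f x)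
  obtain ⟨z, hz, -⟩ := exists_of_isPullback (sq i) x y hy.symm
  exact ⟨Xi i, Yi i, q i, g i, p i, z, hXi i, hYi i,
    locP_baseChange (sq i).flip (hYi i) hY hX (hg.1 i), hg.1 i, (sq i).w, hz, h i⟩

theorem IsSmoothLocalST.postcomp (hP : IsSmoothLocalST P) (hX : IsAlgSpace X) (hY : IsAlgSpace Y)
    (hZ : IsAlgSpace Z) {f : X ⟶ Y} {g : Y ⟶ Z} (hf : P f) (hg : LocP @Smooth g) : P (f ≫ g) :=
  (hP.locality hX hZ (f ≫ g)).2 fun x =>
    ⟨X, Y, 𝟙 X, g, f, x, hX, hY, locP_smooth_id hX, hg, Category.id_comp _, Points.map_id x, hf⟩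

theorem IsEtaleSmoothLocalST.localOnSource (hP : IsEtaleSmoothLocalST P) :
    IsLocalOnSource (IsEtCover (S := S)) P := by
  intro ι X Xi g hX hXi hg Y f hY
  refine ⟨fun h i => hP.precomp (hXi i) hX hY _ _ (hg.1 i) h, fun h => (hP.locality hX hY f).2 fun x => ?_⟩
  obtain ⟨i, v, hv⟩ := hg.2 x
  exact ⟨Y, X, Xi i, 𝟙 Y, 𝟙 X, f, g i, v, hY, hX, hXi i, locP_smooth_id hY,
    IsPullback.of_horiz_isIso ⟨by simp⟩, hg.1 i, by rw [Category.comp_id]; exact hv, h i⟩

theorem IsEtaleSmoothLocalST.localOnBase (hP : IsEtaleSmoothLocalST P) :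
    IsLocalOnBase (IsSmCover (S := S)) P := by
  intro ι Y Yi g hY hYi hg X f hX Xi p q hXi sq
  refine ⟨fun h i => hP.baseChange hX hY (hXi i) (hYi i) f (g i) (p i) (q i) (sq i) (hg.1 i) h,
    fun h => (hP.locality hX hY f).2 fun x => ?_⟩
  obtain ⟨i, y, hy⟩ := hg.2 (Points.map f x)
  obtain ⟨z, hz, -⟩ := exists_of_isPullback (sq i) x y hy.symm
  exact ⟨Yi i, Xi i, Xi i, g i, q i, p i, 𝟙 _, z, hYi i, hXi i, hXi i, hg.1 i, sq i, isEtaleMor_id _,
    by rw [Category.id_comp]; exact hz, by rw [Category.id_comp]; exact h i⟩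

theorem IsEtaleSmoothLocalST.postcomp (hP : IsEtaleSmoothLocalST P) (hX : IsAlgSpace X) (hY : IsAlgSpace Y)
    (hZ : IsAlgSpace Z) {f : X ⟶ Y} {g : Y ⟶ Z} (hf : P f) (hg : IsEtaleMor g) : P (f ≫ g) := by
  refine (hP.locality hX hZ (f ≫ g)).2 fun x => ?_
  have sq := IsPullback.of_hasPullback (f ≫ g) g
  have hW := isAlgSpace_pullback (f ≫ g) g hX hY hZ
  let e : X ⟶ pullback (f ≫ g) g := sq.lift (𝟙 X) f (Category.id_comp _)
  have hp : IsEtaleMor (pullback.fst (f ≫ g) g) :=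
    (isEtaleMor_iff_locP _ hW hX).2 (locP_baseChange sq.flip hY hZ hX ((isEtaleMor_iff_locP g hY hZ).1 hg))
  have he : IsEtaleMor e := isEtaleMor_of_comp hX hW hX hp (by rw [sq.lift_fst]; exact isEtaleMor_id X)
  exact ⟨Y, _, X, g, _, _, e, x, hY, hW, hX, locP_smooth_of_etale hY hZ hg, sq, he,
    by rw [sq.lift_fst]; exact Points.map_id x, by rw [sq.lift_snd]; exact hf⟩

theorem IsEtaleSmoothLocalST.of_postcomp (hP : IsEtaleSmoothLocalST P) (hX : IsAlgSpace X) (hY : IsAlgSpace Y)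
    (hZ : IsAlgSpace Z) {f : X ⟶ Y} {g : Y ⟶ Z} (h : P (f ≫ g)) (hg : IsEtaleMor g) : P f := by
  have sq := IsPullback.of_hasPullback (f ≫ g) g
  have hW := isAlgSpace_pullback (f ≫ g) g hX hY hZ
  let e : X ⟶ pullback (f ≫ g) g := sq.lift (𝟙 X) f (Category.id_comp _)
  have hp : IsEtaleMor (pullback.fst (f ≫ g) g) :=
    (isEtaleMor_iff_locP _ hW hX).2 (locP_baseChange sq.flip hY hZ hX ((isEtaleMor_iff_locP g hY hZ).1 hg))
  have he : IsEtaleMor e := isEtaleMor_of_comp hX hW hX hp (by rw [sq.lift_fst]; exact isEtaleMor_id X)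
  have := hP.precomp hX hW hY e _ he
    (hP.baseChange hX hZ hW hY (f ≫ g) g _ _ sq (locP_smooth_of_etale hY hZ hg) h)
  rwa [sq.lift_snd] at this

theorem isSmoothLocalST_of_local (h1 : IsLocalOnSource (IsSmCover (S := S)) P)
    (h2 : IsLocalOnBase (IsSmCover (S := S)) P)
    (h3 : ∀ ⦃X Y Z : Sp S⦄, IsAlgSpace X → IsAlgSpace Y → IsAlgSpace Z → ∀ (f : X ⟶ Y) (g : Y ⟶ Z),
      P f → LocP @Smooth g → P (f ≫ g)) : IsSmoothLocalST P where
  precomp _ _ _ hX hY hZ _ _ hf hg := precomp_of_localOnSource h1 hX hY hZ (locP_smooth_id hY) hf hg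
  baseChange _ _ _ _ hX hY hX' hY' _ _ _ _ sq hg hf :=
    baseChange_of_localOnBase h2 hX hY hX' hY' (locP_smooth_id hY) sq hg hf
  locality X Y hX hY f := by
    refine ⟨fun h x => ⟨X, Y, 𝟙 X, 𝟙 Y, f, x, hX, hY, locP_smooth_id hX, locP_smooth_id hY,
      by simp, Points.map_id x, h⟩, fun h => ?_⟩
    obtain ⟨ι, x, hx, hc⟩ := exists_small_choice hX h
    choose U V a b k v hU hV ha hb hw hv hk using hc
    refine (h1 U a hX hU ⟨ha, fun y => ?_⟩ f hY).2 fun i => ?_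
    · obtain ⟨i, rfl⟩ := hx y
      exact ⟨i, v i, hv i⟩
    · rw [hw]; exact h3 (hU i) (hV i) hY _ _ (hk i) (hb i)

end Groth.Agent.SpFP87
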