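import Groth.Agent.SpFP87.Cover
import Groth.Prelude.Def_AlgSp3

set_option autoImplicit false
universe u
open CategoryTheory CategoryTheory.Limits AlgebraicGeometry Opposite

namespace Groth.Agent.SpFP87
open AlgSp

variable {S : Scheme.{u}}

/-- A property of morphisms of schemes which is etale local on the source and target. -/
class EtLoc (P : MorphismProperty Scheme.{u}) : Prop
    extends P.IsStableUnderBaseChange, P.IsStableUnderComposition where
  of_etale : ∀ {X Y : Scheme.{u}} (f : X ⟶ Y), Etale f → P f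
  of_cover : ∀ {X' X Y : Scheme.{u}} (c : X' ⟶ X) (f : X ⟶ Y), Etale c → Surjective c → P (c ≫ f) → P f

theorem EtLoc.respectsIso (P : MorphismProperty Scheme.{u}) [EtLoc P] : P.RespectsIso :=
  MorphismProperty.IsStableUnderBaseChange.respectsIso

/-- Cancellation of an etale morphism on the target. -/
theorem EtLoc.of_comp_etale {P : MorphismProperty Scheme.{u}} [EtLoc P] {X Y Z : Scheme.{u}}
    (g : X ⟶ Y) (f : Y ⟶ Z) (hf : Etale f) (h : P (g ≫ f)) : P g := by
  let gr : X ⟶ pullback (g ≫ f) f := pullback.lift (𝟙 X) g (by simp)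
  have e : g = gr ≫ pullback.snd (g ≫ f) f := (pullback.lift_snd _ _ _).symm
  have h1 : Etale (pullback.fst (g ≫ f) f) := (inferInstance : MorphismProperty.IsStableUnderBaseChange (@Etale.{u} : MorphismProperty Scheme.{u})).of_isPullback
    (IsPullback.of_hasPullback (g ≫ f) f).flip hf
  have hc : gr ≫ pullback.fst (g ≫ f) f = 𝟙 X := pullback.lift_fst _ _ _
  have h2 : Etale gr := by
    have h3 : Etale (gr ≫ pullback.fst (g ≫ f) f) := by rw [hc]; infer_instance
    exact Etale.of_comp gr (pullback.fst (g ≫ f) f)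
  rw [e]
  exact P.comp_mem _ _ (EtLoc.of_etale gr h2) (MorphismProperty.pullback_snd _ _ h)

theorem repWith_inf_iff {P Q : MorphismProperty Scheme.{u}} {F G : Sp S} (f : F ⟶ G) :
    RepWith (P ⊓ Q) f ↔ RepWith P f ∧ RepWith Q f :=
  ⟨fun h => ⟨⟨h.rep, fun _ _ g a b c => (h.property g a b c).1⟩,
      ⟨h.rep, fun _ _ g a b c => (h.property g a b c).2⟩⟩,
    fun h => ⟨h.1.rep, fun _ _ g a b c => ⟨h.1.property g a b c, h.2.property g a b c⟩⟩⟩

theorem etale_snd_of_isPullback {F : Sp S} {U V W : Over S} {p : W ⟶ U} {q : W ⟶ V}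
    {a : (yon S).obj U ⟶ F} {b : (yon S).obj V ⟶ F}
    (sq : IsPullback ((yon S).map p) ((yon S).map q) a b) {P : MorphismProperty Scheme.{u}}
    (ha : RepWith P a) : P q.left :=
  ha.property b _ _ sq

/-- `LocP P f` follows from one chart diagram with surjective source chart. -/
theorem locP_of_chart {P : MorphismProperty Scheme.{u}} [EtLoc P] {X Y : Sp S} {f : X ⟶ Y}
    (hX : Representable (Limits.diag X)) (hY : Representable (Limits.diag Y))
    {U V : Over S} {a : (yon S).obj U ⟶ X} {b : (yon S).obj V ⟶ Y} {h : U ⟶ V}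
    (ha : RepWith @Etale a) (has : RepWith @Surjective a) (hb : RepWith @Etale b)
    (w : a ≫ f = (yon S).map h ≫ b) (hP : P h.left) : LocP P f := by
  intro U' V' a' b' h' ha' hb' w'
  obtain ⟨U₂, p, q, sq⟩ := exists_isPullback_yon hX a a'
  obtain ⟨V₂, r, s, sq'⟩ := exists_isPullback_yon hY b b'
  have hp : Etale p.left := etale_snd_of_isPullback sq.flip ha'
  have hr : Etale r.left := etale_snd_of_isPullback sq'.flip hb'
  have hs : Etale s.left := etale_snd_of_isPullback sq' hb
  have e : (yon S).map (p ≫ h) ≫ b = (yon S).map (q ≫ h') ≫ b' := by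
    rw [Functor.map_comp, Functor.map_comp, Category.assoc, Category.assoc, ← w, ← w',
      ← Category.assoc, sq.w, Category.assoc]
  let m : U₂ ⟶ V₂ := (yon S).preimage (sq'.lift _ _ e)
  have m1 : m ≫ r = p ≫ h := (yon S).map_injective (by rw [Functor.map_comp, Functor.map_preimage, sq'.lift_fst])
  have m2 : m ≫ s = q ≫ h' := (yon S).map_injective (by rw [Functor.map_comp, Functor.map_preimage, sq'.lift_snd])
  have hm : P m.left := EtLoc.of_comp_etale m.left r.left hr (by
    rw [← Over.comp_left, m1, Over.comp_left]; exact P.comp_mem _ _ (EtLoc.of_etale _ hp) hP)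
  refine EtLoc.of_cover q.left h'.left (etale_snd_of_isPullback sq ha) (etale_snd_of_isPullback sq has) ?_
  rw [← Over.comp_left, ← m2, Over.comp_left]
  exact P.comp_mem _ _ hm (EtLoc.of_etale _ hs)

/-- Compatible charts: for any etale surjective chart of the target there is one of the source over it. -/
theorem exists_compatible_chart {X Y : Sp S} (f : X ⟶ Y) (hX : IsAlgSpace X)
    (hY : Representable (Limits.diag Y)) {V : Over S} {b : (yon S).obj V ⟶ Y}
    (hb : RepWith @Etale b) (hbs : RepWith @Surjective b) :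
    ∃ (U : Over S) (a : (yon S).obj U ⟶ X) (h : U ⟶ V),
      RepWith @Etale a ∧ RepWith @Surjective a ∧ a ≫ f = (yon S).map h ≫ b := by
  obtain ⟨U₀, a₀, ha₀, has₀⟩ := hX.atlas
  obtain ⟨U, p, q, sq⟩ := exists_isPullback_yon hY (a₀ ≫ f) b
  have hp : RepWith (@Etale ⊓ @Surjective) ((yon S).map p) :=
    (repWith_isStableUnderBaseChange (@Etale ⊓ @Surjective : MorphismProperty Scheme.{u})).of_isPullback
      sq.flip ((repWith_inf_iff b).2 ⟨hb, hbs⟩)
  have hpa : RepWith (@Etale ⊓ @Surjective) ((yon S).map p ≫ a₀) :=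
    MorphismProperty.comp_mem (W := RepWith (@Etale ⊓ @Surjective : MorphismProperty Scheme.{u})) _ _ hp
      ((repWith_inf_iff a₀).2 ⟨ha₀, has₀⟩)
  exact ⟨U, _, q, ((repWith_inf_iff _).1 hpa).1, ((repWith_inf_iff _).1 hpa).2,
    by rw [Category.assoc, sq.w]⟩

theorem locP_iff_exists_chart {P : MorphismProperty Scheme.{u}} [EtLoc P] {X Y : Sp S} (f : X ⟶ Y)
    (hX : IsAlgSpace X) (hY : IsAlgSpace Y) :
    LocP P f ↔ ∃ (U V : Over S) (a : (yon S).obj U ⟶ X) (b : (yon S).obj V ⟶ Y) (h : U ⟶ V),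
      RepWith @Etale a ∧ RepWith @Surjective a ∧ RepWith @Etale b ∧ RepWith @Surjective b ∧
      a ≫ f = (yon S).map h ≫ b ∧ P h.left := by
  constructor
  · intro hf
    obtain ⟨V, b, hb, hbs⟩ := hY.atlas
    obtain ⟨U, a, h, ha, has, w⟩ := exists_compatible_chart f hX hY.diag hb hbs
    exact ⟨U, V, a, b, h, ha, has, hb, hbs, w, hf a b h ha hb w⟩
  · rintro ⟨U, V, a, b, h, ha, has, hb, -, w, hP⟩
    exact locP_of_chart hX.diag hY.diag ha has hb w hP

theorem LocP.of_le {P Q : MorphismProperty Scheme.{u}} (hPQ : P ≤ Q) {X Y : Sp S} {f : X ⟶ Y}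
    (hf : LocP P f) : LocP Q f :=
  fun _ _ a b h ha hb w => hPQ _ (hf a b h ha hb w)

theorem locP_comp {P : MorphismProperty Scheme.{u}} [EtLoc P] {X Y Z : Sp S} {f : X ⟶ Y} {g : Y ⟶ Z}
    (hX : IsAlgSpace X) (hY : IsAlgSpace Y) (hZ : IsAlgSpace Z) (hf : LocP P f) (hg : LocP P g) :
    LocP P (f ≫ g) := by
  obtain ⟨V, W, b, c, k, hb, hbs, hc, hcs, w, hk⟩ := (locP_iff_exists_chart g hY hZ).1 hg
  obtain ⟨U, a, h, ha, has, w'⟩ := exists_compatible_chart f hX hY.diag hb hbs
  refine locP_of_chart (h := h ≫ k) hX.diag hZ.diag ha has hc ?_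
    (P.comp_mem _ _ (hf a b h ha hb w') hk)
  rw [← Category.assoc, w', Category.assoc, w, Functor.map_comp, Category.assoc]

theorem locP_baseChange {P : MorphismProperty Scheme.{u}} [EtLoc P] {X Y X' Y' : Sp S}
    {fst : X' ⟶ X} {snd : X' ⟶ Y'} {f : X ⟶ Y} {g : Y' ⟶ Y} (sq : IsPullback fst snd f g)
    (hX : IsAlgSpace X) (hY : IsAlgSpace Y) (hY' : IsAlgSpace Y') (hf : LocP P f) : LocP P snd := by
  obtain ⟨V, b, hb, hbs⟩ := hY.atlas
  obtain ⟨U, a, h, ha, has, w⟩ := exists_compatible_chart f hX hY.diag hb hbs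
  obtain ⟨V', b', k, hb', hbs', w'⟩ := exists_compatible_chart g hY' hY.diag hb hbs
  have hY'' := isAlgSpace_of_isPullback sq hX hY' hY.diag
  obtain ⟨W, r, s, c, hc, sqW, hc1, hc2⟩ := exists_chart_of_isPullback sq hY.diag
    (@Etale ⊓ @Surjective) a b' ((repWith_inf_iff a).2 ⟨ha, has⟩) ((repWith_inf_iff b').2 ⟨hb', hbs'⟩)
  obtain ⟨hc, hcs⟩ := (repWith_inf_iff c).1 hc
  -- `W = U ×_Y V'` maps to `V'`; compare it with the base change of `h` along `k`.
  obtain ⟨V₂, r₂, s₂, sqV⟩ := exists_isPullback_yon hY.diag b b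
  have hr₂ : Etale r₂.left := etale_snd_of_isPullback sqV.flip hb
  refine locP_of_chart (h := s) hY''.diag hY'.diag hc hcs hb' hc2 ?_
  -- `W = (U ×_V V₂) ×_{V} V'`
  obtain ⟨A, α, β, sqA⟩ := exists_isPullback_yon (IsAlgSpace.yon_obj V).diag
    ((yon S).map h) ((yon S).map r₂)
  have hβ : P β.left := P.of_isPullback (sq := (IsPullback.of_map (yon S)
    ((yon S).map_injective (by rw [Functor.map_comp, Functor.map_comp]; exact sqA.w)) sqA).map
      (Over.forget S)) (hf a b h ha hb w)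
  have hA : IsPullback ((yon S).map α) ((yon S).map (β ≫ s₂)) (a ≫ f) b := by
    rw [w, Functor.map_comp]
    exact IsPullback.paste_vert sqA sqV
  have hβs : P (β ≫ s₂).left := by
    rw [Over.comp_left]
    exact P.comp_mem _ _ hβ (EtLoc.of_etale _ (etale_snd_of_isPullback sqV hb))
  let n : W ⟶ A := (yon S).preimage (hA.lift ((yon S).map r) ((yon S).map (s ≫ k))
    (by rw [sqW.w, Functor.map_comp, Category.assoc, w']))
  have hn : IsPullback ((yon S).map n) ((yon S).map s) ((yon S).map (β ≫ s₂)) ((yon S).map k) := by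
    refine IsPullback.of_right (h₁₂ := (yon S).map α) (v₁₃ := a ≫ f) (h₂₂ := b) ?_ ?_ hA
    · rw [Functor.map_preimage, hA.lift_fst, ← w']; exact sqW
    · rw [Functor.map_preimage, hA.lift_snd, Functor.map_comp]
  exact P.of_isPullback (sq := (IsPullback.of_map (yon S)
    ((yon S).map_injective (by rw [Functor.map_comp, Functor.map_comp]; exact hn.w)) hn).map
      (Over.forget S)) hβs

end Groth.Agent.SpFP87
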