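import Groth.Agent.Unr55.EtStalk
import Groth.Agent.SpPts86.Charts
import Groth.Agent.SpFP87.LocalST
import Groth.Prelude.Def_AlgSpSub
import Mathlib.RingTheory.RingHom.StandardSmooth
import Mathlib.RingTheory.Polynomial.Nilpotent
import Mathlib.RingTheory.Nilpotent.GeometricallyReduced
/-!
Reducedness of algebraic spaces.
-/

set_option autoImplicit false
set_option linter.style.haveILetI false
universe u
open CategoryTheory CategoryTheory.Limits AlgebraicGeometry Opposite
open AlgSp
open Groth.Agent.SpPts86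

namespace Groth.Agent.SpFP87

theorem isReduced_mvPolynomial {R : Type u} [CommRing R] [_root_.IsReduced R] (σ : Type*) :
    _root_.IsReduced (MvPolynomial σ R) := by
  refine ⟨fun f hf => ?_⟩
  ext m
  rw [MvPolynomial.coeff_zero]
  exact (MvPolynomial.isNilpotent_iff.1 hf m).eq_zero

theorem isReduced_of_smooth_ring (R A : Type u) [CommRing R] [_root_.IsReduced R] [CommRing A] [Algebra R A]
    [Algebra.Smooth R A] : _root_.IsReduced A := by
  obtain ⟨s, hs, h⟩ := Algebra.Smooth.exists_span_eq_top_isStandardSmooth R A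
  suffices hred : ∀ x : s, _root_.IsReduced (Localization.Away (x : A)) by
    refine ⟨fun a ha => ?_⟩
    have key : ∀ x ∈ s, x ∈ ((⊥ : Ideal A).colon ({a} : Set A)).radical := by
      intro x hx
      have := hred ⟨x, hx⟩
      obtain ⟨⟨_, n, rfl⟩, hn⟩ := (IsLocalization.map_eq_zero_iff (Submonoid.powers x) (Localization.Away x) a).1
        ((ha.map (algebraMap A (Localization.Away x))).eq_zero)
      exact ⟨n, Submodule.mem_colon.2 fun b hb => by simpa [Set.mem_singleton_iff.1 hb] using hn⟩
    have htop : ((⊥ : Ideal A).colon ({a} : Set A)).radical = ⊤ := top_le_iff.1 (hs ▸ Ideal.span_le.2 key)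
    rw [Ideal.radical_eq_top, Ideal.eq_top_iff_one] at htop
    simpa using Submodule.mem_colon.1 htop a rfl
  intro x
  have := h x.1 x.2
  obtain ⟨n, g, hgC, hg⟩ := RingHom.IsStandardSmooth.exists_etale_mvPolynomial
    (f := algebraMap R (Localization.Away (x : A))) (RingHom.isStandardSmooth_algebraMap.2 this)
  algebraize [g]
  haveI := isReduced_mvPolynomial (R := R) (Fin n)
  exact Groth.Agent.Unr55.isReduced_of_etale (A := MvPolynomial (Fin n) R)

theorem isReduced_of_smooth {X Y : Scheme.{u}} (f : X ⟶ Y) [Smooth f] [IsReduced Y] : IsReduced X := by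
  suffices ∀ x : X, _root_.IsReduced (X.presheaf.stalk x) from isReduced_of_isReduced_stalk X
  intro x
  obtain ⟨U, hU, hxU, -⟩ := exists_isAffineOpen_mem_and_subset (U := (⊤ : Y.Opens)) (x := f x) trivial
  obtain ⟨V, hV, hxV, hVU⟩ := exists_isAffineOpen_mem_and_subset (U := f ⁻¹ᵁ U) (x := x) hxU
  letI := (f.appLE U V hVU).hom.toAlgebra
  haveI : Algebra.Smooth Γ(Y, U) Γ(X, V) := Smooth.smooth_appLE f hU hV hVU
  haveI := isReduced_of_smooth_ring Γ(Y, U) Γ(X, V)
  letI : Algebra Γ(X, V) (X.presheaf.stalk x) := (X.presheaf.germ V x hxV).hom.toAlgebra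
  haveI := hV.isLocalization_stalk ⟨x, hxV⟩
  exact isReduced_localizationPreserves (hV.primeIdealOf ⟨x, hxV⟩).asIdeal.primeCompl (X.presheaf.stalk x) inferInstance

theorem isReduced_of_etale_surjective {X Y : Scheme.{u}} (f : X ⟶ Y) [Etale f] [Surjective f] [IsReduced X] :
    IsReduced Y := by
  suffices ∀ y : Y, _root_.IsReduced (Y.presheaf.stalk y) from isReduced_of_isReduced_stalk Y
  intro y
  obtain ⟨x, rfl⟩ := f.surjective y
  exact (Groth.Agent.Unr55.isReduced_stalk_iff_of_etale f x).1 inferInstance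

variable {S : Scheme.{u}}

/-- Every etale chart of a reduced algebraic space is reduced. -/
theorem isReduced_chart {F : Sp S} (hF : IsAlgSpace F) (h : IsReducedSp F) {U : Over S}
    {a : (yon S).obj U ⟶ F} (ha : RepWith @Etale a) : IsReduced U.left := by
  obtain ⟨U₀, p, hp, hps, hred⟩ := h
  obtain ⟨W, q, r, hq, hr, -, -, hrs, -⟩ := exists_common_chart hF hp ha
  haveI := hred
  haveI := hq
  haveI := hr
  haveI := hrs hps
  haveI := isReduced_of_smooth q.left
  exact isReduced_of_etale_surjective r.left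

/-- A chart of `X` lying surjectively over a chart of `Y`. -/
theorem exists_surjective_compatible_chart {X Y : Sp S} (f : X ⟶ Y) (hX : IsAlgSpace X) (hY : IsAlgSpace Y)
    {V : Over S} {b : (yon S).obj V ⟶ Y} (hb : RepWith @Etale b) :
    ∃ (U : Over S) (a : (yon S).obj U ⟶ X) (h : U ⟶ V),
      RepWith @Etale a ∧ a ≫ f = (yon S).map h ≫ b ∧
      (RepWith @Surjective b → RepWith @Surjective a) ∧ (IsSurjectiveMor f → Surjective h.left) := by
  obtain ⟨U, c, hc, hcs⟩ := (isAlgSpace_pullback f b hX (IsAlgSpace.yon_obj V) hY).atlas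
  obtain ⟨h, hh⟩ := (yon S).map_surjective (c ≫ pullback.snd f b)
  refine ⟨U, c ≫ pullback.fst f b, h, ?_, ?_, fun hbs => ?_, fun hs => ⟨fun v => ?_⟩⟩
  · exact MorphismProperty.comp_mem (W := RepWith (@Etale : MorphismProperty Scheme.{u})) _ _ hc
      ((repWith_isStableUnderBaseChange (@Etale : MorphismProperty Scheme.{u})).of_isPullback
        (IsPullback.of_hasPullback f b).flip hb)
  · rw [hh, Category.assoc, Category.assoc, pullback.condition]
  · exact MorphismProperty.comp_mem (W := RepWith (@Surjective : MorphismProperty Scheme.{u})) _ _ hcs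
      ((repWith_isStableUnderBaseChange (@Surjective : MorphismProperty Scheme.{u})).of_isPullback
        (IsPullback.of_hasPullback f b).flip hbs)
  · obtain ⟨z, hz⟩ := isSurjectiveMor_baseChange (IsPullback.of_hasPullback f b) hs (Points.ofScheme V v)
    obtain ⟨u, rfl⟩ := surjective_ofPt hcs z
    rw [Points.map_ofPt, ← hh, Groth.Agent.SpPts86.ofPt_yon_map] at hz
    exact ⟨u, (Points.schemeHomeo V).injective hz⟩

theorem isReducedSp_of_smooth {X Y : Sp S} (f : X ⟶ Y) (hX : IsAlgSpace X) (hY : IsAlgSpace Y)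
    (hf : LocP @Smooth f) (h : IsReducedSp Y) : IsReducedSp X := by
  obtain ⟨V, b, hb, hbs, hred⟩ := h
  obtain ⟨U, a, k, ha, has, w⟩ := exists_compatible_chart f hX hY.diag hb hbs
  haveI := hred
  haveI := hf a b k ha hb w
  exact ⟨U, a, ha, has, isReduced_of_smooth k.left⟩

end Groth.Agent.SpFP87
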