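import Groth.Agent.SpFP87.Covers
import Groth.Agent.SpFP87.Reduced
import Groth.Agent.S2492
/-!
Local noetherianity descends along fppf surjections.
-/

set_option autoImplicit false
set_option linter.style.haveILetI false
universe u
open CategoryTheory CategoryTheory.Limits AlgebraicGeometry Opposite
open AlgSp
open Groth.Agent.SpPts86

namespace Groth.Agent.SpFP87

/-- An open surjection onto an affine scheme is refined by a quasi-compact one from an affine scheme. -/
theorem exists_affine_refinement {U V : Scheme.{u}} [IsAffine V] (f : U ⟶ V) (hopen : IsOpenMap f)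
    (hs : Function.Surjective f) :
    ∃ (W : Scheme.{u}) (σ : W ⟶ U), IsAffine W ∧ Etale σ ∧ Surjective (σ ≫ f) := by
  obtain ⟨m, i, W, hW, hcov⟩ := exists_affine_opens_cover (ι := PUnit.{1}) (V := fun _ => U) (fun _ => f)
    (fun _ => hopen) (fun z => ⟨⟨⟩, hs z⟩)
  let W' := fun j : ULift.{u} (Fin m) => (W j.down).toScheme
  haveI : ∀ j, IsAffine (W' j) := fun j => hW j.down
  haveI : IsZariskiLocalAtSource (@Etale.{u} : MorphismProperty Scheme.{u}) :=
    HasRingHomProperty.instIsZariskiLocalAtSource (Q := @RingHom.Etale)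
  refine ⟨∐ W', Sigma.desc fun j => (W j.down).ι, inferInstance,
    IsZariskiLocalAtSource.sigmaDesc fun j => inferInstance, ⟨fun z => ?_⟩⟩
  obtain ⟨j, v, hv⟩ := hcov z
  refine ⟨(Sigma.ι W' ⟨j⟩).base v, ?_⟩
  exact (congrArg f.base (congrArg (fun k : W' ⟨j⟩ ⟶ U => k.base v)
    (Sigma.ι_desc (fun j : ULift.{u} (Fin m) => (W j.down).ι) ⟨j⟩))).trans hv

theorem isLocallyNoetherian_of_flat_lfp_surjective {U V : Scheme.{u}} (f : U ⟶ V) [Flat f]
    [LocallyOfFinitePresentation f] [Surjective f] [IsLocallyNoetherian U] : IsLocallyNoetherian V := by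
  rw [isLocallyNoetherian_iff_openCover V.affineCover]
  intro i
  let g := pullback.snd f (V.affineCover.f i)
  haveI : IsLocallyNoetherian (pullback f (V.affineCover.f i)) :=
    isLocallyNoetherian_of_isOpenImmersion (pullback.fst f (V.affineCover.f i))
  obtain ⟨W, σ, hW, hσ, hσs⟩ := exists_affine_refinement g g.isOpenMap g.surjective
  haveI : IsAffine (V.affineCover.X i) := inferInstance
  haveI := LocallyOfFiniteType.isLocallyNoetherian σ
  exact Groth.Agent.S2492.result (σ ≫ g)

variable {S : Scheme.{u}}

/-- Every etale chart of a locally noetherian algebraic space is locally noetherian. -/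
theorem isLocallyNoetherian_chart {F : Sp S} (hF : IsAlgSpace F) (h : IsLocNoethSp F) {U : Over S}
    {a : (yon S).obj U ⟶ F} (ha : RepWith @Etale a) : IsLocallyNoetherian U.left := by
  obtain ⟨U₀, p, hp, hps, hred⟩ := h
  obtain ⟨W, q, r, hq, hr, -, -, hrs, -⟩ := exists_common_chart hF hp ha
  haveI := hred
  haveI := hq
  haveI := hr
  haveI := hrs hps
  haveI := LocallyOfFiniteType.isLocallyNoetherian q.left
  exact isLocallyNoetherian_of_flat_lfp_surjective r.left

end Groth.Agent.SpFP87
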