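import Groth.Agent.SpFP87.EtLocInst
import Groth.Agent.SpFP87.LocPRep
import Groth.Agent.Unr55.DescProps
import Groth.Prelude.Def_AlgSpCov
/-!
Properties of morphisms of algebraic spaces defined on etale charts which are fpqc local on the base.
-/

set_option autoImplicit false
set_option linter.style.haveILetI false
universe u
open CategoryTheory CategoryTheory.Limits AlgebraicGeometry Opposite
open AlgSp

namespace Groth.Agent.SpFP87

variable {S : Scheme.{u}}

set_option backward.isDefEq.respectTransparency.types false in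
theorem flat_codescendsAlong :
    RingHom.CodescendsAlong (fun {R S : Type u} [CommRing R] [CommRing S] (f : R →+* S) => f.Flat)
      RingHom.FaithfullyFlat := by
  refine .mk _ RingHom.Flat.respectsIso fun R S T _ _ _ _ _ h h' => ?_
  rw [RingHom.flat_algebraMap_iff] at h' ⊢
  rw [RingHom.faithfullyFlat_algebraMap_iff] at h
  exact Module.Flat.of_flat_tensorProduct R T S

set_option backward.isDefEq.respectTransparency.types false in
theorem flat_descendsAlong :
    MorphismProperty.DescendsAlong (@Flat.{u} : MorphismProperty Scheme.{u})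
      (@Surjective ⊓ @Flat ⊓ @QuasiCompact) :=
  HasRingHomProperty.descendsAlong_flat flat_codescendsAlong

/-- Descent along a standard fpqc family. -/
theorem of_fpqc_family {P : MorphismProperty Scheme.{u}} [P.IsStableUnderBaseChange]
    [IsZariskiLocalAtTarget P] [P.DescendsAlong (@Surjective ⊓ @Flat ⊓ @QuasiCompact)]
    {U V : Scheme.{u}} [IsAffine V] (h : U ⟶ V) {m : ℕ} (W : Fin m → Scheme.{u}) [∀ j, IsAffine (W j)]
    (c : ∀ j, W j ⟶ V) (hc : ∀ j, Flat (c j)) (hsurj : ∀ v, ∃ j, v ∈ Set.range (c j))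
    (hP : ∀ j, P (pullback.snd h (c j))) : P h := by
  let W' := fun j : ULift.{u} (Fin m) => W j.down
  let d : ∐ W' ⟶ V := Sigma.desc fun j => c j.down
  haveI hfl : Flat d := IsZariskiLocalAtSource.sigmaDesc fun j => hc j.down
  haveI : Surjective d := ⟨fun v => by
    obtain ⟨j, w, rfl⟩ := hsurj v
    exact ⟨(Sigma.ι W' ⟨j⟩).base w, congrArg (fun k : W' ⟨j⟩ ⟶ V => k.base w) (Sigma.ι_desc (fun j : ULift.{u} (Fin m) => c j.down) ⟨j⟩)⟩⟩
  haveI : QuasiCompact d := inferInstance
  have hd : (@Surjective ⊓ @Flat ⊓ @QuasiCompact : MorphismProperty Scheme.{u}) d :=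
    ⟨⟨inferInstance, hfl⟩, inferInstance⟩
  refine MorphismProperty.of_isPullback_of_descendsAlong (P := P)
    (Q := @Surjective ⊓ @Flat ⊓ @QuasiCompact) (IsPullback.of_hasPullback h d).flip hd ?_
  rw [IsZariskiLocalAtTarget.iff_of_openCover (P := P) (sigmaOpenCover W')]
  intro j
  change P (pullback.snd (pullback.snd h d) (Sigma.ι W' j))
  have e := (IsPullback.of_hasPullback (pullback.snd h d) (Sigma.ι W' j)).paste_horiz
    (IsPullback.of_hasPullback h d)
  rw [Sigma.ι_desc] at e
  rw [← e.isoPullback_hom_snd, P.cancel_left_of_respectsIso]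
  exact hP j.down

/-- `LocP P` may be checked after base change to an atlas of the target. -/
theorem locP_of_atlas_baseChange {P : MorphismProperty Scheme.{u}} [EtLoc P] {X Y XV : Sp S} {f : X ⟶ Y}
    {V : Over S} {b : (yon S).obj V ⟶ Y} {fst : XV ⟶ X} {snd : XV ⟶ (yon S).obj V}
    (sq : IsPullback fst snd f b) (hX : IsAlgSpace X) (hY : IsAlgSpace Y) (hb : RepWith @Etale b)
    (hbs : RepWith @Surjective b) (h : LocP P snd) : LocP P f := by
  obtain ⟨U, a, ha, has⟩ := (isAlgSpace_of_isPullback sq hX (IsAlgSpace.yon_obj V) hY.diag).atlas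
  have hfst : RepWith (@Etale ⊓ @Surjective) fst :=
    (repWith_isStableUnderBaseChange (@Etale ⊓ @Surjective : MorphismProperty Scheme.{u})).of_isPullback
      sq.flip ((repWith_inf_iff b).2 ⟨hb, hbs⟩)
  obtain ⟨h1, h2⟩ := (repWith_inf_iff _).1
    (MorphismProperty.comp_mem (W := RepWith (@Etale ⊓ @Surjective : MorphismProperty Scheme.{u})) _ _
      ((repWith_inf_iff a).2 ⟨ha, has⟩) hfst)
  obtain ⟨s, hs⟩ := (yon S).map_surjective (a ≫ snd)
  refine locP_of_chart (h := s) hX.diag hY.diag h1 h2 hb ?_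
    (h a (𝟙 _) s ha (repWith_id _ V) (by simpa using hs.symm))
  rw [Category.assoc, sq.w, hs, Category.assoc]

theorem isLocalOnBase_fpqc_locP {P : MorphismProperty Scheme.{u}} [EtLoc P]
    [IsZariskiLocalAtTarget P] [P.DescendsAlong (@Surjective ⊓ @Flat ⊓ @QuasiCompact)] :
    IsLocalOnBase (IsFpqcCover (S := S)) (LocP P) := by
  intro ι Y Yi g hY hYi hg X f hX Xi p q hXi sq
  refine ⟨fun h i => locP_baseChange (sq i) hX hY (hYi i) h, fun h => ?_⟩
  obtain ⟨V, b, hb, hbs⟩ := hY.atlas
  have hXV := isAlgSpace_pullback f b hX (IsAlgSpace.yon_obj V) hY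
  refine locP_of_atlas_baseChange (IsPullback.of_hasPullback f b) hX hY hb hbs ?_
  obtain ⟨U, a, ha, has⟩ := hXV.atlas
  obtain ⟨s, hs⟩ := (yon S).map_surjective (a ≫ pullback.snd f b)
  refine locP_of_chart (h := s) hXV.diag (IsAlgSpace.yon_obj V).diag ha has (repWith_id _ V)
    (by rw [hs]; exact (Category.comp_id _).symm) ?_
  rw [IsZariskiLocalAtTarget.iff_of_openCover (P := P) V.left.affineCover]
  intro k
  let Z : Over S := Over.mk (V.left.affineCover.f k ≫ V.hom)
  let z : Z ⟶ V := Over.homMk (V.left.affineCover.f k) rfl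
  haveI : IsAffine Z.left := inferInstanceAs (IsAffine (V.left.affineCover.X k))
  obtain ⟨m, W, c, hW, hfl, hsurj, hlift⟩ := hg.2 Z inferInstance ((yon S).map z ≫ b)
  change P (pullback.snd s.left z.left)
  haveI := hW
  refine of_fpqc_family _ (fun j => (W j).left) (fun j => (c j).left) hfl hsurj fun j => ?_
  obtain ⟨i, l, hl⟩ := hlift j
  obtain ⟨UW, r, t, sqU⟩ := exists_isPullback_yon (IsAlgSpace.yon_obj V).diag
    ((yon S).map s) ((yon S).map (c j ≫ z))
  have e0 := isPullback_left sqU
  suffices hP : P t.left by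
    have e1 := (IsPullback.of_hasPullback (pullback.snd s.left z.left) (c j).left).paste_horiz
      (IsPullback.of_hasPullback s.left z.left)
    have e3 : (e1.isoIsPullback _ _ e0).hom ≫ t.left =
        pullback.snd (pullback.snd s.left z.left) (c j).left := e1.isoIsPullback_hom_snd _ _ e0
    rw [← e3, P.cancel_left_of_respectsIso]
    exact hP
  -- `X_W` and the etale chart `UW ⟶ X_W`
  let XV := pullback f b
  let sqW := IsPullback.of_hasPullback (pullback.snd f b) ((yon S).map (c j ≫ z))
  have hXW := isAlgSpace_pullback (pullback.snd f b) ((yon S).map (c j ≫ z)) hXV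
    (IsAlgSpace.yon_obj (W j)) (IsAlgSpace.yon_obj V)
  have hlW : LocP P (pullback.snd (pullback.snd f b) ((yon S).map (c j ≫ z))) := by
    have big := sqW.paste_horiz (IsPullback.of_hasPullback f b)
    have wl : ((yon S).map (c j ≫ z)) ≫ b = l ≫ g i := by rw [hl, Functor.map_comp, Category.assoc]
    rw [wl] at big
    let n := (sq i).lift _ (pullback.snd (pullback.snd f b) ((yon S).map (c j ≫ z)) ≫ l)
      (by rw [Category.assoc]; exact big.w)
    refine locP_baseChange (fst := n) (g := l) (IsPullback.of_right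
      (by rw [(sq i).lift_fst]; exact big) ((sq i).lift_snd _ _ _) (sq i)) (hXi i) (hYi i)
      (IsAlgSpace.yon_obj _) (h i)
  let a' : (yon S).obj UW ⟶ pullback (pullback.snd f b) ((yon S).map (c j ≫ z)) :=
    sqW.lift ((yon S).map r ≫ a) ((yon S).map t) (by rw [Category.assoc, ← hs]; exact sqU.w)
  have ha' : RepWith @Etale a' := by
    have hsq : IsPullback ((yon S).map r) a' a (pullback.fst (pullback.snd f b) ((yon S).map (c j ≫ z))) := by
      refine IsPullback.of_bot ?_ (sqW.lift_fst _ _ _).symm sqW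
      rw [sqW.lift_snd, ← hs]; exact sqU
    exact (repWith_isStableUnderBaseChange (@Etale : MorphismProperty Scheme.{u})).of_isPullback hsq ha
  exact hlW a' (𝟙 _) t ha' (repWith_id _ _) ((sqW.lift_snd _ _ _).trans (Category.comp_id _).symm)

end Groth.Agent.SpFP87
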