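import Groth.Agent.SpFP87.DecentPts
import Groth.Agent.SpFP87.LocP
import Mathlib.AlgebraicGeometry.Morphisms.Finite
import Mathlib.Topology.JacobsonSpace
/-!
Jacobson algebraic spaces.
-/

set_option autoImplicit false
set_option linter.style.haveILetI false
set_option backward.isDefEq.respectTransparency false
universe u
open CategoryTheory CategoryTheory.Limits AlgebraicGeometry Opposite Topology
open AlgSp
open Groth.Agent.SpPts86

namespace Groth.Agent.SpFP87

/-- Being Jacobson descends along etale surjective morphisms. -/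
theorem jacobsonSpace_of_etale_surjective {P W : Scheme.{u}} (f : P ⟶ W) [Etale f] [Surjective f]
    [JacobsonSpace ↥P] : JacobsonSpace ↥W := by
  haveI : LocallyQuasiFinite f := Groth.Agent.Unr55.locallyQuasiFinite_of_formallyUnramified f
  have key : ∀ p : ↥P, IsClosed ({p} : Set ↥P) → IsClosed ({f p} : Set ↥W) := by
    intro p hp
    obtain ⟨W₀, hW₀, hpW₀, -⟩ := exists_isAffineOpen_mem_and_subset (U := (⊤ : W.Opens)) (x := f p) trivial
    obtain ⟨D, hD, hpD, hDW⟩ := exists_isAffineOpen_mem_and_subset (U := f ⁻¹ᵁ W₀) (x := p) hpW₀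
    haveI : IsAffine D.toScheme := hD
    haveI : IsAffine W₀.toScheme := hW₀
    have hfin : ({z | z ∈ D ∧ f z = f p} : Set ↥P).Finite := by
      have hc : IsCompact ((f.resLE W₀ D hDW) ⁻¹' {(⟨f p, hpW₀⟩ : W₀.toScheme)}) :=
        (f.resLE W₀ D hDW).isCompact_preimage_singleton _
      have hc' : IsCompact ({z | z ∈ D ∧ f z = f p} : Set ↥P) := by
        convert hc.image D.ι.continuous using 1
        ext z
        constructor
        · rintro ⟨hz, hz'⟩
          refine ⟨⟨z, hz⟩, Subtype.ext ?_, rfl⟩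
          exact (congrArg (fun g : D.toScheme ⟶ W => g ⟨z, hz⟩) (Scheme.Hom.resLE_comp_ι f hDW)).trans hz'
        · rintro ⟨w, hw, rfl⟩
          exact ⟨w.2, (congrArg (fun g : D.toScheme ⟶ W => g w) (Scheme.Hom.resLE_comp_ι f hDW)).symm.trans
            (congrArg Subtype.val hw)⟩
      exact hc'.finite ((f.isDiscrete_preimage_singleton (f p)).mono fun z hz => hz.2)
    -- `p` is isolated among the points lying over the closure of its image
    let O : Set ↥P := (D : Set ↥P) \ closure ({z | z ∈ D ∧ f z = f p} \ {p})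
    have hO : IsOpen O := D.isOpen.sdiff isClosed_closure
    have hpO : p ∈ O := by
      refine ⟨hpD, fun hcl => ?_⟩
      rw [← Set.biUnion_of_singleton ({z | z ∈ D ∧ f z = f p} \ {p}), hfin.sdiff.closure_biUnion] at hcl
      obtain ⟨z, ⟨⟨-, hz⟩, hzp⟩, hcl⟩ := Set.mem_iUnion₂.1 hcl
      exact hzp (eq_of_specializes_of_locallyQuasiFinite f (specializes_iff_mem_closure.2 hcl) hz)
    have hloc : IsLocallyClosed ({f p} : Set ↥W) := by
      refine ⟨f '' O, closure {f p}, f.isOpenMap _ hO, isClosed_closure, ?_⟩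
      refine Set.Subset.antisymm (Set.singleton_subset_iff.2 ⟨⟨p, hpO, rfl⟩, subset_closure rfl⟩) ?_
      rintro - ⟨⟨z, hzO, rfl⟩, hz⟩
      obtain ⟨z', hz', hz'p⟩ := Flat.generalizingMap (f := f) (specializes_iff_mem_closure.2 hz)
      have hz'O : z' ∈ O := hz'.mem_open hO hzO
      have e : z' = p := by
        by_contra hne
        exact hz'O.2 (subset_closure ⟨⟨hz'O.1, hz'p⟩, hne⟩)
      rw [e] at hz'
      have : z = p := hz'.mem_closed hp rfl
      rw [this]
      rfl
    -- the fibre over it consists of closed points, and is closed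
    rw [← isOpen_compl_iff, ← f.isOpenMap.isQuotientMap f.continuous f.surjective |>.isOpen_preimage,
      Set.preimage_compl, isOpen_compl_iff]
    refine (hloc.preimage f.continuous) |> fun h => ?_
    have hsub : f ⁻¹' {f p} ⊆ closedPoints ↥P := by
      intro z hz
      apply isClosed_singleton_of_isLocallyClosed_singleton
      obtain ⟨V, hV, hVz⟩ : ∃ V : Set ↥P, IsOpen V ∧ V ∩ f ⁻¹' {f p} = {z} := by
        have hd := f.isDiscrete_preimage_singleton (f p)
        haveI := hd.to_subtype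
        obtain ⟨V, hV, e⟩ := isOpen_induced_iff.1 (isOpen_discrete ({⟨z, hz⟩} : Set ↥(f ⁻¹' {f p})))
        refine ⟨V, hV, Set.ext fun y => ⟨fun ⟨hy, hy'⟩ => congrArg Subtype.val ((Set.ext_iff.1 e ⟨y, hy'⟩).1 hy), ?_⟩⟩
        rintro rfl
        exact ⟨(Set.ext_iff.1 e ⟨y, hz⟩).2 rfl, hz⟩
      exact hVz ▸ hV.isLocallyClosed.inter h
    rw [← closure_subset_iff_isClosed]
    intro z hz
    by_contra hzn
    have hne : f z ≠ f p := hzn
    have hsp : f p ⤳ f z := by
      rw [specializes_iff_mem_closure]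
      exact closure_mono (Set.image_preimage_subset f _) (image_closure_subset_closure_image f.continuous ⟨z, hz, rfl⟩)
    obtain ⟨z', hz', hz'p⟩ := Flat.generalizingMap (f := f) hsp
    have := hz'.mem_closed (show IsClosed ({z'} : Set ↥P) from hsub hz'p) rfl
    exact hne ((congrArg f this).trans hz'p)
  rw [jacobsonSpace_iff_locallyClosed]
  intro Z hZ hZ'
  obtain ⟨w, hw⟩ := hZ
  obtain ⟨p₀, rfl⟩ := f.surjective w
  obtain ⟨p, hpZ, hp⟩ := nonempty_inter_closedPoints (Z := f ⁻¹' Z) ⟨p₀, hw⟩ (hZ'.preimage f.continuous)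
  exact ⟨f p, hpZ, key p hp⟩

variable {S : Scheme.{u}} {X Y : Sp S}

theorem jacobsonSpace_chart (hX : IsAlgSpace X) (h : EtaleLocally (fun U => JacobsonSpace ↥U) X) {U : Over S}
    {a : (yon S).obj U ⟶ X} (ha : RepWith @Etale a) : JacobsonSpace ↥U.left := by
  obtain ⟨U₀, p, hp, hps, hJ⟩ := h
  obtain ⟨W, q, r, hq, hr, -, -, hrs, -⟩ := exists_common_chart hX hp ha
  haveI := hJ
  haveI := hrs hps
  haveI : JacobsonSpace ↥W.left := LocallyOfFiniteType.jacobsonSpace q.left
  exact jacobsonSpace_of_etale_surjective r.left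

theorem etaleLocally_jacobson_of_lft (hX : IsAlgSpace X) (hY : IsAlgSpace Y)
    (h : EtaleLocally (fun U => JacobsonSpace ↥U) X) (f : Y ⟶ X) (hf : LocP @LocallyOfFiniteType f) :
    EtaleLocally (fun U => JacobsonSpace ↥U) Y := by
  obtain ⟨U, a, ha, has⟩ := hX.atlas
  haveI := jacobsonSpace_chart hX h ha
  obtain ⟨V, b, hb, hbs⟩ := hY.atlas
  obtain ⟨W, e, g, sq⟩ := exists_isPullback_yon hX.diag (b ≫ f) a
  haveI : Etale e.left := etale_snd_of_isPullback sq.flip ha
  have hes : RepWith @Surjective ((yon S).map e) :=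
    (repWith_isStableUnderBaseChange _).of_isPullback sq.flip has
  have hW : RepWith @Etale ((yon S).map e ≫ b) :=
    MorphismProperty.comp_mem (W := RepWith (@Etale : MorphismProperty Scheme.{u})) _ _
      ((repWith_yon_map_iff _ _).2 inferInstance) hb
  haveI : LocallyOfFiniteType g.left := hf _ a g hW ha (by rw [Category.assoc, sq.w])
  exact ⟨W, (yon S).map e ≫ b, hW,
    MorphismProperty.comp_mem (W := RepWith (@Surjective : MorphismProperty Scheme.{u})) _ _ hes hbs,
    LocallyOfFiniteType.jacobsonSpace g.left⟩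

theorem exists_closed_point_over (hX : IsAlgSpace X) (h : EtaleLocally (fun U => JacobsonSpace ↥U) X)
    (x : Points X) (hx : HasAt (fun U u => IsClosed ({u} : Set ↥U)) X x) {W : Over S} (g : (yon S).obj W ⟶ X)
    (hg : LocP @LocallyOfFiniteType g) (hxW : x ∈ Set.range (Points.ofPt g)) :
    ∃ w : ↥W.left, IsClosed ({w} : Set ↥W.left) ∧ Points.ofPt g w = x := by
  obtain ⟨U, a, u, ha, rfl, hu⟩ := hx
  obtain ⟨w₀, hw₀⟩ := hxW
  obtain ⟨U₀, a₀, ha₀, ha₀s⟩ := hX.atlas
  obtain ⟨u₀, hu₀⟩ := surjective_ofPt ha₀s (Points.ofPt a u)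
  -- a closed point of the atlas over `x`
  haveI := jacobsonSpace_chart hX h ha₀
  haveI := jacobsonSpace_chart hX h ha
  obtain ⟨R, p, q, _, _, sqR, -, -, -⟩ := exists_common_chart hX ha ha₀
  haveI : JacobsonSpace ↥R.left := LocallyOfFiniteType.jacobsonSpace p.left
  obtain ⟨r₀, hr₀, hr₀'⟩ := exists_pt_common_chart sqR u u₀ hu₀.symm
  obtain ⟨r, hr, hrc⟩ := nonempty_inter_closedPoints (Z := p.left ⁻¹' {u}) ⟨r₀, hr₀⟩
    (hu.preimage p.left.continuous).isLocallyClosed
  have hu₁c : IsClosed ({q.left r} : Set ↥U₀.left) := q.left.closePoints_subset_preimage_closedPoints hrc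
  have hu₁ : Points.ofPt a₀ (q.left r) = Points.ofPt a u := by
    rw [← ofPt_eq_of_isPullback sqR r, show p.left r = u from hr]
  obtain ⟨P, c, d, sqP⟩ := exists_isPullback_yon hX.diag g a₀
  haveI : Etale c.left := etale_snd_of_isPullback sqP.flip ha₀
  haveI : Surjective c.left :=
    (repWith_yon_map_iff _ _).1 ((repWith_isStableUnderBaseChange _).of_isPullback sqP.flip ha₀s)
  have hc' : RepWith @Etale ((yon S).map c) := (repWith_yon_map_iff _ _).2 inferInstance
  haveI : LocallyOfFiniteType d.left := hg ((yon S).map c) a₀ d hc' ha₀ sqP.w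
  haveI : JacobsonSpace ↥P.left := LocallyOfFiniteType.jacobsonSpace d.left
  haveI : JacobsonSpace ↥W.left := jacobsonSpace_of_etale_surjective c.left
  obtain ⟨z₀, hz₀, hz₀'⟩ := exists_pt_of_isPullback' sqP w₀ (q.left r) (hw₀.trans hu₁.symm)
  obtain ⟨z, hz, hzc⟩ := nonempty_inter_closedPoints (Z := d.left ⁻¹' {q.left r}) ⟨z₀, hz₀'⟩
    (hu₁c.preimage d.left.continuous).isLocallyClosed
  refine ⟨c.left z, c.left.closePoints_subset_preimage_closedPoints hzc, ?_⟩
  rw [ofPt_eq_of_isPullback sqP z, show d.left z = q.left r from hz, hu₁]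

theorem hasAt_closed_iff (hX : IsAlgSpace X) (hd : IsDecent X) (h : EtaleLocally (fun U => JacobsonSpace ↥U) X)
    (x : Points X) : HasAt (fun U u => IsClosed ({u} : Set ↥U)) X x ↔ IsClosed ({x} : Set (Points X)) := by
  refine ⟨fun hx => ?_, fun hx => ?_⟩
  · rw [← closure_subset_iff_isClosed]
    intro y hy
    obtain ⟨U, a, u, ha, rfl, hu⟩ := hx
    obtain ⟨V, b, hb, hbs⟩ := hX.atlas
    obtain ⟨v, rfl⟩ := surjective_ofPt hbs y
    obtain ⟨w, hwv, hwx⟩ := exists_generalization_lift hX hd hb (specializes_iff_mem_closure.2 hy)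
    haveI := jacobsonSpace_chart hX h ha
    haveI := jacobsonSpace_chart hX h hb
    obtain ⟨R, p, q, _, _, sq, -, -, -⟩ := exists_common_chart hX ha hb
    haveI : JacobsonSpace ↥R.left := LocallyOfFiniteType.jacobsonSpace p.left
    haveI : LocallyQuasiFinite q.left := Groth.Agent.Unr55.locallyQuasiFinite_of_formallyUnramified _
    obtain ⟨r, hr1, hr2⟩ := exists_pt_common_chart sq u w hwx.symm
    have hrc : IsClosed ({r} : Set ↥R.left) := by
      haveI : LocallyQuasiFinite p.left := Groth.Agent.Unr55.locallyQuasiFinite_of_formallyUnramified _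
      rw [← closure_subset_iff_isClosed]
      intro z hz
      have hsp : r ⤳ z := specializes_iff_mem_closure.2 hz
      refine (eq_of_specializes_of_locallyQuasiFinite p.left hsp ?_).symm
      exact hr1.trans ((hsp.map p.left.continuous).mem_closed hu hr1).symm
    have hwc : IsClosed ({w} : Set ↥V.left) := hr2 ▸ q.left.closePoints_subset_preimage_closedPoints hrc
    rw [Set.mem_singleton_iff, show v = w from hwv.mem_closed hwc rfl, hwx]
  · obtain ⟨V, b, hb, hbs⟩ := hX.atlas
    obtain ⟨v, rfl⟩ := surjective_ofPt hbs x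
    haveI := jacobsonSpace_chart hX h hb
    obtain ⟨w, hw, hwc⟩ := nonempty_inter_closedPoints (Z := Points.ofPt b ⁻¹' {Points.ofPt b v}) ⟨v, rfl⟩
      (hx.preimage (Points.continuous_ofPt b)).isLocallyClosed
    exact ⟨V, b, w, hb, hw, hwc⟩

theorem jacobson_iff (hX : IsAlgSpace X) (hd : IsDecent X) :
    EtaleLocally (fun U => JacobsonSpace ↥U) X ↔ JacobsonSpace (Points X) := by
  obtain ⟨U, a, ha, has⟩ := hX.atlas
  constructor
  · intro h
    haveI := jacobsonSpace_chart hX h ha
    rw [jacobsonSpace_iff_locallyClosed]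
    rintro Z ⟨x, hx⟩ hZ
    obtain ⟨u, rfl⟩ := surjective_ofPt has x
    obtain ⟨w, hw, hwc⟩ := nonempty_inter_closedPoints (Z := Points.ofPt a ⁻¹' Z) ⟨u, hx⟩
      (hZ.preimage (Points.continuous_ofPt a))
    exact ⟨Points.ofPt a w, hw, (hasAt_closed_iff hX hd h _).1 ⟨U, a, w, ha, rfl, hwc⟩⟩
  · intro hJ
    refine ⟨U, a, ha, has, ?_⟩
    show JacobsonSpace ↥U.left
    have key : ∀ w : ↥U.left, IsClosed ({Points.ofPt a w} : Set (Points X)) → IsClosed ({w} : Set ↥U.left) := by
      intro w hw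
      rw [← closure_subset_iff_isClosed]
      intro z hz
      have hsp : w ⤳ z := specializes_iff_mem_closure.2 hz
      exact (eq_of_specializes_of_decent hX hd ha hsp
        ((hsp.map (Points.continuous_ofPt a)).mem_closed hw rfl).symm).symm
    rw [jacobsonSpace_iff_locallyClosed]
    rintro Z ⟨u, hu⟩ ⟨Ω, C, hΩ, hC, rfl⟩
    obtain ⟨W, hWaff, huW, hW⟩ := exists_affine_subchart ha u
    haveI := hWaff
    let F : Set ↥U.left := {z | z ∈ W ∧ Points.ofPt a z = Points.ofPt a u}
    have hF : F.Finite := by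
      refine (((finite_fibres_of_isDecent hX hd hW (Points.ofPt a u)).1).image W.ι).subset fun z hz => ?_
      refine ⟨⟨z, hz.1⟩, ?_, rfl⟩
      show Points.ofPt ((yon S).map _ ≫ a) _ = _
      rw [ofPt_comp]
      exact hz.2
    let D : Set ↥U.left := ((W : Set ↥U.left) ∩ Ω) \ closure (F \ {u})
    have hD : IsOpen D := (W.isOpen.inter hΩ).sdiff isClosed_closure
    have huD : u ∈ D := by
      refine ⟨⟨huW, hu.1⟩, fun hcl => ?_⟩
      rw [← Set.biUnion_of_singleton (F \ {u}), hF.sdiff.closure_biUnion] at hcl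
      obtain ⟨z, ⟨⟨-, hz⟩, hzu⟩, hcl⟩ := Set.mem_iUnion₂.1 hcl
      exact hzu (eq_of_specializes_of_decent hX hd ha (specializes_iff_mem_closure.2 hcl) hz)
    obtain ⟨y, ⟨⟨w, hwD, rfl⟩, hy⟩, hyc⟩ := nonempty_inter_closedPoints
      (Z := Points.ofPt a '' D ∩ closure {Points.ofPt a u}) ⟨_, ⟨u, huD, rfl⟩, subset_closure rfl⟩
      ((isOpenMap_ofPt ha _ hD).isLocallyClosed.inter isClosed_closure.isLocallyClosed)
    obtain ⟨w', hw', hw'x⟩ := exists_generalization_lift hX hd ha (specializes_iff_mem_closure.2 hy)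
    have hw'D : w' ∈ D := hw'.mem_open hD hwD
    have e : w' = u := by
      by_contra hne
      exact hw'D.2 (subset_closure ⟨⟨hw'D.1.1, hw'x⟩, hne⟩)
    rw [e] at hw'
    exact ⟨w, ⟨hwD.1.2, hw'.mem_closed hC hu.2⟩, key w hyc⟩

end Groth.Agent.SpFP87
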