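import Groth.Prelude.Def_AlgSp

set_option autoImplicit false
universe u
open CategoryTheory CategoryTheory.Limits AlgebraicGeometry Opposite

namespace Groth.Agent.SpFP87
open AlgSp

variable {S : Scheme.{u}}

/-- Two maps of sheaves are equal if they agree on all representable probes. -/
theorem sp_hom_ext {F G : Sp S} {a b : F ⟶ G}
    (h : ∀ (T : Over S) (g : (yon S).obj T ⟶ F), g ≫ a = g ≫ b) : a = b := by
  apply CategoryTheory.Sheaf.hom_ext
  ext ⟨T⟩ x
  have := congrArg (J S).uliftYonedaEquiv (h T ((J S).uliftYonedaEquiv.symm x))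
  rw [GrothendieckTopology.uliftYonedaEquiv_comp, GrothendieckTopology.uliftYonedaEquiv_comp,
    Equiv.apply_symm_apply] at this
  exact this

theorem mono_of_probe {F G : Sp S} {f : F ⟶ G}
    (h : ∀ (T : Over S) (a b : (yon S).obj T ⟶ F), a ≫ f = b ≫ f → a = b) : Mono f :=
  ⟨fun {_} a b hab => sp_hom_ext fun T g => h T _ _ (by simp only [Category.assoc, hab])⟩

theorem isPullback_prod_map_fst {C : Type*} [Category C] [HasBinaryProducts C] {A B : C} (f : A ⟶ B) (Z : C) :
    IsPullback prod.fst (prod.map f (𝟙 Z)) f prod.fst :=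
  IsPullback.of_isLimit' ⟨by simp⟩
    (PullbackCone.IsLimit.mk _ (fun s => prod.lift s.fst (s.snd ≫ prod.snd))
      (fun s => prod.lift_fst _ _)
      (fun s => by
        apply Limits.prod.hom_ext
        · rw [Category.assoc, prod.map_fst, prod.lift_fst_assoc]; exact s.condition
        · rw [Category.assoc, prod.map_snd, Category.comp_id, prod.lift_snd])
      (fun s m h1 h2 => by
        apply Limits.prod.hom_ext
        · rw [prod.lift_fst]; exact h1
        · rw [prod.lift_snd, ← h2, Category.assoc, prod.map_snd, Category.comp_id]))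

theorem representable_prod_map {A B A' B' : Sp S} {f : A ⟶ B} {g : A' ⟶ B'}
    (hf : Representable f) (hg : Representable g) : Representable (prod.map f g) := by
  have h1 : Representable (prod.map f (𝟙 A')) :=
    MorphismProperty.of_isPullback (isPullback_prod_map_fst f A') hf
  have h2 : Representable (prod.map g (𝟙 B)) :=
    MorphismProperty.of_isPullback (isPullback_prod_map_fst g B) hg
  have e : prod.map f g = prod.map f (𝟙 A') ≫ (prod.braiding B A').hom ≫
      prod.map g (𝟙 B) ≫ (prod.braiding B' B).hom := by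
    apply Limits.prod.hom_ext
    · rw [prod.map_fst]; simp only [Category.assoc, prod.braiding_hom]
      rw [prod.lift_fst, prod.map_snd, Category.comp_id, prod.lift_snd, prod.map_fst]
    · rw [prod.map_snd]; simp only [Category.assoc, prod.braiding_hom]
      rw [prod.lift_snd, prod.map_fst, prod.lift_fst_assoc, prod.map_snd_assoc, Category.id_comp]
  rw [e]
  exact MorphismProperty.comp_mem _ _ _ h1 (MorphismProperty.comp_mem _ _ _
    (Functor.relativelyRepresentable.of_isIso _ _) (MorphismProperty.comp_mem _ _ _ h2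
    (Functor.relativelyRepresentable.of_isIso _ _)))

theorem representable_diag_prod {X Y : Sp S} (hX : Representable (Limits.diag X))
    (hY : Representable (Limits.diag Y)) : Representable (Limits.diag (X ⨯ Y)) := by
  refine Functor.relativelyRepresentable.diag_of_map_from_obj fun U p => ?_
  have e : p = Limits.diag _ ≫ prod.map (p ≫ prod.fst) (p ≫ prod.snd) := by
    apply Limits.prod.hom_ext
    · rw [Category.assoc, prod.map_fst, prod.lift_fst_assoc, Category.id_comp]
    · rw [Category.assoc, prod.map_snd, prod.lift_snd_assoc, Category.id_comp]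
  rw [e]
  exact MorphismProperty.comp_mem _ _ _ (IsAlgSpace.yon_obj U).diag
    (representable_prod_map (Functor.relativelyRepresentable.of_diag hX _)
      (Functor.relativelyRepresentable.of_diag hY _))

/-- If `m` is a monomorphism and `a ≫ m` is representable, so is `a`. -/
theorem representable_of_comp_mono {A B C : Sp S} (a : A ⟶ B) (m : B ⟶ C) [Mono m]
    (h : Representable (a ≫ m)) : Representable a := by
  intro T g
  obtain ⟨b, snd, fst, H⟩ := h (g ≫ m)
  refine ⟨b, snd, fst, IsPullback.of_isLimit' ⟨?_⟩ (PullbackCone.IsLimit.mk _ (fun s => H.lift s.fst s.snd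
    (by rw [reassoc_of% s.condition])) (fun s => H.lift_fst _ _ _) (fun s => H.lift_snd _ _ _)
    (fun s m' h1 h2 => H.hom_ext (by rw [h1, H.lift_fst]) (by rw [h2, H.lift_snd])))⟩
  rw [← cancel_mono m, Category.assoc, Category.assoc, H.w]

instance etale_inf_surjective_baseChange :
    (@Etale ⊓ @Surjective : MorphismProperty Scheme.{u}).IsStableUnderBaseChange :=
  MorphismProperty.IsStableUnderBaseChange.inf

instance etale_inf_surjective_comp :
    (@Etale ⊓ @Surjective : MorphismProperty Scheme.{u}).IsStableUnderComposition :=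
  ⟨fun f g hf hg => by
    obtain ⟨hf1, hf2⟩ := hf
    obtain ⟨hg1, hg2⟩ := hg
    exact ⟨(inferInstance : MorphismProperty.IsMultiplicative (@Etale.{u} : MorphismProperty Scheme.{u})).comp_mem f g hf1 hg1,
      (inferInstance : MorphismProperty.IsMultiplicative (@Surjective.{u} : MorphismProperty Scheme.{u})).comp_mem f g hf2 hg2⟩⟩

theorem representable_diag_of_mono {P Q : Sp S} (m : P ⟶ Q) [Mono m]
    (hQ : Representable (Limits.diag Q)) : Representable (Limits.diag P) :=
  Functor.relativelyRepresentable.diag_of_map_from_obj fun _ a =>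
    representable_of_comp_mono a m (Functor.relativelyRepresentable.of_diag hQ _)

theorem representable_diag_of_isPullback {P X Y Z : Sp S} {fst : P ⟶ X} {snd : P ⟶ Y} {f : X ⟶ Z}
    {g : Y ⟶ Z} (h : IsPullback fst snd f g) (hX : Representable (Limits.diag X))
    (hY : Representable (Limits.diag Y)) : Representable (Limits.diag P) := by
  have : Mono (prod.lift fst snd) := ⟨fun a b hab => h.hom_ext
    (by have := congrArg (· ≫ (prod.fst : X ⨯ Y ⟶ X)) hab
        erw [Category.assoc, Category.assoc, prod.lift_fst] at this; exact this)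
    (by have := congrArg (· ≫ (prod.snd : X ⨯ Y ⟶ Y)) hab
        erw [Category.assoc, Category.assoc, prod.lift_snd] at this; exact this)⟩
  exact representable_diag_of_mono (prod.lift fst snd) (representable_diag_prod hX hY)

/-- A fibre product of two schemes over a sheaf with representable diagonal is a scheme. -/
theorem exists_isPullback_yon {Z : Sp S} (hZ : Representable (Limits.diag Z)) {U V : Over S}
    (a : (yon S).obj U ⟶ Z) (b : (yon S).obj V ⟶ Z) :
    ∃ (W : Over S) (p : W ⟶ U) (q : W ⟶ V),
      IsPullback ((yon S).map p) ((yon S).map q) a b :=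
  ⟨_, _, _, (Functor.relativelyRepresentable.of_diag hZ a).isPullback' b⟩

/-- An etale surjective chart of a fibre product, obtained from charts of the two factors. -/
theorem exists_chart_of_isPullback {P X Y Z : Sp S} {fst : P ⟶ X} {snd : P ⟶ Y} {f : X ⟶ Z}
    {g : Y ⟶ Z} (h : IsPullback fst snd f g) (hZ : Representable (Limits.diag Z))
    (Q : MorphismProperty Scheme.{u}) [Q.IsStableUnderBaseChange] [Q.IsStableUnderComposition]
    {U V : Over S} (u : (yon S).obj U ⟶ X) (v : (yon S).obj V ⟶ Y) (hu : RepWith Q u) (hv : RepWith Q v) :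
    ∃ (W : Over S) (p : W ⟶ U) (q : W ⟶ V) (w : (yon S).obj W ⟶ P),
      RepWith Q w ∧ IsPullback ((yon S).map p) ((yon S).map q) (u ≫ f) (v ≫ g) ∧
      w ≫ fst = (yon S).map p ≫ u ∧ w ≫ snd = (yon S).map q ≫ v := by
  obtain ⟨W, p, q, hW⟩ := exists_isPullback_yon hZ (u ≫ f) (v ≫ g)
  have hQ : Q.RespectsIso := MorphismProperty.IsStableUnderBaseChange.respectsIso
  refine ⟨W, p, q, h.lift ((yon S).map p ≫ u) ((yon S).map q ≫ v) (by simpa using hW.w), ?_, hW,
    h.lift_fst _ _ _, h.lift_snd _ _ _⟩
  have e : h.lift ((yon S).map p ≫ u) ((yon S).map q ≫ v) (by simpa using hW.w) =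
      hW.isoPullback.hom ≫ pullback.map (u ≫ f) (v ≫ g) f g u v (𝟙 Z) (by simp) (by simp)
        ≫ h.isoPullback.inv := by
    apply h.hom_ext <;> simp only [Category.assoc, h.lift_fst, h.lift_snd, h.isoPullback_inv_fst, h.isoPullback_inv_snd] <;>
      simp only [pullback.lift_fst, pullback.lift_snd, hW.isoPullback_hom_fst_assoc, hW.isoPullback_hom_snd_assoc]
  rw [e]
  have key : RepWith Q (pullback.map (u ≫ f) (v ≫ g) f g u v (𝟙 Z) (by simp) (by simp)) :=
    MorphismProperty.pullbackMap hu hv rfl rfl
  exact MorphismProperty.RespectsIso.precomp _ _ _ (MorphismProperty.RespectsIso.postcomp _ _ _ key)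

/-- Fibre products of algebraic spaces are algebraic spaces. -/
theorem isAlgSpace_of_isPullback {P X Y Z : Sp S} {fst : P ⟶ X} {snd : P ⟶ Y} {f : X ⟶ Z}
    {g : Y ⟶ Z} (h : IsPullback fst snd f g) (hX : IsAlgSpace X) (hY : IsAlgSpace Y)
    (hZ : Representable (Limits.diag Z)) : IsAlgSpace P where
  diag := representable_diag_of_isPullback h hX.diag hY.diag
  atlas := by
    obtain ⟨U, u, hue, hus⟩ := hX.atlas
    obtain ⟨V, v, hve, hvs⟩ := hY.atlas
    obtain ⟨W, p, q, w, hw, -, -, -⟩ :=
      exists_chart_of_isPullback h hZ (@Etale ⊓ @Surjective) u v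
        ⟨hue.rep, fun _ _ g a b c => ⟨hue.property g a b c, hus.property g a b c⟩⟩
        ⟨hve.rep, fun _ _ g a b c => ⟨hve.property g a b c, hvs.property g a b c⟩⟩
    exact ⟨W, w, MorphismProperty.relative_monotone inf_le_left _ hw,
      MorphismProperty.relative_monotone inf_le_right _ hw⟩

theorem isAlgSpace_pullback {X Y Z : Sp S} (f : X ⟶ Z) (g : Y ⟶ Z) (hX : IsAlgSpace X)
    (hY : IsAlgSpace Y) (hZ : IsAlgSpace Z) : IsAlgSpace (pullback f g) :=
  isAlgSpace_of_isPullback (IsPullback.of_hasPullback f g) hX hY hZ.diag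

/-- The source of a representable map to an algebraic space is an algebraic space. -/
theorem isAlgSpace_of_representable {X Y : Sp S} (f : X ⟶ Y) (hf : Representable f) (hY : IsAlgSpace Y) :
    IsAlgSpace X where
  diag := by
    refine Functor.relativelyRepresentable.diag_of_map_from_obj fun U a => ?_
    obtain ⟨W, w, fst, H⟩ := hf (a ≫ f)
    let s : U ⟶ W := (yon S).preimage (H.lift a (𝟙 _) (by simp))
    have : a = (yon S).map s ≫ fst := by simp [s]
    rw [this]
    exact MorphismProperty.comp_mem _ _ _ (representable_yon_map _)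
      (MorphismProperty.of_isPullback H.flip (hY.representable_from_yon _))
  atlas := by
    obtain ⟨U, u, hue, hus⟩ := hY.atlas
    obtain ⟨W, w, fst, H⟩ := hf u
    exact ⟨W, fst, (repWith_isStableUnderBaseChange (@Etale : MorphismProperty Scheme.{u})).of_isPullback H.flip hue,
      (repWith_isStableUnderBaseChange (@Surjective : MorphismProperty Scheme.{u})).of_isPullback H.flip hus⟩

end Groth.Agent.SpFP87
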