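import Groth.Agent.SpFP87.MonoPointFib
import Groth.Agent.SpPts86.QCMor
import Groth.Agent.SpPts86.EtaleMor
import Groth.Agent.SpPts86.MonoField
/-!
Quotients of field points with finite etale self fibre product.
-/

set_option autoImplicit false
set_option linter.style.haveILetI false
set_option backward.isDefEq.respectTransparency false
universe u
open CategoryTheory CategoryTheory.Limits AlgebraicGeometry Opposite
open AlgSp
open Groth.Agent.SpPts86

namespace Groth.Agent.SpFP87

variable {S : Scheme.{u}} {X Y : Sp S}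

theorem isFinite_of_etale_compact {A B : Scheme.{u}} (f : A ⟶ B) [Etale f] [IsAffine B] [IsLocallyArtinian B]
    [CompactSpace A] : IsFinite f := by
  haveI := Groth.Agent.Unr55.locallyQuasiFinite_of_formallyUnramified f
  haveI : QuasiCompact f := (quasiCompact_iff_compactSpace f).2 inferInstance
  exact IsFinite.of_locallyQuasiFinite f

theorem isOpenImmersion_of_mono {A B : Scheme.{u}} (f : A ⟶ B) [Mono f] [IsLocallyArtinian B] [IsReduced B] :
    IsOpenImmersion f := by
  haveI : ∀ b : B, IsOpenImmersion (B.fromSpecResidueField b) := fun b => isOpenImmersion_of_isPreimmersion _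
  let 𝒰 : B.OpenCover := {
    I₀ := B
    X := fun b => Spec (B.residueField b)
    f := fun b => B.fromSpecResidueField b
    mem₀ := by
      rw [Scheme.presieve₀_mem_precoverage_iff]
      exact ⟨fun b => ⟨b, IsLocalRing.closedPoint _, Scheme.fromSpecResidueField_apply b _⟩, fun b => inferInstance⟩ }
  rw [IsZariskiLocalAtTarget.iff_of_openCover (P := @IsOpenImmersion) 𝒰]
  intro b
  show IsOpenImmersion (pullback.snd f (B.fromSpecResidueField b))
  rcases isEmpty_or_nonempty ↥(pullback f (B.fromSpecResidueField b)) with hE | hE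
  · infer_instance
  · haveI : IsIso (pullback.snd f (B.fromSpecResidueField b)) :=
      Groth.Agent.SpPts86.isIso_of_mono_spec_field (L := B.residueField b) _
    infer_instance

theorem etale_snd_iff_flip {W R : Over S} {t s : R ⟶ W} {p : (yon S).obj W ⟶ X}
    (sq : IsPullback ((yon S).map t) ((yon S).map s) p p) [Etale s.left] : Etale t.left := by
  obtain ⟨σ, hσ⟩ := (yon S).map_surjective (sq.lift ((yon S).map s) ((yon S).map t) sq.w.symm)
  have h1 : σ ≫ t = s := (yon S).map_injective (by rw [Functor.map_comp, hσ, sq.lift_fst])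
  have h2 : σ ≫ s = t := (yon S).map_injective (by rw [Functor.map_comp, hσ, sq.lift_snd])
  have h3 : σ ≫ σ = 𝟙 R := (yon S).map_injective (sq.hom_ext
    (by rw [← Functor.map_comp, ← Functor.map_comp, Category.assoc, h1, h2, Category.id_comp])
    (by rw [← Functor.map_comp, ← Functor.map_comp, Category.assoc, h2, h1, Category.id_comp]))
  haveI : IsIso σ := ⟨σ, h3, h3⟩
  haveI : IsIso σ.left := inferInstanceAs (IsIso ((Over.forget S).map σ))
  rw [← h2, Over.comp_left]
  infer_instance

/-- A field point with finite etale self product factors through a monomorphism from a scheme. -/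
theorem exists_quot_field_point (q : FieldPt X) {R : Over S} {t s : R ⟶ q.pt}
    (sq : IsPullback ((yon S).map t) ((yon S).map s) q.toHom q.toHom) [Etale s.left] [CompactSpace ↥R.left] :
    ∃ (M : Over S) (l : q.pt ⟶ M) (m : (yon S).obj M ⟶ X), Mono m ∧ Surjective l.left ∧
      (yon S).map l ≫ m = q.toHom := by
  haveI : Etale t.left := etale_snd_iff_flip sq
  have heq : IsEqvRel s t := isEqvRel_of_isPullback sq
  have sqQ := quotMap_kernelPair heq
  have hl := locLift_quotMap s t
  obtain ⟨i, hi⟩ := exists_desc hl q.toHom fun W l l' h => by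
    rw [← sqQ.lift_fst _ _ h, Category.assoc, sq.w, ← Category.assoc, sqQ.lift_snd]
  haveI : Mono i := mono_of_kernelPair hl sqQ sq i hi
  haveI : IsAffine q.pt.left := inferInstanceAs (IsAffine (Spec _))
  haveI : IsLocallyArtinian q.pt.left := inferInstanceAs (IsLocallyArtinian (Spec (CommRingCat.of q.K)))
  haveI : IsFinite s.left := isFinite_of_etale_compact s.left
  obtain ⟨M, ⟨e⟩⟩ := exists_iso_of_finLocFree_cover hl sqQ fun A _ => ⟨⊤, isAffineOpen_top _, fun z _ => trivial⟩
  obtain ⟨l, hlm⟩ := (yon S).map_surjective (quotMap s t ≫ e.inv)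
  refine ⟨M, l, e.hom ≫ i, inferInstance, ?_, by rw [hlm, Category.assoc, Iso.inv_hom_id_assoc, hi]⟩
  obtain ⟨-, -, hqs⟩ := quotMap_atlas (s := s) (t := t) ⟨heq, inferInstance, inferInstance⟩
  refine ⟨fun z => ?_⟩
  obtain ⟨w, hw⟩ := surjective_ofPt hqs (Points.ofPt e.hom z)
  refine ⟨w, (Points.schemeHomeo M).injective ?_⟩
  show Points.ofScheme M (l.left w) = Points.ofScheme M z
  rw [← ofPt_yon_map, hlm, ← Points.map_ofPt, hw, Points.map_ofPt, e.hom_inv_id]

theorem exists_mono_point_iff (hX : IsAlgSpace X) (x : Points X) :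
    (∃ p : FieldPt X, Points.mk p = x ∧ Mono p.toHom) ↔
      ∃ q : FieldPt X, Points.mk q = x ∧
        ∀ (P : Sp S) (fst snd : P ⟶ (yon S).obj q.pt), IsPullback fst snd q.toHom q.toHom →
          RepWith @Etale fst ∧ RepWith @QuasiCompact fst := by
  constructor
  · rintro ⟨p, hp, hm⟩
    haveI := hm
    refine ⟨p, hp, fun P fst snd sq => ?_⟩
    haveI : IsIso fst := by
      have hk := IsKernelPair.id_of_mono p.toHom
      rw [← sq.isoIsPullback_hom_fst _ _ hk, Category.comp_id]
      infer_instance
    obtain ⟨R, ⟨e⟩⟩ := exists_scheme_pullback hX.diag p.toHom p.toHom sq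
    obtain ⟨g, hg⟩ := (yon S).map_surjective (e.hom ≫ fst)
    haveI : IsIso ((yon S).map g) := hg ▸ inferInstance
    haveI : IsIso g := isIso_of_fully_faithful (yon S) g
    haveI : IsIso g.left := inferInstanceAs (IsIso ((Over.forget S).map g))
    have e' : fst = e.inv ≫ (yon S).map g := by rw [hg, Iso.inv_hom_id_assoc]
    rw [e']
    exact ⟨MorphismProperty.RespectsIso.precomp (RepWith (@Etale : MorphismProperty Scheme.{u})) e.inv _
      ((repWith_yon_map_iff _ _).2 inferInstance),
      MorphismProperty.RespectsIso.precomp (RepWith (@QuasiCompact : MorphismProperty Scheme.{u})) e.inv _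
        ((repWith_yon_map_iff _ _).2 inferInstance)⟩
  · rintro ⟨q, hq, h⟩
    obtain ⟨R, t, s, sq⟩ := exists_isPullback_yon hX.diag q.toHom q.toHom
    obtain ⟨he, hc⟩ := h _ _ _ sq.flip
    haveI : Etale s.left := (repWith_yon_map_iff _ s).1 he
    haveI : QuasiCompact s.left := (repWith_yon_map_iff _ s).1 hc
    haveI : IsAffine q.pt.left := inferInstanceAs (IsAffine (Spec _))
    haveI : CompactSpace ↥R.left := QuasiCompact.compactSpace_of_compactSpace s.left
    obtain ⟨M, l, m, hm, -, hlm⟩ := exists_quot_field_point q sq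
    haveI := hm
    obtain ⟨p, hp, hpm, -⟩ := exists_point_of_ofPt m (l.left (IsLocalRing.closedPoint q.K))
    refine ⟨p, ?_, hpm⟩
    rw [hp, ← ofPt_comp, hlm, Points.ofPt_toHom, hq]

theorem exists_etale_self_product (hX : IsAlgSpace X) (hY : IsAlgSpace Y) (f : X ⟶ Y)
    (hq : IsQuasiCompactMor f) (he : IsEtaleMor f) (p : FieldPt X) [Mono p.toHom] :
    ∃ (R : Over S) (t s : R ⟶ (p.map f).pt), IsPullback ((yon S).map t) ((yon S).map s) (p.map f).toHom (p.map f).toHom ∧
      Etale s.left ∧ CompactSpace ↥R.left := by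
  obtain ⟨R, t, s, sq⟩ := exists_isPullback_yon hY.diag (p.map f).toHom (p.map f).toHom
  refine ⟨R, t, s, sq, ?_⟩
  have sqA := IsPullback.of_hasPullback f (p.map f).toHom
  have hA : IsAlgSpace (pullback f (p.map f).toHom) := isAlgSpace_pullback _ _ hX (IsAlgSpace.yon_obj _) hY
  have hAe : IsEtaleMor (pullback.snd f (p.map f).toHom) := by
    have h0 : LocP @Etale f := (isEtaleMor_iff_locP f hX hY).1 he
    exact (isEtaleMor_iff_locP _ hA (IsAlgSpace.yon_obj _)).2 (locP_baseChange sqA hX hY (IsAlgSpace.yon_obj _) h0)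
  obtain ⟨U, a, ha, has⟩ := hA.atlas
  obtain ⟨c, hc⟩ := (yon S).map_surjective (a ≫ pullback.snd f (p.map f).toHom)
  have hce : Etale c.left := (repWith_yon_map_iff _ c).1 (hc ▸ hAe a ha)
  haveI : Etale (show U.left ⟶ Spec (CommRingCat.of p.K) from c.left) := hce
  obtain ⟨_, _⟩ := isLocallyArtinian_of_etale (show U.left ⟶ Spec (CommRingCat.of p.K) from c.left)
  have hcomp : IsQuasiCompactSp (pullback f (p.map f).toHom) := by
    haveI : CompactSpace ↥(p.map f).pt.left := inferInstanceAs (CompactSpace ↥(Spec (CommRingCat.of p.K)))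
    exact hq (IsAlgSpace.yon_obj _) (isQuasiCompactSp_yon _) _ _ _ sqA
  haveI := compactSpace_points_of_isQuasiCompactSp hcomp
  have sq' : IsPullback ((yon S).map t) ((yon S).map s) (p.toHom ≫ f) (p.map f).toHom := by
    rw [← FieldPt.toHom_map]; exact sq
  let L : (yon S).obj R ⟶ pullback f (p.map f).toHom :=
    sqA.lift ((yon S).map t ≫ p.toHom) ((yon S).map s) (by rw [Category.assoc]; exact sq'.w)
  have sqL : IsPullback ((yon S).map t) L p.toHom (pullback.fst f (p.map f).toHom) := by
    refine IsPullback.of_bot ?_ (sqA.lift_fst _ _ _).symm sqA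
    rw [sqA.lift_snd]
    exact sq'
  haveI : Mono L := mono_baseChange sqL
  obtain ⟨R', t', a', sqR⟩ := exists_isPullback_yon hA.diag L a
  haveI : Mono a' := ⟨fun {Z} g g' e => (yon S).map_injective (sqR.hom_ext
    (by rw [← cancel_mono L, Category.assoc, Category.assoc, sqR.w, ← Category.assoc, ← Category.assoc,
          ← Functor.map_comp, ← Functor.map_comp, e])
    (by rw [← Functor.map_comp, ← Functor.map_comp, e]))⟩
  haveI := mono_left_of_mono a'
  haveI : Etale t'.left := etale_snd_of_isPullback sqR.flip ha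
  haveI : Surjective t'.left := etale_snd_of_isPullback sqR.flip has
  haveI : IsOpenImmersion a'.left := isOpenImmersion_of_mono a'.left
  have e1 : t' ≫ s = a' ≫ c := (yon S).map_injective (by
    rw [Functor.map_comp, Functor.map_comp, hc, ← reassoc_of% sqR.w, sqA.lift_snd])
  haveI : Etale (t'.left ≫ s.left) := by
    rw [← Over.comp_left, e1, Over.comp_left]
    infer_instance
  haveI : IsAffine (p.map f).pt.left := inferInstanceAs (IsAffine (Spec _))
  refine ⟨(repWith_yon_map_iff _ s).1 (repWith_etale_of_precomp (IsAlgSpace.yon_obj _) t' (by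
    rw [← Functor.map_comp]
    exact (repWith_yon_map_iff _ _).2 (inferInstanceAs (Etale (t'.left ≫ s.left))))), ?_⟩
  -- finiteness of the relation
  have hL : Function.Injective (Points.map L) := by
    intro x y hxy
    obtain ⟨x, rfl⟩ := (Points.schemeHomeo R).surjective x
    obtain ⟨y, rfl⟩ := (Points.schemeHomeo R).surjective y
    obtain ⟨u, hu⟩ := surjective_ofPt has (Points.map L (Points.schemeHomeo R x))
    obtain ⟨z, hz, hzu⟩ := exists_pt_of_isPullback' (sqR.flip.flip) x u
      (by rw [hu, Points.ofPt_eq_map_ofScheme]; rfl)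
    obtain ⟨z', hz', hz'u⟩ := exists_pt_of_isPullback' (sqR.flip.flip) y u
      (by rw [hu, hxy, Points.ofPt_eq_map_ofScheme]; rfl)
    have : z = z' := injective_of_mono a'.left (hzu.trans hz'u.symm)
    rw [← hz, ← hz', this]
  haveI : CompactSpace (Points (pullback f (p.map f).toHom)) := compactSpace_points_of_isQuasiCompactSp hcomp
  haveI : Finite (Points (pullback f (p.map f).toHom)) := by
    haveI : DiscreteTopology (Points (pullback f (p.map f).toHom)) :=
      discreteTopology_iff_isOpen_singleton.2 fun z =>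
        (isOpenQuotientMap_ofPt ha has).isQuotientMap.isOpen_preimage.1 (isOpen_discrete _)
    exact finite_of_compact_of_discrete
  haveI : Finite ↥R.left := Finite.of_injective _ (hL.comp (Points.schemeHomeo R).injective)
  exact Finite.compactSpace

theorem exists_quot_point_of_qc_etale (hX : IsAlgSpace X) (hY : IsAlgSpace Y) (f : X ⟶ Y)
    (hq : IsQuasiCompactMor f) (he : IsEtaleMor f) (p : FieldPt X) [Mono p.toHom] :
    ∃ (M : Over S) (l : (p.map f).pt ⟶ M) (m : (yon S).obj M ⟶ Y), Mono m ∧ Surjective l.left ∧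
      (yon S).map l ≫ m = (p.map f).toHom := by
  obtain ⟨R, t, s, sq, _, _⟩ := exists_etale_self_product hX hY f hq he p
  exact exists_quot_field_point (p.map f) sq

theorem exists_mono_point_of_qc_etale (hX : IsAlgSpace X) (hY : IsAlgSpace Y) (f : X ⟶ Y)
    (hq : IsQuasiCompactMor f) (he : IsEtaleMor f) (p : FieldPt X) [Mono p.toHom] :
    ∃ q : FieldPt Y, Points.mk q = Points.map f (Points.mk p) ∧ Mono q.toHom ∧
      (RepWith @QuasiCompact p.toHom → RepWith @QuasiCompact q.toHom) := by
  obtain ⟨M, l, m, hm, hls, hlm⟩ := exists_quot_point_of_qc_etale hX hY f hq he p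
  haveI := hm
  obtain ⟨q, hq1, hq2, hq3⟩ := exists_point_of_ofPt m (l.left (IsLocalRing.closedPoint p.K))
  refine ⟨q, ?_, hq2, fun hp => hq3 ?_⟩
  · rw [hq1, ← ofPt_comp, hlm, Points.map_mk]
    exact Points.ofPt_toHom (p.map f) _
  · refine repWith_quasiCompact_of_isQuasiCompactMor (Functor.relativelyRepresentable.of_diag hY.diag _)
      (isQuasiCompactMor_of_affine (IsAlgSpace.yon_obj _) hY fun T hT g Q fst snd sq => ?_)
    have hc : IsQuasiCompactMor ((yon S).map l ≫ m) := by
      rw [hlm, FieldPt.toHom_map]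
      exact isQuasiCompactMor_comp hX hY (isQuasiCompactMor_of_repWith hX hp) hq
    have sq2 := IsPullback.of_hasPullback ((yon S).map l) fst
    haveI : CompactSpace ↥T.left := inferInstance
    haveI := compactSpace_points_yon T
    haveI : CompactSpace (Points (pullback ((yon S).map l) fst)) :=
      compactSpace_of_isQuasiCompactMor hc (IsAlgSpace.yon_obj T) (sq2.paste_vert sq)
    refine compactSpace_of_surjectiveMor (f := pullback.snd ((yon S).map l) fst) fun z => ?_
    obtain ⟨w, hw⟩ := (Points.schemeHomeo M).surjective (Points.map fst z)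
    obtain ⟨v, rfl⟩ := hls.surj w
    obtain ⟨x, -, hx⟩ := exists_of_isPullback sq2 (Points.schemeHomeo (p.map f).pt v) z (by
      rw [← hw]
      exact (Points.map_ofPt _ _ v).trans ((congrArg (Points.ofPt · v) (Category.id_comp _)).trans (ofPt_yon_map l v)))
    exact ⟨x, hx⟩

end Groth.Agent.SpFP87
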