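import Groth.Agent.SpFP87.Residual
import Groth.Agent.Unr55.EtStalk
import Groth.Agent.SpFP87.FieldQuot
import Mathlib.RingTheory.RegularLocalRing.Defs
import Groth.Agent.Div89.Basic
import Groth.Agent.FBase64.PointCmp
/-!
Algebraic spaces with a single point.
-/

set_option autoImplicit false
set_option linter.style.haveILetI false
set_option backward.isDefEq.respectTransparency false
universe u
open CategoryTheory CategoryTheory.Limits AlgebraicGeometry Opposite
open AlgSp
open Groth.Agent.SpPts86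

namespace Groth.Agent.SpFP87

theorem ringKrullDim_stalk_of_etale {A B : Scheme.{u}} (f : A ⟶ B) [Etale f] [IsLocallyNoetherian B] (x : A) :
    ringKrullDim (A.presheaf.stalk x) = ringKrullDim (B.presheaf.stalk (f x)) := by
  haveI := LocallyOfFiniteType.isLocallyNoetherian f
  algebraize [(f.stalkMap x).hom]
  obtain ⟨hl, hf, hm⟩ := Groth.Agent.Unr55.stalkMap_facts f x
  haveI := hl
  haveI := hf
  exact Groth.Agent.Unr55.ringKrullDim_eq_of_map_maximalIdeal _ _ hm

theorem flat_to_field {A B : Scheme.{u}} (f : A ⟶ B) (h : ∀ b : B, IsField (B.presheaf.stalk b)) : Flat f := by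
  refine Flat.of_stalkMap f fun x => ?_
  letI := (h (f x)).toField
  letI := (f.stalkMap x).hom.toAlgebra
  exact (RingHom.flat_algebraMap_iff (R := B.presheaf.stalk (f x)) (S := A.presheaf.stalk x)).2 inferInstance

theorem eq_of_specializes_of_isField {B : Scheme.{u}} {y z : B} (h : y ⤳ z) (hz : IsField (B.presheaf.stalk z)) :
    y = z := by
  obtain ⟨U, hU, hzU, -⟩ := exists_isAffineOpen_mem_and_subset (U := (⊤ : B.Opens)) (x := z) trivial
  have hyU : y ∈ U := h.mem_open U.isOpen hzU
  haveI := Groth.Agent.Div89.primeAt_isPrime ⟨U, hU⟩ z hzU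
  haveI := Groth.Agent.Div89.primeAt_isPrime ⟨U, hU⟩ y hyU
  have h0 : (Groth.Agent.Div89.primeAt ⟨U, hU⟩ z hzU).height = 0 := by
    have := Groth.Agent.Div89.ringKrullDim_stalk_eq_height ⟨U, hU⟩ z hzU
    rw [ringKrullDim_eq_zero_of_isField hz] at this
    exact_mod_cast this.symm
  rw [Ideal.height_eq_zero_iff] at h0
  have hle : Groth.Agent.Div89.primeAt ⟨U, hU⟩ y hyU ≤ Groth.Agent.Div89.primeAt ⟨U, hU⟩ z hzU :=
    (Groth.Agent.Div89.specializes_iff_primeAt_le ⟨U, hU⟩ hzU hyU).1 h
  exact ((Groth.Agent.Div89.specializes_iff_primeAt_le ⟨U, hU⟩ hyU hzU).2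
    (h0.2 ⟨inferInstance, bot_le⟩ hle)).antisymm h |>.eq.symm

variable {S : Scheme.{u}} {Z : Sp S}

theorem isLocallyArtinian_chart_of_singleton (hZ : IsAlgSpace Z) [Subsingleton (Points Z)] {U : Over S}
    {a : (yon S).obj U ⟶ Z} (ha : RepWith @Etale a) [IsLocallyNoetherian U.left] : IsLocallyArtinian U.left := by
  obtain ⟨R, t, s, _, _, sq, -, -, -⟩ := exists_common_chart hZ ha ha
  have key : ∀ u v : ↥U.left, ringKrullDim (U.left.presheaf.stalk u) = ringKrullDim (U.left.presheaf.stalk v) := by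
    intro u v
    obtain ⟨r, hr1, hr2⟩ := exists_pt_common_chart sq u v (Subsingleton.elim _ _)
    rw [← hr1, ← hr2, ← ringKrullDim_stalk_of_etale, ← ringKrullDim_stalk_of_etale]
  have h0 : ∀ u : ↥U.left, ringKrullDim (U.left.presheaf.stalk u) = 0 := by
    intro u
    obtain ⟨W, hW, huW, -⟩ := exists_isAffineOpen_mem_and_subset (U := (⊤ : U.left.Opens)) (x := u) trivial
    haveI := Groth.Agent.Div89.primeAt_isPrime ⟨W, hW⟩ u huW
    obtain ⟨p, hp, hle⟩ := Ideal.exists_minimalPrimes_le
      (show (⊥ : Ideal Γ(U.left, W)) ≤ Groth.Agent.Div89.primeAt ⟨W, hW⟩ u huW from bot_le)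
    haveI := hp.1.1
    obtain ⟨z, hz, rfl⟩ := Groth.Agent.Div89.exists_point ⟨W, hW⟩ p
    rw [key u z, Groth.Agent.Div89.ringKrullDim_stalk_eq_height ⟨W, hW⟩ z hz, Ideal.height_eq_zero_iff.2 hp]
    rfl
  haveI : DiscreteTopology ↥U.left := by
    refine discreteTopology_iff_isOpen_singleton.2 fun u => ?_
    obtain ⟨W, hW, huW, -⟩ := exists_isAffineOpen_mem_and_subset (U := (⊤ : U.left.Opens)) (x := u) trivial
    haveI : IsNoetherianRing Γ(U.left, W) := IsLocallyNoetherian.component_noetherian ⟨W, hW⟩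
    haveI : Ring.KrullDimLE 0 Γ(U.left, W) := Ring.krullDimLE_zero_iff.2 fun I hI => by
      haveI := hI
      obtain ⟨z, hz, rfl⟩ := Groth.Agent.Div89.exists_point ⟨W, hW⟩ I
      refine ⟨⟨hI.ne_top, fun J hJ => ?_⟩⟩
      by_contra hJt
      obtain ⟨M, hM, hJM⟩ := Ideal.exists_le_maximal J hJt
      haveI := hM.isPrime
      obtain ⟨m, hm, rfl⟩ := Groth.Agent.Div89.exists_point ⟨W, hW⟩ M
      have := h0 m
      rw [Groth.Agent.Div89.ringKrullDim_stalk_eq_height ⟨W, hW⟩ m hm] at this
      have h' : (Groth.Agent.Div89.primeAt ⟨W, hW⟩ m hm).height = 0 := by exact_mod_cast this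
      exact hJ.not_ge (hJM.trans ((Ideal.height_eq_zero_iff.1 h').2 ⟨inferInstance, bot_le⟩ (hJ.le.trans hJM)))
    haveI : IsArtinianRing Γ(U.left, W) := isArtinianRing_iff_krullDimLE_zero.2 inferInstance
    haveI : IsAffine W.toScheme := hW
    haveI : DiscreteTopology ↥(Spec Γ(U.left, W)) := inferInstanceAs (DiscreteTopology (PrimeSpectrum Γ(U.left, W)))
    haveI : DiscreteTopology ↥W.toScheme :=
      (hW.isoSpec.hom.homeomorph).isEmbedding.discreteTopology
    have := W.ι.isOpenEmbedding.isOpenMap _ (@isOpen_discrete ↥W.toScheme _ _ ({⟨u, huW⟩} : Set ↥W.toScheme))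
    simpa using this
  exact IsLocallyArtinian.of_isLocallyNoetherian_of_discreteTopology

theorem exists_etale_field_point (hZ : IsAlgSpace Z) [Subsingleton (Points Z)] {U : Over S}
    {a : (yon S).obj U ⟶ Z} (ha : RepWith @Etale a) [IsLocallyNoetherian U.left] [IsReduced U.left] (u : ↥U.left) :
    RepWith @Etale ((yon S).map (resIncl u) ≫ a) ∧ IsSurjectiveMor ((yon S).map (resIncl u) ≫ a) := by
  haveI := isLocallyArtinian_chart_of_singleton hZ ha
  haveI : IsPreimmersion (resIncl u).left := inferInstanceAs (IsPreimmersion (U.left.fromSpecResidueField u))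
  haveI := isOpenImmersion_of_isPreimmersion (resIncl u).left
  refine ⟨MorphismProperty.comp_mem (W := RepWith (@Etale : MorphismProperty Scheme.{u})) _ _
    ((repWith_yon_map_iff _ _).2 inferInstance) ha, fun z => ?_⟩
  exact ⟨Points.ofScheme (resPt u) (IsLocalRing.closedPoint (U.left.residueField u)), Subsingleton.elim _ _⟩

theorem reduced_locNoeth_singleton_iff (hZ : IsAlgSpace Z) :
    (EtaleLocally (fun U => IsReduced U) Z ∧ IsLocNoethSp Z ∧ Nonempty (Points Z) ∧ Subsingleton (Points Z)) ↔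
      ∃ (k : Type u) (_ : Field k) (str : Spec (CommRingCat.of k) ⟶ S) (p : (yon S).obj (Over.mk str) ⟶ Z),
        LocP @LocallyOfFinitePresentation p ∧ LocP @Flat p ∧ IsSurjectiveMor p := by
  constructor
  · rintro ⟨hr, hN, ⟨z⟩, hsub⟩
    haveI := hsub
    obtain ⟨U, a, ha, hs⟩ := hZ.atlas
    haveI := isLocallyNoetherian_chart hZ hN ha
    haveI := isReduced_chart hZ hr ha
    obtain ⟨u, -⟩ := surjective_ofPt hs z
    obtain ⟨he, hsu⟩ := exists_etale_field_point hZ ha u
    exact ⟨U.left.residueField u, inferInstance, U.left.fromSpecResidueField u ≫ U.hom, _,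
      locP_of_repWith (IsAlgSpace.yon_obj _).diag hZ (repWith_mono (fun _ _ f (_ : Etale f) => inferInstance) he),
      locP_of_repWith (IsAlgSpace.yon_obj _).diag hZ (repWith_mono (fun _ _ f (_ : Etale f) => inferInstance) he),
      hsu⟩
  · rintro ⟨k, _, str, p, hfp, hfl, hps⟩
    obtain ⟨U, a, ha, hs⟩ := hZ.atlas
    obtain ⟨M, b, c, sq⟩ := exists_isPullback_yon hZ.diag p a
    haveI : Etale b.left := etale_snd_of_isPullback sq.flip ha
    haveI : Etale (show M.left ⟶ Spec (CommRingCat.of k) from b.left) := ‹Etale b.left›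
    obtain ⟨_, _⟩ := isLocallyArtinian_of_etale (show M.left ⟶ Spec (CommRingCat.of k) from b.left)
    have hb : RepWith @Etale ((yon S).map b) := (repWith_yon_map_iff _ _).2 inferInstance
    haveI : Flat c.left := hfl ((yon S).map b) a c hb ha sq.w
    haveI : LocallyOfFinitePresentation c.left := hfp ((yon S).map b) a c hb ha sq.w
    haveI : Surjective c.left := ⟨fun z => by
      obtain ⟨w, hw⟩ := hps (Points.ofPt a z)
      obtain ⟨w, rfl⟩ := (Points.schemeHomeo (Over.mk str)).surjective w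
      obtain ⟨m, -, hm⟩ := exists_pt_of_isPullback' sq w z ((Points.ofPt_eq_map_ofScheme p w).trans hw)
      exact ⟨m, hm⟩⟩
    haveI : IsReduced U.left := by
      suffices ∀ z : ↥U.left, _root_.IsReduced (U.left.presheaf.stalk z) from isReduced_of_isReduced_stalk _
      intro z
      obtain ⟨m, rfl⟩ := c.left.surjective z
      exact Groth.Agent.FBase64.isReduced_stalk_of_flat c.left m
    refine ⟨⟨U, a, ha, hs, inferInstance⟩,
      ⟨U, a, ha, hs, isLocallyNoetherian_of_flat_lfp_surjective c.left⟩,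
      ⟨Points.ofPt p (IsLocalRing.closedPoint k)⟩, ⟨fun x y => ?_⟩⟩
    obtain ⟨x, rfl⟩ := hps x
    obtain ⟨y, rfl⟩ := hps y
    obtain ⟨x, rfl⟩ := (Points.schemeHomeo (Over.mk str)).surjective x
    obtain ⟨y, rfl⟩ := (Points.schemeHomeo (Over.mk str)).surjective y
    rw [Subsingleton.elim (α := PrimeSpectrum k) x y]

theorem etaleLocally_regular_of_singleton (hZ : IsAlgSpace Z) (hr : EtaleLocally (fun U => IsReduced U) Z)
    (hN : IsLocNoethSp Z) [Subsingleton (Points Z)] :
    EtaleLocally (fun U => IsLocallyNoetherian U ∧ ∀ u : ↥U, IsRegularLocalRing ↥(U.presheaf.stalk u)) Z := by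
  obtain ⟨U, a, ha, hs⟩ := hZ.atlas
  haveI := isLocallyNoetherian_chart hZ hN ha
  haveI := isReduced_chart hZ hr ha
  haveI := isLocallyArtinian_chart_of_singleton hZ ha
  refine ⟨U, a, ha, hs, inferInstance, fun u => ?_⟩
  letI := (isField_stalk u).toField
  infer_instance

theorem exists_lft_flat_field_point (hZ : IsAlgSpace Z) (k : Type u) [Field k] (str : Spec (CommRingCat.of k) ⟶ S)
    (p : (yon S).obj (Over.mk str) ⟶ Z) (hpf : LocP @Flat p) (hps : IsSurjectiveMor p) :
    ∃ (k' : Type u) (_ : Field k') (str' : Spec (CommRingCat.of k') ⟶ S) (q : (yon S).obj (Over.mk str') ⟶ Z),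
      LocP @LocallyOfFiniteType q ∧ LocP @Flat q ∧ IsSurjectiveMor q := by
  obtain ⟨U, a, ha, hs⟩ := hZ.atlas
  obtain ⟨M, b, c, sq⟩ := exists_isPullback_yon hZ.diag p a
  haveI : Etale b.left := etale_snd_of_isPullback sq.flip ha
  haveI : Etale (show M.left ⟶ Spec (CommRingCat.of k) from b.left) := ‹Etale b.left›
  obtain ⟨_, _⟩ := isLocallyArtinian_of_etale (show M.left ⟶ Spec (CommRingCat.of k) from b.left)
  haveI : Flat c.left := hpf ((yon S).map b) a c ((repWith_yon_map_iff _ _).2 inferInstance) ha sq.w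
  have hfield : ∀ z : ↥U.left, IsField (U.left.presheaf.stalk z) := fun z => by
    obtain ⟨w, hw⟩ := hps (Points.ofPt a z)
    obtain ⟨w, rfl⟩ := (Points.schemeHomeo (Over.mk str)).surjective w
    obtain ⟨m, -, rfl⟩ := exists_pt_of_isPullback' sq w z ((Points.ofPt_eq_map_ofScheme p w).trans hw)
    haveI : IsLocalHom (c.left.stalkMap m).hom := c.left.toLRSHom.prop m
    refine IsField.mk ⟨0, 1, zero_ne_one⟩ mul_comm fun {x} hx => ?_
    have hu : IsUnit ((c.left.stalkMap m).hom x) := by
      letI := (isField_stalk m).toField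
      exact (map_ne_zero_iff _ (Groth.Agent.FBase64.stalkMap_injective_of_flat c.left m)).2 hx |>.isUnit
    exact isUnit_iff_exists_inv.1 (IsUnit.of_map (c.left.stalkMap m).hom x hu)
  obtain ⟨z0, -⟩ := surjective_ofPt hs (Points.ofPt p (IsLocalRing.closedPoint k))
  have hcl : IsClosed ({z0} : Set ↥U.left) := by
    rw [← closure_eq_iff_isClosed]
    refine Set.Subset.antisymm (fun y hy => ?_) subset_closure
    exact (eq_of_specializes_of_isField (specializes_iff_mem_closure.2 hy) (hfield y)).symm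
  haveI : LocallyOfFiniteType (resIncl z0).left := by
    haveI : IsClosedImmersion (U.left.fromSpecResidueField z0) := isClosed_singleton_iff_isClosedImmersion.1 hcl
    exact inferInstanceAs (LocallyOfFiniteType (U.left.fromSpecResidueField z0))
  haveI : Flat (resIncl z0).left := flat_to_field _ hfield
  refine ⟨U.left.residueField z0, inferInstance, U.left.fromSpecResidueField z0 ≫ U.hom,
    (yon S).map (resIncl z0) ≫ a, ?_, ?_, fun x => ?_⟩
  · exact locP_of_repWith (IsAlgSpace.yon_obj _).diag hZ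
      (MorphismProperty.comp_mem (W := RepWith (@LocallyOfFiniteType : MorphismProperty Scheme.{u})) _ _
        ((repWith_yon_map_iff _ _).2 inferInstance) (repWith_mono (fun _ _ f (_ : Etale f) => inferInstance) ha))
  · exact locP_of_repWith (IsAlgSpace.yon_obj _).diag hZ
      (MorphismProperty.comp_mem (W := RepWith (@Flat : MorphismProperty Scheme.{u})) _ _
        ((repWith_yon_map_iff _ _).2 inferInstance) (repWith_mono (fun _ _ f (_ : Etale f) => inferInstance) ha))
  · refine ⟨Points.ofScheme (resPt z0) (IsLocalRing.closedPoint (U.left.residueField z0)), ?_⟩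
    obtain ⟨x, rfl⟩ := hps x
    obtain ⟨y, hy⟩ := hps (Points.map ((yon S).map (resIncl z0) ≫ a)
      (Points.ofScheme (resPt z0) (IsLocalRing.closedPoint (U.left.residueField z0))))
    refine hy.symm.trans (congrArg _ ?_)
    obtain ⟨x, rfl⟩ := (Points.schemeHomeo (Over.mk str)).surjective x
    obtain ⟨y, rfl⟩ := (Points.schemeHomeo (Over.mk str)).surjective y
    rw [Subsingleton.elim (α := PrimeSpectrum k) x y]

end Groth.Agent.SpFP87
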