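import Groth.Agent.SpFP87.DecentDim
import Groth.Agent.SpFP87.JacobsonSp
import Groth.Agent.SpFP87.PointSpace
import Mathlib.Topology.NoetherianSpace
/-!
Isolated points and zero-dimensional spaces over a field.
-/

set_option autoImplicit false
set_option linter.style.haveILetI false
set_option backward.isDefEq.respectTransparency false
universe u
open CategoryTheory CategoryTheory.Limits AlgebraicGeometry Opposite Topology
open AlgSp
open Groth.Agent.SpPts86

namespace Groth.Agent.SpFP87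

theorem isOpen_singleton_of_closed_minimal {U : Scheme.{u}} [IsLocallyNoetherian U] (u : ↥U)
    (hc : IsClosed ({u} : Set ↥U)) (hm : ∀ w, w ⤳ u → w = u) : IsOpen ({u} : Set ↥U) := by
  obtain ⟨W, hW, huW, -⟩ := exists_isAffineOpen_mem_and_subset (U := (⊤ : U.Opens)) (x := u) trivial
  haveI : IsNoetherianRing Γ(U, W) := IsLocallyNoetherian.component_noetherian ⟨W, hW⟩
  haveI : TopologicalSpace.NoetherianSpace ↥(Spec Γ(U, W)) :=
    inferInstanceAs (TopologicalSpace.NoetherianSpace (PrimeSpectrum Γ(U, W)))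
  haveI : TopologicalSpace.NoetherianSpace ↥W.toScheme :=
    TopologicalSpace.noetherianSpace_of_surjective _ hW.isoSpec.inv.continuous
      hW.isoSpec.inv.homeomorph.surjective
  let uW : ↥W.toScheme := ⟨u, huW⟩
  let C : Set (Set ↥W.toScheme) := {Z ∈ irreducibleComponents ↥W.toScheme | uW ∉ Z}
  have hC : IsClosed (⋃₀ C) := by
    rw [Set.sUnion_eq_biUnion]
    exact (TopologicalSpace.NoetherianSpace.finite_irreducibleComponents.subset (fun _ h => h.1)).isClosed_biUnion
      fun Z hZ => isClosed_of_mem_irreducibleComponents Z hZ.1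
  have e : ({u} : Set ↥U) = W.ι '' (⋃₀ C)ᶜ := by
    refine Set.Subset.antisymm ?_ ?_
    · rintro _ rfl
      exact ⟨uW, fun ⟨Z, hZ, hu⟩ => hZ.2 hu, rfl⟩
    · rintro - ⟨z, hz, rfl⟩
      obtain ⟨Z, hZ, hzZ⟩ : ∃ Z ∈ irreducibleComponents ↥W.toScheme, z ∈ Z :=
        ⟨irreducibleComponent z, irreducibleComponent_mem_irreducibleComponents z, mem_irreducibleComponent⟩
      have hu : uW ∈ Z := by
        by_contra h
        exact hz ⟨Z, ⟨hZ, h⟩, hzZ⟩
      obtain ⟨ξ, hξ⟩ := QuasiSober.sober hZ.1 (isClosed_of_mem_irreducibleComponents Z hZ)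
      have h1 : ξ.1 = u := hm _ ((subtype_specializes_iff _ _).1 (hξ.specializes hu))
      have h2 : (ξ : ↥W.toScheme).1 ⤳ z.1 := (subtype_specializes_iff _ _).1 (hξ.specializes hzZ)
      rw [h1] at h2
      exact h2.mem_closed hc rfl
  rw [e]
  exact W.ι.isOpenEmbedding.isOpenMap _ hC.isOpen_compl

theorem localDim_eq_zero_iff {U : Scheme.{u}} [IsLocallyNoetherian U] [JacobsonSpace ↥U] (u : ↥U) :
    FlatMor.localDim ↥U u = 0 ↔ IsOpen ({u} : Set ↥U) := by
  unfold FlatMor.localDim
  constructor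
  · intro h
    haveI : Nonempty {O : TopologicalSpace.Opens ↥U // u ∈ O} := ⟨⟨⊤, trivial⟩⟩
    let fd := fun O : {O : TopologicalSpace.Opens ↥U // u ∈ O} => topologicalKrullDim (O.1 : Set ↥U)
    obtain ⟨m, ⟨O, hO⟩, hmin⟩ := (wellFounded_lt (α := WithBot ℕ∞)).has_min (Set.range fd) (Set.range_nonempty fd)
    have hm0 : m = 0 := by
      rw [← h]
      exact le_antisymm (le_iInf (α := WithBot ℕ∞) fun O' => not_lt.1 (hmin _ ⟨O', rfl⟩))
        (hO ▸ iInf_le (α := WithBot ℕ∞) fd O)
    rw [hm0] at hO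
    haveI hsober : QuasiSober (O.1 : Set ↥U) := O.1.2.isOpenEmbedding_subtypeVal.quasiSober
    have hmax : ∀ w : ↥U, w ∈ O.1 → ∀ w', w' ⤳ w → w' = w := by
      intro w hw w' hw'
      have h0 : ringKrullDim (U.presheaf.stalk w) = 0 := by
        rw [ringKrullDim_stalk_eq_coheight]
        refine le_antisymm ?_ ((WithBot.coe_le_coe).2 bot_le)
        rw [← hO]
        show _ ≤ topologicalKrullDim (O.1 : Set ↥U)
        rw [topologicalKrullDim_open_eq_iSup O.1.isOpen]
        exact le_iSup (α := WithBot ℕ∞)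
          (fun y : (O.1 : Set ↥U) => ((Order.coheight (y : ↥U) : ℕ∞) : WithBot ℕ∞)) ⟨w, hw⟩
      exact (dim_stalk_eq_zero_iff w).1 h0 w' hw'
    refine isOpen_singleton_of_closed_minimal u ?_ (hmax u O.2)
    obtain ⟨z, ⟨hzO, hz⟩, hzc⟩ := nonempty_inter_closedPoints (Z := (O.1 : Set ↥U) ∩ closure {u})
      ⟨u, O.2, subset_closure rfl⟩ (O.1.2.isLocallyClosed.inter isClosed_closure.isLocallyClosed)
    exact (hmax z hzO u (specializes_iff_mem_closure.2 hz)).symm ▸ hzc
  · intro h
    apply le_antisymm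
    · refine iInf_le_of_le (α := WithBot ℕ∞) ⟨⟨{u}, h⟩, rfl⟩ ?_
      exact topologicalKrullDim_zero_of_discreteTopology ({u} : Set ↥U)
    · refine le_iInf (α := WithBot ℕ∞) fun O => ?_
      haveI : Nonempty (O.1 : Set ↥U) := ⟨⟨u, O.2⟩⟩
      exact Order.krullDim_nonneg_iff.2 ⟨⟨closure {⟨u, O.2⟩}, isIrreducible_singleton.closure, isClosed_closure⟩⟩

theorem discreteTopology_of_dim_le_zero {U : Scheme.{u}} [IsLocallyNoetherian U] [JacobsonSpace ↥U]
    (h : topologicalKrullDim ↥U ≤ 0) : DiscreteTopology ↥U := by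
  have hmax : ∀ w w' : ↥U, w' ⤳ w → w' = w := fun w => by
    refine (dim_stalk_eq_zero_iff w).1 ?_
    rw [ringKrullDim_stalk_eq_coheight]
    refine le_antisymm (le_trans ?_ h) ((WithBot.coe_le_coe).2 bot_le)
    rw [topologicalKrullDim_eq_iSup]
    exact le_iSup (α := WithBot ℕ∞) (fun y : ↥U => ((Order.coheight y : ℕ∞) : WithBot ℕ∞)) w
  haveI : T1Space ↥U := t1Space_iff_specializes_imp_eq.2 fun {x y} hxy => hmax y x hxy
  exact discreteTopology_iff_isOpen_singleton.2 fun u =>
    isOpen_singleton_of_closed_minimal u isClosed_singleton (hmax u)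

variable {S : Scheme.{u}} {X : Sp S}

theorem dim_stalk_eq_of_ofPt_eq (hX : IsAlgSpace X) {U V : Over S} [IsLocallyNoetherian U.left] [IsLocallyNoetherian V.left]
    {a : (yon S).obj U ⟶ X} {b : (yon S).obj V ⟶ X} (ha : RepWith @Etale a) (hb : RepWith @Etale b) {u : ↥U.left}
    {v : ↥V.left} (h : Points.ofPt a u = Points.ofPt b v) :
    ringKrullDim (U.left.presheaf.stalk u) = ringKrullDim (V.left.presheaf.stalk v) := by
  obtain ⟨R, p, q, _, _, sq, -, -, -⟩ := exists_common_chart hX ha hb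
  obtain ⟨r, rfl, rfl⟩ := exists_pt_common_chart sq u v h
  rw [← ringKrullDim_stalk_of_etale, ← ringKrullDim_stalk_of_etale]

theorem isOpen_singleton_pts_of_isOpen {U : Over S} {a : (yon S).obj U ⟶ X} (ha : RepWith @Etale a) {u : ↥U.left}
    (h : IsOpen ({u} : Set ↥U.left)) : IsOpen ({Points.ofPt a u} : Set (Points X)) := by
  rw [← Set.image_singleton]
  exact isOpenMap_ofPt ha _ h

/-- Over an isolated point, all points of a chart are isolated. -/
theorem isOpen_singleton_of_isOpen_pts (hX : IsAlgSpace X) {U : Over S} [IsLocallyNoetherian U.left]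
    [JacobsonSpace ↥U.left] {a : (yon S).obj U ⟶ X} (ha : RepWith @Etale a) {u : ↥U.left}
    (h : IsOpen ({Points.ofPt a u} : Set (Points X))) : IsOpen ({u} : Set ↥U.left) := by
  set F : Set ↥U.left := Points.ofPt a ⁻¹' {Points.ofPt a u} with hF
  have hFo : IsOpen F := h.preimage (Points.continuous_ofPt a)
  have hzero : ∀ w ∈ F, ∀ w', w' ⤳ w → w' = w := by
    obtain ⟨W, hW, huW, hWF⟩ := exists_isAffineOpen_mem_and_subset (U := (⟨F, hFo⟩ : U.left.Opens)) (x := u) rfl
    haveI := Groth.Agent.Div89.primeAt_isPrime ⟨W, hW⟩ u huW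
    obtain ⟨P, hP, -⟩ := Ideal.exists_minimalPrimes_le
      (show (⊥ : Ideal Γ(U.left, W)) ≤ Groth.Agent.Div89.primeAt ⟨W, hW⟩ u huW from bot_le)
    haveI := hP.1.1
    obtain ⟨z, hz, rfl⟩ := Groth.Agent.Div89.exists_point ⟨W, hW⟩ P
    intro w hw
    refine (dim_stalk_eq_zero_iff w).1 ?_
    rw [dim_stalk_eq_of_ofPt_eq hX ha ha (hw.trans (hWF hz).symm),
      Groth.Agent.Div89.ringKrullDim_stalk_eq_height ⟨W, hW⟩ z hz, Ideal.height_eq_zero_iff.2 hP]
    rfl
  obtain ⟨z, ⟨hzF, hz⟩, hzc⟩ := nonempty_inter_closedPoints (Z := F ∩ closure {u})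
    ⟨u, rfl, subset_closure rfl⟩ (hFo.isLocallyClosed.inter isClosed_closure.isLocallyClosed)
  have e : u = z := hzero z hzF u (specializes_iff_mem_closure.2 hz)
  exact isOpen_singleton_of_closed_minimal u (e ▸ hzc) (hzero u rfl)

theorem isOpen_singleton_iff (hX : IsAlgSpace X) {U : Over S} [IsLocallyNoetherian U.left] [JacobsonSpace ↥U.left]
    {a : (yon S).obj U ⟶ X} (ha : RepWith @Etale a) (has : RepWith @Surjective a) (x : Points X) :
    IsOpen ({x} : Set (Points X)) ↔ IsClosed ({x} : Set (Points X)) ∧ ∀ x', x' ⤳ x → x' = x := by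
  obtain ⟨u, rfl⟩ := surjective_ofPt has x
  constructor
  · intro h
    refine ⟨?_, fun x' hx' => hx'.mem_open h rfl⟩
    rw [← (isOpenQuotientMap_ofPt ha has).isQuotientMap.isClosed_preimage, ← isOpen_compl_iff, isOpen_iff_forall_mem_open]
    intro z hz
    obtain ⟨W, hW, hzW, -⟩ := exists_isAffineOpen_mem_and_subset (U := (⊤ : U.left.Opens)) (x := z) trivial
    haveI : IsNoetherianRing Γ(U.left, W) := IsLocallyNoetherian.component_noetherian ⟨W, hW⟩
    let F : Set ↥U.left := Points.ofPt a ⁻¹' {Points.ofPt a u}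
    have hiso : ∀ w ∈ F, IsOpen ({w} : Set ↥U.left) := fun w hw =>
      isOpen_singleton_of_isOpen_pts hX ha (by rw [show Points.ofPt a w = Points.ofPt a u from hw]; exact h)
    haveI : TopologicalSpace.NoetherianSpace ↥(Spec Γ(U.left, W)) :=
      inferInstanceAs (TopologicalSpace.NoetherianSpace (PrimeSpectrum Γ(U.left, W)))
    haveI : TopologicalSpace.NoetherianSpace ↥W.toScheme :=
      TopologicalSpace.noetherianSpace_of_surjective _ hW.isoSpec.inv.continuous
        hW.isoSpec.inv.homeomorph.surjective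
    have hfin : (F ∩ W).Finite := by
      have hK : IsCompact (W.ι ⁻¹' F) := TopologicalSpace.NoetherianSpace.isCompact _
      have hd : _root_.IsDiscrete (W.ι ⁻¹' F) := by
        refine isDiscrete_iff_forall_mem_exists_isOpen.2 fun w hw =>
          ⟨{w}, ?_, Set.inter_eq_left.2 (Set.singleton_subset_iff.2 hw)⟩
        convert (hiso _ hw).preimage W.ι.continuous
        ext y
        exact ⟨fun e => congrArg W.ι e, fun e => W.ι.isOpenEmbedding.injective e⟩
      refine ((hK.finite hd).image W.ι).subset fun w hw => ⟨⟨w, hw.2⟩, hw.1, rfl⟩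
    have hclosed : IsClosed (F ∩ W) := by
      rw [← Set.biUnion_of_singleton (F ∩ (W : Set ↥U.left))]
      exact hfin.isClosed_biUnion fun w hw =>
        isClosed_singleton_of_isLocallyClosed_singleton (hiso w hw.1).isLocallyClosed
    exact ⟨(W : Set ↥U.left) \ (F ∩ W), fun w hw => fun hwF => hw.2 ⟨hwF, hw.1⟩, W.isOpen.sdiff hclosed,
      hzW, fun h' => hz h'.1⟩
  · rintro ⟨hc, hgen⟩
    set F : Set ↥U.left := Points.ofPt a ⁻¹' {Points.ofPt a u}
    have hFc : IsClosed F := hc.preimage (Points.continuous_ofPt a)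
    have hF : ∀ w ∈ F, ∀ w', w' ⤳ w → w' ∈ F := fun w hw w' hw' =>
      hgen _ (hw ▸ hw'.map (Points.continuous_ofPt a))
    have hzero : ∀ w ∈ F, ∀ w', w' ⤳ w → w' = w := by
      obtain ⟨W, hW, huW, -⟩ := exists_isAffineOpen_mem_and_subset (U := (⊤ : U.left.Opens)) (x := u) trivial
      haveI := Groth.Agent.Div89.primeAt_isPrime ⟨W, hW⟩ u huW
      obtain ⟨P, hP, hle⟩ := Ideal.exists_minimalPrimes_le
        (show (⊥ : Ideal Γ(U.left, W)) ≤ Groth.Agent.Div89.primeAt ⟨W, hW⟩ u huW from bot_le)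
      haveI := hP.1.1
      obtain ⟨z, hz, rfl⟩ := Groth.Agent.Div89.exists_point ⟨W, hW⟩ P
      have hzF : z ∈ F := hF u rfl z ((Groth.Agent.Div89.specializes_iff_primeAt_le ⟨W, hW⟩ huW hz).2 hle)
      intro w hw
      refine (dim_stalk_eq_zero_iff w).1 ?_
      rw [dim_stalk_eq_of_ofPt_eq hX ha ha (hw.trans hzF.symm),
        Groth.Agent.Div89.ringKrullDim_stalk_eq_height ⟨W, hW⟩ z hz, Ideal.height_eq_zero_iff.2 hP]
      rfl
    have hu : IsClosed ({u} : Set ↥U.left) := by
      rw [← closure_subset_iff_isClosed]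
      intro z hz
      have hsp : u ⤳ z := specializes_iff_mem_closure.2 hz
      exact (hzero z (hsp.mem_closed hFc rfl) u hsp).symm
    exact isOpen_singleton_pts_of_isOpen ha (isOpen_singleton_of_closed_minimal u hu (hzero u rfl))

end Groth.Agent.SpFP87

namespace Groth.Agent.SpFP87

variable {k : Type u} [Field k] {X : Sp (Spec (CommRingCat.of k))}

theorem chart_over_field (p : X ⟶ (yon _).obj (Over.mk (𝟙 (Spec (CommRingCat.of k)))))
    (hp : LocP @LocallyOfFiniteType p) {U : Over (Spec (CommRingCat.of k))} {a : (yon _).obj U ⟶ X}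
    (ha : RepWith @Etale a) : IsLocallyNoetherian U.left ∧ JacobsonSpace ↥U.left := by
  obtain ⟨g, hg⟩ := (yon _).map_surjective (a ≫ p)
  haveI h : LocallyOfFiniteType g.left := hp a (𝟙 _) g ha (repWith_id _ _) (by rw [Category.comp_id]; exact hg.symm)
  haveI : LocallyOfFiniteType U.hom := by
    rw [← Over.w g]; exact inferInstanceAs (LocallyOfFiniteType (g.left ≫ 𝟙 _))
  haveI : JacobsonSpace ↥(Spec (CommRingCat.of k)) := inferInstanceAs (JacobsonSpace (PrimeSpectrum k))
  exact ⟨LocallyOfFiniteType.isLocallyNoetherian U.hom, LocallyOfFiniteType.jacobsonSpace U.hom⟩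

theorem isolated_point_tfae (hX : IsAlgSpace X) (p : X ⟶ (yon _).obj (Over.mk (𝟙 (Spec (CommRingCat.of k)))))
    (hp : LocP @LocallyOfFiniteType p) (x : Points X) :
    (IsOpen ({x} : Set (Points X)) ↔ (IsClosed ({x} : Set (Points X)) ∧ ∀ x', x' ⤳ x → x' = x)) ∧
      (IsOpen ({x} : Set (Points X)) ↔ HasAt (fun U u => FlatMor.localDim ↥U u = 0) X x) ∧
      (IsDecent X → (FlatMor.localDim (Points X) x = 0 ↔ IsOpen ({x} : Set (Points X)))) := by
  obtain ⟨U, a, ha, has⟩ := hX.atlas
  obtain ⟨_, _⟩ := chart_over_field p hp ha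
  refine ⟨isOpen_singleton_iff hX ha has x, ?_, fun hd => ?_⟩
  · constructor
    · intro h
      obtain ⟨u, rfl⟩ := surjective_ofPt has x
      exact ⟨U, a, u, ha, rfl, (localDim_eq_zero_iff u).2 (isOpen_singleton_of_isOpen_pts hX ha h)⟩
    · rintro ⟨V, b, v, hb, rfl, hv⟩
      obtain ⟨_, _⟩ := chart_over_field p hp hb
      exact isOpen_singleton_pts_of_isOpen hb ((localDim_eq_zero_iff v).1 hv)
  · obtain ⟨u, rfl⟩ := surjective_ofPt has x
    rw [← localDim_eq hX hd ha u, localDim_eq_zero_iff]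
    exact ⟨isOpen_singleton_pts_of_isOpen ha, isOpen_singleton_of_isOpen_pts hX ha⟩

theorem zero_dim_tfae (hX : IsAlgSpace X) (p : X ⟶ (yon _).obj (Over.mk (𝟙 (Spec (CommRingCat.of k)))))
    (hp : LocP @LocallyOfFiniteType p) [Nonempty (Points X)] :
    (DiscreteTopology (Points X) ↔ dim X = 0) ∧
      (DiscreteTopology (Points X) → topologicalKrullDim (Points X) = 0) ∧
      (IsDecent X → topologicalKrullDim (Points X) = 0 → DiscreteTopology (Points X)) ∧
      (IsDecent X → Finite (Points X) → dim X = 0) := by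
  obtain ⟨U, a, ha, has⟩ := hX.atlas
  obtain ⟨_, _⟩ := chart_over_field p hp ha
  haveI : Nonempty ↥U.left := (Function.Surjective.nonempty (surjective_ofPt has))
  have hU : topologicalKrullDim ↥U.left ≤ dim X :=
    le_iSup_of_le (α := WithBot ℕ∞) U (le_iSup_of_le a (le_iSup_of_le ha le_rfl))
  have h0 : (0 : WithBot ℕ∞) ≤ topologicalKrullDim ↥U.left :=
    Order.krullDim_nonneg_iff.2 ⟨⟨closure {Classical.arbitrary ↥U.left}, isIrreducible_singleton.closure, isClosed_closure⟩⟩
  have disc_iff : DiscreteTopology (Points X) ↔ dim X = 0 := by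
    constructor
    · intro hdisc
      apply le_antisymm
      · refine iSup_le (α := WithBot ℕ∞) fun V => iSup_le fun b => iSup_le fun hb => ?_
        obtain ⟨_, _⟩ := chart_over_field p hp hb
        haveI : DiscreteTopology ↥V.left := discreteTopology_iff_isOpen_singleton.2 fun v =>
          isOpen_singleton_of_isOpen_pts hX hb (isOpen_discrete _)
        exact topologicalKrullDim_zero_of_discreteTopology _
      · exact h0.trans hU
    · intro hdim
      haveI := discreteTopology_of_dim_le_zero (hdim ▸ hU)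
      exact discreteTopology_iff_isOpen_singleton.2 fun x => by
        obtain ⟨u, rfl⟩ := surjective_ofPt has x
        exact isOpen_singleton_pts_of_isOpen ha (isOpen_discrete _)
  refine ⟨disc_iff, fun hdisc => ?_, fun hd h => disc_iff.2 ((topologicalKrullDim_points hX hd).symm.trans h),
    fun hd hfin => disc_iff.1 ?_⟩
  · exact le_antisymm (topologicalKrullDim_zero_of_discreteTopology _)
      (Order.krullDim_nonneg_iff.2 ⟨⟨closure {Classical.arbitrary (Points X)}, isIrreducible_singleton.closure, isClosed_closure⟩⟩)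
  · refine discreteTopology_iff_isOpen_singleton.2 fun x => ?_
    obtain ⟨u, rfl⟩ := surjective_ofPt has x
    obtain ⟨W, hWaff, huW, hW⟩ := exists_affine_subchart ha u
    obtain ⟨_, _⟩ := chart_over_field p hp hW
    let V : Over (Spec (CommRingCat.of k)) := Over.mk (W.ι ≫ U.hom)
    let φ : (yon _).obj V ⟶ X := (yon _).map (Over.homMk W.ι rfl : V ⟶ U) ≫ a
    haveI := hWaff
    haveI : Finite ↥V.left := by
      haveI := hfin
      rw [← Set.finite_univ_iff]
      exact ((Set.finite_univ (α := Points X)).biUnion fun y _ => (finite_fibres_of_isDecent hX hd hW y).1).subset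
        fun v _ => Set.mem_iUnion₂.2 ⟨Points.ofPt φ v, trivial, rfl⟩
    haveI : DiscreteTopology ↥V.left := inferInstance
    have := isOpen_singleton_pts_of_isOpen hW (isOpen_discrete ({(⟨u, huW⟩ : W.toScheme)} : Set ↥V.left))
    rw [ofPt_comp] at this
    exact this

end Groth.Agent.SpFP87
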