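import Mathlib.RingTheory.Smooth.NoetherianDescent
import Mathlib.RingTheory.Extension.Presentation.Core
import Mathlib.RingTheory.Spectrum.Prime.Chevalley
import Mathlib.RingTheory.Flat.FaithfullyFlat.Algebra
import Mathlib.RingTheory.Etale.Basic
import Mathlib.RingTheory.RingHom.StandardSmooth
import Mathlib.RingTheory.Smooth.Flat

set_option autoImplicit false
set_option linter.style.haveILetI false
open TensorProduct

namespace Groth.Agent.SpFP87

universe u

theorem map_annihilator_eq_top {A B M : Type u} [CommRing A] [CommRing B] [Algebra A B] [Module.Flat A B]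
    [AddCommGroup M] [Module A M] (m : M) (h : (1 : B) ⊗ₜ[A] m = 0) :
    Ideal.map (algebraMap A B) (LinearMap.ker (LinearMap.toSpanSingleton A M m)) = ⊤ := by
  set J : Ideal A := LinearMap.ker (LinearMap.toSpanSingleton A M m) with hJ
  let f : (A ⧸ J) →ₗ[A] M := Submodule.liftQ J (LinearMap.toSpanSingleton A M m) le_rfl
  have hf : Function.Injective f := by
    rw [← LinearMap.ker_eq_bot]; exact Submodule.ker_liftQ_eq_bot _ _ _ le_rfl
  have h1 : (1 : B) ⊗ₜ[A] (Ideal.Quotient.mk J 1 : A ⧸ J) = 0 := by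
    apply Module.Flat.lTensor_preserves_injective_linearMap (M := B) f hf
    rw [map_zero, LinearMap.lTensor_tmul]
    change (1 : B) ⊗ₜ[A] (LinearMap.toSpanSingleton A M m 1) = 0
    simpa using h
  have h2 := congrArg (Algebra.TensorProduct.comm A B (A ⧸ J)) h1
  rw [map_zero, Algebra.TensorProduct.comm_tmul] at h2
  have h3 := congrArg (TensorProduct.quotTensorEquivQuotSMul B J) h2
  rw [map_zero, map_one, show (1 : A ⧸ J) = Ideal.Quotient.mk J 1 from (map_one _).symm,
    TensorProduct.quotTensorEquivQuotSMul_mk_tmul, one_smul, Submodule.Quotient.mk_eq_zero,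
    Ideal.smul_top_eq_map, Submodule.restrictScalars_mem] at h3
  exact (Ideal.eq_top_iff_one _).2 h3

/-- The image of a flat, finitely presented spectrum is open. -/
theorem isOpen_range_comap {A B : Type u} [CommRing A] [CommRing B] [Algebra A B] [Module.Flat A B]
    [Algebra.FinitePresentation A B] : IsOpen (Set.range (PrimeSpectrum.comap (algebraMap A B))) :=
  (PrimeSpectrum.isOpenMap_comap_of_hasGoingDown_of_finitePresentation (R := A) (S := B)).isOpen_range

theorem finiteType_of_etale_cover (R : Type u) {A B : Type u} [CommRing R] [CommRing A] [CommRing B]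
    [Algebra R A] [Algebra A B] [Algebra R B] [IsScalarTower R A B] [Algebra.Etale A B]
    (hs : Function.Surjective (PrimeSpectrum.comap (algebraMap A B)))
    [hB : Algebra.FiniteType R B] : Algebra.FiniteType R A := by
  classical
  obtain ⟨A₀, B₀, _, _, hA₀, _, ⟨e⟩⟩ := Algebra.Etale.exists_subalgebra_fg R A B
  obtain ⟨s, hs'⟩ := hB.out
  let e' : B ≃ₐ[R] A ⊗[A₀] B₀ := e.restrictScalars R
  choose T hT using fun b : B => TensorProduct.exists_finset (e' b)
  obtain ⟨K, hK⟩ := (PrimeSpectrum.isClosed_iff_zeroLocus_ideal _).1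
    (isOpen_range_comap (A := A₀) (B := B₀)).isClosed_compl
  have hKA : K.map (algebraMap A₀ A) = ⊤ := by
    by_contra hne
    obtain ⟨q, hq, hqK⟩ := Ideal.exists_le_maximal _ hne
    obtain ⟨Q, hQ⟩ := hs ⟨q, hq.isPrime⟩
    let φ : B₀ →+* B := (e.symm.toRingEquiv.toRingHom).comp
      (Algebra.TensorProduct.includeRight (R := A₀) (A := A) (B := B₀)).toRingHom
    have hφ : φ.comp (algebraMap A₀ B₀) = (algebraMap A B).comp (algebraMap A₀ A) := by
      ext x
      change e.symm (1 ⊗ₜ algebraMap A₀ B₀ x) = algebraMap A B (algebraMap A₀ A x)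
      rw [← e.symm.commutes]
      congr 1
      rw [Algebra.algebraMap_eq_smul_one (A := B₀), TensorProduct.tmul_smul]
      simp [TensorProduct.smul_tmul', Algebra.smul_def]
    have : PrimeSpectrum.comap (algebraMap A₀ A) ⟨q, hq.isPrime⟩ ∈
        (Set.range (PrimeSpectrum.comap (algebraMap A₀ B₀)))ᶜ := by
      rw [hK, PrimeSpectrum.mem_zeroLocus, SetLike.coe_subset_coe, PrimeSpectrum.comap_asIdeal]
      exact Ideal.map_le_iff_le_comap.1 hqK
    apply this
    refine ⟨PrimeSpectrum.comap φ Q, ?_⟩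
    rw [← PrimeSpectrum.comap_comp_apply, hφ, PrimeSpectrum.comap_comp_apply, hQ]
  obtain ⟨t, ht⟩ : ∃ t : Finset A, (1 : A) ∈ Ideal.span (algebraMap A₀ A '' (K : Set A₀)) ∧
      ∀ A₂ : Subalgebra R A, A₀ ≤ A₂ → (↑t ⊆ (A₂ : Set A)) →
        ∃ l : A →₀ A, (∀ a, l a ∈ A₂) ∧ (↑l.support ⊆ algebraMap A₀ A '' (K : Set A₀)) ∧
          l.sum (fun k a => a * k) = 1 := by
    have h1 : (1 : A) ∈ Ideal.span (algebraMap A₀ A '' (K : Set A₀)) := by
      rw [← Ideal.map, hKA]; trivial
    obtain ⟨l, hl, hl'⟩ := (Submodule.mem_span_set (R := A)).1 h1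
    refine ⟨l.support.image l, h1, fun A₂ _ hA₂ => ⟨l, fun a => ?_, hl, hl'⟩⟩
    by_cases ha : a ∈ l.support
    · exact hA₂ (Finset.mem_coe.2 (Finset.mem_image_of_mem l ha))
    · rw [Finsupp.notMem_support_iff.1 ha]; exact A₂.zero_mem
  let A₂ : Subalgebra R A := A₀ ⊔ Algebra.adjoin R (↑t ∪ ↑(s.biUnion fun b => (T b).image Prod.fst))
  have h01 : A₀ ≤ A₂ := le_sup_left
  have hsub : (↑t ∪ ↑(s.biUnion fun b => (T b).image Prod.fst) : Set A) ⊆ A₂ :=
    Algebra.subset_adjoin.trans (SetLike.coe_subset_coe.2 le_sup_right)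
  have hA₂ : A₂.FG := hA₀.sup ⟨_, by rw [Finset.coe_union]⟩
  suffices h : A₂ = ⊤ by
    exact (Subalgebra.fg_iff_finiteType _).1 hA₂ |>.of_surjective A₂.val
      (fun a => ⟨⟨a, h ▸ trivial⟩, rfl⟩)
  obtain ⟨l, hl, hlK, hl1⟩ := ht.2 A₂ h01 (Set.subset_union_left.trans hsub)
  letI : Algebra A₀ A₂ := (Subalgebra.inclusion h01).toRingHom.toAlgebra
  haveI : IsScalarTower A₀ A₂ A := IsScalarTower.of_algebraMap_eq fun _ => rfl
  haveI : IsScalarTower R A₀ A₂ := IsScalarTower.of_algebraMap_eq fun _ => rfl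
  let ι : A₂ →ₐ[A₀] A := IsScalarTower.toAlgHom A₀ A₂ A
  let μ : (A₂ ⊗[A₀] B₀) →ₐ[A₀] (A ⊗[A₀] B₀) := Algebra.TensorProduct.map ι (AlgHom.id A₀ B₀)
  have hμ : Function.Surjective μ := by
    let μR := (μ.restrictScalars R).range
    suffices μR = ⊤ by exact fun x => (this ▸ trivial : x ∈ μR)
    have : μR.comap e'.toAlgHom = ⊤ := by
      rw [eq_top_iff, ← hs']
      refine Algebra.adjoin_le fun b hb => ?_
      change e' b ∈ μR
      rw [hT b]
      refine Subalgebra.sum_mem _ fun p hp => ⟨(⟨p.1, hsub (Or.inr ?_)⟩ : A₂) ⊗ₜ p.2, rfl⟩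
      exact Finset.mem_coe.2 (Finset.mem_biUnion.2 ⟨b, hb, Finset.mem_image_of_mem _ hp⟩)
    rw [eq_top_iff]
    intro x _
    have := (this ▸ trivial : e'.symm x ∈ μR.comap e'.toAlgHom)
    simpa using this
  rw [eq_top_iff]
  intro a _
  let A₂' : Submodule A₂ A := LinearMap.range (Algebra.linearMap A₂ A)
  set m : A ⧸ A₂' := Submodule.Quotient.mk a
  suffices hm : LinearMap.ker (LinearMap.toSpanSingleton A₂ (A ⧸ A₂') m) = ⊤ by
    have := (Submodule.eq_top_iff'.1 hm) 1
    rw [LinearMap.mem_ker, LinearMap.toSpanSingleton_apply, one_smul, Submodule.Quotient.mk_eq_zero] at this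
    obtain ⟨x, hx⟩ := this
    exact hx ▸ x.2
  by_contra hne
  obtain ⟨p, hp, hpc⟩ := Ideal.exists_le_maximal _ hne
  have hpK : PrimeSpectrum.comap (algebraMap A₀ A₂) ⟨p, hp.isPrime⟩ ∈
      Set.range (PrimeSpectrum.comap (algebraMap A₀ B₀)) := by
    by_contra hcon
    have : K ≤ Ideal.comap (algebraMap A₀ A₂) p := by
      rw [← Set.mem_compl_iff, hK, PrimeSpectrum.mem_zeroLocus] at hcon
      exact hcon
    refine hp.ne_top ((Ideal.eq_top_iff_one p).2 ?_)
    have h1 : (1 : A₂) = ∑ k ∈ l.support.attach, (⟨l k, hl k⟩ : A₂) *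
        algebraMap A₀ A₂ ((hlK k.2).choose) := by
      apply Subtype.ext
      rw [OneMemClass.coe_one, ← hl1, Finsupp.sum, ← Finset.sum_attach]
      push_cast
      refine Finset.sum_congr rfl fun k _ => ?_
      exact congrArg _ (hlK k.2).choose_spec.2.symm
    rw [h1]
    exact Ideal.sum_mem _ fun k _ => p.mul_mem_left _ (this (hlK k.2).choose_spec.1)
  obtain ⟨Q, hQ⟩ := hpK
  have hm0 : (1 : B₀) ⊗ₜ[A₀] m = 0 := by
    obtain ⟨z, hz⟩ := hμ (a ⊗ₜ 1)
    let π : A →ₗ[A₀] (A ⧸ A₂') := (Submodule.mkQ A₂').restrictScalars A₀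
    let τ : A ⊗[A₀] B₀ →ₗ[A₀] B₀ ⊗[A₀] (A ⧸ A₂') :=
      (TensorProduct.mk A₀ B₀ (A ⧸ A₂')).flip.comp π |> TensorProduct.lift
    have : τ (a ⊗ₜ 1) = 0 := by
      rw [← hz]
      clear hz
      induction z using TensorProduct.induction_on with
      | zero => simp
      | tmul x y =>
        change y ⊗ₜ[A₀] (Submodule.Quotient.mk (ι x) : A ⧸ A₂') = 0
        rw [(Submodule.Quotient.mk_eq_zero A₂').2 (show ι x ∈ A₂' from ⟨x, rfl⟩), TensorProduct.tmul_zero]
      | add x y hx hy => simp only [map_add, hx, hy, add_zero]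
    exact this
  have htop := map_annihilator_eq_top m hm0
  refine Q.isPrime.ne_top (top_le_iff.1 (htop ▸ Ideal.map_le_iff_le_comap.2 ?_))
  have hQ' := congrArg PrimeSpectrum.asIdeal hQ
  rw [PrimeSpectrum.comap_asIdeal, PrimeSpectrum.comap_asIdeal] at hQ'
  rw [hQ']
  intro x hx
  apply hpc
  rw [LinearMap.mem_ker, LinearMap.toSpanSingleton_apply] at hx ⊢
  rw [algebraMap_smul]
  exact hx

theorem ideal_fg_of_map_eq {P C : Type u} [CommRing P] [CommRing C] [Algebra P C] [Module.Flat P C]
    [Algebra.FinitePresentation P C] (I : Ideal P) (hI : (I.map (algebraMap P C)).FG)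
    (hs : ∀ p : PrimeSpectrum P, I ≤ p.asIdeal → p ∈ Set.range (PrimeSpectrum.comap (algebraMap P C))) :
    I.FG := by
  classical
  obtain ⟨K, hK⟩ := (PrimeSpectrum.isClosed_iff_zeroLocus_ideal _).1
    (isOpen_range_comap (A := P) (B := C)).isClosed_compl
  obtain ⟨e, heI, k, hkK, hek⟩ : ∃ e ∈ I, ∃ k ∈ K, e + k = 1 := by
    have : I ⊔ K = ⊤ := by
      by_contra hne
      obtain ⟨q, hq, hle⟩ := Ideal.exists_le_maximal _ hne
      have h1 := hs ⟨q, hq.isPrime⟩ (le_sup_left.trans hle)
      have h2 : (⟨q, hq.isPrime⟩ : PrimeSpectrum P) ∈ PrimeSpectrum.zeroLocus (K : Set P) :=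
        SetLike.coe_subset_coe.2 (le_sup_right.trans hle)
      rw [← hK] at h2
      exact h2 h1
    exact Submodule.mem_sup.1 (this ▸ trivial)
  obtain ⟨G, hG, hGeq⟩ := (Submodule.fg_span_iff_fg_span_finset_subset
    ((algebraMap P C) '' (I : Set P))).1 hI
  obtain ⟨F, hF, rfl⟩ := Finset.subset_set_image_iff.1 hG
  let I₀ : Ideal P := Ideal.span ↑(insert e F)
  have hle : I₀ ≤ I := Ideal.span_le.2 (by
    intro x hx
    rcases Finset.mem_insert.1 hx with rfl | hx
    exacts [heI, hF hx])
  suffices hge : I ≤ I₀ by exact ⟨insert e F, le_antisymm hle hge⟩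
  intro x hx
  set m : P ⧸ I₀ := Ideal.Quotient.mk I₀ x
  suffices hm : LinearMap.ker (LinearMap.toSpanSingleton P (P ⧸ I₀) m) = ⊤ by
    have := (Submodule.eq_top_iff'.1 hm) 1
    rwa [LinearMap.mem_ker, LinearMap.toSpanSingleton_apply, one_smul, Ideal.Quotient.eq_zero_iff_mem] at this
  by_contra hne
  obtain ⟨p, hp, hpc⟩ := Ideal.exists_le_maximal _ hne
  have hep : e ∈ p := hpc (by
    rw [LinearMap.mem_ker, LinearMap.toSpanSingleton_apply, Algebra.smul_def,
      Ideal.Quotient.algebraMap_eq, ← map_mul, Ideal.Quotient.eq_zero_iff_mem]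
    exact I₀.mul_mem_right x (Ideal.subset_span (Finset.mem_insert_self e F)))
  have hpr : (⟨p, hp.isPrime⟩ : PrimeSpectrum P) ∈ Set.range (PrimeSpectrum.comap (algebraMap P C)) := by
    by_contra hcon
    rw [← Set.mem_compl_iff, hK, PrimeSpectrum.mem_zeroLocus] at hcon
    exact hp.ne_top ((Ideal.eq_top_iff_one p).2 (hek ▸ p.add_mem hep (hcon hkK)))
  obtain ⟨Q, hQ⟩ := hpr
  have hm0 : (1 : C) ⊗ₜ[P] m = 0 := by
    apply (TensorProduct.comm P C (P ⧸ I₀)).injective
    apply (TensorProduct.quotTensorEquivQuotSMul C I₀).injective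
    rw [map_zero, map_zero, TensorProduct.comm_tmul, TensorProduct.quotTensorEquivQuotSMul_mk_tmul,
      Submodule.Quotient.mk_eq_zero, Ideal.smul_top_eq_map, Submodule.restrictScalars_mem,
      Algebra.smul_def, mul_one]
    have h1 : algebraMap P C x ∈ Ideal.span ((algebraMap P C) '' (I : Set P)) :=
      Ideal.subset_span ⟨x, hx, rfl⟩
    have h2 : Ideal.span ((algebraMap P C) '' (I : Set P)) =
        Ideal.span (↑(F.image (algebraMap P C)) : Set C) := hGeq
    rw [h2, Finset.coe_image, ← Ideal.map_span] at h1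
    exact Ideal.map_mono (Ideal.span_mono (by simp)) h1
  have htop := map_annihilator_eq_top m hm0
  refine Q.isPrime.ne_top (top_le_iff.1 (htop ▸ Ideal.map_le_iff_le_comap.2 ?_))
  have hQ' := congrArg PrimeSpectrum.asIdeal hQ
  rw [PrimeSpectrum.comap_asIdeal] at hQ'
  rw [hQ']
  exact hpc

theorem jacobian_ofHasCoeffs {R S : Type u} {ι σ : Type} [CommRing R] [CommRing S] [Algebra R S]
    [Finite σ] (Q : Algebra.SubmersivePresentation R S ι σ) (R₀ : Type u) [CommRing R₀] [Algebra R₀ R]
    [Algebra R₀ S] [IsScalarTower R₀ R S] [Q.HasCoeffs R₀] :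
    (Q.toPreSubmersivePresentation.ofHasCoeffs R₀).jacobian =
      Ideal.Quotient.mk _ (Q.jacobianOfHasCoeffs R₀) := by
  classical
  let := Fintype.ofFinite σ
  rw [Algebra.PreSubmersivePresentation.jacobian_eq_jacobiMatrix_det]
  unfold Algebra.SubmersivePresentation.jacobianOfHasCoeffs
  convert rfl using 2
  · refine MvPolynomial.ringHom_ext (fun r => ?_) (fun i => ?_) <;>
      simp [Algebra.Generators.algebraMap_apply]
    rfl

/-- A standard smooth algebra over a quotient lifts, as a standard smooth algebra. -/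
theorem exists_lift_standardSmooth {P A B : Type u} [CommRing P] [CommRing A] [CommRing B]
    [Algebra P A] [Algebra A B] [Algebra P B] [IsScalarTower P A B]
    (hPA : Function.Surjective (algebraMap P A)) [h : Algebra.IsStandardSmoothOfRelativeDimension 0 A B] :
    ∃ (C : Type u) (_ : CommRing C) (_ : Algebra P C) (g : C →ₐ[P] B),
      Algebra.Etale P C ∧ Function.Surjective g ∧
        RingHom.ker g.toRingHom = (RingHom.ker (algebraMap P A)).map (algebraMap P C) := by
  classical
  obtain ⟨ι, σ, _, _, Q, hQdim⟩ := h.out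
  have : Fintype σ := Fintype.ofFinite σ
  haveI : Q.HasCoeffs P := ⟨fun x _ => hPA x⟩
  let B' := Q.ModelOfHasCoeffs P
  let e : A ⊗[P] B' ≃ₐ[A] B := Q.tensorModelOfHasCoeffsEquiv P
  let g' : B' →ₐ[P] B := (e.toAlgHom.restrictScalars P).comp Algebra.TensorProduct.includeRight
  have hg' : Function.Surjective g' := e.surjective.comp (fun z => by
    induction z using TensorProduct.induction_on with
    | zero => exact ⟨0, by simp⟩
    | tmul a b =>
      obtain ⟨p, rfl⟩ := hPA a
      refine ⟨p • b, ?_⟩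
      change (1 : A) ⊗ₜ[P] (p • b) = _
      rw [TensorProduct.tmul_smul, TensorProduct.smul_tmul', Algebra.smul_def, mul_one]
    | add x y hx hy =>
      obtain ⟨a, ha⟩ := hx
      obtain ⟨b, hb⟩ := hy
      exact ⟨a + b, by rw [map_add, ha, hb]⟩)
  let J := (RingHom.ker (algebraMap P A))
  have hker : RingHom.ker g'.toRingHom = J.map (algebraMap P B') := by
    refine le_antisymm (fun y hy => ?_) (Ideal.map_le_iff_le_comap.2 fun x hx => ?_)
    · have hy' : (1 : A) ⊗ₜ[P] y = 0 := e.injective (by rw [map_zero]; exact hy)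
      let c : (P ⧸ J) ≃ₐ[P] A := Ideal.quotientKerAlgEquivOfSurjective (f := Algebra.ofId P A) hPA
      have h2 := congrArg (TensorProduct.congr c.symm.toLinearEquiv (LinearEquiv.refl P B')) hy'
      rw [map_zero, TensorProduct.congr_tmul] at h2
      have h3 := congrArg (TensorProduct.quotTensorEquivQuotSMul B' J) h2
      rw [map_zero, show c.symm.toLinearEquiv 1 = Ideal.Quotient.mk J 1 from (map_one c.symm).trans (map_one _).symm,
        LinearEquiv.refl_apply, TensorProduct.quotTensorEquivQuotSMul_mk_tmul, one_smul,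
        Submodule.Quotient.mk_eq_zero, Ideal.smul_top_eq_map, Submodule.restrictScalars_mem] at h3
      exact h3
    · change g' (algebraMap P B' x) = 0
      rw [g'.commutes, IsScalarTower.algebraMap_apply P A B, RingHom.mem_ker.1 hx, map_zero]
  let Q' := Q.toPreSubmersivePresentation.ofHasCoeffs P
  let j : B' := Q'.jacobian
  have hj : IsUnit (g' j) := by
    have : g' j = Q.jacobian := by
      change e (1 ⊗ₜ Q'.jacobian) = _
      rw [jacobian_ofHasCoeffs Q P]
      change Q.tensorModelOfHasCoeffsEquiv P (1 ⊗ₜ _) = _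
      rw [Algebra.Presentation.tensorModelOfHasCoeffsEquiv_tmul, map_one, one_mul,
        Algebra.SubmersivePresentation.aeval_jacobianOfHasCoeffs]
    rw [this]; exact Q.jacobian_isUnit
  let C := Localization.Away j
  let g : C →ₐ[P] B := IsLocalization.liftAlgHom (M := Submonoid.powers j) (f := g') (by
    rintro ⟨_, n, rfl⟩; rw [map_pow]; exact hj.pow n)
  have hgC : ∀ y : B', g (algebraMap B' C y) = g' y := fun y => IsLocalization.lift_eq _ _
  refine ⟨C, inferInstance, inferInstance, g, ?_, fun b => ?_, ?_⟩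
  · let L := Algebra.SubmersivePresentation.localizationAway C j
    let Pre := L.toPreSubmersivePresentation.comp Q'
    have hu : IsUnit Pre.jacobian := by
      rw [Algebra.PreSubmersivePresentation.comp_jacobian_eq_jacobian_smul_jacobian, Algebra.smul_def]
      exact (IsLocalization.map_units C (⟨j, 1, pow_one j⟩ : Submonoid.powers j)).mul L.jacobian_isUnit
    rw [Algebra.Etale.iff_isStandardSmoothOfRelativeDimension_zero]
    refine ⟨_, _, inferInstance, inferInstance, { toPreSubmersivePresentation := Pre, jacobian_isUnit := hu }, ?_⟩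
    have h1 : Pre.dimension = _ :=
      Algebra.PreSubmersivePresentation.dimension_comp_eq_dimension_add_dimension _ _
    have h2 : Q'.dimension = 0 := hQdim
    have h3 : L.dimension = 0 := Algebra.Presentation.localizationAway_dimension_zero j
    change Pre.dimension = 0
    rw [h1, h2]
    simpa using h3
  · obtain ⟨y, rfl⟩ := hg' b; exact ⟨_, hgC y⟩
  · refine le_antisymm (fun z hz => ?_) (Ideal.map_le_iff_le_comap.2 fun x hx => ?_)
    · obtain ⟨⟨y, s⟩, hys⟩ := IsLocalization.surj (Submonoid.powers j) z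
      have hy : y ∈ RingHom.ker g'.toRingHom := by
        change g' y = 0
        rw [← hgC, ← hys, map_mul, show g z = 0 from hz, zero_mul]
      rw [hker] at hy
      have := Ideal.mem_map_of_mem (algebraMap B' C) hy
      rw [Ideal.map_map, ← IsScalarTower.algebraMap_eq, ← hys] at this
      exact (Ideal.mul_unit_mem_iff_mem _ (IsLocalization.map_units C s)).1 this
    · change g (algebraMap P C x) = 0
      rw [g.commutes, IsScalarTower.algebraMap_apply P A B, RingHom.mem_ker.1 hx, map_zero]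

theorem finitePresentation_of_etale_cover (R : Type u) {A B : Type u} [CommRing R] [CommRing A]
    [CommRing B] [Algebra R A] [Algebra A B] [Algebra R B] [IsScalarTower R A B] [Algebra.Etale A B]
    (hs : Function.Surjective (PrimeSpectrum.comap (algebraMap A B)))
    [hB : Algebra.FinitePresentation R B] : Algebra.FinitePresentation R A := by
  classical
  haveI : Algebra.FiniteType R A := finiteType_of_etale_cover R hs
  obtain ⟨n, π, hπ⟩ := Algebra.FiniteType.iff_quotient_mvPolynomial''.1 ‹_›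
  let P := MvPolynomial (Fin n) R
  letI : Algebra P A := π.toRingHom.toAlgebra
  haveI : IsScalarTower R P A := IsScalarTower.of_algebraMap_eq fun r => (π.commutes r).symm
  letI : Algebra P B := ((algebraMap A B).comp π.toRingHom).toAlgebra
  haveI : IsScalarTower P A B := IsScalarTower.of_algebraMap_eq fun _ => rfl
  haveI : IsScalarTower R P B := IsScalarTower.of_algebraMap_eq fun r =>
    (IsScalarTower.algebraMap_apply R A B r).trans (congrArg _ (π.commutes r).symm)
  haveI : Algebra.IsStandardSmoothOfRelativeDimension 0 A B :=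
    Algebra.Etale.iff_isStandardSmoothOfRelativeDimension_zero.1 inferInstance
  obtain ⟨C, _, _, g, hC, hg, hker⟩ := exists_lift_standardSmooth (P := P) (A := A) (B := B) hπ
  haveI := hC
  letI : Algebra R C := ((algebraMap P C).comp (algebraMap R P)).toAlgebra
  haveI : IsScalarTower R P C := IsScalarTower.of_algebraMap_eq fun _ => rfl
  haveI : Algebra.FinitePresentation R C := Algebra.FinitePresentation.trans R P C
  have hfg : ((RingHom.ker π.toRingHom).map (algebraMap P C)).FG := by
    have := Algebra.FinitePresentation.ker_fG_of_surjective (g.restrictScalars R) hg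
    exact hker ▸ this
  refine Algebra.FinitePresentation.of_surjective hπ (ideal_fg_of_map_eq _ hfg fun p hp => ?_)
  obtain ⟨q, hq⟩ : ∃ q : PrimeSpectrum A, PrimeSpectrum.comap (algebraMap P A) q = p := by
    change p ∈ Set.range (PrimeSpectrum.comap (algebraMap P A))
    rw [range_comap_of_surjective A (algebraMap P A) hπ]
    exact hp
  obtain ⟨Q, hQ⟩ := hs q
  refine ⟨PrimeSpectrum.comap g.toRingHom Q, ?_⟩
  rw [← hq, ← hQ, ← PrimeSpectrum.comap_comp_apply, ← PrimeSpectrum.comap_comp_apply]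
  congr 1
  ext x
  all_goals simp [RingHom.algebraMap_toAlgebra]

end Groth.Agent.SpFP87
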