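import Groth.Agent.SpFP87.SourceLocal
import Groth.Agent.SpFP87.EtLocInst
import Groth.Agent.Desc59.FlatPure
/-!
Scheme level instances of locality on the source.
-/

set_option autoImplicit false
set_option linter.style.haveILetI false
universe u
open CategoryTheory CategoryTheory.Limits AlgebraicGeometry Opposite

namespace Groth.Agent.SpFP87

/-- Locality on the source for families from descent along a single surjective morphism. -/
theorem isLocalAtSource_of_single {P Q : MorphismProperty Scheme.{u}} [P.RespectsIso]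
    [IsZariskiLocalAtSource P] [IsZariskiLocalAtSource Q] {K : Precoverage Scheme.{u}}
    (hK : K ≤ Scheme.precoverage Q)
    (hcomp : ∀ {W X Y : Scheme.{u}} (c : W ⟶ X) (f : X ⟶ Y), Q c → P f → P (c ≫ f))
    (hdesc : ∀ {W X Y : Scheme.{u}} (c : W ⟶ X) (f : X ⟶ Y), Q c → Surjective c → P (c ≫ f) → P f) :
    P.IsLocalAtSource K := by
  refine MorphismProperty.IsLocalAtSource.mk_of_iff_of_zeroHypercover fun {X Y} f 𝒰 => ?_
  have h := Scheme.ofArrows_mem_precoverage_iff (P := Q) |>.1 (hK _ 𝒰.mem₀)
  refine ⟨fun hf i => hcomp _ _ (h.2 i) hf, fun hf => ?_⟩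
  choose idx hidx using h.1
  let c : ∐ (fun x : ↥X => 𝒰.X (idx x)) ⟶ X := Sigma.desc fun x => 𝒰.f (idx x)
  haveI : Surjective c := ⟨fun x => by
    obtain ⟨w, hw⟩ := hidx x
    exact ⟨(Sigma.ι (fun x : ↥X => 𝒰.X (idx x)) x).base w,
      (congrArg (fun k : 𝒰.X (idx x) ⟶ X => k.base w) (Sigma.ι_desc (fun x : ↥X => 𝒰.f (idx x)) x)).trans hw⟩⟩
  refine hdesc c f (IsZariskiLocalAtSource.sigmaDesc fun x => h.2 _) inferInstance ?_
  have : c ≫ f = Sigma.desc fun x => 𝒰.f (idx x) ≫ f := by
    refine Sigma.hom_ext _ _ fun x => ?_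
    rw [Sigma.ι_desc_assoc, Sigma.ι_desc]
  rw [this]
  exact IsZariskiLocalAtSource.sigmaDesc fun x => hf _

theorem etLoc_isLocalAtSource_etale (P : MorphismProperty Scheme.{u}) [EtLoc P] [IsZariskiLocalAtSource P] :
    P.IsLocalAtSource Scheme.etalePrecoverage := by
  have := EtLoc.respectsIso P
  haveI : IsZariskiLocalAtSource (@Etale.{u} : MorphismProperty Scheme.{u}) :=
    HasRingHomProperty.instIsZariskiLocalAtSource (Q := @RingHom.Etale)
  exact isLocalAtSource_of_single (Q := (@Etale.{u} : MorphismProperty Scheme.{u})) le_rfl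
    (fun c f hc hf => P.comp_mem _ _ (EtLoc.of_etale c hc) hf)
    (fun c f hc hs h => EtLoc.of_cover c f hc hs h)

theorem flat_isLocalAtSource_fpqc :
    MorphismProperty.IsLocalAtSource (@Flat.{u} : MorphismProperty Scheme.{u}) Scheme.fpqcPrecoverage :=
  isLocalAtSource_of_single (Q := (@Flat.{u} : MorphismProperty Scheme.{u}))
    Scheme.propQCPrecoverage_le_precoverage
    (fun c f hc hf => by
      haveI := hc; haveI := hf
      exact (inferInstance : Flat (c ≫ f)))
    (fun c f hc hs h => by
      haveI := hc; haveI := hs; haveI := h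
      exact Groth.Agent.Desc59.FlatPure.flat_of_flat_comp_of_factor c f c (𝟙 _) (Category.id_comp c))

end Groth.Agent.SpFP87
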