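import Groth.Agent.SpFP87.Basic
import Mathlib.AlgebraicGeometry.Morphisms.Flat
import Mathlib.AlgebraicGeometry.Morphisms.FinitePresentation
import Mathlib.AlgebraicGeometry.Morphisms.Smooth

set_option autoImplicit false
universe u
open CategoryTheory CategoryTheory.Limits AlgebraicGeometry Opposite

namespace Groth.Agent.SpFP87
open AlgSp

variable {S : Scheme.{u}}

/-- The Yoneda bijection, with its universe fixed. -/
noncomputable abbrev uE {T : Over S} {F : Sp S} : ((yon S).obj T ⟶ F) ≃ F.obj.obj (op T) :=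
  GrothendieckTopology.uliftYonedaEquiv.{u + 1} (J S)

/-- Flat, locally finitely presented, surjective. -/
def fppfSurj : MorphismProperty Scheme.{u} := @Surjective ⊓ @Flat ⊓ @LocallyOfFinitePresentation

theorem fppfSurj_iff {X Y : Scheme.{u}} (f : X ⟶ Y) :
    fppfSurj f ↔ Surjective f ∧ Flat f ∧ LocallyOfFinitePresentation f := and_assoc

theorem etale_surjective_le_fppfSurj : (@Etale ⊓ @Surjective : MorphismProperty Scheme.{u}) ≤ fppfSurj := by
  rintro X Y f ⟨h1, h2⟩
  exact (fppfSurj_iff f).2 ⟨h2, inferInstance, inferInstance⟩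

theorem generate_singleton_mem {W T : Over S} (c : W ⟶ T) (hc : fppfSurj c.left) :
    Sieve.generate (Presieve.singleton c) ∈ J S T := by
  obtain ⟨h1, h2, h3⟩ := (fppfSurj_iff _).1 hc
  rw [GrothendieckTopology.mem_over_iff, Sieve.overEquiv_generate]
  refine GrothendieckTopology.superset_covering _ ?_
    (Precoverage.generate_mem_toGrothendieck c.left.singleton_mem_fppfPrecoverage)
  rw [Sieve.generate_le_iff]
  rintro Z f ⟨⟩
  exact Sieve.le_generate _ _ _ ⟨W, c, 𝟙 _, ⟨⟩, by simp⟩

theorem isSheafFor_singleton_fppf (F : Sp S) {W T : Over S} (c : W ⟶ T) (hc : fppfSurj c.left) :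
    Presieve.IsSheafFor F.obj (Presieve.singleton c) :=
  (Presieve.isSheafFor_iff_generate _).2
    (((isSheaf_iff_isSheaf_of_type _ _).1 F.property) _ (generate_singleton_mem c hc))

theorem cover_hom_ext {F : Sp S} {W T : Over S} (c : W ⟶ T) (hc : fppfSurj c.left)
    {a b : (yon S).obj T ⟶ F} (h : (yon S).map c ≫ a = (yon S).map c ≫ b) : a = b := by
  apply (uE (S := S)).injective
  refine Presieve.isSeparatedFor_singleton.1 (isSheafFor_singleton_fppf F c hc).isSeparatedFor ?_
  rw [GrothendieckTopology.map_uliftYonedaEquiv, GrothendieckTopology.map_uliftYonedaEquiv]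
  have := congrArg (uE (S := S)) h
  simpa [GrothendieckTopology.uliftYonedaEquiv_comp,
    GrothendieckTopology.uliftYonedaEquiv_uliftYoneda_map] using this

theorem cover_existsUnique_desc {F : Sp S} {W T : Over S} (c : W ⟶ T) (hc : fppfSurj c.left)
    (e : (yon S).obj W ⟶ F)
    (h : ∀ (Z : Over S) (p₁ p₂ : Z ⟶ W), p₁ ≫ c = p₂ ≫ c → (yon S).map p₁ ≫ e = (yon S).map p₂ ≫ e) :
    ∃! a : (yon S).obj T ⟶ F, (yon S).map c ≫ a = e := by
  obtain ⟨y, hy, huniq⟩ := Presieve.isSheafFor_singleton.1 (isSheafFor_singleton_fppf F c hc)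
    ((uE (S := S)) e) (fun {Z} p₁ p₂ hp => by
      rw [GrothendieckTopology.uliftYonedaEquiv_naturality, GrothendieckTopology.uliftYonedaEquiv_naturality,
        h Z p₁ p₂ hp])
  have key : ∀ a : (yon S).obj T ⟶ F, (yon S).map c ≫ a = e ↔
      F.obj.map c.op ((uE (S := S)) a) = (uE (S := S)) e := fun a => by
    rw [GrothendieckTopology.uliftYonedaEquiv_naturality]
    exact ((uE (S := S)).injective.eq_iff).symm
  exact ⟨(uE (S := S)).symm y, (key _).2 (by rw [Equiv.apply_symm_apply]; exact hy),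
    fun a ha => (Equiv.eq_symm_apply _).2 (huniq _ ((key a).1 ha))⟩

/-- Maps to the target of `p` lift fppf locally through `p`. -/
def LocLift {F G : Sp S} (p : F ⟶ G) : Prop :=
  ∀ (T : Over S) (g : (yon S).obj T ⟶ G),
    ∃ (W : Over S) (c : W ⟶ T) (l : (yon S).obj W ⟶ F), fppfSurj c.left ∧ l ≫ p = (yon S).map c ≫ g

theorem locLift_of_repWith {F G : Sp S} {p : F ⟶ G} {Q : MorphismProperty Scheme.{u}}
    (hQ : Q ≤ fppfSurj) (hp : RepWith Q p) : LocLift p := fun T g =>
  ⟨_, hp.rep.snd g, hp.rep.fst g, hQ _ (hp.property_snd g), (hp.rep.isPullback g).w⟩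

theorem locLift_of_atlas {F : Sp S} {U : Over S} {p : (yon S).obj U ⟶ F}
    (h1 : RepWith @Etale p) (h2 : RepWith @Surjective p) : LocLift p :=
  locLift_of_repWith etale_surjective_le_fppfSurj
    ⟨h1.rep, fun _ _ g a b c => ⟨h1.property g a b c, h2.property g a b c⟩⟩

theorem LocLift.epi {F G : Sp S} {p : F ⟶ G} (hp : LocLift p) : Epi p :=
  ⟨fun {H} a b hab => sp_hom_ext fun T g => by
    obtain ⟨W, c, l, hc, hl⟩ := hp T g
    refine cover_hom_ext c hc ?_
    rw [← Category.assoc, ← Category.assoc, ← hl, Category.assoc, Category.assoc, hab]⟩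

theorem isIso_of_probe {F G : Sp S} (f : F ⟶ G)
    (h : ∀ (T : Over S) (g : (yon S).obj T ⟶ G), ∃! a : (yon S).obj T ⟶ F, a ≫ f = g) : IsIso f := by
  have : IsIso ((sheafToPresheaf _ _).map f) := by
    rw [NatTrans.isIso_iff_isIso_app]
    rintro ⟨T⟩
    rw [isIso_iff_bijective]
    refine ⟨fun x y hxy => ?_, fun z => ?_⟩
    · apply (uE (S := S)).symm.injective
      refine (h T _).unique rfl ?_
      apply (uE (S := S)).injective
      simp only [GrothendieckTopology.uliftYonedaEquiv_comp, Equiv.apply_symm_apply]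
      exact hxy.symm
    · obtain ⟨a, ha, -⟩ := h T ((uE (S := S)).symm z)
      refine ⟨(uE (S := S)) a, ?_⟩
      have := congrArg (uE (S := S)) ha
      rw [GrothendieckTopology.uliftYonedaEquiv_comp, Equiv.apply_symm_apply] at this
      exact this
  exact isIso_of_fully_faithful (sheafToPresheaf _ _) f

/-- Being a monomorphism descends along maps with fppf local lifts. -/
theorem mono_of_baseChange {X Y X' Y' : Sp S} {f : X ⟶ Y} {p : Y' ⟶ Y} {fst : X' ⟶ X} {snd : X' ⟶ Y'}
    (h : IsPullback fst snd f p) (hp : LocLift p) [Mono snd] : Mono f :=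
  mono_of_probe fun T a b hab => by
    obtain ⟨W, c, l, hc, hl⟩ := hp T (a ≫ f)
    refine cover_hom_ext c hc ?_
    have e : h.lift ((yon S).map c ≫ a) l (by rw [Category.assoc, hl]) =
        h.lift ((yon S).map c ≫ b) l (by rw [Category.assoc, hl, hab]) := by
      rw [← cancel_mono snd, h.lift_snd, h.lift_snd]
    simpa using congrArg (· ≫ fst) e

theorem isIso_of_mono_of_locLift {X Y : Sp S} (f : X ⟶ Y) [Mono f] (hp : LocLift f) : IsIso f :=
  isIso_of_probe f fun T g => by
    obtain ⟨W, c, l, hc, hl⟩ := hp T g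
    obtain ⟨a, ha, -⟩ := cover_existsUnique_desc c hc l (fun Z p₁ p₂ hp => by
      rw [← cancel_mono f, Category.assoc, Category.assoc, hl, ← Functor.map_comp_assoc,
        ← Functor.map_comp_assoc, hp])
    refine ⟨a, cover_hom_ext c hc ?_, fun b hb => (cancel_mono f).1 ?_⟩
    · rw [← Category.assoc, ha, hl]
    · rw [hb]
      refine (cover_hom_ext c hc ?_).symm
      rw [← Category.assoc, ha, hl]

theorem LocLift.of_comp {X Y Z : Sp S} {q : X ⟶ Y} {f : Y ⟶ Z} (hp : LocLift (q ≫ f)) : LocLift f :=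
  fun T g => by
    obtain ⟨W, c, l, hc, hl⟩ := hp T g
    exact ⟨W, c, l ≫ q, hc, by rw [Category.assoc, hl]⟩

/-- Being an isomorphism descends along maps with fppf local lifts. -/
theorem isIso_of_baseChange {X Y X' Y' : Sp S} {f : X ⟶ Y} {p : Y' ⟶ Y} {fst : X' ⟶ X} {snd : X' ⟶ Y'}
    (h : IsPullback fst snd f p) (hp : LocLift p) [IsIso snd] : IsIso f := by
  have := mono_of_baseChange h hp
  refine isIso_of_mono_of_locLift f (LocLift.of_comp (q := inv snd ≫ fst) ?_)
  rwa [Category.assoc, h.w, IsIso.inv_hom_id_assoc]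

end Groth.Agent.SpFP87
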