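import Groth.Agent.SpFP87.Inf
import Groth.Agent.SpFP87.Cover
import Groth.Agent.S1489
import Groth.Agent.FlatMor67.LiftAffine
import Mathlib.AlgebraicGeometry.Morphisms.FormallyUnramified
/-!
Infinitesimal lifting for representable morphisms of sheaves, from the scheme-level lifting property.
-/

set_option autoImplicit false
set_option linter.style.haveILetI false
universe u
open CategoryTheory CategoryTheory.Limits AlgebraicGeometry
open AlgSp

namespace Groth.Agent.SpFP87

variable {S : Scheme.{u}}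

theorem hasLift_of_repWith {P : MorphismProperty Scheme.{u}}
    (hP : ∀ {X Y : Scheme.{u}} (f : X ⟶ Y), P f → MoreMor.IsFormallySmoothHom f)
    {F G : Sp S} (a : F ⟶ G) (ha : RepWith P a) : IsFormallySmoothMor a := by
  intro sq
  have hpb := ha.rep.isPullback sq.bot
  obtain ⟨t, ht⟩ := (yon S).map_surjective (hpb.lift sq.top ((yon S).map sq.j) sq.comm)
  have h1 : t ≫ ha.rep.snd sq.bot = sq.j := (yon S).map_injective (by
    rw [Functor.map_comp, ht]; exact hpb.lift_snd _ _ _)
  obtain ⟨l, hl1, hl2⟩ := hP _ (ha.property_snd sq.bot) sq.A sq.I sq.sq_zero t.left (𝟙 _)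
    ((Category.comp_id _).trans (congrArg CommaMorphism.left h1).symm)
  let l' : sq.ptT' ⟶ ha.rep.pullback sq.bot := Over.homMk l (by
    exact ((congrArg (l ≫ ·) (Over.w (ha.rep.snd sq.bot))).symm.trans ((Category.assoc _ _ _).symm.trans ((congrArg (· ≫ sq.str) hl2).trans (Category.id_comp _)))))
  have h2 : sq.j ≫ l' = t := by ext : 1; exact hl1
  have h3 : l' ≫ ha.rep.snd sq.bot = 𝟙 _ := by ext : 1; exact hl2
  refine ⟨(yon S).map l' ≫ ha.rep.fst sq.bot, ?_, ?_⟩
  · rw [← Category.assoc, ← Functor.map_comp, h2, ht]; exact hpb.lift_fst _ _ _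
  · rw [Category.assoc, hpb.w, ← Category.assoc, ← Functor.map_comp, h3,
      CategoryTheory.Functor.map_id, Category.id_comp]

theorem hasUniq_of_repWith {P : MorphismProperty Scheme.{u}}
    (hP : ∀ {X Y : Scheme.{u}} (f : X ⟶ Y), P f → FormallyUnramified f)
    {F G : Sp S} (a : F ⟶ G) (ha : RepWith P a) : IsFormallyUnramifiedMor a := by
  intro sq l l' h1 h2 h3 h4
  have hpb := ha.rep.isPullback sq.bot
  obtain ⟨m, hm⟩ := (yon S).map_surjective
    (hpb.lift l (𝟙 _) (h2.trans (Category.id_comp _).symm))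
  obtain ⟨m', hm'⟩ := (yon S).map_surjective
    (hpb.lift l' (𝟙 _) (h4.trans (Category.id_comp _).symm))
  suffices m = m' by
    have e1 : (yon S).map m ≫ ha.rep.fst sq.bot = l := by rw [hm]; exact hpb.lift_fst _ _ _
    have e2 : (yon S).map m' ≫ ha.rep.fst sq.bot = l' := by rw [hm']; exact hpb.lift_fst _ _ _
    rw [← e1, this, e2]
  have k1 : m ≫ ha.rep.snd sq.bot = 𝟙 _ := (yon S).map_injective (by
    rw [Functor.map_comp, hm, CategoryTheory.Functor.map_id]; exact hpb.lift_snd _ _ _)
  have k2 : m' ≫ ha.rep.snd sq.bot = 𝟙 _ := (yon S).map_injective (by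
    rw [Functor.map_comp, hm', CategoryTheory.Functor.map_id]; exact hpb.lift_snd _ _ _)
  have k3 : sq.j ≫ m = sq.j ≫ m' := (yon S).map_injective (by
    apply hpb.hom_ext
    · rw [Functor.map_comp, Functor.map_comp, hm, hm', Category.assoc, Category.assoc,
        hpb.lift_fst, hpb.lift_fst, h1, h3]
    · rw [Functor.map_comp, Functor.map_comp, hm, hm', Category.assoc, Category.assoc,
        hpb.lift_snd, hpb.lift_snd])
  haveI : AlgebraicGeometry.FormallyUnramified (ha.rep.snd sq.bot).left := hP _ (ha.property_snd sq.bot)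
  haveI : IsClosedImmersion (Spec.map (CommRingCat.ofHom (Ideal.Quotient.mk sq.I))) :=
    IsClosedImmersion.spec_of_surjective _ Ideal.Quotient.mk_surjective
  ext : 1
  exact AlgebraicGeometry.FormallyUnramified.hom_ext _
    (Groth.Agent.FlatMor67.specMk_isNilpotent_ker (I := sq.I) ⟨2, sq.sq_zero⟩)
    (ha.rep.snd sq.bot).left (congrArg CommaMorphism.left k3)
    ((congrArg CommaMorphism.left k1).trans (congrArg CommaMorphism.left k2).symm)

theorem isFormallyEtaleMor_of_repWith_etale {F G : Sp S} (a : F ⟶ G) (ha : RepWith @Etale a) :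
    IsFormallyEtaleMor a := by
  rw [isFormallyEtaleMor_iff]
  refine ⟨hasLift_of_repWith (fun f hf => ?_) a ha, hasUniq_of_repWith (fun f hf => ?_) a ha⟩
  · intro A _ I hI x y w
    exact ((Groth.Agent.S1489.result f).1 hf).2 A I hI x y w |>.exists
  · haveI : Etale f := hf
    infer_instance

theorem isFormallyUnramifiedMor_of_repWith {F G : Sp S} (a : F ⟶ G)
    (ha : RepWith (@LocallyOfFiniteType ⊓ @AlgebraicGeometry.FormallyUnramified) a) :
    IsFormallyUnramifiedMor a :=
  hasUniq_of_repWith (fun _ hf => hf.2) a ha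

end Groth.Agent.SpFP87
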