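import Groth.Agent.SpFP87.InfDesc
import Groth.Agent.SpFP87.InfRep
import Groth.Agent.SpFP87.LocP
import Groth.Agent.S9771
/-!
Infinitesimal lifting properties on etale charts.
-/

set_option autoImplicit false
set_option linter.style.haveILetI false
universe u
open CategoryTheory CategoryTheory.Limits AlgebraicGeometry
open AlgSp

namespace Groth.Agent.SpFP87

variable {S : Scheme.{u}}

theorem formallyUnramified_of_infSq {U V : Over S} (h : U ⟶ V)
    (hh : IsFormallyUnramifiedMor ((yon S).map h)) : FormallyUnramified h.left := by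
  refine FormallyUnramified.of_hom_ext _ fun R T φ hφ hφ2 g₁ g₂ hg hgf => ?_
  let I : Ideal R := RingHom.ker φ.hom
  have hI : I ^ 2 = ⊥ := hφ2
  let e : (R ⧸ I) ≃+* T := RingHom.quotientKerEquivOfSurjective hφ
  have hj : Spec.map (CommRingCat.ofHom (Ideal.Quotient.mk I)) =
      Spec.map e.toCommRingCatIso.inv ≫ Spec.map φ := by
    rw [← Spec.map_comp]; congr 1
    ext x; exact ((RingEquiv.symm_apply_eq e).2 rfl).symm
  let str : Spec R ⟶ S := g₁ ≫ U.hom
  have h2 : g₂ ≫ U.hom = str := by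
    simpa [str, Over.w h] using (congrArg (· ≫ V.hom) hgf).symm
  let l₁ : (Over.mk str : Over S) ⟶ U := Over.homMk g₁ rfl
  let l₂ : (Over.mk str : Over S) ⟶ U := Over.homMk g₂ h2
  let jO : (Over.mk (Spec.map (CommRingCat.ofHom (Ideal.Quotient.mk I)) ≫ str) : Over S) ⟶ Over.mk str :=
    Over.homMk (Spec.map (CommRingCat.ofHom (Ideal.Quotient.mk I))) rfl
  let sq : InfSq ((yon S).map h) :=
    { A := R, I := I, sq_zero := hI, str := str, top := (yon S).map (jO ≫ l₁),
      bot := (yon S).map (l₁ ≫ h),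
      comm := (((yon S).map_comp _ _).symm.trans (congrArg (yon S).map (Category.assoc jO l₁ h))).trans
        ((yon S).map_comp _ _) }
  have k1 : jO ≫ l₂ = jO ≫ l₁ := by
    ext : 1
    show Spec.map (CommRingCat.ofHom (Ideal.Quotient.mk I)) ≫ g₂ = Spec.map (CommRingCat.ofHom (Ideal.Quotient.mk I)) ≫ g₁
    rw [hj, Category.assoc, Category.assoc, hg]
  have k2 : l₂ ≫ h = l₁ ≫ h := by ext : 1; exact hgf.symm
  have := hh sq ((yon S).map l₁) ((yon S).map l₂) ((yon S).map_comp jO l₁).symm
    ((yon S).map_comp l₁ h).symm (((yon S).map_comp jO l₂).symm.trans (congrArg (yon S).map k1))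
    (((yon S).map_comp l₂ h).symm.trans (congrArg (yon S).map k2))
  exact congrArg CommaMorphism.left ((yon S).map_injective this)

theorem isFormallySmoothHom_of_infSq {U V : Over S} (h : U ⟶ V)
    (hh : IsFormallySmoothMor ((yon S).map h)) : MoreMor.IsFormallySmoothHom h.left := by
  intro A _ I hI x y w
  let str : Spec (.of A) ⟶ S := y ≫ V.hom
  let jO : (Over.mk (Spec.map (CommRingCat.ofHom (Ideal.Quotient.mk I)) ≫ str) : Over S) ⟶ Over.mk str :=
    Over.homMk (Spec.map (CommRingCat.ofHom (Ideal.Quotient.mk I))) rfl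
  let xO : (Over.mk (Spec.map (CommRingCat.ofHom (Ideal.Quotient.mk I)) ≫ str) : Over S) ⟶ U :=
    Over.homMk x (by
      show x ≫ U.hom = _ ≫ y ≫ V.hom
      rw [← Category.assoc, w, Category.assoc, Over.w h])
  let yO : (Over.mk str : Over S) ⟶ V := Over.homMk y rfl
  have hw : xO ≫ h = jO ≫ yO := by ext : 1; exact w.symm
  obtain ⟨l, hl1, hl2⟩ := hh
    { A := A, I := I, sq_zero := hI, str := str, top := (yon S).map xO, bot := (yon S).map yO,
      comm := (((yon S).map_comp _ _).symm.trans (congrArg (yon S).map hw)).trans ((yon S).map_comp _ _) }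
  obtain ⟨lO, rfl⟩ := (yon S).map_surjective l
  have e1 : jO ≫ lO = xO := (yon S).map_injective (((yon S).map_comp _ _).trans hl1)
  have e2 : lO ≫ h = yO := (yon S).map_injective (((yon S).map_comp _ _).trans hl2)
  exact ⟨lO.left, congrArg CommaMorphism.left e1, congrArg CommaMorphism.left e2⟩

theorem isFormallyEtaleHom_of_infSq {U V : Over S} (h : U ⟶ V)
    (hh : IsFormallyEtaleMor ((yon S).map h)) : MoreMor.IsFormallyEtaleHom h.left := by
  obtain ⟨hs, hu⟩ := (isFormallyEtaleMor_iff _).1 hh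
  haveI := formallyUnramified_of_infSq h hu
  intro A _ I hI x y w
  obtain ⟨l, hl1, hl2⟩ := isFormallySmoothHom_of_infSq h hs A I hI x y w
  haveI : IsClosedImmersion (Spec.map (CommRingCat.ofHom (Ideal.Quotient.mk I))) :=
    IsClosedImmersion.spec_of_surjective _ Ideal.Quotient.mk_surjective
  exact ⟨l, ⟨hl1, hl2⟩, fun l' hl' => FormallyUnramified.hom_ext _
    (Groth.Agent.FlatMor67.specMk_isNilpotent_ker (I := I) ⟨2, hI⟩) h.left
    (hl'.1.trans hl1.symm) (hl'.2.trans hl2.symm)⟩

theorem repWith_formallyUnramified_yon {U V : Over S} (h : U ⟶ V) (hh : FormallyUnramified h.left) :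
    IsFormallyUnramifiedMor ((yon S).map h) :=
  hasUniq_of_repWith (P := @FormallyUnramified) (fun _ hf => hf) _ ((repWith_yon_map_iff _ h).2 hh)

theorem isFormallyEtaleMor_yon {U V : Over S} (h : U ⟶ V) (hh : MoreMor.IsFormallyEtaleHom h.left) :
    IsFormallyEtaleMor ((yon S).map h) := by
  intro sq
  obtain ⟨x, hx⟩ := (yon S).map_surjective sq.top
  obtain ⟨y, hy⟩ := (yon S).map_surjective sq.bot
  have hw : x ≫ h = sq.j ≫ y := (yon S).map_injective (by
    rw [Functor.map_comp, Functor.map_comp, hx, hy]; exact sq.comm)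
  obtain ⟨l, ⟨hl1, hl2⟩, hl⟩ := hh sq.A sq.I sq.sq_zero x.left y.left
    (congrArg CommaMorphism.left hw).symm
  let lO : sq.ptT' ⟶ U := Over.homMk l (((congrArg (l ≫ ·) (Over.w h).symm).trans
    ((Category.assoc _ _ _).symm.trans (congrArg (· ≫ V.hom) hl2))).trans (Over.w y))
  refine ⟨(yon S).map lO, ⟨?_, ?_⟩, fun m hm => ?_⟩
  · exact ((yon S).map_comp _ _).symm.trans ((congrArg (yon S).map
      (show sq.j ≫ lO = x from Over.OverMorphism.ext hl1)).trans hx)
  · exact ((yon S).map_comp _ _).symm.trans ((congrArg (yon S).map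
      (show lO ≫ h = y from Over.OverMorphism.ext hl2)).trans hy)
  · obtain ⟨mO, rfl⟩ := (yon S).map_surjective m
    have e1 : sq.j ≫ mO = x := (yon S).map_injective (by rw [Functor.map_comp, hx]; exact hm.1)
    have e2 : mO ≫ h = y := (yon S).map_injective (by rw [Functor.map_comp, hy]; exact hm.2)
    exact congrArg (yon S).map (Over.OverMorphism.ext
      (hl mO.left ⟨congrArg CommaMorphism.left e1, congrArg CommaMorphism.left e2⟩))

section charts

variable {X Y : Sp S} {f : X ⟶ Y} {U V : Over S} {a : (yon S).obj U ⟶ X} {b : (yon S).obj V ⟶ Y}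
  {h : U ⟶ V}

theorem chart_unramified (hf : IsFormallyUnramifiedMor f) (ha : RepWith @Etale a)
    (w : a ≫ f = (yon S).map h ≫ b) : FormallyUnramified h.left :=
  formallyUnramified_of_infSq h (isFormallyUnramifiedMor_of_comp _ b (w ▸
    isFormallyUnramifiedMor_comp a f
      ((isFormallyEtaleMor_iff a).1 (isFormallyEtaleMor_of_repWith_etale a ha)).2 hf))

theorem isFormallySmoothMor_of_postcomp {F G H : Sp S} (a : F ⟶ G) (b : G ⟶ H)
    (h : IsFormallySmoothMor (a ≫ b)) (hb : IsFormallyUnramifiedMor b) : IsFormallySmoothMor a := by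
  intro sq
  obtain ⟨l, hl1, hl2⟩ := h (infSqPostcomp a b sq)
  refine ⟨l, hl1, ?_⟩
  refine hb
    { A := sq.A, I := sq.I, sq_zero := sq.sq_zero, str := sq.str, top := sq.top ≫ a,
      bot := sq.bot ≫ b,
      comm := (Category.assoc _ _ _).trans (infSqPostcomp a b sq).comm } _ _ ?_ ?_ ?_ rfl
  · exact (Category.assoc _ _ _).symm.trans (congrArg (· ≫ a) hl1)
  · exact (Category.assoc _ _ _).trans hl2
  · exact sq.comm.symm

theorem chart_smooth (hf : IsFormallySmoothMor f) (ha : RepWith @Etale a) (hb : RepWith @Etale b)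
    (w : a ≫ f = (yon S).map h ≫ b) : MoreMor.IsFormallySmoothHom h.left :=
  isFormallySmoothHom_of_infSq h (isFormallySmoothMor_of_postcomp _ b (w ▸
    isFormallySmoothMor_comp a f
      ((isFormallyEtaleMor_iff a).1 (isFormallyEtaleMor_of_repWith_etale a ha)).1 hf)
    ((isFormallyEtaleMor_iff b).1 (isFormallyEtaleMor_of_repWith_etale b hb)).2)

theorem chart_etale (hf : IsFormallyEtaleMor f) (ha : RepWith @Etale a) (hb : RepWith @Etale b)
    (w : a ≫ f = (yon S).map h ≫ b) : MoreMor.IsFormallyEtaleHom h.left := by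
  refine isFormallyEtaleHom_of_infSq h ?_
  obtain ⟨h1, h2⟩ := (isFormallyEtaleMor_iff f).1 hf
  obtain ⟨a1, a2⟩ := (isFormallyEtaleMor_iff a).1 (isFormallyEtaleMor_of_repWith_etale a ha)
  obtain ⟨-, b2⟩ := (isFormallyEtaleMor_iff b).1 (isFormallyEtaleMor_of_repWith_etale b hb)
  exact (isFormallyEtaleMor_iff _).2
    ⟨isFormallySmoothMor_of_postcomp _ b (w ▸ isFormallySmoothMor_comp a f a1 h1) b2,
      isFormallyUnramifiedMor_of_comp _ b (w ▸ isFormallyUnramifiedMor_comp a f a2 h2)⟩

theorem unramified_of_chart (ha : RepWith @Etale a) (has : RepWith @Surjective a)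
    (hb : RepWith @Etale b) (w : a ≫ f = (yon S).map h ≫ b) (hh : FormallyUnramified h.left) :
    IsFormallyUnramifiedMor f :=
  isFormallyUnramifiedMor_of_comp_cover a f ha has (w.symm ▸ isFormallyUnramifiedMor_comp _ b
    (repWith_formallyUnramified_yon h hh)
    ((isFormallyEtaleMor_iff b).1 (isFormallyEtaleMor_of_repWith_etale b hb)).2)

theorem etale_of_chart (ha : RepWith @Etale a) (has : RepWith @Surjective a)
    (hb : RepWith @Etale b) (w : a ≫ f = (yon S).map h ≫ b) (hh : MoreMor.IsFormallyEtaleHom h.left) :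
    IsFormallyEtaleMor f := by
  obtain ⟨h1, h2⟩ := (isFormallyEtaleMor_iff _).1 (isFormallyEtaleMor_yon h hh)
  obtain ⟨b1, b2⟩ := (isFormallyEtaleMor_iff b).1 (isFormallyEtaleMor_of_repWith_etale b hb)
  have hu := isFormallyUnramifiedMor_of_comp_cover a f ha has
    (w.symm ▸ isFormallyUnramifiedMor_comp _ b h2 b2)
  exact (isFormallyEtaleMor_iff f).2 ⟨isFormallySmoothMor_of_comp_cover a f ha has
    (w.symm ▸ isFormallySmoothMor_comp _ b h1 b1) hu, hu⟩

theorem etale_of_locP (hX : IsAlgSpace X) (hY : IsAlgSpace Y)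
    (hf : LocP @MoreMor.IsFormallyEtaleHom f) : IsFormallyEtaleMor f := by
  obtain ⟨V, b, hb, hbs⟩ := hY.atlas
  obtain ⟨U, a, h, ha, has, w⟩ := exists_compatible_chart f hX hY.diag hb hbs
  exact etale_of_chart ha has hb w (hf a b h ha hb w)

theorem unramified_of_locP (hX : IsAlgSpace X) (hY : IsAlgSpace Y)
    (hf : LocP @FormallyUnramified f) : IsFormallyUnramifiedMor f := by
  obtain ⟨V, b, hb, hbs⟩ := hY.atlas
  obtain ⟨U, a, h, ha, has, w⟩ := exists_compatible_chart f hX hY.diag hb hbs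
  exact unramified_of_chart ha has hb w (hf a b h ha hb w)

end charts

end Groth.Agent.SpFP87
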