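import Groth.Agent.SpPts86.UnramDiag
import Groth.Agent.SpPts86.UnivInj
import Groth.Agent.SpPts86.LqfSep
import Groth.Agent.SpPts86.Unram
import Groth.Agent.SpPts86.Props
import Groth.Agent.SpPts86.ProperCrit
import Groth.Agent.SpFP87.InfCharts
/-!
Unramified monomorphisms and closed immersions of algebraic spaces.
-/

set_option autoImplicit false
set_option linter.style.haveILetI false
set_option backward.isDefEq.respectTransparency false
universe u
open CategoryTheory CategoryTheory.Limits AlgebraicGeometry Opposite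
open AlgSp Groth.Agent.SpPts86

namespace Groth.Agent.SpFP87

variable {S : Scheme.{u}} {X Y : Sp S} {f : X ⟶ Y}

theorem isUnivInjectiveMor_of_mono (hX : IsAlgSpace X) [Mono f] : IsUnivInjectiveMor f := by
  refine (isUnivInjectiveMor_iff_surjective_diagonal hX).2 fun p => ?_
  exact ⟨Points.map (pullback.fst f f) p, by
    rw [← Points.map_comp, show pullback.fst f f ≫ pullback.diagonal f = 𝟙 _ from
      pullback.hom_ext (by simp) (by simp [fst_eq_snd_of_mono_eq f]), Points.map_id]⟩

theorem mono_of_unramified_univInjective (hX : IsAlgSpace X) (hY : IsAlgSpace Y)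
    (hu : LocP (@LocallyOfFiniteType ⊓ @FormallyUnramified) f) (hi : IsUnivInjectiveMor f) : Mono f := by
  haveI := isIso_diagonal_of_unramified_univInjective hX hY hu hi
  refine ⟨fun a b h => ?_⟩
  refine ((pullback.lift_fst a b h).symm.trans ?_).trans (pullback.lift_snd a b h)
  refine congrArg (pullback.lift a b h ≫ ·) ?_
  rw [← cancel_epi (pullback.diagonal f), pullback.diagonal_fst, pullback.diagonal_snd]

theorem unramified_of_lft_mono (hX : IsAlgSpace X) (hl : LocP @LocallyOfFiniteType f) [Mono f] :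
    LocP (@LocallyOfFiniteType ⊓ @FormallyUnramified) f := by
  refine unramified_of_repWith_openImm_diagonal hX hl ?_
  have : IsIso (pullback.diagonal f) := inferInstance
  exact MorphismProperty.relative.of_exists fun T g =>
    ⟨T, g ≫ inv (pullback.diagonal f), 𝟙 T, IsPullback.of_vert_isIso ⟨by simp⟩,
      (inferInstance : IsOpenImmersion (𝟙 T.left))⟩

theorem locP_unramified_of_formallyUnramified (hl : LocP @LocallyOfFiniteType f)
    (hu : IsFormallyUnramifiedMor f) : LocP (@LocallyOfFiniteType ⊓ @FormallyUnramified) f :=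
  fun _ _ a b h ha hb w => ⟨hl a b h ha hb w, chart_unramified hu ha w⟩

theorem formallyUnramified_of_locP (hX : IsAlgSpace X) (hY : IsAlgSpace Y)
    (hu : LocP (@LocallyOfFiniteType ⊓ @FormallyUnramified) f) : IsFormallyUnramifiedMor f := by
  obtain ⟨V, b, hb, hbs⟩ := hY.atlas
  obtain ⟨U, a, h, ha, has, w⟩ := exists_compatible_chart f hX hY.diag hb hbs
  exact unramified_of_chart ha has hb w (hu a b h ha hb w).2

theorem representable_of_lft_mono (hX : IsAlgSpace X) (hY : IsAlgSpace Y)
    (hl : LocP @LocallyOfFiniteType f) [Mono f] : Representable f := by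
  intro T g
  have hP := isAlgSpace_pullback f g hX (IsAlgSpace.yon_obj T) hY
  have hl' : LocP @LocallyOfFiniteType (pullback.snd f g) :=
    locP_baseChange (IsPullback.of_hasPullback f g) hX hY (IsAlgSpace.yon_obj T) hl
  have hu := unramified_of_lft_mono hP hl'
  obtain ⟨Z, ⟨e⟩⟩ := exists_iso_of_lqf_separated hP (isSeparatedMor_of_mono (pullback.snd f g))
    (fun _ _ a b k ha hb w => unramified_le_lqf _ (hu a b k ha hb w))
  obtain ⟨k, hk⟩ := (yon S).map_surjective (e.hom ≫ pullback.snd f g)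
  refine ⟨Z, k, e.hom ≫ pullback.fst f g,
    IsPullback.of_iso (IsPullback.of_hasPullback f g) e.symm (Iso.refl _) (Iso.refl _) (Iso.refl _)
      ?_ ?_ (by simp) (by simp)⟩
  · simp only [Iso.symm_hom, Iso.refl_hom, Category.comp_id]; rw [Iso.inv_hom_id_assoc]
  · simp only [Iso.symm_hom, Iso.refl_hom, Category.comp_id]; rw [hk, Iso.inv_hom_id_assoc]

theorem unramified_mono_tfae (hX : IsAlgSpace X) (hY : IsAlgSpace Y) :
    ((LocP (@LocallyOfFiniteType ⊓ @FormallyUnramified) f ∧ Mono f) ↔
      (LocP (@LocallyOfFiniteType ⊓ @FormallyUnramified) f ∧ IsUnivInjectiveMor f)) ∧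
    ((LocP (@LocallyOfFiniteType ⊓ @FormallyUnramified) f ∧ Mono f) ↔
      (LocP @LocallyOfFiniteType f ∧ Mono f)) ∧
    ((LocP (@LocallyOfFiniteType ⊓ @FormallyUnramified) f ∧ Mono f) ↔
      (IsUnivInjectiveMor f ∧ LocP @LocallyOfFiniteType f ∧ IsFormallyUnramifiedMor f)) ∧
    (LocP @LocallyOfFiniteType f ∧ Mono f →
      Representable f ∧ IsSeparatedMor f ∧
        LocP (@LocallyQuasiFinite ⊓ @LocallyOfFiniteType) f) := by
  refine ⟨⟨fun ⟨a, b⟩ => ⟨a, isUnivInjectiveMor_of_mono hX⟩,
      fun ⟨a, b⟩ => ⟨a, mono_of_unramified_univInjective hX hY a b⟩⟩,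
    ⟨fun ⟨a, b⟩ => ⟨fun _ _ x y k hx hy w => (a x y k hx hy w).1, b⟩,
      fun ⟨a, b⟩ => ⟨unramified_of_lft_mono hX a, b⟩⟩,
    ⟨fun ⟨a, b⟩ => ⟨isUnivInjectiveMor_of_mono hX, fun _ _ x y k hx hy w => (a x y k hx hy w).1,
        formallyUnramified_of_locP hX hY a⟩, fun ⟨i, a, b⟩ => ?_⟩, fun ⟨a, b⟩ => ?_⟩
  · have hu := locP_unramified_of_formallyUnramified a b
    exact ⟨hu, mono_of_unramified_univInjective hX hY hu i⟩
  · exact ⟨representable_of_lft_mono hX hY a, isSeparatedMor_of_mono f, fun _ _ x y k hx hy w =>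
      unramified_le_lqf _ (unramified_of_lft_mono hX a x y k hx hy w)⟩

theorem closedImmersion_iff_univClosed_lft_mono (hX : IsAlgSpace X) (hY : IsAlgSpace Y) :
    RepWith @IsClosedImmersion f ↔ (IsUnivClosedMor f ∧ LocP @LocallyOfFiniteType f ∧ Mono f) := by
  refine ⟨fun h => ⟨(S9922.result (X := ⟨X, hX⟩) (Y := ⟨Y, hY⟩) ⟨f⟩ h.rep).1
      (repWith_mono (fun _ _ _ hk => by haveI := hk; exact inferInstance) h),
    locP_of_repWith hX.diag hY (repWith_mono (fun _ _ _ hk => by haveI := hk; exact inferInstance) h),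
    mono_of_repWith_le isClosedImmersion_le_monomorphisms h⟩, fun ⟨hc, hl, hm⟩ => ?_⟩
  have hrep := representable_of_lft_mono hX hY hl
  haveI := lft_descends.{u}
  have huc : RepWith @UniversallyClosed f := (S9922.result (X := ⟨X, hX⟩) (Y := ⟨Y, hY⟩) ⟨f⟩ hrep).2 hc
  have hl' : RepWith @LocallyOfFiniteType f := repWith_of_locP hY hrep hl
  refine ⟨hrep, fun T V g fst snd sq => ?_⟩
  haveI : UniversallyClosed snd.left := huc.property g fst snd sq
  haveI : LocallyOfFiniteType snd.left := hl'.property g fst snd sq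
  haveI : Mono snd.left := (repWith_monomorphisms_of_mono hrep).property g fst snd sq
  exact isClosedImmersion_of_mono_univClosed snd.left

theorem closedImmersion_tfae (hX : IsAlgSpace X) (hY : IsAlgSpace Y) :
    (RepWith @IsClosedImmersion f ↔
      (IsUnivClosedMor f ∧ LocP (@LocallyOfFiniteType ⊓ @FormallyUnramified) f ∧ Mono f)) ∧
    (RepWith @IsClosedImmersion f ↔
      (IsUnivClosedMor f ∧ LocP (@LocallyOfFiniteType ⊓ @FormallyUnramified) f ∧ IsUnivInjectiveMor f)) ∧
    (RepWith @IsClosedImmersion f ↔ (IsUnivClosedMor f ∧ LocP @LocallyOfFiniteType f ∧ Mono f)) ∧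
    (RepWith @IsClosedImmersion f ↔
      (IsUnivClosedMor f ∧ IsUnivInjectiveMor f ∧ LocP @LocallyOfFiniteType f ∧
        IsFormallyUnramifiedMor f)) := by
  have h0 := closedImmersion_iff_univClosed_lft_mono (f := f) hX hY
  obtain ⟨h1, h2, h3, -⟩ := unramified_mono_tfae (f := f) hX hY
  exact ⟨h0.trans (and_congr_right fun _ => h2.symm), h0.trans (and_congr_right fun _ => h2.symm.trans h1),
    h0, h0.trans (and_congr_right fun _ => h2.symm.trans h3)⟩

end Groth.Agent.SpFP87
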