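import Groth.Agent.SpFP87.SourceInst
import Groth.Agent.Unr55.FppfScheme
/-!
Scheme level instances of fppf and smooth locality on the source.
-/

set_option autoImplicit false
set_option linter.style.haveILetI false
set_option backward.isDefEq.respectTransparency false
universe u
open CategoryTheory CategoryTheory.Limits AlgebraicGeometry Opposite

namespace Groth.Agent.SpFP87

theorem isZariskiLocalAtSource_flat_lfp :
    IsZariskiLocalAtSource (@Flat ⊓ @LocallyOfFinitePresentation : MorphismProperty Scheme.{u}) := by
  haveI : IsZariskiLocalAtSource (@Flat : MorphismProperty Scheme.{u}) :=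
    HasRingHomProperty.instIsZariskiLocalAtSource (Q := RingHom.Flat)
  haveI : IsZariskiLocalAtSource (@LocallyOfFinitePresentation : MorphismProperty Scheme.{u}) :=
    HasRingHomProperty.instIsZariskiLocalAtSource (Q := RingHom.FinitePresentation)
  infer_instance

theorem lfp_isLocalAtSource_fppf :
    MorphismProperty.IsLocalAtSource (@LocallyOfFinitePresentation : MorphismProperty Scheme.{u})
      Scheme.fppfPrecoverage := by
  haveI := isZariskiLocalAtSource_flat_lfp.{u}
  haveI : IsZariskiLocalAtSource (@LocallyOfFinitePresentation : MorphismProperty Scheme.{u}) :=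
    HasRingHomProperty.instIsZariskiLocalAtSource (Q := RingHom.FinitePresentation)
  exact isLocalAtSource_of_single (Q := (@Flat ⊓ @LocallyOfFinitePresentation : MorphismProperty Scheme.{u})) le_rfl
    (fun c f hc hf => by haveI := hc.2; haveI := hf; infer_instance)
    (fun c f hc hs h => by
      haveI := hc.1; haveI := hc.2; haveI := hs; haveI := h
      exact Groth.Agent.Unr55.locallyOfFinitePresentation_of_fppf_comp c f)

theorem lft_isLocalAtSource_fppf :
    MorphismProperty.IsLocalAtSource (@LocallyOfFiniteType : MorphismProperty Scheme.{u})
      Scheme.fppfPrecoverage := by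
  haveI := isZariskiLocalAtSource_flat_lfp.{u}
  haveI : IsZariskiLocalAtSource (@LocallyOfFiniteType : MorphismProperty Scheme.{u}) :=
    HasRingHomProperty.instIsZariskiLocalAtSource (Q := RingHom.FiniteType)
  exact isLocalAtSource_of_single (Q := (@Flat ⊓ @LocallyOfFinitePresentation : MorphismProperty Scheme.{u})) le_rfl
    (fun c f hc hf => by haveI := hc.2; haveI := hf; infer_instance)
    (fun c f hc hs h => by
      haveI := hc.1; haveI := hc.2; haveI := hs; haveI := h
      exact Groth.Agent.Unr55.locallyOfFiniteType_of_fppf_comp c f)

theorem smooth_isLocalAtSource_smooth :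
    MorphismProperty.IsLocalAtSource (@Smooth : MorphismProperty Scheme.{u})
      (Scheme.precoverage @Smooth) := by
  exact isLocalAtSource_of_single (Q := (@Smooth : MorphismProperty Scheme.{u})) le_rfl
    (fun c f hc hf => by haveI := hc; haveI := hf; infer_instance)
    (fun c f hc hs h => by
      haveI := hc; haveI := hs; haveI := h
      exact Groth.Agent.Unr55.smooth_of_fppf_comp c f)

end Groth.Agent.SpFP87
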