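import Groth.Agent.SpFP87.EtLocInst
import Groth.Agent.SpFP87.LocPRep
import Mathlib.AlgebraicGeometry.Morphisms.LocalFlatDescent
import Groth.Prelude.Def_AlgSp3
/-!
Etale morphisms of algebraic spaces are those with etale chart diagrams.
-/

set_option autoImplicit false
set_option linter.style.haveILetI false
universe u
open CategoryTheory CategoryTheory.Limits AlgebraicGeometry Opposite
open AlgSp

namespace Groth.Agent.SpFP87

variable {S : Scheme.{u}}

theorem etale_descendsAlong_fppfSurj :
    MorphismProperty.DescendsAlong (@Etale.{u} : MorphismProperty Scheme.{u}) fppfSurj :=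
  inferInstanceAs (MorphismProperty.DescendsAlong (@Etale.{u} : MorphismProperty Scheme.{u})
    (@Surjective ⊓ @Flat ⊓ @LocallyOfFinitePresentation))

theorem isEtaleMor_iff_locP {X Y : Sp S} (f : X ⟶ Y) (hX : IsAlgSpace X) (hY : IsAlgSpace Y) :
    IsEtaleMor f ↔ LocP @Etale f := by
  constructor
  · intro hf U V a b h ha hb w
    obtain ⟨W, r, t, sq⟩ := exists_isPullback_yon hY.diag (a ≫ f) b
    have hr : Etale r.left := etale_snd_of_isPullback sq.flip hb
    have ht : Etale t.left := etale_snd_of_isPullback sq (hf a ha)
    obtain ⟨σ, hσ⟩ := (yon S).map_surjective (sq.lift (𝟙 _) ((yon S).map h) (by rw [Category.id_comp]; exact w))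
    have s1 : σ ≫ r = 𝟙 _ := (yon S).map_injective (by
      rw [Functor.map_comp, hσ, sq.lift_fst, CategoryTheory.Functor.map_id])
    have s2 : σ ≫ t = h := (yon S).map_injective (by rw [Functor.map_comp, hσ, sq.lift_snd])
    have hσ' : Etale σ.left := EtLoc.of_comp_etale (P := (@Etale.{u} : MorphismProperty Scheme.{u}))
      σ.left r.left hr (by rw [← Over.comp_left, s1, Over.id_left]; infer_instance)
    rw [← s2, Over.comp_left]
    exact MorphismProperty.comp_mem _ _ _ hσ' ht
  · intro hf U φ hφ
    haveI := etale_descendsAlong_fppfSurj.{u}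
    exact repWith_of_locP hY (hY.representable_from_yon _)
      (locP_comp (IsAlgSpace.yon_obj U) hX hY
        (locP_of_repWith (IsAlgSpace.yon_obj U).diag hX hφ) hf)

end Groth.Agent.SpFP87
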