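import Groth.Agent.SpFP87.Covers
import Groth.Agent.SpFP87.EtaleMor
import Mathlib.AlgebraicGeometry.Sites.Fpqc
import Mathlib.AlgebraicGeometry.Sites.Etale
/-!
Locality on the source of properties of morphisms of algebraic spaces defined on etale charts.
-/

set_option autoImplicit false
set_option linter.style.haveILetI false
universe u
open CategoryTheory CategoryTheory.Limits AlgebraicGeometry Opposite
open AlgSp
open Groth.Agent.SpPts86

namespace Groth.Agent.SpFP87

variable {S : Scheme.{u}}

/-- General criterion: `LocP P` is local on the source for a notion of covering `τ` when `P` is local on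
the source for a precoverage `K` receiving the `τ`-coverings read on charts. -/
theorem isLocalOnSource_locP_of {τ : CovNotion S} {P Q : MorphismProperty Scheme.{u}}
    {K : Precoverage Scheme.{u}} [P.IsLocalAtSource K]
    (hτ : ∀ ⦃ι : Type u⦄ ⦃X : Sp S⦄ (Xi : ι → Sp S) (g : ∀ i, Xi i ⟶ X), IsAlgSpace X →
      (∀ i, IsAlgSpace (Xi i)) → τ Xi g → ∀ i, LocP Q (g i))
    (hK1 : ∀ {W U : Scheme.{u}} (w : W ⟶ U), Q w → ∃ R ∈ K U, R w)
    (hK2 : ∀ ⦃ι : Type u⦄ ⦃X : Sp S⦄ (Xi : ι → Sp S) (g : ∀ i, Xi i ⟶ X), IsAlgSpace X →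
      (∀ i, IsAlgSpace (Xi i)) → τ Xi g → ∀ {U : Over S} (a : (yon S).obj U ⟶ X)
        (W : ι → Over S) (w : ∀ i, W i ⟶ U) (b : ∀ i, (yon S).obj (W i) ⟶ pullback a (g i)),
        (∀ i, RepWith @Etale (b i)) → (∀ i, RepWith @Surjective (b i)) →
        (∀ i, b i ≫ pullback.fst a (g i) = (yon S).map (w i)) →
        (∀ i, Q (w i).left) →
        Presieve.ofArrows (fun i => (W i).left) (fun i => (w i).left) ∈ K U.left)
    (hK3 : ∀ {W U : Scheme.{u}} (w : W ⟶ U), Etale w → Surjective w → Presieve.singleton w ∈ K U) :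
    IsLocalOnSource τ (LocP P) := by
  intro ι X Xi g hX hXi hg Y f hY
  constructor
  · intro hf i U' V a' b h' ha' hb w'
    have hXV := isAlgSpace_pullback f b hX (IsAlgSpace.yon_obj V) hY
    obtain ⟨U, c, hc, hcs⟩ := hXV.atlas
    let m : (yon S).obj U' ⟶ pullback f b :=
      pullback.lift (a' ≫ g i) ((yon S).map h') (by rw [Category.assoc]; exact w')
    obtain ⟨W, r, s, sq⟩ := exists_isPullback_yon hXV.diag m c
    obtain ⟨h, hh⟩ := (yon S).map_surjective (c ≫ pullback.snd f b)
    let a : (yon S).obj U ⟶ X := c ≫ pullback.fst f b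
    have ha : RepWith @Etale a :=
      MorphismProperty.comp_mem (W := RepWith (@Etale : MorphismProperty Scheme.{u})) _ _ hc
        ((repWith_isStableUnderBaseChange (@Etale : MorphismProperty Scheme.{u})).of_isPullback
          (IsPullback.of_hasPullback f b).flip hb)
    have hr : Etale r.left := etale_snd_of_isPullback sq.flip hc
    have hrs : Surjective r.left := etale_snd_of_isPullback sq.flip hcs
    have hra : RepWith @Etale ((yon S).map r ≫ a') :=
      MorphismProperty.comp_mem (W := RepWith (@Etale : MorphismProperty Scheme.{u})) _ _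
        ((repWith_yon_map_iff _ r).2 hr) ha'
    have hcomm : ((yon S).map r ≫ a') ≫ g i = (yon S).map s ≫ a := by
      have := congrArg (· ≫ pullback.fst f b) sq.w
      simp only [Category.assoc, m, pullback.lift_fst] at this
      rw [Category.assoc]; exact this
    have hQ : Q s.left := hτ Xi g hX hXi hg i _ a s hra ha hcomm
    have hPh : P h.left := hf a b h ha hb (by rw [hh, Category.assoc, Category.assoc, pullback.condition])
    have hrs' : r ≫ h' = s ≫ h := (yon S).map_injective (by
      rw [Functor.map_comp, Functor.map_comp, hh, ← Category.assoc, ← sq.w, Category.assoc,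
        pullback.lift_snd])
    obtain ⟨R, hR, hRs⟩ := hK1 s.left hQ
    have hP' : P (r.left ≫ h'.left) := by
      rw [← Over.comp_left, hrs', Over.comp_left]
      exact MorphismProperty.IsLocalAtSource.comp hR _ hRs hPh
    refine MorphismProperty.IsLocalAtSource.of_forall_comp (hK3 r.left hr hrs) ?_
    rintro _ _ ⟨⟩
    exact hP'
  · intro hi U V a b h ha hb hw
    have hpb : ∀ i, IsAlgSpace (pullback a (g i)) := fun i =>
      isAlgSpace_pullback a (g i) (IsAlgSpace.yon_obj U) (hXi i) hX
    choose W c hc hcs using fun i => (hpb i).atlas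
    choose w hw' using fun i => (yon S).map_surjective (c i ≫ pullback.fst a (g i))
    have ha' : ∀ i, RepWith @Etale (c i ≫ pullback.snd a (g i)) := fun i =>
      MorphismProperty.comp_mem (W := RepWith (@Etale : MorphismProperty Scheme.{u})) _ _ (hc i)
        ((repWith_isStableUnderBaseChange (@Etale : MorphismProperty Scheme.{u})).of_isPullback
          (IsPullback.of_hasPullback a (g i)) ha)
    have e : ∀ i, (c i ≫ pullback.snd a (g i)) ≫ g i = (yon S).map (w i) ≫ a := fun i => by
      rw [hw', Category.assoc, Category.assoc, pullback.condition]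
    have hQ : ∀ i, Q (w i).left := fun i => hτ Xi g hX hXi hg i _ a (w i) (ha' i) ha (e i)
    refine MorphismProperty.IsLocalAtSource.of_forall_comp
      (hK2 Xi g hX hXi hg a W w c hc hcs (fun i => (hw' i).symm) hQ) ?_
    rintro _ _ ⟨i⟩
    have := hi i _ b (w i ≫ h) (ha' i) hb (by
      rw [← Category.assoc, e, Category.assoc, hw, Functor.map_comp, Category.assoc])
    exact this

theorem exists_mem_of_precoverage {Q : MorphismProperty Scheme.{u}} [hQ : Q.ContainsIdentities]
    {W U : Scheme.{u}} (w : W ⟶ U) (hw : Q w) :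
    ∃ R ∈ Scheme.precoverage Q U, R w := by
  let w' : ∀ j : ULift.{u} Bool, cond j.down W U ⟶ U := fun j => match j with
    | ⟨true⟩ => w
    | ⟨false⟩ => 𝟙 U
  refine ⟨Presieve.ofArrows _ w',
    (Scheme.ofArrows_mem_precoverage_iff _).2 ⟨fun x => ⟨⟨false⟩, x, rfl⟩, ?_⟩, Presieve.ofArrows.mk (f := w') ⟨true⟩⟩
  rintro ⟨_ | _⟩
  · exact Q.id_mem U
  · exact hw

theorem singleton_mem_precoverage_of_le {Q : MorphismProperty Scheme.{u}} {W U : Scheme.{u}} (w : W ⟶ U)
    (hw : Q w) (hs : Surjective w) : Presieve.singleton w ∈ Scheme.precoverage Q U := by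
  rw [← Presieve.ofArrows_pUnit.{0}]
  exact (Scheme.ofArrows_mem_precoverage_iff _).2 ⟨fun x => ⟨⟨⟩, hs.surj x⟩, fun _ => hw⟩

theorem mem_precoverage_of_points {ι : Type u} {X : Sp S} {Xi : ι → Sp S} {g : ∀ i, Xi i ⟶ X}
    (hsurj : ∀ x : Points X, ∃ i, x ∈ Set.range (Points.map (g i))) {U : Over S}
    (a : (yon S).obj U ⟶ X) (W : ι → Over S) (w : ∀ i, W i ⟶ U)
    (b : ∀ i, (yon S).obj (W i) ⟶ pullback a (g i)) (hbs : ∀ i, RepWith @Surjective (b i))
    (hb : ∀ i, b i ≫ pullback.fst a (g i) = (yon S).map (w i)) (t : ↥U.left) :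
    ∃ i, t ∈ Set.range (w i).left := by
  obtain ⟨i, y, hy⟩ := hsurj (Points.ofPt a t)
  obtain ⟨z, hz, -⟩ := exists_of_isPullback (IsPullback.of_hasPullback a (g i)) (Points.ofScheme U t) y
    (by rw [← Points.ofPt_eq_map_ofScheme]; exact hy.symm)
  obtain ⟨v, rfl⟩ := surjective_ofPt (hbs i) z
  refine ⟨i, v, ?_⟩
  rw [Points.map_ofPt, hb, Groth.Agent.SpPts86.ofPt_yon_map] at hz
  exact (Points.schemeHomeo U).injective hz

theorem mem_qcPrecoverage {U : Scheme.{u}} {ι : Type u} (W : ι → Scheme.{u}) (w : ∀ i, W i ⟶ U)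
    (h : ∀ Z : U.Opens, IsAffineOpen Z → IsCompactOpenCovered (fun i => (w i).base) (Z : Set U)) :
    Presieve.ofArrows W w ∈ Scheme.qcPrecoverage U := by
  change (PreZeroHypercover.mk ι W w).presieve₀ ∈ Scheme.qcPrecoverage U
  rw [Scheme.presieve₀_mem_qcPrecoverage_iff]
  exact ⟨fun {Z} hZ => h Z hZ⟩

theorem isLocalOnSource_fpqc {P : MorphismProperty Scheme.{u}} [P.IsLocalAtSource Scheme.fpqcPrecoverage] :
    IsLocalOnSource (IsFpqcCover (S := S)) (LocP P) := by
  refine isLocalOnSource_locP_of (Q := @Flat) (K := Scheme.fpqcPrecoverage)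
    (fun _ _ _ _ _ _ h => h.1) (fun {W U} w hw => ?_) ?_ (fun w hw hs => ?_)
  · let W' := fun j : ULift.{u} Bool => cond j.down W U
    let w' : ∀ j, W' j ⟶ U := fun j => match j with | ⟨true⟩ => w | ⟨false⟩ => 𝟙 U
    refine ⟨Presieve.ofArrows W' w', ⟨?_, ?_⟩, Presieve.ofArrows.mk (f := w') ⟨true⟩⟩
    · refine mem_qcPrecoverage W' w' fun Z hZ => ?_
      refine .of_finite (fun _ : Unit => ⟨false⟩) (fun _ => Z) (fun _ => hZ.isCompact) ?_
      rw [Set.iUnion_const]
      exact Set.image_id _
    · refine (Scheme.ofArrows_mem_precoverage_iff _).2 ⟨fun x => ⟨⟨false⟩, x, rfl⟩, ?_⟩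
      rintro ⟨_ | _⟩
      · exact MorphismProperty.id_mem _ U
      · exact hw
  · intro ι X Xi g hX hXi hg U a W w b hb hbs hbw hQ
    have key : ∀ Z : U.left.Opens, IsAffineOpen Z →
        IsCompactOpenCovered (fun i => (w i).left.base) (Z : Set U.left) := by
      intro Z hZ
      let Z' : Over S := Over.mk (Z.ι ≫ U.hom)
      let z : Z' ⟶ U := Over.homMk Z.ι rfl
      haveI : IsAffine Z'.left := hZ
      obtain ⟨m, V, c, hV, -, hsurj, hlift⟩ := hg.2 Z' inferInstance ((yon S).map z ≫ a)
      choose i l hl using hlift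
      haveI := hV
      let l' : ∀ j, (yon S).obj (V j) ⟶ pullback a (g (i j)) := fun j =>
        pullback.lift ((yon S).map (c j ≫ z)) (l j) (by rw [hl, Functor.map_comp, Category.assoc])
      choose V' r s sq using fun j => exists_isPullback_yon
        (isAlgSpace_pullback a (g (i j)) (IsAlgSpace.yon_obj U) (hXi _) hX).diag (l' j) (b (i j))
      choose T σ hT hσ hσs using fun j => exists_affine_surjective (r j).left
        (etale_snd_of_isPullback (sq j).flip (hb _)) (etale_snd_of_isPullback (sq j).flip (hbs _))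
      haveI := hT
      have hfac : ∀ j, s j ≫ w (i j) = r j ≫ c j ≫ z := fun j => (yon S).map_injective (by
        rw [Functor.map_comp, Functor.map_comp, ← hbw, ← Category.assoc, ← (sq j).w, Category.assoc,
          pullback.lift_fst])
      refine .of_comp (fun j => (σ j ≫ (r j ≫ c j ≫ z).left).base) (a := i)
        (fun j => (σ j ≫ (s j).left).base) (fun j => Scheme.Hom.continuous _) (fun j => ?_)
        (fun _ => Scheme.Hom.continuous _) Z.2 ?_
      · rw [← hfac j]; rfl
      · refine .of_finite id (fun _ => ⊤) (fun k => isCompact_univ) ?_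
        ext x
        simp only [Set.mem_iUnion, id_eq, TopologicalSpace.Opens.coe_top, Set.image_univ, Set.mem_range]
        constructor
        · rintro ⟨j, t, rfl⟩
          exact ((c j).left ((r j).left (σ j t))).2
        · intro hx
          obtain ⟨j, v, hv⟩ := hsurj ⟨x, hx⟩
          obtain ⟨t, ht⟩ := (hσs j).surj v
          refine ⟨j, t, ?_⟩
          change z.left ((c j).left ((σ j ≫ (r j).left) t)) = x
          rw [show (σ j ≫ (r j).left) t = v from ht, hv]
          rfl
    refine ⟨mem_qcPrecoverage _ _ key, (Scheme.ofArrows_mem_precoverage_iff _).2 ⟨fun t => ?_, hQ⟩⟩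
    obtain ⟨Z, hZ, ht, -⟩ := exists_isAffineOpen_mem_and_subset (U := (⊤ : U.left.Opens)) (x := t) trivial
    obtain ⟨s, -, V, -, hs⟩ := key Z hZ
    have : t ∈ ⋃ i, ⋃ h : i ∈ s, (w i).left.base '' (V i h) := hs ▸ ht
    simp only [Set.mem_iUnion] at this
    obtain ⟨i, -, y, -, hy⟩ := this
    exact ⟨i, y, hy⟩
  · exact Scheme.fppfPrecoverage_le_fpqcPrecoverage _ (singleton_mem_precoverage_of_le w
      ⟨inferInstance, inferInstance⟩ hs)

theorem containsIdentities_flat_lfp :
    (@Flat ⊓ @LocallyOfFinitePresentation : MorphismProperty Scheme.{u}).ContainsIdentities :=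
  ⟨fun _ => ⟨inferInstance, inferInstance⟩⟩

theorem isLocalOnSource_fppf {P : MorphismProperty Scheme.{u}} [P.IsLocalAtSource Scheme.fppfPrecoverage] :
    IsLocalOnSource (IsFppfCover (S := S)) (LocP P) :=
  isLocalOnSource_locP_of (Q := @Flat ⊓ @LocallyOfFinitePresentation) (K := Scheme.fppfPrecoverage)
    (fun _ _ _ _ _ _ h i _ _ a b k ha hb hw => ⟨(h.1 i).1 a b k ha hb hw, (h.1 i).2 a b k ha hb hw⟩)
    (fun w hw => exists_mem_of_precoverage (hQ := containsIdentities_flat_lfp) w hw)
    (fun _ _ _ _ _ _ hg _ a W w b _ hbs hbw hQ => (Scheme.ofArrows_mem_precoverage_iff _).2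
      ⟨mem_precoverage_of_points hg.2 a W w b hbs hbw, hQ⟩)
    (fun w hw hs => singleton_mem_precoverage_of_le w ⟨inferInstance, inferInstance⟩ hs)

theorem isLocalOnSource_smooth {P : MorphismProperty Scheme.{u}}
    [P.IsLocalAtSource (Scheme.precoverage @Smooth)] :
    IsLocalOnSource (IsSmCover (S := S)) (LocP P) :=
  isLocalOnSource_locP_of (Q := @Smooth) (K := Scheme.precoverage @Smooth)
    (fun _ _ _ _ _ _ h => h.1)
    (fun w hw => exists_mem_of_precoverage (hQ := ⟨fun _ => inferInstanceAs (Smooth (𝟙 _))⟩) w hw)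
    (fun _ _ _ _ _ _ hg _ a W w b _ hbs hbw hQ => (Scheme.ofArrows_mem_precoverage_iff _).2
      ⟨mem_precoverage_of_points hg.2 a W w b hbs hbw, hQ⟩)
    (fun w hw hs => singleton_mem_precoverage_of_le (Q := (@Smooth : MorphismProperty Scheme.{u})) w inferInstance hs)

theorem isLocalOnSource_etale {P : MorphismProperty Scheme.{u}}
    [P.IsLocalAtSource Scheme.etalePrecoverage] :
    IsLocalOnSource (IsEtCover (S := S)) (LocP P) :=
  isLocalOnSource_locP_of (Q := @Etale) (K := Scheme.etalePrecoverage)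
    (fun _ _ _ _ hX hXi h i => (isEtaleMor_iff_locP _ (hXi i) hX).1 (h.1 i))
    (fun w hw => exists_mem_of_precoverage w hw)
    (fun _ _ _ _ _ _ hg _ a W w b _ hbs hbw hQ => (Scheme.ofArrows_mem_precoverage_iff _).2
      ⟨mem_precoverage_of_points hg.2 a W w b hbs hbw, hQ⟩)
    (fun w hw hs => singleton_mem_precoverage_of_le (Q := (@Etale : MorphismProperty Scheme.{u})) w hw hs)

end Groth.Agent.SpFP87
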