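import Groth.Agent.SpFP87.FlatDesc
import Groth.Agent.Unr55.FppfScheme
import Groth.Agent.SpPts86.LocPMore
import Groth.Agent.SpFP87.EtLocInst
import Groth.Agent.SpFP87.Covers
import Groth.Agent.SpPts86.Target
import Groth.Agent.Desc59.FlatPure
/-!
Finite type and finite presentation descend along locally surjective maps.
-/

set_option autoImplicit false
set_option linter.style.haveILetI false
set_option backward.isDefEq.respectTransparency false
universe u
open CategoryTheory CategoryTheory.Limits AlgebraicGeometry Opposite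
open AlgSp
open Groth.Agent.SpPts86

namespace Groth.Agent.SpFP87

variable {S : Scheme.{u}}

theorem locP_of_covLift {P Q : MorphismProperty Scheme.{u}} [EtLoc P]
    (hP : ∀ {U V T V' : Scheme.{u}} (j : U ⟶ V) (k : V ⟶ T) (d : V' ⟶ V) (l : V' ⟶ U), Q j →
      Flat d → LocallyOfFinitePresentation d → Surjective d → l ≫ j = d → P (j ≫ k) → P k)
    {X Y Z : Sp S} {g : X ⟶ Y} {h : Y ⟶ Z} (hX : IsAlgSpace X)
    (hY : IsAlgSpace Y) (hZ : IsAlgSpace Z) (hg : CovLift g) (hgQ : LocP Q g) (hgh : LocP P (g ≫ h)) :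
    LocP P h := by
  obtain ⟨T, e, he, hes⟩ := hZ.atlas
  obtain ⟨V, b, k, hb, hbs, w⟩ := exists_compatible_chart h hY hZ.diag he hes
  have hXV := isAlgSpace_pullback g b hX (IsAlgSpace.yon_obj V) hY
  obtain ⟨U, c, hc, hcs⟩ := hXV.atlas
  obtain ⟨j, hj⟩ := (yon S).map_surjective (c ≫ pullback.snd g b)
  let a : (yon S).obj U ⟶ X := c ≫ pullback.fst g b
  have ha : RepWith @Etale a :=
    MorphismProperty.comp_mem (W := RepWith (@Etale : MorphismProperty Scheme.{u})) _ _ hc
      ((repWith_isStableUnderBaseChange (@Etale : MorphismProperty Scheme.{u})).of_isPullback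
        (IsPullback.of_hasPullback g b).flip hb)
  have hjk : P (j ≫ k).left := hgh a e (j ≫ k) ha he (by
    rw [Functor.map_comp, hj]
    simp only [a, Category.assoc]
    rw [pullback.condition_assoc, w])
  obtain ⟨W, cw, l, hfl, hfp, hsurj, hl⟩ := exists_fppf_lifts hg b
  choose W' r s sq using fun t => exists_isPullback_yon hXV.diag c
    (pullback.lift (l t) ((yon S).map (cw t)) (hl t))
  have hs : ∀ t, Etale (s t).left := fun t => etale_snd_of_isPullback (sq t) hc
  have hss : ∀ t, Surjective (s t).left := fun t => etale_snd_of_isPullback (sq t) hcs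
  have hrs : ∀ t, r t ≫ j = s t ≫ cw t := fun t => (yon S).map_injective (by
    rw [Functor.map_comp, Functor.map_comp, hj, ← Category.assoc, (sq t).w, Category.assoc,
      pullback.lift_snd])
  refine locP_of_chart (h := k) hY.diag hZ.diag hb hbs he w ?_
  let d : ∐ (fun t => (W' t).left) ⟶ V.left := Sigma.desc fun t => ((s t).left ≫ (cw t).left)
  haveI : Flat d := IsZariskiLocalAtSource.sigmaDesc fun t => by
    haveI := hs t; haveI := hfl t; exact inferInstance
  haveI : Surjective d := ⟨fun v => by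
    obtain ⟨w', hw'⟩ := hsurj v
    obtain ⟨v', hv'⟩ := (hss v).surj w'
    refine ⟨(Sigma.ι (fun t => (W' t).left) v).base v', ?_⟩
    refine (congrArg (fun m : (W' v).left ⟶ V.left => m.base v')
      (Sigma.ι_desc (fun t => (s t).left ≫ (cw t).left) v)).trans ?_
    change (cw v).left ((s v).left v') = v
    rw [hv', hw']⟩
  haveI : IsZariskiLocalAtSource (@LocallyOfFinitePresentation : MorphismProperty Scheme.{u}) :=
    HasRingHomProperty.instIsZariskiLocalAtSource (Q := RingHom.FinitePresentation)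
  haveI : LocallyOfFinitePresentation d := IsZariskiLocalAtSource.sigmaDesc fun t => by
    haveI := hs t; haveI := hfp t; exact inferInstance
  refine hP j.left k.left d (Sigma.desc fun t => (r t).left) (hgQ a b j ha hb ?_) inferInstance inferInstance inferInstance ?_ hjk
  · rw [hj]
    simp only [a, Category.assoc]
    rw [pullback.condition]
  refine Sigma.hom_ext _ _ fun t => ?_
  rw [Sigma.ι_desc_assoc, Sigma.ι_desc]
  exact congrArg CommaMorphism.left (hrs t)

/-- Finite type descends along morphisms with fppf local sections. -/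
theorem lft_of_comp_of_section {U V T V' : Scheme.{u}} (j : U ⟶ V) (k : V ⟶ T) (d : V' ⟶ V)
    (l : V' ⟶ U) [Flat d] [LocallyOfFinitePresentation d] [Surjective d] (hl : l ≫ j = d)
    [LocallyOfFiniteType (j ≫ k)] : LocallyOfFiniteType k := by
  let s : V' ⟶ pullback d j := pullback.lift (𝟙 V') l (by rw [Category.id_comp, hl])
  haveI : IsImmersion (s ≫ pullback.fst d j) := by rw [pullback.lift_fst]; infer_instance
  haveI : IsImmersion s := IsImmersion.of_comp s (pullback.fst d j)
  haveI : LocallyOfFiniteType (d ≫ k) := by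
    have e : d ≫ k = s ≫ pullback.snd d j ≫ j ≫ k := by rw [pullback.lift_snd_assoc, ← hl, Category.assoc]
    rw [e]; infer_instance
  exact Groth.Agent.Unr55.locallyOfFiniteType_of_fppf_comp d k

/-- Finite presentation descends along morphisms with fppf local sections. -/
theorem lfp_of_comp_of_section {U V T V' : Scheme.{u}} (j : U ⟶ V) (k : V ⟶ T) (d : V' ⟶ V)
    (l : V' ⟶ U) [Flat d] [LocallyOfFinitePresentation d] [Surjective d] (hl : l ≫ j = d)
    [LocallyOfFinitePresentation (j ≫ k)] : LocallyOfFinitePresentation k := by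
  let s : V' ⟶ pullback d j := pullback.lift (𝟙 V') l (by rw [Category.id_comp, hl])
  haveI : LocallyOfFiniteType (pullback.fst d j ≫ d ≫ k) := by
    rw [pullback.condition_assoc]; infer_instance
  haveI : LocallyOfFiniteType (pullback.fst d j) := locallyOfFiniteType_of_comp _ (d ≫ k)
  haveI : LocallyOfFinitePresentation (s ≫ pullback.fst d j) := by rw [pullback.lift_fst]; infer_instance
  haveI : LocallyOfFinitePresentation s := Groth.Agent.SpPts86.lfp_of_comp s (pullback.fst d j)
  haveI : LocallyOfFinitePresentation (d ≫ k) := by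
    have e : d ≫ k = s ≫ pullback.snd d j ≫ j ≫ k := by rw [pullback.lift_snd_assoc, ← hl, Category.assoc]
    rw [e]; infer_instance
  exact Groth.Agent.Unr55.locallyOfFinitePresentation_of_fppf_comp d k

/-- A jointly surjective fppf morphism of algebraic spaces has covering lifts. -/
theorem covLift_of_fppf {X Y : Sp S} (f : X ⟶ Y) (hX : IsAlgSpace X) (hY : IsAlgSpace Y)
    (hs : IsSurjectiveMor f) (hfl : LocP @Flat f) (hfp : LocP @LocallyOfFinitePresentation f) :
    CovLift f := by
  intro T g
  obtain ⟨V, c, l, hc, hsurj, hl⟩ := exists_fppf_family (fun _ : PUnit.{u + 1} => X) (fun _ => f) hY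
    (fun _ => hX) ⟨fun _ => ⟨hfl, hfp⟩, fun y => ⟨PUnit.unit, hs y⟩⟩ g
  refine ⟨_, ofArrows_mem_of_fppf V c hc hsurj, ?_⟩
  rintro W' d ⟨_, m, _, ⟨i⟩, rfl⟩
  exact ⟨(yon S).map m ≫ l i, by rw [Category.assoc, hl, Functor.map_comp, Category.assoc]⟩

/-- Being etale descends along fppf morphisms of the source. -/
theorem etale_of_fppf_comp {U V T : Scheme.{u}} (j : U ⟶ V) (k : V ⟶ T) [Flat j]
    [LocallyOfFinitePresentation j] [Surjective j] [Etale (j ≫ k)] : Etale k := by
  haveI : FormallyUnramified j := .of_comp j k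
  have hj : Etale j := Etale.of_formallyUnramified_of_flat j
  exact EtLoc.of_cover (P := (@Etale : MorphismProperty Scheme.{u})) j k hj inferInstance ‹_›

theorem locP_smooth_of_fppf_comp {X Y B : Sp S} {f : X ⟶ Y} {q : Y ⟶ B} (hX : IsAlgSpace X)
    (hY : IsAlgSpace Y) (hB : IsAlgSpace B) (hs : IsSurjectiveMor f) (hfl : LocP @Flat f)
    (hfp : LocP @LocallyOfFinitePresentation f) (h : LocP @Smooth (f ≫ q)) : LocP @Smooth q := by
  refine locP_of_covLift (Q := (@Flat ⊓ @LocallyOfFinitePresentation : MorphismProperty Scheme.{u}))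
    (fun j k d l hj hd1 hd2 hd3 hl hjk => ?_) hX hY hB (covLift_of_fppf f hX hY hs hfl hfp)
    (fun _ _ a b k ha hb w => ⟨hfl a b k ha hb w, hfp a b k ha hb w⟩) h
  haveI := hj.1; haveI := hj.2; haveI := hd3; haveI := hjk
  haveI : Surjective (l ≫ j) := hl.symm ▸ hd3
  haveI : Surjective j := Surjective.of_comp l j
  exact Groth.Agent.Unr55.smooth_of_fppf_comp j k

theorem locP_etale_of_fppf_comp {X Y B : Sp S} {f : X ⟶ Y} {q : Y ⟶ B} (hX : IsAlgSpace X)
    (hY : IsAlgSpace Y) (hB : IsAlgSpace B) (hs : IsSurjectiveMor f) (hfl : LocP @Flat f)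
    (hfp : LocP @LocallyOfFinitePresentation f) (h : LocP @Etale (f ≫ q)) : LocP @Etale q := by
  refine locP_of_covLift (Q := (@Flat ⊓ @LocallyOfFinitePresentation : MorphismProperty Scheme.{u}))
    (fun j k d l hj hd1 hd2 hd3 hl hjk => ?_) hX hY hB (covLift_of_fppf f hX hY hs hfl hfp)
    (fun _ _ a b k ha hb w => ⟨hfl a b k ha hb w, hfp a b k ha hb w⟩) h
  haveI := hj.1; haveI := hj.2; haveI := hd3; haveI := hjk
  haveI : Surjective (l ≫ j) := hl.symm ▸ hd3
  haveI : Surjective j := Surjective.of_comp l j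
  exact etale_of_fppf_comp j k

theorem locP_lfp_of_covLift {X Y Z : Sp S} {g : X ⟶ Y} {h : Y ⟶ Z} (hX : IsAlgSpace X)
    (hY : IsAlgSpace Y) (hZ : IsAlgSpace Z) (hg : CovLift g)
    (hgh : LocP @LocallyOfFinitePresentation (g ≫ h)) : LocP @LocallyOfFinitePresentation h :=
  locP_of_covLift (Q := (⊤ : MorphismProperty Scheme.{u}))
    (fun j k d l _ hd1 hd2 hd3 hl hjk => by
      haveI := hd1; haveI := hd2; haveI := hd3; haveI := hjk
      exact lfp_of_comp_of_section j k d l hl) hX hY hZ hg (fun _ _ _ _ _ _ _ _ => trivial) hgh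

theorem locP_lft_of_covLift {X Y Z : Sp S} {g : X ⟶ Y} {h : Y ⟶ Z} (hX : IsAlgSpace X)
    (hY : IsAlgSpace Y) (hZ : IsAlgSpace Z) (hg : CovLift g)
    (hgh : LocP @LocallyOfFiniteType (g ≫ h)) : LocP @LocallyOfFiniteType h :=
  locP_of_covLift (Q := (⊤ : MorphismProperty Scheme.{u}))
    (fun j k d l _ hd1 hd2 hd3 hl hjk => by
      haveI := hd1; haveI := hd2; haveI := hd3; haveI := hjk
      exact lft_of_comp_of_section j k d l hl) hX hY hZ hg (fun _ _ _ _ _ _ _ _ => trivial) hgh

end Groth.Agent.SpFP87
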