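import Groth.Agent.SpFP87.FamDesc
import Groth.Agent.SpFP87.Cover
import Mathlib.AlgebraicGeometry.Limits
/-!
Pullbacks along a disjoint union of schemes.
-/

set_option autoImplicit false
set_option linter.style.haveILetI false
universe u
open CategoryTheory CategoryTheory.Limits AlgebraicGeometry Opposite
open AlgSp

namespace Groth.Agent.SpFP87

variable {S : Scheme.{u}}

theorem yon_hom_ext_of_isEmpty {F : Sp S} {X : Over S} [IsEmpty X.left] (a b : (yon S).obj X ⟶ F) : a = b :=
  fam_hom_ext (ι := PEmpty.{u + 1}) (fun e => e.elim) (fun e => e.elim) (fun e => e.elim)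
    (fun t => (IsEmpty.false t).elim) fun e => e.elim

variable {κ : Type u}

/-- The disjoint union of a family of schemes over `S`. -/
noncomputable def sigmaOver (W : κ → Over S) : Over S := Over.mk (Sigma.desc fun k => (W k).hom)

/-- The inclusion of a member. -/
noncomputable def sigmaIncl (W : κ → Over S) (k : κ) : W k ⟶ sigmaOver W :=
  Over.homMk (Sigma.ι (fun k => (W k).left) k) (Sigma.ι_desc _ _)

theorem sigmaIncl_isOpenImmersion (W : κ → Over S) (k : κ) : IsOpenImmersion (sigmaIncl W k).left :=
  inferInstanceAs (IsOpenImmersion (Sigma.ι (fun k => (W k).left) k))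

theorem exists_sigmaIncl (W : κ → Over S) (x : ↥(sigmaOver W).left) :
    ∃ k, x ∈ Set.range (sigmaIncl W k).left := by
  obtain ⟨⟨k, y⟩, hy⟩ := (sigmaMk (fun k => (W k).left)).surjective x
  refine ⟨k, y, ?_⟩
  rw [← hy, sigmaMk_mk]
  rfl

theorem sigmaIncl_range_eq (W : κ → Over S) {k l : κ} {y : ↥(W k).left} {y' : ↥(W l).left}
    (h : (sigmaIncl W k).left y = (sigmaIncl W l).left y') : k = l := by
  have : (sigmaMk (fun k => (W k).left)) ⟨k, y⟩ = (sigmaMk (fun k => (W k).left)) ⟨l, y'⟩ := by
    rw [sigmaMk_mk, sigmaMk_mk]; exact h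
  exact congrArg Sigma.fst ((sigmaMk (fun k => (W k).left)).injective this)

theorem sigma_existsUnique_desc (W : κ → Over S) {F : Sp S} (e : ∀ k, (yon S).obj (W k) ⟶ F) :
    ∃! a : (yon S).obj (sigmaOver W) ⟶ F, ∀ k, (yon S).map (sigmaIncl W k) ≫ a = e k := by
  refine fam_existsUnique_desc W (sigmaIncl W)
    (fun k => by haveI := sigmaIncl_isOpenImmersion W k; exact ⟨inferInstance, inferInstance⟩)
    (exists_sigmaIncl W) e fun k l Z p q hpq => ?_
  by_cases hkl : k = l
  · subst hkl
    haveI := sigmaIncl_isOpenImmersion W k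
    have hmono : p = q := Over.OverMorphism.ext
      ((cancel_mono (sigmaIncl W k).left).1 (congrArg CommaMorphism.left hpq))
    rw [hmono]
  · haveI : IsEmpty Z.left :=
      ⟨fun z => hkl (sigmaIncl_range_eq W congr($(congrArg CommaMorphism.left hpq) z))⟩
    exact yon_hom_ext_of_isEmpty _ _

theorem exists_pullback_sigma {F G : Sp S} (f : F ⟶ G) (W : κ → Over S)
    (g : (yon S).obj (sigmaOver W) ⟶ G) (A : κ → Over S) (a : ∀ k, (yon S).obj (A k) ⟶ F)
    (s : ∀ k, A k ⟶ W k)
    (sq : ∀ k, IsPullback (a k) ((yon S).map (s k)) f ((yon S).map (sigmaIncl W k) ≫ g))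
    (P : MorphismProperty Scheme.{u}) [IsZariskiLocalAtTarget P] (hP : ∀ k, P (s k).left) :
    ∃ (B : Over S) (b : (yon S).obj B ⟶ F) (t : B ⟶ sigmaOver W),
      IsPullback b ((yon S).map t) f g ∧ P t.left := by
  obtain ⟨b, hb, -⟩ := sigma_existsUnique_desc A a
  let t : sigmaOver A ⟶ sigmaOver W :=
    Over.homMk (Sigma.desc fun k => (s k).left ≫ (sigmaIncl W k).left) (by
      refine Sigma.hom_ext _ _ fun k => ?_
      refine ((Category.assoc _ _ _).symm.trans
        (congrArg (· ≫ (sigmaOver W).hom) (Sigma.ι_desc (fun k => (s k).left ≫ (sigmaIncl W k).left) k))).trans ?_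
      exact ((Category.assoc _ _ _).trans (congrArg (_ ≫ ·) (Over.w (sigmaIncl W k)))).trans
        ((Over.w (s k)).trans (Sigma.ι_desc (fun k => (A k).hom) k).symm))
  have ht : ∀ k, sigmaIncl A k ≫ t = s k ≫ sigmaIncl W k := fun k =>
    Over.OverMorphism.ext (Sigma.ι_desc (fun k => (s k).left ≫ (sigmaIncl W k).left) k)
  have hcomm : b ≫ f = (yon S).map t ≫ g := by
    refine (sigma_existsUnique_desc A (fun k => a k ≫ f)).unique (fun k => by rw [← Category.assoc, hb]) fun k => ?_
    rw [← Functor.map_comp_assoc, ht, Functor.map_comp_assoc, (sq k).w]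
  have hpre : ∀ k (x : ↥(sigmaOver A).left), t.left x ∈ Set.range (sigmaIncl W k).left →
      x ∈ Set.range (sigmaIncl A k).left := by
    rintro k x ⟨y, hy⟩
    obtain ⟨l, z, rfl⟩ := exists_sigmaIncl A x
    have h1 : t.left ((sigmaIncl A l).left z) = (sigmaIncl W l).left ((s l).left z) :=
      congr($(congrArg CommaMorphism.left (ht l)) z)
    obtain rfl : k = l := sigmaIncl_range_eq W (hy.trans h1)
    exact ⟨z, rfl⟩
  -- maps into the pullback are determined
  have huniq : ∀ {X : Over S} (u u' : X ⟶ sigmaOver A), u ≫ t = u' ≫ t →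
      (yon S).map u ≫ b = (yon S).map u' ≫ b → u = u' := by
    intro X u u' h1 h2
    apply (yon S).map_injective
    let O : κ → X.left.Opens := fun k => (u ≫ t).left ⁻¹ᵁ
      (haveI := sigmaIncl_isOpenImmersion W k; (sigmaIncl W k).left.opensRange)
    refine fam_hom_ext (fun k => Over.mk ((O k).ι ≫ X.hom)) (fun k => Over.homMk (O k).ι rfl)
      (fun k => ⟨inferInstanceAs (Flat (O k).ι), inferInstanceAs (LocallyOfFinitePresentation (O k).ι)⟩)
      (fun x => ?_) fun k => ?_
    · obtain ⟨k, hk⟩ := exists_sigmaIncl W ((u ≫ t).left x)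
      exact ⟨k, ⟨x, hk⟩, rfl⟩
    let o : (Over.mk ((O k).ι ≫ X.hom) : Over S) ⟶ X := Over.homMk (O k).ι rfl
    have hfac : ∀ v : X ⟶ sigmaOver A, v ≫ t = u ≫ t → ∃ w, w ≫ sigmaIncl A k = o ≫ v := by
      intro v hv
      haveI := sigmaIncl_isOpenImmersion A k
      have hr : Set.range (o ≫ v).left ⊆ Set.range (sigmaIncl A k).left := by
        rintro _ ⟨x, rfl⟩
        refine hpre k _ ?_
        have : (u ≫ t).left x.1 ∈ Set.range (sigmaIncl W k).left := x.2
        rw [← hv] at this
        exact this
      exact ⟨Over.homMk (IsOpenImmersion.lift (sigmaIncl A k).left (o ≫ v).left hr)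
        (by rw [← Over.w (sigmaIncl A k), IsOpenImmersion.lift_fac_assoc]; exact Over.w (o ≫ v)),
        Over.OverMorphism.ext (IsOpenImmersion.lift_fac _ _ hr)⟩
    obtain ⟨w, hw⟩ := hfac u rfl
    obtain ⟨w', hw'⟩ := hfac u' h1.symm
    have hww : (yon S).map w = (yon S).map w' := by
      refine (sq k).hom_ext ?_ ?_
      · rw [← hb k, ← Functor.map_comp_assoc, hw, ← Functor.map_comp_assoc, hw', Functor.map_comp_assoc, Functor.map_comp_assoc, h2]
      · rw [← Functor.map_comp, ← Functor.map_comp]
        congr 1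
        haveI := sigmaIncl_isOpenImmersion W k
        refine Over.OverMorphism.ext ((cancel_mono (sigmaIncl W k).left).1 ?_)
        have e : (w ≫ s k) ≫ sigmaIncl W k = (w' ≫ s k) ≫ sigmaIncl W k := by
          rw [Category.assoc, ← ht, ← Category.assoc, hw, Category.assoc, h1, ← Category.assoc, ← hw',
            Category.assoc, ht, Category.assoc]
        exact congrArg CommaMorphism.left e
    show (yon S).map o ≫ (yon S).map u = (yon S).map o ≫ (yon S).map u'
    rw [← Functor.map_comp, ← Functor.map_comp, ← hw, ← hw', Functor.map_comp, Functor.map_comp, hww]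
  refine ⟨sigmaOver A, b, t, ?_, ?_⟩
  · let φ : (yon S).obj (sigmaOver A) ⟶ pullback f g := pullback.lift b ((yon S).map t) hcomm
    haveI : IsIso φ := by
      refine isIso_of_probe φ fun X r => ?_
      obtain ⟨z, hz⟩ := (yon S).map_surjective (r ≫ pullback.snd f g)
      let O : κ → X.left.Opens := fun k => z.left ⁻¹ᵁ
        (haveI := sigmaIncl_isOpenImmersion W k; (sigmaIncl W k).left.opensRange)
      let o : ∀ k, (Over.mk ((O k).ι ≫ X.hom) : Over S) ⟶ X := fun k => Over.homMk (O k).ι rfl
      have hex : ∀ k, ∃ v : (Over.mk ((O k).ι ≫ X.hom) : Over S) ⟶ sigmaOver A,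
          v ≫ t = o k ≫ z ∧ (yon S).map v ≫ b = (yon S).map (o k) ≫ r ≫ pullback.fst f g := by
        intro k
        haveI := sigmaIncl_isOpenImmersion W k
        have hr : Set.range (o k ≫ z).left ⊆ Set.range (sigmaIncl W k).left := by
          rintro _ ⟨x, rfl⟩
          exact x.2
        obtain ⟨zk, hzk⟩ : ∃ zk, zk ≫ sigmaIncl W k = o k ≫ z :=
          ⟨Over.homMk (IsOpenImmersion.lift (sigmaIncl W k).left (o k ≫ z).left hr)
            (by rw [← Over.w (sigmaIncl W k), IsOpenImmersion.lift_fac_assoc]; exact Over.w (o k ≫ z)),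
            Over.OverMorphism.ext (IsOpenImmersion.lift_fac _ _ hr)⟩
        have hw : ((yon S).map (o k) ≫ r ≫ pullback.fst f g) ≫ f =
            (yon S).map zk ≫ (yon S).map (sigmaIncl W k) ≫ g := by
          rw [← Functor.map_comp_assoc, hzk, Functor.map_comp_assoc, hz, Category.assoc, Category.assoc,
            Category.assoc, pullback.condition]
        obtain ⟨v, hv⟩ := (yon S).map_surjective ((sq k).lift _ _ hw)
        have hvs : v ≫ s k = zk := (yon S).map_injective (by rw [Functor.map_comp, hv, (sq k).lift_snd])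
        refine ⟨v ≫ sigmaIncl A k, ?_, ?_⟩
        · rw [Category.assoc, ht, ← Category.assoc, hvs, hzk]
        · rw [Functor.map_comp_assoc, hb, hv, (sq k).lift_fst]
      choose v hv1 hv2 using hex
      have hcov : ∀ x : ↥X.left, ∃ k, x ∈ Set.range (o k).left := fun x => by
        obtain ⟨k, hk⟩ := exists_sigmaIncl W (z.left x)
        exact ⟨k, ⟨x, hk⟩, rfl⟩
      obtain ⟨u₀, hu₀, -⟩ := fam_existsUnique_desc _ o
        (fun k => ⟨inferInstanceAs (Flat (O k).ι), inferInstanceAs (LocallyOfFinitePresentation (O k).ι)⟩)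
        hcov (fun k => (yon S).map (v k)) fun k l Z p q hpq => by
          rw [← Functor.map_comp, ← Functor.map_comp]
          refine congrArg (yon S).map (huniq _ _ ?_ ?_)
          · rw [Category.assoc, hv1, Category.assoc, hv1, ← Category.assoc, hpq, Category.assoc]
          · rw [Functor.map_comp_assoc, hv2, Functor.map_comp_assoc, hv2, ← Functor.map_comp_assoc, hpq,
              Functor.map_comp_assoc]
      refine ⟨u₀, ?_, fun y hy => ?_⟩
      · refine pullback.hom_ext ?_ ?_
        · rw [Category.assoc, pullback.lift_fst]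
          refine fam_hom_ext _ o (fun k => ⟨inferInstanceAs (Flat (O k).ι), inferInstanceAs (LocallyOfFinitePresentation (O k).ι)⟩) hcov fun k => ?_
          rw [← Category.assoc, hu₀, hv2]
        · rw [Category.assoc, pullback.lift_snd]
          refine fam_hom_ext _ o (fun k => ⟨inferInstanceAs (Flat (O k).ι), inferInstanceAs (LocallyOfFinitePresentation (O k).ι)⟩) hcov fun k => ?_
          rw [← Category.assoc, hu₀, ← Functor.map_comp, hv1, Functor.map_comp, hz]
      · obtain ⟨y', rfl⟩ := (yon S).map_surjective y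
        obtain ⟨u', rfl⟩ := (yon S).map_surjective u₀
        refine congrArg (yon S).map ?_
        have hu' : ∀ k, o k ≫ u' = v k := fun k => (yon S).map_injective (by rw [Functor.map_comp, hu₀])
        have e1 : (yon S).map y' ≫ b = r ≫ pullback.fst f g := by
          rw [← hy, Category.assoc, pullback.lift_fst]
        have e2 : y' ≫ t = z := (yon S).map_injective (by
          rw [Functor.map_comp, hz, ← hy, Category.assoc, pullback.lift_snd])
        apply (yon S).map_injective
        refine fam_hom_ext _ o (fun k => ⟨inferInstanceAs (Flat (O k).ι), inferInstanceAs (LocallyOfFinitePresentation (O k).ι)⟩) hcov fun k => ?_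
        rw [← Functor.map_comp, ← Functor.map_comp, hu']
        refine congrArg (yon S).map (huniq _ _ ?_ ?_)
        · rw [Category.assoc, e2, hv1]
        · rw [Functor.map_comp_assoc, e1, hv2]
    exact IsPullback.of_iso_pullback ⟨hcomm⟩ (asIso φ) (pullback.lift_fst _ _ _) (pullback.lift_snd _ _ _)
  · refine (IsZariskiLocalAtTarget.iff_of_openCover (P := P) (f := t.left)
      (sigmaOpenCover (fun k => (W k).left))).2 fun k => ?_
    have hsq : IsPullback (sigmaIncl A k).left (s k).left t.left (sigmaIncl W k).left := by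
      haveI := sigmaIncl_isOpenImmersion A k
      haveI := sigmaIncl_isOpenImmersion W k
      refine (IsOpenImmersion.isPullback (s k).left (sigmaIncl A k).left (sigmaIncl W k).left t.left
        (congrArg CommaMorphism.left (ht k)) ?_).flip
      ext x
      exact ⟨hpre k x, fun ⟨y, hy⟩ => ⟨(s k).left y, by
        rw [← hy]; exact congr($(congrArg CommaMorphism.left (ht k).symm) y)⟩⟩
    change P (pullback.snd t.left (sigmaIncl W k).left)
    rw [← hsq.isoPullback_inv_snd, P.cancel_left_of_respectsIso]
    exact hP k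

end Groth.Agent.SpFP87
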