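import Groth.Agent.SpFP87.FpqcSheafLocal
import Groth.Agent.SpFP87.RepSigma
/-!
Maps to an algebraic space satisfy the sheaf condition for fpqc coverings.
-/

set_option autoImplicit false
set_option linter.style.haveILetI false
set_option backward.isDefEq.respectTransparency false
universe u
open CategoryTheory CategoryTheory.Limits AlgebraicGeometry Opposite
open AlgSp

namespace Groth.Agent.SpFP87

variable {S : Scheme.{u}} {ι : Type u} {T B : Sp S} {Ti : ι → Sp S}

/-- The condition on a map from a scheme over `T` to be compatible with the given maps on the covering. -/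
def AgreeWith (g : ∀ i, Ti i ⟶ T) (bi : ∀ i, Ti i ⟶ B) {W : Over S} (z : (yon S).obj W ⟶ T)
    (h : (yon S).obj W ⟶ B) : Prop :=
  ∀ (W' : Over S) (k : W' ⟶ W) (i : ι) (l : (yon S).obj W' ⟶ Ti i),
    l ≫ g i = (yon S).map k ≫ z → (yon S).map k ≫ h = l ≫ bi i

variable {g : ∀ i, Ti i ⟶ T} {bi : ∀ i, Ti i ⟶ B}

theorem AgreeWith.comp {W W' : Over S} {z : (yon S).obj W ⟶ T} {h : (yon S).obj W ⟶ B}
    (hh : AgreeWith g bi z h) (k : W' ⟶ W) : AgreeWith g bi ((yon S).map k ≫ z) ((yon S).map k ≫ h) :=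
  fun W'' k' i l hl => by
    rw [← Functor.map_comp_assoc]
    exact hh W'' (k' ≫ k) i l (by rw [hl, Functor.map_comp_assoc])

/-- An affine scheme over `T` has a flat quasi-compact cover lifting to the covering. -/
theorem exists_qc_lift (hg : IsFpqcCover Ti g) (Z : Over S) (hZ : IsAffine Z.left)
    (z : (yon S).obj Z ⟶ T) :
    ∃ (m : ℕ) (W : ULift.{u} (Fin m) → Over S) (c : sigmaOver W ⟶ Z),
      Flat c.left ∧ Surjective c.left ∧ QuasiCompact c.left ∧ CompactSpace ↥(sigmaOver W).left ∧
      ∀ j, ∃ (i : ι) (l : (yon S).obj (W j) ⟶ Ti i),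
        l ≫ g i = (yon S).map (sigmaIncl W j) ≫ (yon S).map c ≫ z := by
  obtain ⟨m, W₀, c₀, hW, hfl, hsurj, hlift⟩ := hg.2 Z hZ z
  let W : ULift.{u} (Fin m) → Over S := fun j => W₀ j.down
  haveI := hZ
  haveI : ∀ j, IsAffine (W j).left := fun j => hW j.down
  let c : sigmaOver W ⟶ Z := Over.homMk (Sigma.desc fun j => (c₀ j.down).left)
    (Sigma.hom_ext _ _ fun j => (Sigma.ι_desc_assoc (fun j : ULift.{u} (Fin m) => (c₀ j.down).left) j Z.hom).trans
      ((Over.w (c₀ j.down)).trans (Sigma.ι_desc (fun k => (W k).hom) j).symm))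
  have hc : ∀ j, sigmaIncl W j ≫ c = c₀ j.down := fun j =>
    Over.OverMorphism.ext (Sigma.ι_desc (fun j : ULift.{u} (Fin m) => (c₀ j.down).left) j)
  haveI hA : IsAffine (sigmaOver W).left :=
    inferInstanceAs (IsAffine (∐ fun j : ULift.{u} (Fin m) => (W j).left))
  haveI : IsZariskiLocalAtSource (@Flat : MorphismProperty Scheme.{u}) :=
    HasRingHomProperty.instIsZariskiLocalAtSource (Q := RingHom.Flat)
  refine ⟨m, W, c, IsZariskiLocalAtSource.sigmaDesc (P := (@Flat : MorphismProperty Scheme.{u}))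
    (fun j => hfl j.down), ⟨fun x => ?_⟩, inferInstance, inferInstance, fun j => ?_⟩
  · obtain ⟨j, w, rfl⟩ := hsurj x
    exact ⟨(sigmaIncl W ⟨j⟩).left w, congr($(congrArg CommaMorphism.left (hc ⟨j⟩)) w)⟩
  · obtain ⟨i, l, hl⟩ := hlift j.down
    exact ⟨i, l, by rw [hl, ← Functor.map_comp_assoc, hc]⟩

theorem AgreeWith.unique (hB : IsAlgSpace B) (hg : IsFpqcCover Ti g) {W : Over S}
    {z : (yon S).obj W ⟶ T} {h h' : (yon S).obj W ⟶ B} (hh : AgreeWith g bi z h)
    (hh' : AgreeWith g bi z h') : h = h' := by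
  obtain ⟨hflat, hsurj⟩ := affineOpens_cover W
  refine fam_hom_ext _ _ hflat hsurj fun V => ?_
  let Z : Over S := Over.mk (V.1.ι ≫ W.hom)
  let v : Z ⟶ W := Over.homMk V.1.ι rfl
  obtain ⟨m, W', c, hc1, hc2, hc3, -, hlift⟩ := exists_qc_lift hg Z V.2 ((yon S).map v ≫ z)
  haveI := hc1; haveI := hc2; haveI := hc3
  refine hom_ext_of_flat_qc hB c _ _ ?_
  obtain ⟨_, -, hu⟩ := sigma_existsUnique_desc W' fun j => (yon S).map (sigmaIncl W' j) ≫ (yon S).map c ≫ (yon S).map v ≫ h
  refine (hu _ fun j => rfl).trans (hu _ fun j => ?_).symm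
  obtain ⟨i, l, hl⟩ := hlift j
  have e1 : l ≫ g i = (yon S).map (sigmaIncl W' j ≫ c ≫ v) ≫ z := by
    rw [hl, Functor.map_comp, Functor.map_comp, Category.assoc, Category.assoc]
  have e2 : ∀ k : (yon S).obj W ⟶ B, (yon S).map (sigmaIncl W' j ≫ c ≫ v) ≫ k =
      (yon S).map (sigmaIncl W' j) ≫ (yon S).map c ≫ (yon S).map v ≫ k := fun k => by
    rw [Functor.map_comp, Functor.map_comp, Category.assoc, Category.assoc]
  exact (e2 h').symm.trans (((hh' _ _ i l e1).trans (hh _ _ i l e1).symm).trans (e2 h))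

variable (hbi : ∀ i j, pullback.fst (g i) (g j) ≫ bi i = pullback.snd (g i) (g j) ≫ bi j)
include hbi

theorem compat_of_eq {W : Over S} {i j : ι} (l : (yon S).obj W ⟶ Ti i) (l' : (yon S).obj W ⟶ Ti j)
    (h : l ≫ g i = l' ≫ g j) : l ≫ bi i = l' ≫ bi j := by
  rw [← pullback.lift_fst l l' h, Category.assoc, hbi, pullback.lift_snd_assoc]

theorem agreeWith_lift (i : ι) {W : Over S} (l : (yon S).obj W ⟶ Ti i) :
    AgreeWith g bi (l ≫ g i) (l ≫ bi i) := fun W' k j l' hl' => by
  rw [← Category.assoc]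
  exact compat_of_eq hbi _ _ (by rw [Category.assoc]; exact hl'.symm)

theorem exists_agreeWith_affine (hB : IsAlgSpace B) (hg : IsFpqcCover Ti g) (Z : Over S)
    (hZ : IsAffine Z.left) (z : (yon S).obj Z ⟶ T) : ∃ h, AgreeWith g bi z h := by
  obtain ⟨m, W, c, hc1, hc2, hc3, hcs, hlift⟩ := exists_qc_lift hg Z hZ z
  haveI := hc1; haveI := hc2; haveI := hc3; haveI := hcs
  choose i l hl using hlift
  obtain ⟨a, ha, -⟩ := sigma_existsUnique_desc W fun j => l j ≫ bi (i j)
  have hagree : AgreeWith g bi ((yon S).map c ≫ z) a := by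
    intro W' k n l' hl'
    let V : ULift.{u} (Fin m) → Over S := fun j => pullback k (sigmaIncl W j)
    let r : ∀ j, V j ⟶ W' := fun j => pullback.fst k (sigmaIncl W j)
    have hr : ∀ j, IsPullback (r j).left (pullback.snd k (sigmaIncl W j)).left k.left (sigmaIncl W j).left :=
      fun j => (IsPullback.of_hasPullback k (sigmaIncl W j)).map (Over.forget S)
    have hopen : ∀ j, IsOpenImmersion (r j).left := fun j =>
      MorphismProperty.of_isPullback (hr j).flip (sigmaIncl_isOpenImmersion W j)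
    refine fam_hom_ext V r (fun j => by haveI := hopen j; exact ⟨inferInstance, inferInstance⟩)
      (fun x => ?_) fun j => ?_
    · obtain ⟨j, w, hw⟩ := exists_sigmaIncl W (k.left x)
      obtain ⟨v, hv, -⟩ := Scheme.exists_preimage_of_isPullback (hr j) x w hw.symm
      exact ⟨j, v, hv⟩
    · rw [← Functor.map_comp_assoc, show r j ≫ k = pullback.snd k (sigmaIncl W j) ≫ sigmaIncl W j from pullback.condition,
        Functor.map_comp_assoc, ha, ← Category.assoc, ← Category.assoc]
      refine compat_of_eq hbi _ _ ?_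
      simp only [Category.assoc]
      rw [hl, hl', ← Functor.map_comp_assoc (yon S) (r j) k,
        show r j ≫ k = pullback.snd k (sigmaIncl W j) ≫ sigmaIncl W j from pullback.condition,
        Functor.map_comp_assoc]
  obtain ⟨b, hb⟩ := exists_desc_of_flat_qc hB c a fun W' k₁ k₂ hk => by
    refine AgreeWith.unique hB hg (hagree.comp k₁) ?_
    have := hagree.comp k₂
    rwa [← Functor.map_comp_assoc, ← hk, Functor.map_comp_assoc] at this
  refine ⟨b, fun W' k n l' hl' => ?_⟩
  let R := pullback k c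
  have hR : IsPullback (pullback.fst k c).left (pullback.snd k c).left k.left c.left :=
    (IsPullback.of_hasPullback k c).map (Over.forget S)
  haveI : Flat (pullback.fst k c).left := MorphismProperty.of_isPullback hR.flip hc1
  haveI : Surjective (pullback.fst k c).left := MorphismProperty.of_isPullback hR.flip hc2
  haveI : QuasiCompact (pullback.fst k c).left := MorphismProperty.of_isPullback hR.flip hc3
  refine hom_ext_of_flat_qc hB (pullback.fst k c) _ _ ?_
  rw [← Functor.map_comp_assoc, show pullback.fst k c ≫ k = pullback.snd k c ≫ c from pullback.condition,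
    Functor.map_comp_assoc, hb, ← Category.assoc]
  refine hagree _ _ n _ ?_
  rw [Category.assoc, hl', ← Functor.map_comp_assoc, ← Functor.map_comp_assoc,
    show pullback.fst k c ≫ k = pullback.snd k c ≫ c from pullback.condition]

theorem exists_agreeWith (hB : IsAlgSpace B) (hg : IsFpqcCover Ti g) (W : Over S)
    (z : (yon S).obj W ⟶ T) : ∃ h, AgreeWith g bi z h := by
  obtain ⟨hflat, hsurj⟩ := affineOpens_cover W
  let V : W.left.affineOpens → Over S := fun U => Over.mk (U.1.ι ≫ W.hom)
  let c : ∀ U, V U ⟶ W := fun U => Over.homMk U.1.ι rfl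
  choose e he using fun U => exists_agreeWith_affine hbi hB hg (V U) U.2 ((yon S).map (c U) ≫ z)
  obtain ⟨h, hh, -⟩ := fam_existsUnique_desc V c hflat hsurj e fun U U' W' p q hpq => by
    refine AgreeWith.unique hB hg ((he U).comp p) ?_
    have := (he U').comp q
    rwa [← Functor.map_comp_assoc, ← hpq, Functor.map_comp_assoc] at this
  refine ⟨h, fun W' k i l hl => ?_⟩
  let V' : W.left.affineOpens → Over S := fun U => pullback k (c U)
  let r : ∀ U, V' U ⟶ W' := fun U => pullback.fst k (c U)
  have hr : ∀ U, IsPullback (r U).left (pullback.snd k (c U)).left k.left (c U).left :=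
    fun U => (IsPullback.of_hasPullback k (c U)).map (Over.forget S)
  have hopen : ∀ U, IsOpenImmersion (r U).left := fun U =>
    MorphismProperty.of_isPullback (hr U).flip (inferInstanceAs (IsOpenImmersion U.1.ι))
  refine fam_hom_ext V' r (fun U => by haveI := hopen U; exact ⟨inferInstance, inferInstance⟩)
    (fun x => ?_) fun U => ?_
  · obtain ⟨U, w, hw⟩ := hsurj (k.left x)
    obtain ⟨v, hv, -⟩ := Scheme.exists_preimage_of_isPullback (hr U) x w hw.symm
    exact ⟨U, v, hv⟩
  · rw [← Functor.map_comp_assoc, show r U ≫ k = pullback.snd k (c U) ≫ c U from pullback.condition,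
      Functor.map_comp_assoc, hh, ← Category.assoc]
    refine he U _ _ i _ ?_
    rw [Category.assoc, hl, ← Functor.map_comp_assoc, ← Functor.map_comp_assoc,
      show r U ≫ k = pullback.snd k (c U) ≫ c U from pullback.condition]

/-- Existence in the sheaf condition. -/
theorem exists_desc_of_fpqcCover (hB : IsAlgSpace B) (hg : IsFpqcCover Ti g) :
    ∃ b : T ⟶ B, ∀ i, g i ≫ b = bi i := by
  choose β hβ using fun W z => exists_agreeWith hbi hB hg W z
  let b : T ⟶ B := ⟨{
    app := fun W => ↾fun x => uE (β W.unop (uE.symm x))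
    naturality := by
      rintro ⟨W⟩ ⟨W'⟩ k
      ext x
      change uE (β W' (uE.symm (T.obj.map k x))) = B.obj.map k (uE (β W (uE.symm x)))
      rw [← k.op_unop, GrothendieckTopology.uliftYonedaEquiv_naturality,
        ← GrothendieckTopology.uliftYonedaEquiv_symm_naturality_left]
      exact congrArg uE (AgreeWith.unique hB hg (hβ _ _) ((hβ W (uE.symm x)).comp k.unop)) }⟩
  have hb : ∀ (W : Over S) (z : (yon S).obj W ⟶ T), z ≫ b = β W z := fun W z =>
    (uE (S := S)).injective (by
      rw [GrothendieckTopology.uliftYonedaEquiv_comp]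
      change uE (β W (uE.symm (uE z))) = _
      rw [Equiv.symm_apply_apply])
  refine ⟨b, fun i => sp_hom_ext fun W l => ?_⟩
  rw [← Category.assoc, hb]
  exact AgreeWith.unique hB hg (hβ _ _) (agreeWith_lift hbi i l)

omit hbi in
/-- Uniqueness in the sheaf condition. -/
theorem hom_ext_of_fpqcCover (hB : IsAlgSpace B) (hg : IsFpqcCover Ti g) {a b : T ⟶ B}
    (h : ∀ i, g i ≫ a = g i ≫ b) : a = b :=
  sp_hom_ext fun W z =>
    AgreeWith.unique (bi := fun i => g i ≫ a) hB hg
      (fun W' k i l hl => by rw [← Category.assoc, ← hl, Category.assoc])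
      (fun W' k i l hl => by rw [← Category.assoc, ← hl, Category.assoc]; exact congrArg (l ≫ ·) (h i).symm)

end Groth.Agent.SpFP87
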