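import Groth.Agent.Unr55.DescProps
import Groth.Agent.SchDense58.Basic
import Mathlib.AlgebraicGeometry.Morphisms.Immersion
import Mathlib.AlgebraicGeometry.Morphisms.FlatDescent
/-!
Quasi-compact immersions descend along faithfully flat quasi-compact morphisms.
-/

set_option autoImplicit false
set_option linter.style.haveILetI false
set_option backward.isDefEq.respectTransparency false
universe u
open CategoryTheory CategoryTheory.Limits AlgebraicGeometry

namespace Groth.Agent.SpFP87

/-- A quasi-compact immersion with trivial kernel is an open immersion. -/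
theorem isOpenImmersion_of_isSchemeTheoreticallyDominant {X Y : Scheme.{u}} (a : X ⟶ Y) [IsImmersion a]
    [QuasiCompact a] [IsSchemeTheoreticallyDominant a] : IsOpenImmersion a := by
  haveI : IsIso a.imageι := by
    change IsIso a.ker.subschemeι
    rw [a.ker_eq_bot]; infer_instance
  rw [← a.toImage_imageι]; infer_instance

theorem qcImmersion_descendsAlong : MorphismProperty.DescendsAlong
    (@IsImmersion ⊓ @QuasiCompact : MorphismProperty Scheme.{u})
      (@Surjective ⊓ @Flat ⊓ @QuasiCompact : MorphismProperty Scheme.{u}) := by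
  haveI := Groth.Agent.Unr55.quasiCompact.{u}
  refine ⟨fun {A T X S fst snd g f} sq hg h => ?_⟩
  obtain ⟨⟨hgs, hgf⟩, hgq⟩ := hg
  haveI : Flat g := hgf; haveI : Surjective g := hgs; haveI : QuasiCompact g := hgq
  haveI : IsImmersion fst := h.1
  haveI : QuasiCompact fst := h.2
  haveI hq : QuasiCompact f := MorphismProperty.of_isPullback_of_descendsAlong (P := @QuasiCompact)
    (Q := @Surjective ⊓ @Flat ⊓ @QuasiCompact) sq ⟨⟨hgs, hgf⟩, hgq⟩ h.2
  let a : A ⟶ pullback f.imageι g :=
    pullback.lift (snd ≫ f.toImage) fst (by rw [Category.assoc, f.toImage_imageι, sq.w])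
  have ha2 : a ≫ pullback.snd f.imageι g = fst := pullback.lift_snd ..
  have hsq : IsPullback snd a f.toImage (pullback.fst f.imageι g) := by
    refine IsPullback.of_bot ?_ (pullback.lift_fst ..).symm (IsPullback.of_hasPullback f.imageι g)
    rw [ha2, Scheme.Hom.toImage_imageι]
    exact sq.flip
  haveI : IsSchemeTheoreticallyDominant a := .of_isPullback hsq
  haveI : IsImmersion (a ≫ pullback.snd f.imageι g) := by rw [ha2]; infer_instance
  haveI : IsImmersion a := IsImmersion.of_comp a (pullback.snd f.imageι g)
  haveI : QuasiCompact a := MorphismProperty.of_isPullback hsq (inferInstanceAs (QuasiCompact f.toImage))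
  haveI ho : IsOpenImmersion a := isOpenImmersion_of_isSchemeTheoreticallyDominant a
  haveI : IsOpenImmersion f.toImage :=
    MorphismProperty.of_isPullback_of_descendsAlong (P := @IsOpenImmersion)
      (Q := @Surjective ⊓ @Flat ⊓ @QuasiCompact) hsq.flip
      ⟨⟨inferInstanceAs (Surjective (pullback.fst f.imageι g)),
        inferInstanceAs (Flat (pullback.fst f.imageι g))⟩,
        inferInstanceAs (QuasiCompact (pullback.fst f.imageι g))⟩ ho
  refine ⟨?_, hq⟩
  rw [← f.toImage_imageι]; infer_instance

end Groth.Agent.SpFP87
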