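import Groth.Agent.SpFP87.RepDescProps
import Groth.Agent.SpFP87.ImmQcDesc
/-!
Quasi-compact immersions of algebraic spaces are fpqc local on the base.
-/

set_option autoImplicit false
set_option linter.style.haveILetI false
set_option backward.isDefEq.respectTransparency false
universe u
open CategoryTheory CategoryTheory.Limits AlgebraicGeometry Opposite
open AlgSp

namespace Groth.Agent.SpFP87

variable {S : Scheme.{u}}

theorem isLocalOnBase_fpqc_qcImmersion :
    IsLocalOnBase (IsFpqcCover (S := S)) (RepWith (@IsImmersion ⊓ @QuasiCompact)) := by
  haveI : IsZariskiLocalAtTarget (@IsImmersion ⊓ @QuasiCompact : MorphismProperty Scheme.{u}) :=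
    inferInstance
  exact isLocalOnBase_fpqc_repWith qcImmersion_descendsAlong
    fun _ _ k hk => @isIndQuasiAffineHom_of_isImmersion _ _ k hk.1

end Groth.Agent.SpFP87
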