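import Groth.Agent.SpFP87.FpqcTest
import Groth.Agent.SpFP87.EtLocInst
/-!
Open morphisms: flat, locally finitely presented morphisms of algebraic spaces are open; locality on the source.
-/

set_option autoImplicit false
set_option linter.style.haveILetI false
universe u
open CategoryTheory CategoryTheory.Limits AlgebraicGeometry Opposite
open AlgSp
open Groth.Agent.SpPts86

namespace Groth.Agent.SpFP87

variable {S : Scheme.{u}}

theorem isOpenMap_of_locP_flat_lfp {X Y : Sp S} {g : X ⟶ Y} (hX : IsAlgSpace X) (hY : IsAlgSpace Y)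
    (h1 : LocP @Flat g) (h2 : LocP @LocallyOfFinitePresentation g) : IsOpenMap (Points.map g) := by
  obtain ⟨V, b, hb, hbs⟩ := hY.atlas
  obtain ⟨U, a, h, ha, has, w⟩ := exists_compatible_chart g hX hY.diag hb hbs
  haveI := h1 a b h ha hb w
  haveI := h2 a b h ha hb w
  intro A hA
  have hAeq : Points.map g '' A = Points.ofPt b '' (h.left '' (Points.ofPt a ⁻¹' A)) := by
    ext y
    constructor
    · rintro ⟨x, hx, rfl⟩
      obtain ⟨u, rfl⟩ := surjective_ofPt has x
      exact ⟨h.left u, ⟨u, hx, rfl⟩, by rw [Points.map_ofPt, w, Groth.Agent.SpPts86.ofPt_comp]⟩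
    · rintro ⟨_, ⟨u, hu, rfl⟩, rfl⟩
      exact ⟨Points.ofPt a u, hu, by rw [Points.map_ofPt, w, Groth.Agent.SpPts86.ofPt_comp]⟩
  rw [hAeq]
  exact isOpenMap_ofPt hb _ (h.left.isOpenMap _ (hA.preimage (Points.continuous_ofPt a)))

theorem isOpenMap_map_iff_of_fppf {ι : Type u} {X Y : Sp S} {Xi : ι → Sp S} {g : ∀ i, Xi i ⟶ X}
    (hX : IsAlgSpace X) (hXi : ∀ i, IsAlgSpace (Xi i)) (hg : IsFppfCover Xi g) (f : X ⟶ Y) :
    IsOpenMap (Points.map f) ↔ ∀ i, IsOpenMap (Points.map (g i ≫ f)) := by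
  have key : ∀ i, Points.map (g i ≫ f) = Points.map f ∘ Points.map (g i) := fun i =>
    funext fun x => Points.map_comp _ _ x
  refine ⟨fun h i => ?_, fun h A hA => ?_⟩
  · rw [key]
    exact h.comp (isOpenMap_of_locP_flat_lfp (hXi i) hX (hg.1 i).1 (hg.1 i).2)
  · have hAeq : Points.map f '' A = ⋃ i, Points.map (g i ≫ f) '' (Points.map (g i) ⁻¹' A) := by
      ext y
      simp only [Set.mem_image, Set.mem_iUnion, Set.mem_preimage]
      constructor
      · rintro ⟨x, hx, rfl⟩
        obtain ⟨i, z, rfl⟩ := hg.2 x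
        exact ⟨i, z, hx, Points.map_comp _ _ z⟩
      · rintro ⟨i, z, hz, rfl⟩
        exact ⟨_, hz, (Points.map_comp _ _ z).symm⟩
    rw [hAeq]
    exact isOpen_iUnion fun i => h i _ (hA.preimage (Points.continuous_map _))

theorem isLocalOnSource_fppf_openMor : IsLocalOnSource (IsFppfCover (S := S)) IsOpenMor :=
  fun _ _ _ _ hX hXi hg _ f _ => isOpenMap_map_iff_of_fppf hX hXi hg f

theorem isLocalOnSource_fppf_univOpenMor : IsLocalOnSource (IsFppfCover (S := S)) IsUnivOpenMor := by
  intro ι X Xi g hX hXi hg Y f hY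
  have hcov : ∀ {Z Z' : Sp S} (hZ : IsAlgSpace Z) {fst : Z' ⟶ X} {snd : Z' ⟶ Z} {z : Z ⟶ Y}
      (sq : IsPullback fst snd f z), IsAlgSpace Z' ∧
        IsFppfCover (fun i => pullback fst (g i)) (fun i => pullback.fst fst (g i)) := by
    intro Z Z' hZ fst snd z sq
    have hZ' := isAlgSpace_of_isPullback sq hX hZ hY.diag
    refine ⟨hZ', fun i => ⟨?_, ?_⟩, fun x => ?_⟩
    · exact locP_baseChange (IsPullback.of_hasPullback fst (g i)).flip (hXi i) hX hZ' (hg.1 i).1
    · exact locP_baseChange (IsPullback.of_hasPullback fst (g i)).flip (hXi i) hX hZ' (hg.1 i).2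
    · obtain ⟨i, y, hy⟩ := hg.2 (Points.map fst x)
      obtain ⟨w, hw, -⟩ := exists_of_isPullback (IsPullback.of_hasPullback fst (g i)) x y hy.symm
      exact ⟨i, w, hw⟩
  constructor
  · intro h i Z W hZ z fst snd sq
    obtain ⟨hZ', hc⟩ := hcov hZ (IsPullback.of_hasPullback f z)
    have hbase := h hZ z _ _ (IsPullback.of_hasPullback f z)
    have sq2 := (IsPullback.of_hasPullback (pullback.fst f z) (g i)).flip.paste_vert
      (IsPullback.of_hasPullback f z).flip.flip
    let e := sq.isoIsPullback _ _ sq2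
    have := ((isOpenMap_map_iff_of_fppf hZ' (fun j => isAlgSpace_pullback _ (g j) hZ' (hXi j) hX) hc
      (pullback.snd f z)).1 hbase i)
    rw [← sq.isoIsPullback_hom_snd _ _ sq2]
    have hcomp : Points.map (e.hom ≫ pullback.fst (pullback.fst f z) (g i) ≫ pullback.snd f z) =
        Points.map (pullback.fst (pullback.fst f z) (g i) ≫ pullback.snd f z) ∘ Points.map e.hom :=
      funext fun x => Points.map_comp _ _ x
    show IsOpenMap (Points.map _)
    rw [hcomp]
    refine this.comp ?_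
    refine IsOpenMap.of_inverse (f' := Points.map e.inv) (Points.continuous_map _) (fun x => ?_) (fun x => ?_)
    · rw [← Points.map_comp, e.inv_hom_id, Points.map_id]
    · rw [← Points.map_comp, e.hom_inv_id, Points.map_id]
  · intro h Z Z' hZ z fst snd sq
    obtain ⟨hZ', hc⟩ := hcov hZ sq
    refine (isOpenMap_map_iff_of_fppf hZ' (fun j => isAlgSpace_pullback _ (g j) hZ' (hXi j) hX) hc snd).2
      fun i => ?_
    exact h i hZ z (pullback.snd fst (g i)) (pullback.fst fst (g i) ≫ snd)
      ((IsPullback.of_hasPullback fst (g i)).flip.paste_vert sq)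

end Groth.Agent.SpFP87
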