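import Groth.Agent.SpFP87.GoodEtale
import Mathlib.RingTheory.TensorProduct.MvPolynomial
import Mathlib.Algebra.MvPolynomial.Funext
import Mathlib.Algebra.MvPolynomial.Monad
import Mathlib.Data.Nat.PrimeFin
import Mathlib.NumberTheory.Cyclotomic.PrimitiveRoots
/-!
Goodness descends along smooth morphisms.
-/

set_option autoImplicit false
set_option linter.style.haveILetI false
set_option backward.isDefEq.respectTransparency false
universe u
open CategoryTheory CategoryTheory.Limits AlgebraicGeometry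

namespace Groth.Agent.SpFP87

variable {S : Scheme.{u}} {R : ∀ ⦃T V : Scheme.{u}⦄, (T ⟶ V) → (V ⟶ S) → Prop}

theorem etale_specMap {A B : CommRingCat.{u}} (φ : A ⟶ B) (h : φ.hom.Etale) : Etale (Spec.map φ) :=
  (HasRingHomProperty.Spec_iff (P := @Etale)).2 h

theorem smooth_specMap {A B : CommRingCat.{u}} (φ : A ⟶ B) (h : φ.hom.Smooth) : Smooth (Spec.map φ) :=
  (HasRingHomProperty.Spec_iff (P := @Smooth)).2 h

/-- The basic open at `f` as a morphism from the spectrum of the localisation. -/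
theorem exists_open_localization {B : Type u} [CommRing B] {f : B} {p : PrimeSpectrum B} (hf : f ∉ p.asIdeal) :
    IsOpenImmersion (Spec.map (CommRingCat.ofHom (algebraMap B (Localization.Away f)))) ∧
      p ∈ Set.range (Spec.map (CommRingCat.ofHom (algebraMap B (Localization.Away f)))) := by
  refine ⟨IsOpenImmersion.of_isLocalization f, ?_⟩
  have h := PrimeSpectrum.localization_away_comap_range (Localization.Away f) f
  exact (Set.ext_iff.1 h p).2 hf

theorem BaseLocal.descGood_etale_spec (hR : BaseLocal R) (A B : Type u) [CommRing A] [CommRing B] [Algebra A B]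
    [Algebra.Etale A B] : DescGood R (Spec.map (CommRingCat.ofHom (algebraMap A B))) := by
  refine hR.descGood_of_cover _ fun p => ?_
  obtain ⟨f, hf, hst⟩ := Algebra.IsEtaleAt.exists_isStandardEtale (R := A) p.asIdeal
  obtain ⟨h1, h2⟩ := exists_open_localization (p := p) hf
  refine ⟨_, _, h1, h2, ?_⟩
  rw [← Spec.map_comp, ← CommRingCat.ofHom_comp, ← IsScalarTower.algebraMap_eq]
  exact hR.descGood_standardEtale A (Localization.Away f)

theorem BaseLocal.descGood_etale_map (hR : BaseLocal R) {A B : CommRingCat.{u}} (φ : A ⟶ B) (h : φ.hom.Etale) :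
    DescGood R (Spec.map φ) := by
  algebraize [φ.hom]
  exact hR.descGood_etale_spec A B

/-- An etale algebra containing prescribed roots of unity of orders invertible at the given point. -/
theorem exists_etale_roots {A k : Type u} [CommRing A] [Field k] [Algebra A k] {n : ℕ} (x : Fin n → k)
    (hx : ∀ i, ∃ ℓ : ℕ, (ℓ : k) ≠ 0 ∧ x i ^ ℓ = 1) :
    ∃ (B : CommRingCat.{u}) (φ : CommRingCat.of A ⟶ B) (ψ : B →+* k) (z : Fin n → B),
      φ.hom.Etale ∧ ψ.comp φ.hom = algebraMap A k ∧ ∀ i, ψ (z i) = x i := by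
  induction n with
  | zero => exact ⟨CommRingCat.of A, 𝟙 _, algebraMap A k, Fin.elim0, RingHom.Etale.of_bijective Function.bijective_id, rfl, fun i => i.elim0⟩
  | succ n ih =>
    obtain ⟨B, φ, ψ, z, hφ, hψ, hz⟩ := ih (fun i => x i.castSucc) (fun i => hx _)
    obtain ⟨ℓ, hℓ, hxℓ⟩ := hx (Fin.last n)
    have hℓ0 : ℓ ≠ 0 := fun h => hℓ (by simp [h])
    let _ : Algebra B k := ψ.toAlgebra
    let P : StandardEtalePair B :=
      { f := Polynomial.X ^ ℓ - 1
        monic_f := by simpa using Polynomial.monic_X_pow_sub_C (1 : B) hℓ0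
        g := Polynomial.derivative (Polynomial.X ^ ℓ - 1)
        cond := ⟨1, 0, 1, by simp⟩ }
    have hx0 : x (Fin.last n) ≠ 0 := fun h => by simp [h, zero_pow hℓ0] at hxℓ
    have hP : P.HasMap (x (Fin.last n)) := by
      refine ⟨by simp [P, hxℓ], ?_⟩
      simp [P, Polynomial.derivative_X_pow, hℓ, hx0]
    refine ⟨CommRingCat.of P.Ring, φ ≫ CommRingCat.ofHom (algebraMap B P.Ring), (P.lift _ hP).toRingHom,
      Fin.snoc (fun i => algebraMap B P.Ring (z i)) P.X, ?_, ?_, ?_⟩
    · exact RingHom.Etale.stableUnderComposition _ _ hφ (RingHom.etale_algebraMap.2 inferInstance)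
    · rw [← hψ]
      ext a
      exact (P.lift _ hP).commutes _
    · intro i
      cases i using Fin.lastCases with
      | last => simp
      | cast i => simpa using ((P.lift _ hP).commutes _).trans (hz i)

/-- Roots of unity of order invertible in an algebraically closed field form an infinite set. -/
theorem infinite_rootsOfUnity (k : Type u) [Field k] [IsAlgClosed k] :
    {x : k | ∃ ℓ : ℕ, (ℓ : k) ≠ 0 ∧ x ^ ℓ = 1}.Infinite := by
  have hp : {ℓ : ℕ | ℓ.Prime ∧ (ℓ : k) ≠ 0}.Infinite := by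
    refine (Nat.infinite_setOfPred_prime.sdiff (Set.finite_singleton (ringChar k))).mono fun ℓ hℓ => ⟨hℓ.1, fun h => ?_⟩
    rw [ringChar.spec] at h
    rcases (Nat.dvd_prime hℓ.1).1 h with h1 | h1
    · exact CharP.ringChar_ne_one h1
    · exact hℓ.2 h1.symm
  have hζ : ∀ ℓ : {ℓ : ℕ // ℓ.Prime ∧ (ℓ : k) ≠ 0}, ∃ ζ : k, IsPrimitiveRoot ζ ℓ.1 := fun ℓ => by
    haveI : NeZero (ℓ.1 : k) := ⟨ℓ.2.2⟩
    haveI : NeZero ℓ.1 := ⟨ℓ.2.1.ne_zero⟩
    haveI := IsSepClosed.isCyclotomicExtension {ℓ.1} k (fun m hm _ => by rw [Set.mem_singleton_iff.1 hm]; infer_instance)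
    exact ⟨_, (IsCyclotomicExtension.zeta_spec ℓ.1 k k)⟩
  choose ζ hζ using hζ
  haveI : Infinite {ℓ : ℕ // ℓ.Prime ∧ (ℓ : k) ≠ 0} := hp.to_subtype
  refine (Set.infinite_range_of_injective (f := ζ) fun a b h => Subtype.ext ?_).mono ?_
  · exact ((hζ a).eq_orderOf).trans ((h ▸ (hζ b).eq_orderOf).symm)
  · rintro _ ⟨ℓ, rfl⟩
    exact ⟨ℓ.1, ℓ.2.2, (hζ ℓ).pow_eq_one⟩

open MvPolynomial in
theorem BaseLocal.descGood_affineSpace (hR : BaseLocal R) (A : Type u) [CommRing A] (n : ℕ) :
    DescGood R (Spec.map (CommRingCat.ofHom (algebraMap A (MvPolynomial (Fin n) A)))) := by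
  classical
  haveI hsm : Smooth (Spec.map (CommRingCat.ofHom (algebraMap A (MvPolynomial (Fin n) A)))) :=
    smooth_specMap _ (RingHom.smooth_algebraMap.2 ⟨inferInstance, inferInstance⟩)
  refine hR.descGood_of_sameFib fun T T' a h' h sq v t' t'' e ht' => ?_
  obtain ⟨U, hU, hRU⟩ := ht'
  -- two geometric points over the two points with the same image in `T`
  obtain ⟨z, hz', hz''⟩ := Scheme.Pullback.exists_preimage_pullback (f := a) (g := a) t' t'' e.symm
  let k := AlgebraicClosure ((pullback a a).residueField z)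
  let pt : Spec (CommRingCat.of k) ⟶ pullback a a :=
    Spec.map (CommRingCat.ofHom (algebraMap ((pullback a a).residueField z) k)) ≫ (pullback a a).fromSpecResidueField z
  let o : Spec (CommRingCat.of k) := IsLocalRing.closedPoint k
  have hpt : pt o = z := by
    simp only [pt, Scheme.Hom.comp_apply]
    exact Scheme.fromSpecResidueField_apply _ _
  let τ : Spec (CommRingCat.of k) ⟶ T := pt ≫ pullback.fst a a ≫ a
  obtain ⟨φ₁, hφ₁⟩ := Spec.map_surjective (pt ≫ pullback.fst a a ≫ h')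
  obtain ⟨φ₂, hφ₂⟩ := Spec.map_surjective (pt ≫ pullback.snd a a ≫ h')
  have hA : (CommRingCat.ofHom (algebraMap A (MvPolynomial (Fin n) A)) ≫ φ₁) =
      (CommRingCat.ofHom (algebraMap A (MvPolynomial (Fin n) A)) ≫ φ₂) := by
    apply Spec.map_injective
    simp only [Spec.map_comp, hφ₁, hφ₂, Category.assoc, ← sq.w, pullback.condition_assoc]
  let _ : Algebra A k := (CommRingCat.ofHom (algebraMap A (MvPolynomial (Fin n) A)) ≫ φ₁).hom.toAlgebra
  -- the fibre of `a` over `τ`
  have hc : (Spec.map (CommRingCat.ofHom (C : k →+* MvPolynomial (Fin n) k)) ≫ τ) ≫ h =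
      Spec.map (CommRingCat.ofHom (MvPolynomial.map (algebraMap A k))) ≫
        Spec.map (CommRingCat.ofHom (algebraMap A (MvPolynomial (Fin n) A))) := by
    have : τ ≫ h = Spec.map (CommRingCat.ofHom (algebraMap A k)) := by
      rw [show CommRingCat.ofHom (algebraMap A k) = CommRingCat.ofHom (algebraMap A (MvPolynomial (Fin n) A)) ≫ φ₁ from rfl]
      simp only [τ, Spec.map_comp, hφ₁, Category.assoc, sq.w]
    rw [Category.assoc, this, ← Spec.map_comp, ← Spec.map_comp, ← CommRingCat.ofHom_comp, ← CommRingCat.ofHom_comp]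
    congr 2
    ext r
    simp [MvPolynomial.algebraMap_eq]
  let c := sq.lift _ _ hc
  have hc1 : c ≫ a = Spec.map (CommRingCat.ofHom (C : k →+* MvPolynomial (Fin n) k)) ≫ τ := sq.lift_fst _ _ _
  have hc2 : c ≫ h' = Spec.map (CommRingCat.ofHom (MvPolynomial.map (algebraMap A k))) := sq.lift_snd _ _ _
  let u₁ : Fin n → k := fun i => φ₁.hom (X i)
  let u₂ : Fin n → k := fun i => φ₂.hom (X i)
  have heval : ∀ u : Fin n → k, ((eval u).comp (MvPolynomial.map (algebraMap A k))) = (aeval (R := A) u).toRingHom := fun u => by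
    ext <;> simp
  have hval1 : (aeval (R := A) u₁).toRingHom = φ₁.hom := by
    ext r
    · simp [MvPolynomial.algebraMap_eq, RingHom.algebraMap_toAlgebra]
    · simp [u₁]
  have hval2 : (aeval (R := A) u₂).toRingHom = φ₂.hom := by
    ext r
    · simpa [MvPolynomial.algebraMap_eq, RingHom.algebraMap_toAlgebra] using ConcreteCategory.congr_hom hA r
    · simp [u₂]
  have hev : ∀ u : Fin n → k, Spec.map (CommRingCat.ofHom (eval u)) ≫
      Spec.map (CommRingCat.ofHom (C : k →+* MvPolynomial (Fin n) k)) = 𝟙 _ := fun u => by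
    rw [← Spec.map_comp, ← CommRingCat.ofHom_comp, show ((eval u).comp C) = RingHom.id k by ext; simp,
      CommRingCat.ofHom_id, Spec.map_id]
  have hpt1 : Spec.map (CommRingCat.ofHom (eval u₁)) ≫ c = pt ≫ pullback.fst a a := by
    refine sq.hom_ext ?_ ?_
    · rw [Category.assoc, hc1, ← Category.assoc, hev, Category.id_comp]; simp [τ]
    · rw [Category.assoc, hc2, ← Spec.map_comp, ← CommRingCat.ofHom_comp, heval, hval1, CommRingCat.ofHom_hom, hφ₁]
      simp only [Category.assoc]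
  -- a polynomial not vanishing at `u₁` and cutting out a neighbourhood inside `U`
  have hmem : (Spec.map (CommRingCat.ofHom (eval u₁))) o ∈ c ⁻¹ᵁ U := by
    show c (Spec.map (CommRingCat.ofHom (eval u₁)) o) ∈ U
    rw [← Scheme.Hom.comp_apply, hpt1, Scheme.Hom.comp_apply, hpt, hz']
    exact hU
  obtain ⟨_, ⟨P, rfl⟩, hP1, hP2⟩ := PrimeSpectrum.isTopologicalBasis_basic_opens.exists_subset_of_mem_open hmem (c ⁻¹ᵁ U).isOpen
  have hmemP : ∀ u : Fin n → k, (Spec.map (CommRingCat.ofHom (eval u))) o ∈ (PrimeSpectrum.basicOpen P).1 ↔ eval u P ≠ 0 := fun u => by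
    change (CommRingCat.ofHom (eval u)).hom P ∉ (IsLocalRing.closedPoint k).asIdeal ↔ _
    rw [show (IsLocalRing.closedPoint k).asIdeal = IsLocalRing.maximalIdeal k from rfl,
      IsLocalRing.maximalIdeal_eq_bot, Ideal.mem_bot]
    rfl
  -- a translation by roots of unity moving `u₂` into it
  obtain ⟨x, hx, hPx⟩ : ∃ x : Fin n → k, (∀ i, ∃ ℓ : ℕ, (ℓ : k) ≠ 0 ∧ x i ^ ℓ = 1) ∧ eval (u₂ + x) P ≠ 0 := by
    by_contra hcon
    push Not at hcon
    have hQ : ∀ y, eval y (bind₁ (fun i => C (u₂ i) + X i) P) = eval (u₂ + y) P := fun y => by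
      rw [eval, eval₂Hom_bind₁]
      congr 2
      funext i
      simp
    have := funext_set (p := bind₁ (fun i => C (u₂ i) + X i) P) (q := 0) _ (fun _ : Fin n => infinite_rootsOfUnity k)
      (fun y hy => by rw [hQ, map_zero]; exact hcon y fun i => hy i trivial)
    have h0 := hQ (u₁ - u₂)
    rw [this, map_zero, add_sub_cancel] at h0
    exact (hmemP u₁).1 hP1 h0.symm
  have hgood₁ : Good R h' (Spec.map (CommRingCat.ofHom (algebraMap A (MvPolynomial (Fin n) A))) ≫ v)
      ((Spec.map (CommRingCat.ofHom (eval (u₂ + x))) ≫ c) o) :=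
    ⟨U, hP2 ((hmemP _).2 hPx), hRU⟩
  obtain ⟨B, φ, ψ, w, hφ, hψ, hw⟩ := exists_etale_roots (A := A) x hx
  let ρb : CommRingCat.of (MvPolynomial (Fin n) A) ⟶ CommRingCat.of (MvPolynomial (Fin n) B) :=
    CommRingCat.ofHom (MvPolynomial.map φ.hom)
  have hρb : ρb.hom.Etale := by
    algebraize [φ.hom]
    letI := MvPolynomial.algebraMvPolynomial (σ := Fin n) (R := A) (S := B)
    exact RingHom.etale_algebraMap.2 (Algebra.Etale.of_equiv
      (Algebra.IsPushout.equiv A (MvPolynomial (Fin n) A) B (MvPolynomial (Fin n) B)))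
  let σ : MvPolynomial (Fin n) B ≃ₐ[B] MvPolynomial (Fin n) B :=
    AlgEquiv.ofAlgHom (aeval fun i => X i + C (w i)) (aeval fun i => X i - C (w i))
      (by ext i; simp [MvPolynomial.algebraMap_eq]) (by ext i; simp [MvPolynomial.algebraMap_eq])
  let ρa : CommRingCat.of (MvPolynomial (Fin n) A) ⟶ CommRingCat.of (MvPolynomial (Fin n) B) :=
    ρb ≫ CommRingCat.ofHom σ.toRingEquiv.toRingHom
  have hρa : ρa.hom.Etale :=
    RingHom.Etale.stableUnderComposition _ _ hρb (RingHom.Etale.of_bijective σ.bijective)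
  have hab : CommRingCat.ofHom (algebraMap A (MvPolynomial (Fin n) A)) ≫ ρa =
      CommRingCat.ofHom (algebraMap A (MvPolynomial (Fin n) A)) ≫ ρb := by
    ext r
    simp [ρa, ρb, σ, MvPolynomial.algebraMap_eq]
  haveI := etale_specMap ρb hρb
  haveI := etale_specMap ρa hρa
  have habS : Spec.map ρa ≫ Spec.map (CommRingCat.ofHom (algebraMap A (MvPolynomial (Fin n) A))) =
      Spec.map ρb ≫ Spec.map (CommRingCat.ofHom (algebraMap A (MvPolynomial (Fin n) A))) := by
    rw [← Spec.map_comp, ← Spec.map_comp, hab]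
  have sqb : IsPullback (pullback.fst h' (Spec.map ρb)) (pullback.snd h' (Spec.map ρb)) h' (Spec.map ρb) :=
    IsPullback.of_hasPullback _ _
  let la : pullback h' (Spec.map ρb) ⟶ T' := sq.lift (pullback.fst h' (Spec.map ρb) ≫ a)
    (pullback.snd h' (Spec.map ρb) ≫ Spec.map ρa) (by simp only [Category.assoc, sq.w, habS, sqb.w_assoc])
  have hla1 : la ≫ a = pullback.fst h' (Spec.map ρb) ≫ a := sq.lift_fst _ _ _
  have hla2 : la ≫ h' = pullback.snd h' (Spec.map ρb) ≫ Spec.map ρa := sq.lift_snd _ _ _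
  have sqa : IsPullback la (pullback.snd h' (Spec.map ρb)) h' (Spec.map ρa) := by
    refine IsPullback.of_right ?_ hla2 sq
    rw [hla1, habS]
    exact sqb.paste_horiz sq
  let Ψ : CommRingCat.of (MvPolynomial (Fin n) B) ⟶ CommRingCat.of k := CommRingCat.ofHom (eval₂Hom ψ u₂)
  have hΨb : ρb ≫ Ψ = φ₂ := by
    ext r
    · simpa [ρb, Ψ, ← hψ, MvPolynomial.algebraMap_eq] using ((RingHom.congr_fun hψ r).trans
        (ConcreteCategory.congr_hom hA r))
    · simp [ρb, Ψ, u₂]
  have hΨa : ρa ≫ Ψ = CommRingCat.ofHom (MvPolynomial.map (algebraMap A k)) ≫ CommRingCat.ofHom (eval (u₂ + x)) := by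
    ext r
    · simpa [ρa, ρb, σ, Ψ, MvPolynomial.algebraMap_eq] using RingHom.congr_fun hψ r
    · simp [ρa, ρb, σ, Ψ, hw]
  let q : Spec (CommRingCat.of k) ⟶ pullback h' (Spec.map ρb) :=
    pullback.lift (pt ≫ pullback.snd a a) (Spec.map Ψ) (by rw [Category.assoc, ← hφ₂, ← Spec.map_comp, hΨb])
  have hq1 : q ≫ pullback.fst h' (Spec.map ρb) = pt ≫ pullback.snd a a := pullback.lift_fst _ _ _
  have hq2 : q ≫ pullback.snd h' (Spec.map ρb) = Spec.map Ψ := pullback.lift_snd _ _ _
  have hqa : q ≫ la = Spec.map (CommRingCat.ofHom (eval (u₂ + x))) ≫ c := by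
    refine sq.hom_ext ?_ ?_
    · simp only [Category.assoc, hla1, hc1, reassoc_of% hq1, reassoc_of% (hev (u₂ + x))]
      simp [τ, pullback.condition]
    · rw [Category.assoc, hla2, ← Category.assoc, hq2, Category.assoc, hc2, ← Spec.map_comp, ← Spec.map_comp, hΨa]
  have h2 := hR.good_pullback sqa inferInstance (t' := q o)
    (by rw [← Scheme.Hom.comp_apply, hqa]; exact hgood₁)
  rw [← Category.assoc, habS, Category.assoc] at h2
  have := hR.descGood_etale_map ρb hρb _ _ _ sqb _ (q o) h2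
  rwa [← Scheme.Hom.comp_apply, hq1, Scheme.Hom.comp_apply, hpt, hz''] at this

/-- Goodness descends along smooth morphisms. -/
theorem BaseLocal.descGood_smooth (hR : BaseLocal R) {V' V : Scheme.{u}} (g : V' ⟶ V) [Smooth g] :
    DescGood R g := by
  refine hR.descGood_of_cover g fun y => ?_
  obtain ⟨_, ⟨U, hU, rfl⟩, hyU, -⟩ := V.isBasis_affineOpens.exists_subset_of_mem_open
    (a := g y) (Set.mem_univ _) isOpen_univ
  obtain ⟨_, ⟨W, hW, rfl⟩, hyW, hWU⟩ := V'.isBasis_affineOpens.exists_subset_of_mem_open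
    (show y ∈ g ⁻¹ᵁ U from hyU) (g ⁻¹ᵁ U).isOpen
  have hφ : (g.appLE U W hWU).hom.Smooth := HasRingHomProperty.appLE @Smooth g ‹_› ⟨U, hU⟩ ⟨W, hW⟩ hWU
  algebraize [(g.appLE U W hWU).hom]
  obtain ⟨p, rfl⟩ : ∃ p, hW.fromSpec p = y := by
    rw [← Set.mem_range, hW.range_fromSpec]; exact hyW
  obtain ⟨f, hf, n, _, hT, hst⟩ := Algebra.IsSmoothAt.exists_isStandardEtale_mvPolynomial
    (R := Γ(V, U)) (p := p.asIdeal)
  obtain ⟨h1, ⟨p', hp'⟩⟩ := exists_open_localization (p := p) hf
  refine ⟨_, Spec.map (CommRingCat.ofHom (algebraMap Γ(V', W) (Localization.Away f))) ≫ hW.fromSpec,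
    inferInstance, ⟨p', by rw [Scheme.Hom.comp_apply, hp']; rfl⟩, ?_⟩
  rw [Category.assoc, ← hU.SpecMap_appLE_fromSpec g hW hWU, ← Category.assoc, ← Spec.map_comp]
  refine descGood_comp ?_ (hR.descGood_of_injective hU.fromSpec)
  have : g.appLE U W hWU ≫ CommRingCat.ofHom (algebraMap Γ(V', W) (Localization.Away f)) =
      CommRingCat.ofHom (algebraMap Γ(V, U) (MvPolynomial (Fin n) Γ(V, U))) ≫
        CommRingCat.ofHom (algebraMap (MvPolynomial (Fin n) Γ(V, U)) (Localization.Away f)) := by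
    ext r
    exact (IsScalarTower.algebraMap_apply Γ(V, U) Γ(V', W) (Localization.Away f) r).symm.trans
      (IsScalarTower.algebraMap_apply Γ(V, U) (MvPolynomial (Fin n) Γ(V, U)) _ r)
  rw [this, Spec.map_comp]
  exact descGood_comp (hR.descGood_standardEtale _ _) (hR.descGood_affineSpace _ n)

end Groth.Agent.SpFP87
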