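import Groth.Agent.SpFP87.Covers
import Groth.Agent.SpPts86.Compact
import Mathlib.AlgebraicGeometry.Morphisms.FlatDescent
import Groth.Prelude.Def_AlgSp4
/-!
Topological properties of morphisms of algebraic spaces which are fpqc local on the base.
-/

set_option autoImplicit false
set_option linter.style.haveILetI false
universe u
open CategoryTheory CategoryTheory.Limits AlgebraicGeometry Opposite
open AlgSp
open Groth.Agent.SpPts86

namespace Groth.Agent.SpFP87

variable {S : Scheme.{u}}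

/-- Data testing an algebraic space over a covered base: affine schemes lifting to the covering whose
images detect points and closed subsets. -/
structure FpqcTest {ι : Type u} {Y Z : Sp S} (Yi : ι → Sp S) (g : ∀ i, Yi i ⟶ Y) (z : Z ⟶ Y) where
  κ : Type u
  W : κ → Over S
  affine : ∀ k, IsAffine (W k).left
  w : ∀ k, (yon S).obj (W k) ⟶ Z
  i : κ → ι
  l : ∀ k, (yon S).obj (W k) ⟶ Yi (i k)
  comm : ∀ k, l k ≫ g (i k) = w k ≫ z
  surj : ∀ x : Points Z, ∃ k v, Points.map (w k) v = x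
  detect : ∀ A : Set (Points Z), (∀ k, IsClosed (Points.map (w k) ⁻¹' A)) → IsClosed A

/-- Over an affine scheme there are finitely many test schemes. -/
theorem exists_affine_test {ι : Type u} {Y : Sp S} (Yi : ι → Sp S) (g : ∀ i, Yi i ⟶ Y)
    (hg : IsFpqcCover Yi g) {Z : Over S} [IsAffine Z.left] (z : (yon S).obj Z ⟶ Y) :
    ∃ (m : ℕ) (W : Fin m → Over S) (c : ∀ j, W j ⟶ Z) (i : Fin m → ι) (l : ∀ j, (yon S).obj (W j) ⟶ Yi (i j)),
      (∀ j, IsAffine (W j).left) ∧ (∀ t : ↥Z.left, ∃ j v, (c j).left v = t) ∧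
      (∀ A : Set ↥Z.left, (∀ j, IsClosed ((c j).left ⁻¹' A)) → IsClosed A) ∧
      ∀ j, l j ≫ g (i j) = (yon S).map (c j) ≫ z := by
  obtain ⟨m, W, c, h1, h2, h3, h4⟩ := hg.2 Z inferInstance z
  choose i l hl using h4
  refine ⟨m, W, c, i, l, h1, fun t => by obtain ⟨j, v, hv⟩ := h3 t; exact ⟨j, v, hv⟩, fun A hA => ?_, hl⟩
  haveI := h1
  let W' := fun j : ULift.{u} (Fin m) => (W j.down).left
  let d : ∐ W' ⟶ Z.left := Sigma.desc fun j => (c j.down).left
  haveI : Flat d := IsZariskiLocalAtSource.sigmaDesc fun j => h2 j.down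
  have hd : ∀ (j : Fin m) (v : ↥(W j).left), d.base ((Sigma.ι W' ⟨j⟩).base v) = (c j).left v := fun j v =>
    congrArg (fun k : W' ⟨j⟩ ⟶ Z.left => k.base v)
      (Sigma.ι_desc (fun j : ULift.{u} (Fin m) => (c j.down).left) ⟨j⟩)
  haveI : Surjective d := ⟨fun t => by
    obtain ⟨j, v, rfl⟩ := h3 t
    exact ⟨_, hd j v⟩⟩
  haveI : QuasiCompact d := inferInstance
  refine (Flat.isQuotientMap_of_surjective d).isClosed_preimage.1 ?_
  rw [(sigmaOpenCover W').isOpenCover_opensRange.isClosed_iff_coe_preimage]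
  intro j
  have hemb : Topology.IsOpenEmbedding (Sigma.ι W' j).base := ((sigmaOpenCover W').f j).isOpenEmbedding
  have hpre : (Sigma.ι W' j).base ⁻¹' (d.base ⁻¹' A) = (c j.down).left ⁻¹' A := by
    ext v; exact iff_of_eq (congrArg (· ∈ A) (hd j.down v))
  have := hA j.down
  rw [← hpre] at this
  obtain ⟨C, hC, hC'⟩ := hemb.isInducing.isClosed_iff.1 this
  refine isClosed_induced_iff.2 ⟨C, hC, ?_⟩
  ext ⟨p, v, rfl⟩
  exact iff_of_eq (congrArg (v ∈ ·) hC')

theorem nonempty_fpqcTest {ι : Type u} {Y Z : Sp S} (Yi : ι → Sp S) (g : ∀ i, Yi i ⟶ Y)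
    (hg : IsFpqcCover Yi g) (hZ : IsAlgSpace Z) (z : Z ⟶ Y) : Nonempty (FpqcTest Yi g z) := by
  obtain ⟨U, a, ha, has⟩ := hZ.atlas
  let O : U.left.affineOpens → Over S := fun V => Over.mk ((V.1 : U.left.Opens).ι ≫ U.hom)
  let o : ∀ V, O V ⟶ U := fun V => Over.homMk (V.1 : U.left.Opens).ι rfl
  haveI : ∀ V, IsAffine (O V).left := fun V => V.2
  choose m W c i l hW hs hd hl using fun V : U.left.affineOpens =>
    exists_affine_test Yi g hg ((yon S).map (o V) ≫ a ≫ z)
  let w : ∀ (V : U.left.affineOpens) (j : Fin (m V)), (yon S).obj (W V j) ⟶ Z := fun V j =>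
    (yon S).map (c V j ≫ o V) ≫ a
  have hw : ∀ V j v, Points.map (w V j) (Points.ofScheme _ v) = Points.ofPt a ((o V).left ((c V j).left v)) :=
    fun V j v => by rw [← Points.ofPt_eq_map_ofScheme, Groth.Agent.SpPts86.ofPt_comp]; rfl
  refine ⟨{
    κ := Σ V : U.left.affineOpens, Fin (m V)
    W := fun k => W k.1 k.2
    affine := fun k => hW k.1 k.2
    w := fun k => w k.1 k.2
    i := fun k => i k.1 k.2
    l := fun k => l k.1 k.2
    comm := fun k => ?_
    surj := fun x => ?_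
    detect := fun A hA => ?_ }⟩
  · rw [hl]; simp only [w, Functor.map_comp, Category.assoc]
  · obtain ⟨u, rfl⟩ := surjective_ofPt has x
    obtain ⟨V, hV, hu, -⟩ := exists_isAffineOpen_mem_and_subset (U := (⊤ : U.left.Opens)) (x := u) trivial
    obtain ⟨j, v, hv⟩ := hs ⟨V, hV⟩ ⟨u, hu⟩
    refine ⟨⟨⟨V, hV⟩, j⟩, Points.ofScheme _ v, (hw _ j v).trans ?_⟩
    rw [hv]; rfl
  · refine (isOpenQuotientMap_ofPt ha has).isQuotientMap.isClosed_preimage.1 ?_
    have hcov : TopologicalSpace.IsOpenCover (fun V : U.left.affineOpens => (V.1 : U.left.Opens)) :=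
      iSup_affineOpens_eq_top U.left
    rw [hcov.isClosed_iff_coe_preimage]
    intro V
    refine hd V _ fun j => ?_
    have h1 := (hA ⟨V, j⟩).preimage (Points.continuous_ofPt (𝟙 _) : Continuous (Points.ofScheme (W V j)))
    convert h1 using 1
    ext v
    exact iff_of_eq (congrArg (· ∈ A) (hw V j v).symm)

variable {ι : Type u} {X Y : Sp S} {Yi Xi : ι → Sp S} {g : ∀ i, Yi i ⟶ Y} {f : X ⟶ Y}
  {p : ∀ i, Xi i ⟶ Yi i} {q : ∀ i, Xi i ⟶ X}

theorem univSp_baseChange {Q : MorphismProperty (Sp S)} {X' Y' : Sp S} {fst : X' ⟶ X} {snd : X' ⟶ Y'}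
    {g' : Y' ⟶ Y} (sq : IsPullback fst snd f g') (h : UnivSp Q f) : UnivSp Q snd :=
  fun _ _ hZ z _ _ sq' => h hZ (z ≫ g') _ _ (sq'.paste_horiz sq)

/-- Base changes of `f` to the test schemes have every universal property of the `p i`. -/
theorem FpqcTest.base {Z Z' : Sp S} {z : Z ⟶ Y} (T : FpqcTest Yi g z)
    (sq : ∀ i, IsPullback (q i) (p i) f (g i)) {fst : Z' ⟶ X} {snd : Z' ⟶ Z}
    (sq' : IsPullback fst snd f z) (k : T.κ) :
    ∃ n : pullback snd (T.w k) ⟶ Xi (T.i k),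
      IsPullback n (pullback.snd snd (T.w k)) (p (T.i k)) (T.l k) := by
  have big := (IsPullback.of_hasPullback snd (T.w k)).paste_horiz sq'
  rw [← T.comm k] at big
  exact ⟨(sq _).lift _ (pullback.snd snd (T.w k) ≫ T.l k) (by rw [Category.assoc]; exact big.w),
    IsPullback.of_right (by rw [(sq _).lift_fst]; exact big) ((sq _).lift_snd _ _ _) (sq _)⟩

theorem image_preimage_of_isPullback {P A B C : Sp S} {fst : P ⟶ A} {snd : P ⟶ B} {a : A ⟶ C} {b : B ⟶ C}
    (sq : IsPullback fst snd a b) (s : Set (Points A)) :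
    Points.map b ⁻¹' (Points.map a '' s) = Points.map snd '' (Points.map fst ⁻¹' s) := by
  ext y
  constructor
  · rintro ⟨x, hx, e⟩
    obtain ⟨z, rfl, rfl⟩ := exists_of_isPullback sq x y e
    exact ⟨z, hx, rfl⟩
  · rintro ⟨z, hz, rfl⟩
    exact ⟨_, hz, by rw [← Points.map_comp, ← Points.map_comp, sq.w]⟩

theorem univClosed_of_fpqc (hg : IsFpqcCover Yi g) (sq : ∀ i, IsPullback (q i) (p i) f (g i))
    (h : ∀ i, IsUnivClosedMor (p i)) : IsUnivClosedMor f := by
  intro Z Z' hZ z fst snd sq' A hA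
  obtain ⟨T⟩ := nonempty_fpqcTest Yi g hg hZ z
  refine T.detect _ fun k => ?_
  obtain ⟨n, hn⟩ := T.base sq sq' k
  rw [image_preimage_of_isPullback (IsPullback.of_hasPullback snd (T.w k))]
  exact h _ (IsAlgSpace.yon_obj _) _ _ _ hn _ (hA.preimage (Points.continuous_map _))

theorem univOpen_of_fpqc (hg : IsFpqcCover Yi g) (sq : ∀ i, IsPullback (q i) (p i) f (g i))
    (h : ∀ i, IsUnivOpenMor (p i)) : IsUnivOpenMor f := by
  intro Z Z' hZ z fst snd sq' A hA
  obtain ⟨T⟩ := nonempty_fpqcTest Yi g hg hZ z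
  rw [← isClosed_compl_iff]
  refine T.detect _ fun k => ?_
  obtain ⟨n, hn⟩ := T.base sq sq' k
  rw [Set.preimage_compl, isClosed_compl_iff,
    image_preimage_of_isPullback (IsPullback.of_hasPullback snd (T.w k))]
  exact h _ (IsAlgSpace.yon_obj _) _ _ _ hn _ (hA.preimage (Points.continuous_map _))

theorem univInjective_of_fpqc (hg : IsFpqcCover Yi g) (sq : ∀ i, IsPullback (q i) (p i) f (g i))
    (h : ∀ i, IsUnivInjectiveMor (p i)) : IsUnivInjectiveMor f := by
  intro Z Z' hZ z fst snd sq' x₁ x₂ e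
  obtain ⟨T⟩ := nonempty_fpqcTest Yi g hg hZ z
  obtain ⟨k, v, hv⟩ := T.surj (Points.map snd x₁)
  obtain ⟨n, hn⟩ := T.base sq sq' k
  obtain ⟨a, ha, ha'⟩ := exists_of_isPullback (IsPullback.of_hasPullback snd (T.w k)) x₁ v hv.symm
  obtain ⟨b, hb, hb'⟩ := exists_of_isPullback (IsPullback.of_hasPullback snd (T.w k)) x₂ v (e ▸ hv.symm)
  rw [← ha, ← hb, h _ (IsAlgSpace.yon_obj _) _ _ _ hn (ha'.trans hb'.symm)]

theorem univSurjective_of_fpqc (hg : IsFpqcCover Yi g) (sq : ∀ i, IsPullback (q i) (p i) f (g i))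
    (h : ∀ i, UnivSp (fun _ _ f => Function.Surjective (Points.map f)) (p i)) :
    UnivSp (fun _ _ f => Function.Surjective (Points.map f)) f := by
  intro Z Z' hZ z fst snd sq' x
  obtain ⟨T⟩ := nonempty_fpqcTest Yi g hg hZ z
  obtain ⟨k, v, rfl⟩ := T.surj x
  obtain ⟨n, hn⟩ := T.base sq sq' k
  obtain ⟨a, rfl⟩ := h _ (IsAlgSpace.yon_obj _) _ _ _ hn v
  exact ⟨Points.map (pullback.fst snd (T.w k)) a, by rw [← Points.map_comp, ← Points.map_comp, pullback.condition]⟩

theorem univSubmersive_of_fpqc (hg : IsFpqcCover Yi g) (sq : ∀ i, IsPullback (q i) (p i) f (g i))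
    (h : ∀ i, IsUnivSubmersiveMor (p i)) : IsUnivSubmersiveMor f := by
  intro Z Z' hZ z fst snd sq'
  refine Topology.isQuotientMap_iff_isClosed.2 ⟨univSurjective_of_fpqc hg sq
    (fun i _ _ hZ z _ _ sq => (h i hZ z _ _ sq).surjective) hZ z fst snd sq', fun A => ⟨fun hA =>
      hA.preimage (Points.continuous_map _), fun hA => ?_⟩⟩
  obtain ⟨T⟩ := nonempty_fpqcTest Yi g hg hZ z
  refine T.detect _ fun k => ?_
  obtain ⟨n, hn⟩ := T.base sq sq' k
  rw [← (h _ (IsAlgSpace.yon_obj _) _ _ _ hn).isClosed_preimage]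
  convert hA.preimage (Points.continuous_map (pullback.fst snd (T.w k))) using 1
  ext a
  rw [Set.mem_preimage, Set.mem_preimage, Set.mem_preimage, Set.mem_preimage, ← Points.map_comp,
    ← Points.map_comp, pullback.condition]

theorem univHomeo_of_fpqc (hg : IsFpqcCover Yi g) (sq : ∀ i, IsPullback (q i) (p i) f (g i))
    (h : ∀ i, IsUnivHomeoMor (p i)) : IsUnivHomeoMor f := fun _ _ hZ z _ _ sq' =>
  ⟨Points.continuous_map _,
    univOpen_of_fpqc hg sq (fun i _ _ hZ z _ _ sq => (h i hZ z _ _ sq).isOpenMap) hZ z _ _ sq',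
    univInjective_of_fpqc hg sq (fun i _ _ hZ z _ _ sq => (h i hZ z _ _ sq).injective) hZ z _ _ sq',
    univSurjective_of_fpqc hg sq (fun i _ _ hZ z _ _ sq => (h i hZ z _ _ sq).surjective) hZ z _ _ sq'⟩

theorem quasiCompactMor_baseChange {X' Y' : Sp S} {fst : X' ⟶ X} {snd : X' ⟶ Y'} {g' : Y' ⟶ Y}
    (sq : IsPullback fst snd f g') (h : IsQuasiCompactMor f) : IsQuasiCompactMor snd :=
  fun _ _ hZ hq z _ _ sq' => h hZ hq (z ≫ g') _ _ (sq'.paste_horiz sq)

theorem quasiCompactMor_of_fpqc (hY : IsAlgSpace Y) (hX : IsAlgSpace X) (hg : IsFpqcCover Yi g)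
    (sq : ∀ i, IsPullback (q i) (p i) f (g i)) (h : ∀ i, IsQuasiCompactMor (p i)) :
    IsQuasiCompactMor f := by
  intro Z Z' hZ hq z fst snd sq'
  haveI := compactSpace_points_of_isQuasiCompactSp hq
  obtain ⟨U, a, hU, ha, has⟩ := exists_affine_chart_of_compactSpace hZ
  obtain ⟨m, W, c, i, l, hW, hs, -, hl⟩ := exists_affine_test Yi g hg (a ≫ z)
  haveI := hW
  let w : ∀ j, (yon S).obj (W j) ⟶ Z := fun j => (yon S).map (c j) ≫ a
  have hcomp : ∀ j, IsCompact (Set.range (Points.map (pullback.fst snd (w j)))) := fun j => by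
    have big := (IsPullback.of_hasPullback snd (w j)).paste_horiz sq'
    have : w j ≫ z = l j ≫ g (i j) := by rw [hl, Category.assoc]
    rw [this] at big
    have hn : IsPullback ((sq _).lift _ (pullback.snd snd (w j) ≫ l j) (by rw [Category.assoc]; exact big.w))
        (pullback.snd snd (w j)) (p (i j)) (l j) :=
      IsPullback.of_right (by rw [(sq _).lift_fst]; exact big) ((sq _).lift_snd _ _ _) (sq _)
    haveI : CompactSpace (Points ((yon S).obj (W j))) := (Points.schemeHomeo (W j)).compactSpace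
    haveI := compactSpace_points_of_isQuasiCompactSp
      (h _ (IsAlgSpace.yon_obj _) (isQuasiCompactSp_of_compactSpace (IsAlgSpace.yon_obj _)) _ _ _ hn)
    exact isCompact_range (Points.continuous_map _)
  haveI : CompactSpace (Points Z') := by
    rw [← isCompact_univ_iff]
    have : (⋃ j, Set.range (Points.map (pullback.fst snd (w j)))) = Set.univ := by
      refine Set.eq_univ_of_forall fun x => ?_
      obtain ⟨t, ht⟩ := surjective_ofPt has (Points.map snd x)
      obtain ⟨j, v, hv⟩ := hs t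
      obtain ⟨y, hy, -⟩ := exists_of_isPullback (IsPullback.of_hasPullback snd (w j)) x (Points.ofScheme _ v)
        (by rw [← Points.ofPt_eq_map_ofScheme, Groth.Agent.SpPts86.ofPt_comp, hv, ht])
      exact Set.mem_iUnion.2 ⟨j, y, hy⟩
    rw [← this]
    exact isCompact_iUnion hcomp
  exact isQuasiCompactSp_of_compactSpace (isAlgSpace_of_isPullback sq' hX hZ hY.diag)

end Groth.Agent.SpFP87
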