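import Groth.Agent.SpFP87.RepDesc
import Groth.Agent.SpFP87.RepSigma
import Groth.Agent.SpPts86.Compact
import Groth.Agent.Grpd80.IndQALqf
/-!
Maps to an algebraic space descend along quasi-compact faithfully flat morphisms of schemes.
-/

set_option autoImplicit false
set_option linter.style.haveILetI false
set_option backward.isDefEq.respectTransparency false
universe u
open CategoryTheory CategoryTheory.Limits AlgebraicGeometry Opposite
open AlgSp
open Groth.Agent.Desc59 (IsQuot IsInvariant indQA)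

namespace Groth.Agent.SpFP87

variable {S : Scheme.{u}} {X : Sp S}

theorem mono_left {A B : Over S} (e : A ⟶ B) [Mono e] : Mono e.left :=
  ⟨fun {W} g₁ g₂ h => by
    have h' : g₁ ≫ A.hom = g₂ ≫ A.hom := by
      rw [← Over.w e, ← Category.assoc, h, Category.assoc]
    exact congrArg CommaMorphism.left ((cancel_mono e).1 (Over.OverMorphism.ext h :
      (Over.homMk g₁ rfl : Over.mk (g₁ ≫ A.hom) ⟶ A) ≫ e = Over.homMk g₂ h'.symm ≫ e))⟩

/-- Maps to an algebraic space are determined after a faithfully flat quasi-compact base change. -/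
theorem hom_ext_of_flat_qc (hX : IsAlgSpace X) {Z T : Over S} (c : Z ⟶ T) [Flat c.left]
    [Surjective c.left] [QuasiCompact c.left] (b b' : (yon S).obj T ⟶ X)
    (h : (yon S).map c ≫ b = (yon S).map c ≫ b') : b = b' := by
  obtain ⟨E, e, f, sq⟩ := hX.diag (prod.lift b b')
  haveI : Mono e := ⟨fun {W} g₁ g₂ hg => (yon S).map_injective (sq.hom_ext
    (prod_diag_cancel sq g₁ g₂ hg) (by rw [← Functor.map_comp, ← Functor.map_comp, hg]))⟩
  haveI := mono_left e
  have hc : ((yon S).map c ≫ b) ≫ Limits.diag X = (yon S).map c ≫ prod.lift b b' := by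
    ext <;> simp [h]
  obtain ⟨w, hw⟩ := (yon S).map_surjective (sq.lift _ _ hc)
  have hwe : w ≫ e = c := (yon S).map_injective (by rw [Functor.map_comp, hw, sq.lift_snd])
  have hiso : (MorphismProperty.isomorphisms Scheme.{u}) (pullback.snd e.left c.left) := by
    have : IsSplitEpi (pullback.snd e.left c.left) := IsSplitEpi.mk'
      ⟨pullback.lift w.left (𝟙 _) (by rw [Category.id_comp, ← Over.comp_left, hwe]),
        pullback.lift_snd _ _ _⟩
    exact isIso_of_mono_of_isSplitEpi _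
  haveI : IsIso e.left := MorphismProperty.of_pullback_snd_of_descendsAlong
    (P := MorphismProperty.isomorphisms Scheme.{u}) (Q := @Surjective ⊓ @Flat ⊓ @QuasiCompact)
    ⟨⟨inferInstance, inferInstance⟩, inferInstance⟩ hiso
  haveI : IsIso ((Over.forget S).map e) := inferInstanceAs (IsIso e.left)
  haveI : IsIso e := isIso_of_reflects_iso e (Over.forget S)
  rw [← cancel_epi ((yon S).map e)]
  have h1 : f = (yon S).map e ≫ b := by simpa using congrArg (· ≫ prod.fst) sq.w
  have h2 : f = (yon S).map e ≫ b' := by simpa using congrArg (· ≫ prod.snd) sq.w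
  exact h1.symm.trans h2
where
  prod_diag_cancel {T E : Over S} {e : E ⟶ T} {f : (yon S).obj E ⟶ X} {g : (yon S).obj T ⟶ X ⨯ X}
      (sq : IsPullback f ((yon S).map e) (Limits.diag X) g) {W : Over S} (g₁ g₂ : W ⟶ E)
      (hg : g₁ ≫ e = g₂ ≫ e) : (yon S).map g₁ ≫ f = (yon S).map g₂ ≫ f := by
    rw [← cancel_mono (Limits.diag X), Category.assoc, Category.assoc, sq.w, ← Functor.map_comp_assoc,
      ← Functor.map_comp_assoc, hg]

/-- Maps from a scheme to an algebraic space descend along faithfully flat quasi-compact morphisms. -/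
theorem exists_desc_of_flat_qc (hX : IsAlgSpace X) {Z T : Over S} (c : Z ⟶ T) [Flat c.left]
    [Surjective c.left] [QuasiCompact c.left] [CompactSpace ↥Z.left] (a : (yon S).obj Z ⟶ X)
    (h : ∀ (W : Over S) (k₁ k₂ : W ⟶ Z), k₁ ≫ c = k₂ ≫ c →
      (yon S).map k₁ ≫ a = (yon S).map k₂ ≫ a) :
    ∃ b : (yon S).obj T ⟶ X, (yon S).map c ≫ b = a := by
  obtain ⟨U, p, hp, hps⟩ := hX.atlas
  -- finitely many affine opens of the chart whose images cover the image of `a`
  have hcov : Set.range (Points.ofPt a) ⊆ ⋃ V : U.left.affineOpens, Points.ofPt p '' (V.1 : Set ↥U.left) := by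
    rintro x -
    obtain ⟨u, rfl⟩ := Groth.Agent.SpPts86.surjective_ofPt hps x
    obtain ⟨V, hV, huV, -⟩ :=
      exists_isAffineOpen_mem_and_subset (U := (⊤ : U.left.Opens)) (x := u) trivial
    exact Set.mem_iUnion.2 ⟨⟨V, hV⟩, u, huV, rfl⟩
  obtain ⟨n, hn⟩ := (isCompact_range (Points.continuous_ofPt a)).elim_finite_subcover _
    (fun V => Groth.Agent.SpPts86.isOpenMap_ofPt hp _ V.1.2) hcov
  let W' : ↥n → Over S := fun k => Over.mk (k.1.1.ι ≫ U.hom)
  let U₀ : Over S := Over.mk (Sigma.desc (fun k : ↥n => (W' k).hom))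
  haveI : ∀ k : ↥n, IsAffine (W' k).left := fun k => k.1.2
  haveI : IsAffine U₀.left := inferInstanceAs (IsAffine (∐ fun k : ↥n => (W' k).left))
  let j₀ : U₀.left ⟶ U.left := Sigma.desc fun k : ↥n => k.1.1.ι
  let j : U₀ ⟶ U := Over.homMk j₀ (Sigma.hom_ext _ _ fun k =>
    (Sigma.ι_desc_assoc (fun k : ↥n => k.1.1.ι) k U.hom).trans (Sigma.ι_desc (fun k => (W' k).hom) k).symm)
  haveI : IsZariskiLocalAtSource (@Etale : MorphismProperty Scheme.{u}) :=
    HasRingHomProperty.instIsZariskiLocalAtSource (Q := @RingHom.Etale)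
  haveI : Etale j.left := IsZariskiLocalAtSource.sigmaDesc (P := (@Etale : MorphismProperty Scheme.{u}))
    fun k => inferInstanceAs (Etale k.1.1.ι)
  let p₀ : (yon S).obj U₀ ⟶ X := (yon S).map j ≫ p
  have hp₀ : RepWith @Etale p₀ := Groth.Agent.SpPts86.repWith_etale_comp j hp
  -- the pullback of the chart
  obtain ⟨A, s, t, sq⟩ := hp₀.1 a
  have hse : Etale s.left := hp₀.2 a t s sq
  obtain ⟨t, rfl⟩ := (yon S).map_surjective t
  haveI := hse
  haveI : Surjective s.left := ⟨fun z => by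
    obtain ⟨V, hVn, u, huV, hu⟩ := Set.mem_iUnion₂.1 (hn ⟨z, rfl⟩)
    have hu₀ : j₀ ((Sigma.ι (fun k : ↥n => (W' k).left) ⟨V, hVn⟩) ⟨u, huV⟩) = u :=
      congrArg (fun k : (W' ⟨V, hVn⟩).left ⟶ U.left => k.base ⟨u, huV⟩)
        (Sigma.ι_desc (fun k : ↥n => k.1.1.ι) ⟨V, hVn⟩)
    obtain ⟨v, -, hv⟩ := Groth.Agent.SpPts86.exists_pt_of_isPullback' sq
      ((Sigma.ι (fun k : ↥n => (W' k).left) ⟨V, hVn⟩) ⟨u, huV⟩) z (by
        rw [Groth.Agent.SpPts86.ofPt_comp]; exact (congrArg (Points.ofPt p) hu₀).trans hu)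
    exact ⟨v, hv⟩⟩
  -- separatedness over `Z`
  let m : A.left ⟶ pullback Z.hom U₀.hom := pullback.lift s.left t.left (by rw [Over.w s, Over.w t])
  haveI : Mono m := ⟨fun {W} g₁ g₂ hg => by
    have e₁ : g₁ ≫ s.left = g₂ ≫ s.left := by
      simpa [m] using congrArg (· ≫ pullback.fst Z.hom U₀.hom) hg
    have e₂ : g₁ ≫ t.left = g₂ ≫ t.left := by
      simpa [m] using congrArg (· ≫ pullback.snd Z.hom U₀.hom) hg
    have e₀ : g₂ ≫ A.hom = g₁ ≫ A.hom := by
      rw [← Over.w s, ← Category.assoc, ← Category.assoc, e₁]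
    refine congrArg CommaMorphism.left ((yon S).map_injective (sq.hom_ext ?_ ?_) :
      (Over.homMk g₁ rfl : Over.mk (g₁ ≫ A.hom) ⟶ A) = Over.homMk g₂ e₀)
    · rw [← Functor.map_comp, ← Functor.map_comp]
      exact congrArg (yon S).map (Over.OverMorphism.ext e₂)
    · rw [← Functor.map_comp, ← Functor.map_comp]
      exact congrArg (yon S).map (Over.OverMorphism.ext e₁)⟩
  haveI : IsSeparated U₀.hom := inferInstance
  haveI : IsSeparated m := inferInstance
  haveI : IsSeparated s.left := by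
    rw [← pullback.lift_fst s.left t.left (by rw [Over.w s, Over.w t] : s.left ≫ Z.hom = t.left ≫ U₀.hom)]
    exact inferInstanceAs (IsSeparated (m ≫ pullback.fst Z.hom U₀.hom))
  haveI : LocallyQuasiFinite s.left := etale_locallyQuasiFinite s.left hse
  have hs : indQA s.left := Groth.Agent.Grpd80.isIndQuasiAffineHom_of_lqf s.left
  -- the descent datum
  have htr : ∀ (Y : Scheme.{u}) (x₀ x₁ : Y ⟶ Z.left), x₀ ≫ c.left = x₁ ≫ c.left →
      ∀ v : Desc.Lifts (Over.mk s.left) x₀, ∃ w : Desc.Lifts (Over.mk s.left) x₁,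
        w.1 ≫ t.left = v.1 ≫ t.left := by
    intro Y x₀ x₁ hx v
    have hv : v.1 ≫ s.left = x₀ := v.2
    let σ : Y ⟶ S := v.1 ≫ A.hom
    have e₀ : x₀ ≫ Z.hom = σ := by rw [← hv, Category.assoc, Over.w s]
    have e₁ : x₁ ≫ Z.hom = σ := by
      rw [← e₀, ← Over.w c, ← Category.assoc, ← Category.assoc, hx]
    let vO : Over.mk σ ⟶ A := Over.homMk v.1 rfl
    let x₁O : Over.mk σ ⟶ Z := Over.homMk x₁ e₁
    have hcond : ((yon S).map (vO ≫ t)) ≫ p₀ = (yon S).map x₁O ≫ a := by
      rw [Functor.map_comp, Category.assoc, sq.w, ← Functor.map_comp_assoc]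
      exact h _ _ _ (Over.OverMorphism.ext (show (v.1 ≫ s.left) ≫ c.left = x₁ ≫ c.left by rw [hv, hx]))
    obtain ⟨w, hw⟩ := (yon S).map_surjective (sq.lift _ _ hcond)
    exact ⟨⟨w.left, congrArg CommaMorphism.left
        ((yon S).map_injective (by rw [Functor.map_comp, hw, sq.lift_snd]) : w ≫ s = x₁O)⟩,
      congrArg CommaMorphism.left
        ((yon S).map_injective (by rw [Functor.map_comp, hw, sq.lift_fst]) : w ≫ t = vO ≫ t)⟩
  choose tr htr using htr
  have hlifts : ∀ {Y : Scheme.{u}} {x : Y ⟶ Z.left} (v v' : Desc.Lifts (Over.mk s.left) x),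
      v.1 ≫ t.left = v'.1 ≫ t.left → v = v' := fun {Y x} v v' e => Subtype.ext ((cancel_mono m).1
    (pullback.hom_ext (by simp only [m, Category.assoc, pullback.lift_fst]; exact v.2.trans v'.2.symm)
      (by simp only [m, Category.assoc, pullback.lift_snd]; exact e)))
  let D : Desc.SchDD c.left :=
    { obj := Over.mk s.left
      φ := fun Y x₀ x₁ hx =>
        { toFun := tr Y x₀ x₁ hx
          invFun := tr Y x₁ x₀ hx.symm
          left_inv := fun v => hlifts _ _ ((htr ..).trans (htr ..))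
          right_inv := fun v => hlifts _ _ ((htr ..).trans (htr ..)) }
      φ_natural := fun Y Y' g x₀ x₁ hx hx' v v' hv => by
        have := hlifts (tr Y' (g ≫ x₀) (g ≫ x₁) hx' v') ⟨g ≫ (tr Y x₀ x₁ hx v).1,
          (Category.assoc _ _ _).trans (congrArg (g ≫ ·) (tr Y x₀ x₁ hx v).2)⟩ (by
          rw [htr, Category.assoc, htr, ← Category.assoc, hv])
        exact congrArg Subtype.val this
      φ_self := fun Y x v => hlifts _ _ (htr ..)
      φ_comp := fun Y x₀ x₁ x₂ h₀₁ h₁₂ v => hlifts _ _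
        (((htr ..).trans (htr ..)).trans (htr ..).symm) }
  obtain ⟨V', π₀, hV'⟩ := Groth.Agent.Desc59.exists_isQuot_iff.2
    (Groth.Agent.Desc59.effective_of_isIndQuasiAffineHom c.left D hs)
  let V : Over S := Over.mk (V'.hom ≫ T.hom)
  let e : V ⟶ T := Over.homMk V'.hom rfl
  have hsq : IsPullback π₀ s.left V'.hom c.left := hV'.isPullback
  haveI : Etale V'.hom := MorphismProperty.of_isPullback_of_descendsAlong (P := @Etale)
    (Q := @Surjective ⊓ @Flat ⊓ @QuasiCompact) hsq.flip ⟨⟨inferInstance, inferInstance⟩, inferInstance⟩ hse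
  haveI : Surjective V'.hom := MorphismProperty.of_isPullback_of_descendsAlong (P := @Surjective)
    (Q := @Surjective ⊓ @Flat ⊓ @QuasiCompact) hsq.flip ⟨⟨inferInstance, inferInstance⟩, inferInstance⟩
    ‹Surjective s.left›
  haveI : Flat π₀ := MorphismProperty.of_isPullback hsq.flip ‹Flat c.left›
  haveI : Surjective π₀ := MorphismProperty.of_isPullback hsq.flip ‹Surjective c.left›
  haveI : QuasiCompact π₀ := MorphismProperty.of_isPullback hsq.flip ‹QuasiCompact c.left›
  let π : A ⟶ V := Over.homMk π₀ (by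
    show π₀ ≫ V'.hom ≫ T.hom = A.hom
    rw [← Category.assoc, hsq.w, Category.assoc, Over.w c, Over.w s])
  have hπe : π ≫ e = s ≫ c := Over.OverMorphism.ext hsq.w
  let t' : V.left ⟶ U₀.left := EffectiveEpi.desc π₀ t.left fun g₁ g₂ hg => by
    have hc' : (g₁ ≫ s.left) ≫ c.left = (g₂ ≫ s.left) ≫ c.left := by
      simp only [Category.assoc]
      rw [← hsq.w, ← Category.assoc, hg, Category.assoc]
    have h1 := IsInvariant.φ_comp hV'.invariant (g₁ ≫ s.left) (g₂ ≫ s.left) hc'
      (⟨g₁, rfl⟩ : Desc.Lifts D.obj (g₁ ≫ s.left))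
    have h2 : (tr _ _ _ hc' ⟨g₁, rfl⟩).1 = g₂ := hsq.hom_ext (h1.trans hg)
      (tr _ _ _ hc' ⟨g₁, rfl⟩).2
    have h3 := htr _ (g₁ ≫ s.left) (g₂ ≫ s.left) hc' ⟨g₁, rfl⟩
    rw [h2] at h3
    exact h3.symm
  have ht' : π₀ ≫ t' = t.left := EffectiveEpi.fac π₀ _ _
  haveI : Epi π₀ := Flat.epi_of_flat_of_surjective π₀
  let tO : V ⟶ U₀ := Over.homMk t' ((cancel_epi π₀).1 (by
    rw [← Category.assoc, ht', Over.w t]; exact (Over.w π).symm))
  have hπt : π ≫ tO = t := Over.OverMorphism.ext ht'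
  have hfppf : fppfSurj e.left := etale_surjective_le_fppfSurj _ ⟨‹Etale V'.hom›, ‹Surjective V'.hom›⟩
  let bV : (yon S).obj V ⟶ X := (yon S).map tO ≫ p₀
  have hbV : (yon S).map π ≫ bV = (yon S).map s ≫ a := by
    rw [← Functor.map_comp_assoc, hπt, sq.w]
  -- glue along the etale cover `V ⟶ T`
  obtain ⟨b, hb, -⟩ := cover_existsUnique_desc e hfppf bV fun W k₁ k₂ hk => by
    let R := pullback (k₁ ≫ e) c
    let r : R ⟶ W := pullback.fst (k₁ ≫ e) c
    let z : R ⟶ Z := pullback.snd (k₁ ≫ e) c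
    have hR : IsPullback r.left z.left (k₁ ≫ e).left c.left :=
      (IsPullback.of_hasPullback (k₁ ≫ e) c).map (Over.forget S)
    haveI : Flat r.left := MorphismProperty.of_isPullback hR.flip ‹Flat c.left›
    haveI : Surjective r.left := MorphismProperty.of_isPullback hR.flip ‹Surjective c.left›
    haveI : QuasiCompact r.left := MorphismProperty.of_isPullback hR.flip ‹QuasiCompact c.left›
    have hpb : IsPullback π s e c := IsPullback.of_map (Over.forget S) hπe hsq
    have key : ∀ k : W ⟶ V, k ≫ e = k₁ ≫ e → (yon S).map r ≫ (yon S).map k ≫ bV = (yon S).map z ≫ a := by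
      intro k hk'
      let w : R ⟶ A := hpb.lift (r ≫ k) z (by rw [Category.assoc, hk', pullback.condition])
      rw [← Functor.map_comp_assoc, ← hpb.lift_fst (r ≫ k) z (by rw [Category.assoc, hk', pullback.condition]),
        Functor.map_comp_assoc, hbV, ← Functor.map_comp_assoc, hpb.lift_snd]
    exact hom_ext_of_flat_qc hX r _ _ ((key k₁ rfl).trans (key k₂ hk.symm).symm)
  refine ⟨b, ?_⟩
  have hsfppf : fppfSurj s.left := etale_surjective_le_fppfSurj _ ⟨hse, inferInstance⟩
  refine cover_hom_ext s hsfppf ?_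
  rw [← Functor.map_comp_assoc, ← hπe, Functor.map_comp_assoc, hb, hbV]

end Groth.Agent.SpFP87
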