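import Groth.Agent.SpFP87.SourceLocal
import Groth.Agent.SpFP87.LocPRep
import Groth.Prelude.Def_AlgSpMor5
/-!
`RepLocT P` can be tested on one etale surjective chart of the target.
-/

set_option autoImplicit false
set_option linter.style.haveILetI false
universe u
open CategoryTheory CategoryTheory.Limits AlgebraicGeometry Opposite
open AlgSp

namespace Groth.Agent.SpFP87

variable {S : Scheme.{u}}

theorem isLocalAtTarget_baseChange_etale {P : MorphismProperty Scheme.{u}}
    [P.IsLocalAtTarget Scheme.etalePrecoverage] {A B A' B' : Scheme.{u}} {fst : A' ⟶ A} {snd : A' ⟶ B'}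
    {f : A ⟶ B} {g : B' ⟶ B} (sq : IsPullback fst snd f g) (hg : Etale g) (hf : P f) : P snd := by
  obtain ⟨R, hR, hRg⟩ := exists_mem_of_precoverage (Q := (@Etale.{u} : MorphismProperty Scheme.{u})) g hg
  rw [← sq.isoPullback_hom_snd, P.cancel_left_of_respectsIso]
  exact MorphismProperty.IsLocalAtTarget.pullbackSnd (K := Scheme.etalePrecoverage) hR hRg hf

theorem repLocT_of_chart {P : MorphismProperty Scheme.{u}} [P.IsLocalAtTarget Scheme.etalePrecoverage]
    {X Y : Sp S} {f : X ⟶ Y} (hY : Representable (Limits.diag Y)) (hf : Representable f)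
    {V W : Over S} {b : (yon S).obj V ⟶ Y} (hb1 : RepWith @Etale b) (hb2 : RepWith @Surjective b)
    {fst : (yon S).obj W ⟶ X} {snd : W ⟶ V} (sq : IsPullback fst ((yon S).map snd) f b)
    (hP : P snd.left) : RepLocT P f := by
  refine ⟨hf, fun V' W' b' fst' snd' hb' sq' => ?_⟩
  obtain ⟨V₂, p, q, sqV⟩ := exists_isPullback_yon hY b b'
  obtain ⟨W₂, snd₂, fst₂, sq₂⟩ := hf ((yon S).map p ≫ b)
  have hp : Etale p.left := etale_snd_of_isPullback sqV.flip hb'
  have hq : Etale q.left := etale_snd_of_isPullback sqV hb1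
  have hqs : Surjective q.left := etale_snd_of_isPullback sqV hb2
  have h1 : IsPullback ((yon S).map ((yon S).preimage
      (sq.lift fst₂ ((yon S).map snd₂ ≫ (yon S).map p) (by rw [Category.assoc]; exact sq₂.w))))
      ((yon S).map snd₂) ((yon S).map snd) ((yon S).map p) := by
    rw [Functor.map_preimage]
    exact IsPullback.of_right (by rw [sq.lift_fst]; exact sq₂) (sq.lift_snd _ _ _) sq
  have hP₂ : P snd₂.left := isLocalAtTarget_baseChange_etale (isPullback_left h1) hp hP
  have sq₂' : IsPullback fst₂ ((yon S).map snd₂) f ((yon S).map q ≫ b') := by rw [← sqV.w]; exact sq₂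
  have h2 : IsPullback ((yon S).map ((yon S).preimage
      (sq'.lift fst₂ ((yon S).map snd₂ ≫ (yon S).map q) (by rw [Category.assoc]; exact sq₂'.w))))
      ((yon S).map snd₂) ((yon S).map snd') ((yon S).map q) := by
    rw [Functor.map_preimage]
    exact IsPullback.of_right (by rw [sq'.lift_fst]; exact sq₂') (sq'.lift_snd _ _ _) sq'
  refine MorphismProperty.IsLocalAtTarget.of_forall_pullbackSnd (K := Scheme.etalePrecoverage)
    (singleton_mem_precoverage_of_le (Q := (@Etale.{u} : MorphismProperty Scheme.{u})) q.left hq hqs) ?_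
  rintro _ _ _ ⟨⟩
  rw [← (isPullback_left h2).isoPullback_inv_snd, P.cancel_left_of_respectsIso]
  exact hP₂

theorem LocLift.baseChange {X Y X' Y' : Sp S} {fst : X' ⟶ X} {snd : X' ⟶ Y'} {f : X ⟶ Y} {g : Y' ⟶ Y}
    (sq : IsPullback fst snd f g) (hf : LocLift f) : LocLift snd := fun T t => by
  obtain ⟨W, c, l, hc, hl⟩ := hf T (t ≫ g)
  exact ⟨W, c, sq.lift l ((yon S).map c ≫ t) (by rw [Category.assoc]; exact hl), hc, sq.lift_snd _ _ _⟩

/-- A commutative square is cartesian if it becomes cartesian after a base change with local lifts. -/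
theorem isPullback_of_locLift {A B C D E F : Sp S} {ac : A ⟶ C} {ab : A ⟶ B} {cd : C ⟶ D} {bd : B ⟶ D}
    {ce : C ⟶ E} {df : D ⟶ F} {ef : E ⟶ F} (hl : IsPullback ac ab cd bd) (hcomm : cd ≫ df = ce ≫ ef)
    (hout : IsPullback (ac ≫ ce) ab ef (bd ≫ df)) (hbd : LocLift bd) : IsPullback ce cd ef df := by
  let hP := IsPullback.of_hasPullback ef df
  let m : C ⟶ pullback ef df := hP.lift ce cd hcomm.symm
  let hQ := IsPullback.of_hasPullback (pullback.snd ef df) bd
  let mB : A ⟶ pullback (pullback.snd ef df) bd :=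
    hQ.lift (ac ≫ m) ab (by rw [Category.assoc, hP.lift_snd]; exact hl.w)
  have h1 : IsPullback ac mB m (pullback.fst (pullback.snd ef df) bd) := by
    refine IsPullback.of_bot ?_ (hQ.lift_fst _ _ _).symm hQ
    rw [hQ.lift_snd, hP.lift_snd]
    exact hl
  have hbig := hQ.paste_horiz hP
  haveI : IsIso mB := by
    have : mB = (hout.isoIsPullback _ _ hbig).hom := by
      apply hbig.hom_ext
      · rw [hout.isoIsPullback_hom_fst _ _ hbig, ← Category.assoc, hQ.lift_fst, Category.assoc, hP.lift_fst]
      · rw [hout.isoIsPullback_hom_snd _ _ hbig, hQ.lift_snd]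
    rw [this]; infer_instance
  haveI : IsIso m := isIso_of_baseChange h1 (LocLift.baseChange hQ.flip hbd)
  exact hP.of_iso (asIso m).symm (Iso.refl _) (Iso.refl _) (Iso.refl _)
    (by simp [m]) (by simp [m]) (by simp) (by simp)

end Groth.Agent.SpFP87
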