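import Groth.Agent.SpFP87.FpqcBase
import Groth.Agent.SpFP87.Covers
import Groth.Agent.SpFP87.FpqcTest
import Groth.Agent.SpPts86.Graph
/-!
Representable properties descend along fpqc coverings; conditions on diagonals.
-/

set_option autoImplicit false
set_option linter.style.haveILetI false
universe u
open CategoryTheory CategoryTheory.Limits AlgebraicGeometry Opposite
open AlgSp

namespace Groth.Agent.SpFP87

variable {S : Scheme.{u}}

/-- A property of representable morphisms descends along fpqc coverings of the target. -/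
theorem repWith_of_fpqc {P : MorphismProperty Scheme.{u}} [P.IsStableUnderBaseChange]
    [IsZariskiLocalAtTarget P] [P.DescendsAlong (@Surjective ⊓ @Flat ⊓ @QuasiCompact)]
    {ι : Type u} {X Y : Sp S} {Yi Xi : ι → Sp S} {g : ∀ i, Yi i ⟶ Y} {f : X ⟶ Y} {p : ∀ i, Xi i ⟶ Yi i}
    {q : ∀ i, Xi i ⟶ X} (hg : IsFpqcCover Yi g) (sq : ∀ i, IsPullback (q i) (p i) f (g i))
    (hf : Representable f) (h : ∀ i, RepWith P (p i)) : RepWith P f := by
  refine ⟨hf, fun T A t fstA sndA sqA => ?_⟩
  change P sndA.left
  rw [IsZariskiLocalAtTarget.iff_of_openCover (P := P) T.left.affineCover]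
  intro k
  let Z : Over S := Over.mk (T.left.affineCover.f k ≫ T.hom)
  let z : Z ⟶ T := Over.homMk (T.left.affineCover.f k) rfl
  haveI : IsAffine Z.left := inferInstanceAs (IsAffine (T.left.affineCover.X k))
  obtain ⟨m, W, c, hW, hfl, hsurj, hlift⟩ := hg.2 Z inferInstance ((yon S).map z ≫ t)
  change P (pullback.snd sndA.left z.left)
  haveI := hW
  refine of_fpqc_family _ (fun j => (W j).left) (fun j => (c j).left) hfl hsurj fun j => ?_
  obtain ⟨i, l, hl⟩ := hlift j
  obtain ⟨AW, r, s, sqU⟩ := exists_isPullback_yon (IsAlgSpace.yon_obj T).diag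
    ((yon S).map sndA) ((yon S).map (c j ≫ z))
  have e0 := isPullback_left sqU
  suffices hP : P s.left by
    have e1 := (IsPullback.of_hasPullback (pullback.snd sndA.left z.left) (c j).left).paste_horiz
      (IsPullback.of_hasPullback sndA.left z.left)
    have e3 : (e1.isoIsPullback _ _ e0).hom ≫ s.left =
        pullback.snd (pullback.snd sndA.left z.left) (c j).left := e1.isoIsPullback_hom_snd _ _ e0
    rw [← e3, P.cancel_left_of_respectsIso]
    exact hP
  have big : IsPullback ((yon S).map r ≫ fstA) ((yon S).map s) f (l ≫ g i) := by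
    rw [hl]
    have := sqU.paste_horiz sqA
    rwa [Functor.map_comp, Category.assoc] at this
  exact (h i).property l _ _ (IsPullback.of_right (h₁₁ := (sq i).lift _ ((yon S).map s ≫ l)
    (by rw [Category.assoc]; exact big.w)) (by rw [(sq i).lift_fst]; exact big) ((sq i).lift_snd _ _ _) (sq i))

section Diagonal

variable {X Y X' Y' : Sp S} {q : X' ⟶ X} {p : X' ⟶ Y'} {f : X ⟶ Y} {g : Y' ⟶ Y}

/-- The map `X' ×_{Y'} X' ⟶ X ×_Y X`. -/
noncomputable def selfProdMap (sq : IsPullback q p f g) : pullback p p ⟶ pullback f f :=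
  pullback.map p p f f q q g sq.w.symm sq.w.symm

theorem isPullback_selfProdMap_fst (sq : IsPullback q p f g) :
    IsPullback (selfProdMap sq) (pullback.fst p p) (pullback.fst f f) q := by
  have big := (IsPullback.of_hasPullback p p).flip.paste_horiz sq
  rw [← sq.w] at big
  refine IsPullback.of_right (h₁₂ := pullback.snd f f) (v₁₃ := f) (h₂₂ := f) ?_ (pullback.lift_fst _ _ _)
    (IsPullback.of_hasPullback f f).flip
  rw [selfProdMap, pullback.lift_snd]
  exact big

/-- The self product over the base change is the base change of the self product. -/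
theorem isPullback_selfProd (sq : IsPullback q p f g) :
    IsPullback (selfProdMap sq) (pullback.fst p p ≫ p) (pullback.fst f f ≫ f) g :=
  (isPullback_selfProdMap_fst sq).paste_vert sq

/-- The diagonal of a base change is the base change of the diagonal. -/
theorem isPullback_diagonal (sq : IsPullback q p f g) :
    IsPullback q (pullback.diagonal p) (pullback.diagonal f) (selfProdMap sq) := by
  refine IsPullback.of_bot ?_ ?_ (isPullback_selfProdMap_fst sq)
  · rw [pullback.diagonal_fst, pullback.diagonal_fst]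
    exact IsPullback.of_vert_isIso ⟨by simp⟩
  · apply pullback.hom_ext
    · rw [Category.assoc, Category.assoc, selfProdMap, pullback.lift_fst, pullback.diagonal_fst,
        pullback.diagonal_fst_assoc, Category.comp_id]
    · rw [Category.assoc, Category.assoc, selfProdMap, pullback.lift_snd, pullback.diagonal_snd,
        pullback.diagonal_snd_assoc, Category.comp_id]

end Diagonal

theorem isFpqcCover_selfProd {ι : Type u} {X Y : Sp S} {Yi Xi : ι → Sp S} {g : ∀ i, Yi i ⟶ Y} {f : X ⟶ Y}
    {p : ∀ i, Xi i ⟶ Yi i} {q : ∀ i, Xi i ⟶ X} (hY : IsAlgSpace Y) (hX : IsAlgSpace X)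
    (hYi : ∀ i, IsAlgSpace (Yi i)) (hg : IsFpqcCover Yi g) (sq : ∀ i, IsPullback (q i) (p i) f (g i)) :
    IsFpqcCover (fun i => pullback (p i) (p i)) (fun i => selfProdMap (sq i)) :=
  isFpqcCover_baseChange (pullback.fst f f ≫ f) _ g _ _ (fun i => pullback.fst (p i) (p i) ≫ p i)
    (fun i => isPullback_selfProd (sq i)) hY (isAlgSpace_pullback f f hX hX hY) hYi hg

/-- Conditions on the diagonal are fpqc local on the base. -/
theorem isLocalOnBase_fpqc_diagonal {P : MorphismProperty Scheme.{u}} [P.IsStableUnderBaseChange]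
    [IsZariskiLocalAtTarget P] [P.DescendsAlong (@Surjective ⊓ @Flat ⊓ @QuasiCompact)] :
    IsLocalOnBase (IsFpqcCover (S := S)) (fun _ _ f => RepWith P (pullback.diagonal f)) := by
  intro ι Y Yi g hY hYi hg X f hX Xi p q hXi sq
  exact ⟨fun h i => (repWith_isStableUnderBaseChange P).of_isPullback (isPullback_diagonal (sq i)) h,
    repWith_of_fpqc (isFpqcCover_selfProd hY hX hYi hg sq) (fun i => isPullback_diagonal (sq i))
      (Groth.Agent.SpPts86.representable_diagonal hX.diag f)⟩

theorem isLocalOnBase_fpqc_separated : IsLocalOnBase (IsFpqcCover (S := S)) IsSeparatedMor := by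
  haveI := Groth.Agent.Unr55.isClosedImmersion.{u}
  exact isLocalOnBase_fpqc_diagonal (P := @IsClosedImmersion)

theorem isLocalOnBase_fpqc_quasiSeparated : IsLocalOnBase (IsFpqcCover (S := S)) IsQuasiSeparatedMor := by
  haveI := Groth.Agent.Unr55.quasiCompact.{u}
  exact isLocalOnBase_fpqc_diagonal (P := @QuasiCompact)

theorem isLocalOnBase_fpqc_quasiCompact : IsLocalOnBase (IsFpqcCover (S := S)) IsQuasiCompactMor :=
  fun _ _ _ _ hY _ hg _ _ hX _ _ _ _ sq =>
    ⟨fun h i => quasiCompactMor_baseChange (sq i) h, quasiCompactMor_of_fpqc hY hX hg sq⟩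

theorem IsLocalOnBase.and {τ : CovNotion S} {P Q : MorphismProperty (Sp S)} (hP : IsLocalOnBase τ P)
    (hQ : IsLocalOnBase τ Q) : IsLocalOnBase τ (fun _ _ f => P f ∧ Q f) :=
  fun _ _ Yi g hY hYi hg _ f hX Xi p q hXi sq =>
    (and_congr (hP Yi g hY hYi hg f hX Xi p q hXi sq) (hQ Yi g hY hYi hg f hX Xi p q hXi sq)).trans
      forall_and.symm

theorem isLocalOnBase_fpqc_univClosed : IsLocalOnBase (IsFpqcCover (S := S)) IsUnivClosedMor :=
  fun _ _ _ _ _ _ hg _ _ _ _ _ _ _ sq =>
    ⟨fun h i => univSp_baseChange (sq i) h, univClosed_of_fpqc hg sq⟩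

end Groth.Agent.SpFP87
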