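import Groth.Agent.SpFP87.RepDesc
import Groth.Agent.SpFP87.FpqcRep
import Groth.Agent.Unr55.DescProps
import Groth.Prelude.Def_AlgSpMor5
import Groth.Prelude.Def_AlgSpInf
/-!
Affine, integral, finite morphisms and closed immersions are fpqc local on the base.
-/

set_option autoImplicit false
set_option linter.style.haveILetI false
set_option backward.isDefEq.respectTransparency false
universe u
open CategoryTheory CategoryTheory.Limits AlgebraicGeometry Opposite
open AlgSp
open Groth.Agent.Desc59 (indQA)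

namespace Groth.Agent.SpFP87

variable {S : Scheme.{u}}

theorem isIndQuasiAffineHom_of_isAffineHom {X Y : Scheme.{u}} (f : X ⟶ Y) [IsAffineHom f] :
    MoreMor.IsIndQuasiAffineHom f := by
  intro V hV W hW
  haveI : IsAffine (f ⁻¹ᵁ V).toScheme := hV.preimage f
  haveI : CompactSpace W.toScheme := isCompact_iff_compactSpace.mp hW
  exact Scheme.IsQuasiAffine.of_isImmersion W.ι

theorem isIndQuasiAffineHom_of_isImmersion {X Y : Scheme.{u}} (f : X ⟶ Y) [IsImmersion f] :
    MoreMor.IsIndQuasiAffineHom f := by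
  intro V hV W hW
  haveI : IsAffine V.toScheme := hV
  haveI : CompactSpace W.toScheme := isCompact_iff_compactSpace.mp hW
  haveI : IsImmersion (f ∣_ V) := IsZariskiLocalAtTarget.restrict ‹IsImmersion f› V
  exact Scheme.IsQuasiAffine.of_isImmersion (W.ι ≫ f ∣_ V)

theorem isLocalOnBase_fpqc_repWith {P : MorphismProperty Scheme.{u}} [P.IsStableUnderBaseChange]
    [IsZariskiLocalAtTarget P] (hP : P.DescendsAlong (@Surjective ⊓ @Flat ⊓ @QuasiCompact))
    (hPqa : P ≤ indQA) : IsLocalOnBase (IsFpqcCover (S := S)) (RepWith P) := by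
  haveI := hP
  intro ι Y Yi g hY hYi hg X f hX Xi p q hXi sq
  exact ⟨fun h i => (repWith_isStableUnderBaseChange P).of_isPullback (sq i) h,
    fun h => repWith_of_fpqc hg sq (representable_of_fpqc hPqa hX hY hg sq h) h⟩

/-- A property tested on affine schemes is local when its representable version is. -/
theorem isLocalOnBase_congr {τ : CovNotion S} {Q Q' : MorphismProperty (Sp S)} (hQ : IsLocalOnBase τ Q)
    (h : ∀ {X Y : Sp S} (f : X ⟶ Y), IsAlgSpace X → IsAlgSpace Y → (Q f ↔ Q' f)) :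
    IsLocalOnBase τ Q' := by
  intro ι Y Yi g hY hYi hg X f hX Xi p q hXi sq
  rw [← h f hX hY, hQ Yi g hY hYi hg f hX Xi p q hXi sq]
  exact forall_congr' fun i => h (p i) (hXi i) (hYi i)

theorem repWith_isAffineHom_iff {X Y : Sp S} (f : X ⟶ Y) (hX : IsAlgSpace X) (hY : IsAlgSpace Y) :
    RepWith @IsAffineHom f ↔ IsAffineMor f := by
  refine ⟨fun h Z hZ g => ⟨_, _, _, h.rep.isPullback g, ?_⟩, fun h => ?_⟩
  · haveI := hZ
    haveI : IsAffineHom (h.rep.snd g).left := h.property_snd g
    exact isAffine_of_isAffineHom (h.rep.snd g).left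
  · refine repWith_of_affine_test (fun _ _ k (_ : IsAffineHom k) => isIndQuasiAffineHom_of_isAffineHom k)
      hX hY fun Z hZ l => ?_
    obtain ⟨W, i, fst, sq, hW⟩ := h hZ l
    haveI := hW; haveI := hZ
    exact ⟨W, fst, i, sq, inferInstanceAs (IsAffineHom i.left)⟩

theorem repWith_isIntegralHom_iff {X Y : Sp S} (f : X ⟶ Y) (hX : IsAlgSpace X) (hY : IsAlgSpace Y) :
    RepWith @IsIntegralHom f ↔ IsIntegralMor f := by
  refine ⟨fun h Z hZ g => ⟨_, _, _, h.rep.isPullback g, ?_, h.property_snd g⟩, fun h => ?_⟩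
  · haveI := hZ
    haveI : IsIntegralHom (h.rep.snd g).left := h.property_snd g
    exact isAffine_of_isAffineHom (h.rep.snd g).left
  · refine repWith_of_affine_test (fun _ _ k (_ : IsIntegralHom k) => isIndQuasiAffineHom_of_isAffineHom k)
      hX hY fun Z hZ l => ?_
    obtain ⟨W, i, fst, sq, -, hi⟩ := h hZ l
    exact ⟨W, fst, i, sq, hi⟩

theorem repWith_isFinite_iff {X Y : Sp S} (f : X ⟶ Y) (hX : IsAlgSpace X) (hY : IsAlgSpace Y) :
    RepWith @IsFinite f ↔ IsFiniteMor f := by
  refine ⟨fun h Z hZ g => ⟨_, _, _, h.rep.isPullback g, ?_, h.property_snd g⟩, fun h => ?_⟩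
  · haveI := hZ
    haveI : IsFinite (h.rep.snd g).left := h.property_snd g
    exact isAffine_of_isAffineHom (h.rep.snd g).left
  · refine repWith_of_affine_test (fun _ _ k (_ : IsFinite k) => isIndQuasiAffineHom_of_isAffineHom k)
      hX hY fun Z hZ l => ?_
    obtain ⟨W, i, fst, sq, -, hi⟩ := h hZ l
    exact ⟨W, fst, i, sq, hi⟩

theorem isLocalOnBase_fpqc_affine : IsLocalOnBase (IsFpqcCover (S := S)) IsAffineMor :=
  isLocalOnBase_congr (isLocalOnBase_fpqc_repWith Groth.Agent.Unr55.isAffineHom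
    fun _ _ k (_ : IsAffineHom k) => isIndQuasiAffineHom_of_isAffineHom k)
    fun f hX hY => repWith_isAffineHom_iff f hX hY

theorem isLocalOnBase_fpqc_integral : IsLocalOnBase (IsFpqcCover (S := S)) IsIntegralMor :=
  isLocalOnBase_congr (isLocalOnBase_fpqc_repWith Groth.Agent.Unr55.isIntegralHom
    fun _ _ k (_ : IsIntegralHom k) => isIndQuasiAffineHom_of_isAffineHom k)
    fun f hX hY => repWith_isIntegralHom_iff f hX hY

theorem isLocalOnBase_fpqc_finite : IsLocalOnBase (IsFpqcCover (S := S)) IsFiniteMor :=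
  isLocalOnBase_congr (isLocalOnBase_fpqc_repWith Groth.Agent.Unr55.isFinite
    fun _ _ k (_ : IsFinite k) => isIndQuasiAffineHom_of_isAffineHom k)
    fun f hX hY => repWith_isFinite_iff f hX hY

theorem isLocalOnBase_fpqc_closedImmersion :
    IsLocalOnBase (IsFpqcCover (S := S)) (RepWith @IsClosedImmersion) :=
  isLocalOnBase_fpqc_repWith Groth.Agent.Unr55.isClosedImmersion
    fun _ _ k (_ : IsClosedImmersion k) => isIndQuasiAffineHom_of_isAffineHom k

theorem finLocFree_eq : (finLocFree.{u}) = (@IsFinite ⊓ @Flat ⊓ @LocallyOfFinitePresentation : MorphismProperty Scheme.{u}) := by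
  ext X Y f
  exact ⟨fun ⟨a, b, c⟩ => ⟨⟨a, b⟩, c⟩, fun ⟨⟨a, b⟩, c⟩ => ⟨a, b, c⟩⟩

theorem isLocalOnBase_fpqc_finLocFree : IsLocalOnBase (IsFpqcCover (S := S)) IsFinLocFreeMor := by
  haveI := Groth.Agent.Unr55.isFinite.{u}
  haveI := flat_descendsAlong.{u}
  haveI : IsZariskiLocalAtTarget (finLocFree.{u}) := by rw [finLocFree_eq]; infer_instance
  refine isLocalOnBase_fpqc_repWith ?_ fun _ _ k hk => ?_
  · rw [finLocFree_eq]; infer_instance
  · haveI : IsFinite k := hk.1
    exact isIndQuasiAffineHom_of_isAffineHom k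

theorem isLocalOnBase_fpqc_thick : IsLocalOnBase (IsFpqcCover (S := S)) IsThickMor := by
  haveI := Groth.Agent.Unr55.isClosedImmersion.{u}
  haveI : IsZariskiLocalAtTarget (thick.{u}) := by unfold thick; infer_instance
  refine isLocalOnBase_fpqc_repWith (P := thick) ?_ fun _ _ k hk => ?_
  · unfold thick; infer_instance
  · haveI : IsClosedImmersion k := hk.1
    exact isIndQuasiAffineHom_of_isAffineHom k

end Groth.Agent.SpFP87
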