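import Groth.Agent.SpPts86.Subspace
import Groth.Agent.SpFP87.Cover
import Groth.Prelude.Def_AlgSpInf
/-!
Open subspaces of a thickening correspond to open subspaces of the thickened space.
-/

set_option autoImplicit false
set_option linter.style.haveILetI false
set_option backward.isDefEq.respectTransparency false
universe u
open CategoryTheory CategoryTheory.Limits AlgebraicGeometry Opposite
open AlgSp Groth.Agent.SpPts86

namespace Groth.Agent.SpFP87

variable {S : Scheme.{u}} {X X' U : Sp S} {i : X ⟶ X'}

theorem surjective_map_of_thick (hi : IsThickMor i) : Function.Surjective (Points.map i) :=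
  isSurjectiveMor_of_repWith (repWith_mono (fun _ _ _ h => h.2) hi)

theorem injective_map_of_thick (hi : IsThickMor i) : Function.Injective (Points.map i) := by
  have := mono_of_repWith_le isClosedImmersion_le_monomorphisms (repWith_mono (fun _ _ _ h => h.1) hi)
  exact injective_map_of_mono i

theorem isOpen_image_of_thick (hi : IsThickMor i) {W : Set (Points X)} (hW : IsOpen W) :
    IsOpen (Points.map i '' W) :=
  Points.isOpen_iff.2 fun T g => by
    obtain ⟨V, s, fst, sq⟩ := hi.1 g
    have hs : thick s.left := hi.2 g fst s sq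
    haveI : IsClosedImmersion s.left := hs.1
    haveI : Surjective s.left := hs.2
    have hh : IsHomeomorph s.left := isHomeomorph_iff_isEmbedding_surjective.2
      ⟨s.left.isEmbedding, s.left.surjective⟩
    rw [preimage_ofPt_image_map sq]
    exact hh.isOpenMap _ (hW.preimage (Points.continuous_ofPt fst))

theorem exists_thick_open (hi : IsThickMor i) (hX' : IsAlgSpace X') {u : U ⟶ X}
    (hu : RepWith @IsOpenImmersion u) :
    ∃ (U' : Sp S) (u' : U' ⟶ X') (k : U ⟶ U'), IsAlgSpace U' ∧
      RepWith @IsOpenImmersion u' ∧ IsPullback u k i u' := by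
  have hA : IsOpen (Points.map i '' Set.range (Points.map u)) :=
    isOpen_image_of_thick hi (isOpen_range_map hu)
  let A := Points.map i '' Set.range (Points.map u)
  have hu' : RepWith @IsOpenImmersion (restrictι X' A) := repWith_restrictι hA
  have hP : RepWith @IsOpenImmersion (pullback.fst i (restrictι X' A)) :=
    (repWith_isStableUnderBaseChange _).of_isPullback (IsPullback.of_hasPullback i (restrictι X' A)).flip hu'
  haveI := mono_of_repWith_le isOpenImmersion_le_monomorphisms hu
  haveI := mono_of_repWith_le isOpenImmersion_le_monomorphisms hP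
  have hr : Set.range (Points.map (pullback.fst i (restrictι X' A))) = Set.range (Points.map u) := by
    ext x
    constructor
    · rintro ⟨z, rfl⟩
      have hmem : Points.map i (Points.map (pullback.fst i (restrictι X' A)) z) ∈ A := by
        have h1 : Points.map (restrictι X' A) (Points.map (pullback.snd i (restrictι X' A)) z) =
            Points.map i (Points.map (pullback.fst i (restrictι X' A)) z) := by
          rw [← Points.map_comp, ← Points.map_comp, pullback.condition]
        rw [← h1]
        exact (range_map_restrictι (F := X') hA).subset ⟨_, rfl⟩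
      obtain ⟨y, hy, hyx⟩ := hmem
      exact injective_map_of_thick hi hyx ▸ hy
    · intro hx
      obtain ⟨w, hw⟩ := (range_map_restrictι (F := X') hA).ge (Set.mem_image_of_mem (Points.map i) hx)
      obtain ⟨z, hz, -⟩ := exists_of_isPullback (IsPullback.of_hasPullback i (restrictι X' A)) x w hw.symm
      exact ⟨z, hz⟩
  obtain ⟨a, ha⟩ := exists_factor_of_range_subset hP u hr.ge
  obtain ⟨b, hb⟩ := exists_factor_of_range_subset hu (pullback.fst i (restrictι X' A)) hr.le
  let e : U ≅ pullback i (restrictι X' A) :=
    ⟨a, b, (cancel_mono u).1 (by rw [Category.assoc, hb, ha, Category.id_comp]),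
      (cancel_mono (pullback.fst i (restrictι X' A))).1 (by rw [Category.assoc, ha, hb, Category.id_comp])⟩
  refine ⟨restrictSheaf X' A, restrictι X' A, a ≫ pullback.snd _ _,
    isAlgSpace_restrictSheaf (F := X') (W := A) hX' hA, hu', ?_⟩
  refine IsPullback.of_iso (IsPullback.of_hasPullback i (restrictι X' A)) e.symm (Iso.refl _) (Iso.refl _)
    (Iso.refl _) ?_ ?_ (by simp) (by simp)
  · simp only [Iso.symm_hom, Iso.refl_hom, Category.comp_id]; exact hb.symm
  · simp only [Iso.symm_hom, Iso.refl_hom, Category.comp_id]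
    exact (e.inv_hom_id_assoc _).symm

theorem range_of_thick_open (hi : IsThickMor i) {U₁ : Sp S} {u : U ⟶ X} {u₁ : U₁ ⟶ X'} {k : U ⟶ U₁}
    (sq : IsPullback u k i u₁) : Set.range (Points.map u₁) = Points.map i '' Set.range (Points.map u) := by
  ext x'
  constructor
  · rintro ⟨w, rfl⟩
    obtain ⟨x, hx⟩ := surjective_map_of_thick hi (Points.map u₁ w)
    obtain ⟨z, hz, -⟩ := exists_of_isPullback sq x w hx
    exact ⟨x, ⟨z, hz⟩, hx⟩
  · rintro ⟨_, ⟨z, rfl⟩, rfl⟩
    exact ⟨Points.map k z, by rw [← Points.map_comp, ← Points.map_comp, sq.w]⟩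

theorem exists_iso_of_range_eq {U₁ U₂ : Sp S} {u₁ : U₁ ⟶ X'} {u₂ : U₂ ⟶ X'}
    (h₁ : RepWith @IsOpenImmersion u₁) (h₂ : RepWith @IsOpenImmersion u₂)
    (h : Set.range (Points.map u₁) = Set.range (Points.map u₂)) : ∃ e : U₁ ≅ U₂, e.hom ≫ u₂ = u₁ := by
  haveI := mono_of_repWith_le isOpenImmersion_le_monomorphisms h₁
  haveI := mono_of_repWith_le isOpenImmersion_le_monomorphisms h₂
  obtain ⟨a, ha⟩ := exists_factor_of_range_subset h₂ u₁ h.le
  obtain ⟨b, hb⟩ := exists_factor_of_range_subset h₁ u₂ h.ge
  exact ⟨⟨a, b, (cancel_mono u₁).1 (by rw [Category.assoc, hb, ha, Category.id_comp]),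
    (cancel_mono u₂).1 (by rw [Category.assoc, ha, hb, Category.id_comp])⟩, ha⟩

end Groth.Agent.SpFP87
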