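import Groth.Agent.SpFP87.FpqcRep
import Groth.Agent.SpFP87.EtaleMor
import Groth.Agent.SpPts86.Subspace
/-!
Monomorphisms, isomorphisms and open immersions of algebraic spaces are fpqc local on the base.
-/

set_option autoImplicit false
set_option linter.style.haveILetI false
universe u
open CategoryTheory CategoryTheory.Limits AlgebraicGeometry Opposite
open AlgSp
open Groth.Agent.SpPts86

namespace Groth.Agent.SpFP87

variable {S : Scheme.{u}}

theorem repWith_isomorphisms_of_isIso {F G : Sp S} (f : F ⟶ G) [IsIso f] :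
    RepWith (MorphismProperty.isomorphisms Scheme.{u}) f := by
  refine ⟨Functor.relativelyRepresentable.of_isIso (yon S) f, fun T A g fst snd sq => ?_⟩
  haveI : IsIso ((yon S).map snd) := sq.isIso_snd_of_isIso
  haveI : IsIso snd := isIso_of_fully_faithful (yon S) snd
  change IsIso ((Over.forget S).map snd)
  infer_instance

theorem isIso_of_repWith_isomorphisms {F G : Sp S} {f : F ⟶ G}
    (h : RepWith (MorphismProperty.isomorphisms Scheme.{u}) f) : IsIso f := by
  refine isIso_of_probe f fun T g => ?_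
  obtain ⟨A, snd, fst, sq⟩ := h.rep g
  haveI : IsIso ((Over.forget S).map snd) := h.property g fst snd sq
  haveI : IsIso snd := isIso_of_reflects_iso snd (Over.forget S)
  refine ⟨inv ((yon S).map snd) ≫ fst, (Category.assoc _ _ _).trans
    ((congrArg (_ ≫ ·) sq.w).trans (IsIso.inv_hom_id_assoc _ _)), fun a ha => ?_⟩
  have e : sq.lift a (𝟙 _) (ha.trans (Category.id_comp g).symm) ≫ (yon S).map snd = 𝟙 _ := sq.lift_snd _ _ _
  rw [IsIso.eq_inv_comp]
  conv_lhs => rw [← sq.lift_fst a (𝟙 _) (ha.trans (Category.id_comp g).symm)]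
  rw [← Category.assoc, IsIso.eq_inv_of_inv_hom_id e, IsIso.hom_inv_id, Category.id_comp]

variable {ι : Type u} {X Y : Sp S} {Yi Xi : ι → Sp S} {g : ∀ i, Yi i ⟶ Y} {f : X ⟶ Y}
  {p : ∀ i, Xi i ⟶ Yi i} {q : ∀ i, Xi i ⟶ X}

theorem mono_of_fpqc (hY : IsAlgSpace Y) (hX : IsAlgSpace X) (hYi : ∀ i, IsAlgSpace (Yi i))
    (hg : IsFpqcCover Yi g) (sq : ∀ i, IsPullback (q i) (p i) f (g i)) (h : ∀ i, Mono (p i)) : Mono f := by
  have hd : IsIso (pullback.diagonal f) := isIso_of_repWith_isomorphisms
    (repWith_of_fpqc (isFpqcCover_selfProd hY hX hYi hg sq) (fun i => isPullback_diagonal (sq i))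
      (representable_diagonal hX.diag f) (fun i => by
        haveI := h i
        exact repWith_isomorphisms_of_isIso _))
  exact (pullback.isIso_diagonal_iff f).1 hd

theorem surjective_map_of_isIso {F G : Sp S} (f : F ⟶ G) [IsIso f] : Function.Surjective (Points.map f) :=
  fun y => ⟨Points.map (inv f) y, by rw [← Points.map_comp, IsIso.inv_hom_id, Points.map_id]⟩

/-- A surjective etale monomorphism of algebraic spaces is an isomorphism. -/
theorem isIso_of_mono_of_etale_of_surjective {F G : Sp S} (f : F ⟶ G) [Mono f] (hF : IsAlgSpace F)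
    (hG : IsAlgSpace G) (he : LocP @Etale f) (hs : Function.Surjective (Points.map f)) : IsIso f := by
  obtain ⟨U, a, ha, has⟩ := hF.atlas
  haveI := etale_descendsAlong_fppfSurj.{u}
  have h1 : RepWith @Etale (a ≫ f) := (isEtaleMor_iff_locP f hF hG).2 he a ha
  have h2 : RepWith @Surjective (a ≫ f) := repWith_surjective_of_surjective_ofPt h1.rep fun y => by
    obtain ⟨x, rfl⟩ := hs y
    obtain ⟨u, rfl⟩ := surjective_ofPt has x
    exact ⟨u, rfl⟩
  exact isIso_of_mono_of_locLift f (LocLift.of_comp (locLift_of_atlas h1 h2))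

/-- An etale monomorphism of algebraic spaces is an open immersion. -/
theorem repWith_isOpenImmersion_of_mono_of_etale {F G : Sp S} (f : F ⟶ G) [Mono f] (hF : IsAlgSpace F)
    (hG : IsAlgSpace G) (he : LocP @Etale f) : RepWith @IsOpenImmersion f := by
  have key : ∀ {T : Over S} (t : (yon S).obj T ⟶ G), ∃ (W : Over S) (w : W ⟶ T) (l : (yon S).obj W ⟶ F),
      IsOpenImmersion w.left ∧ IsPullback l ((yon S).map w) f t := by
    intro T t
    let P := pullback f t
    have hP : IsAlgSpace P := isAlgSpace_pullback f t hF (IsAlgSpace.yon_obj T) hG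
    haveI : Mono (pullback.snd f t) := inferInstance
    have heP : LocP @Etale (pullback.snd f t) :=
      locP_baseChange (IsPullback.of_hasPullback f t) hF hG (IsAlgSpace.yon_obj T) he
    obtain ⟨U, a, ha, has⟩ := hP.atlas
    obtain ⟨s, hs⟩ := (yon S).map_surjective (a ≫ pullback.snd f t)
    haveI : Etale s.left := heP a (𝟙 _) s ha (repWith_id _ T) (by rw [hs]; exact (Category.comp_id _).symm)
    have hrange : Set.range (Points.map (pullback.snd f t)) = Points.ofScheme T '' Set.range s.left := by
      ext x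
      constructor
      · rintro ⟨z, rfl⟩
        obtain ⟨u, rfl⟩ := surjective_ofPt has z
        exact ⟨_, ⟨u, rfl⟩, by rw [Points.map_ofPt, ← hs, Groth.Agent.SpPts86.ofPt_yon_map]⟩
      · rintro ⟨_, ⟨u, rfl⟩, rfl⟩
        exact ⟨Points.ofPt a u, by rw [Points.map_ofPt, ← hs, Groth.Agent.SpPts86.ofPt_yon_map]⟩
    let O : T.left.Opens := ⟨Set.range s.left, s.left.isOpenMap.isOpen_range⟩
    let W : Over S := Over.mk (O.ι ≫ T.hom)
    let w : W ⟶ T := Over.homMk O.ι rfl
    have hw : RepWith @IsOpenImmersion ((yon S).map w) :=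
      (repWith_yon_map_iff _ w).2 (inferInstanceAs (IsOpenImmersion O.ι))
    have hwr : Set.range (Points.map ((yon S).map w)) = Points.ofScheme T '' Set.range s.left := by
      rw [Groth.Agent.SpPts86.range_map_yon]
      ext x
      constructor
      · rintro ⟨v, rfl⟩
        exact ⟨_, v.2, (Groth.Agent.SpPts86.ofPt_yon_map w v).symm⟩
      · rintro ⟨_, hv, rfl⟩
        exact ⟨⟨_, hv⟩, Groth.Agent.SpPts86.ofPt_yon_map w _⟩
    obtain ⟨d, hd⟩ := exists_factor_of_range_subset hw (pullback.snd f t) (hrange.trans hwr.symm).le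
    haveI : Mono ((yon S).map w) := mono_of_repWith_le isOpenImmersion_le_monomorphisms hw
    haveI : Mono d := mono_of_mono_fac hd
    have sqd : IsPullback (𝟙 P) d (pullback.snd f t) ((yon S).map w) := by
      refine ⟨⟨by rw [Category.id_comp, hd]⟩, ⟨PullbackCone.IsLimit.mk _ (fun c => c.fst)
        (fun c => Category.comp_id _) (fun c => ?_) (fun c m h1 _ => (Category.comp_id m).symm.trans h1)⟩⟩
      rw [← cancel_mono ((yon S).map w), Category.assoc, hd]
      exact c.condition
    have hW := IsAlgSpace.yon_obj W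
    haveI : IsIso d := by
      refine isIso_of_mono_of_etale_of_surjective d hP hW
        (locP_baseChange sqd hP (IsAlgSpace.yon_obj T) hW heP) fun x => ?_
      have hx : Points.map ((yon S).map w) x ∈ Set.range (Points.map (pullback.snd f t)) := by
        rw [hrange, ← hwr]; exact ⟨x, rfl⟩
      obtain ⟨z, hz⟩ := hx
      exact ⟨z, injective_map_of_mono ((yon S).map w) (by rw [← Points.map_comp, hd]; exact hz)⟩
    refine ⟨W, w, inv d ≫ pullback.fst f t, inferInstanceAs (IsOpenImmersion O.ι),
      (IsPullback.of_hasPullback f t).of_iso (asIso d) (Iso.refl _) (Iso.refl _) (Iso.refl _)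
        ?_ ?_ ?_ ?_⟩
    · simp
    · simp [hd]
    · simp
    · simp
  refine ⟨fun T t => ?_, fun T A t fst snd sq => ?_⟩
  · obtain ⟨W, w, l, -, h⟩ := key t
    exact ⟨W, w, l, h⟩
  · obtain ⟨W, w, l, hw, h⟩ := key t
    let e := sq.isoIsPullback _ _ h
    obtain ⟨k, hk⟩ := (yon S).map_surjective e.hom
    have hk' : k ≫ w = snd := (yon S).map_injective (by
      rw [Functor.map_comp, hk]; exact sq.isoIsPullback_hom_snd _ _ h)
    haveI : IsIso ((yon S).map k) := hk ▸ inferInstance
    haveI : IsIso k := isIso_of_fully_faithful (yon S) k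
    haveI : IsIso k.left := inferInstanceAs (IsIso ((Over.forget S).map k))
    haveI := hw
    change IsOpenImmersion snd.left
    rw [← hk', Over.comp_left]
    infer_instance

theorem isLocalOnBase_fpqc_monomorphisms :
    IsLocalOnBase (IsFpqcCover (S := S)) (MorphismProperty.monomorphisms (Sp S)) := by
  intro ι Y Yi g hY hYi hg X f hX Xi p q hXi sq
  exact ⟨fun h i => MorphismProperty.of_isPullback (sq i) h,
    fun h => mono_of_fpqc hY hX hYi hg sq h⟩

theorem isLocalOnBase_fpqc_isomorphisms :
    IsLocalOnBase (IsFpqcCover (S := S)) (MorphismProperty.isomorphisms (Sp S)) := by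
  intro ι Y Yi g hY hYi hg X f hX Xi p q hXi sq
  refine ⟨fun h i => MorphismProperty.of_isPullback (sq i) h, fun h => ?_⟩
  have hi : ∀ i, IsIso (p i) := h
  haveI : Mono f := mono_of_fpqc hY hX hYi hg sq fun i => inferInstance
  refine isIso_of_mono_of_etale_of_surjective f hX hY
    ((isLocalOnBase_fpqc_locP Yi g hY hYi hg f hX Xi p q hXi sq).2
      fun i => locP_of_isIso (p i) (hXi i) (hYi i)) ?_
  have := univSurjective_of_fpqc hg sq (fun i _ _ _ z _ _ sq' => by
    haveI := hi i
    haveI := sq'.isIso_snd_of_isIso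
    exact surjective_map_of_isIso _)
  exact this hY (𝟙 Y) (𝟙 X) f (IsPullback.of_horiz_isIso ⟨by simp⟩)

theorem isLocalOnBase_fpqc_openImmersion :
    IsLocalOnBase (IsFpqcCover (S := S)) (RepWith @IsOpenImmersion) := by
  intro ι Y Yi g hY hYi hg X f hX Xi p q hXi sq
  refine ⟨fun h i => (repWith_isStableUnderBaseChange _).of_isPullback (sq i) h, fun h => ?_⟩
  haveI : Mono f := mono_of_fpqc hY hX hYi hg sq fun i =>
    mono_of_repWith_le isOpenImmersion_le_monomorphisms (h i)
  refine repWith_isOpenImmersion_of_mono_of_etale f hX hY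
    ((isLocalOnBase_fpqc_locP Yi g hY hYi hg f hX Xi p q hXi sq).2 fun i =>
      locP_of_repWith (hXi i).diag (hYi i) (repWith_mono (fun _ _ k (_ : IsOpenImmersion k) => inferInstance) (h i)))

end Groth.Agent.SpFP87
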