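import Groth.Agent.SpFP87.RepDescProps
import Groth.Agent.SpFP87.Covers
import Groth.Agent.Desc59.DescImm
/-!
Immersions of algebraic spaces are fppf local on the base.
-/

set_option autoImplicit false
set_option linter.style.haveILetI false
set_option backward.isDefEq.respectTransparency false
universe u
open CategoryTheory CategoryTheory.Limits AlgebraicGeometry Opposite
open AlgSp
open Groth.Agent.Desc59 (indQA)

namespace Groth.Agent.SpFP87

variable {S : Scheme.{u}}

/-- A property descends along a jointly surjective fppf family. -/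
theorem of_fppf_family {P : MorphismProperty Scheme.{u}} [P.IsStableUnderBaseChange]
    [IsZariskiLocalAtTarget P] [P.DescendsAlong (@Surjective ⊓ @Flat ⊓ @LocallyOfFinitePresentation)]
    {U V : Scheme.{u}} (h : U ⟶ V) {ι : Type u} (W : ι → Scheme.{u})
    (c : ∀ j, W j ⟶ V) (hc : ∀ j, Flat (c j) ∧ LocallyOfFinitePresentation (c j))
    (hsurj : ∀ v, ∃ j, v ∈ Set.range (c j)) (hP : ∀ j, P (pullback.snd h (c j))) : P h := by
  let d : ∐ W ⟶ V := Sigma.desc c
  haveI : IsZariskiLocalAtSource (@Flat : MorphismProperty Scheme.{u}) :=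
    HasRingHomProperty.instIsZariskiLocalAtSource (Q := RingHom.Flat)
  haveI : IsZariskiLocalAtSource (@LocallyOfFinitePresentation : MorphismProperty Scheme.{u}) :=
    HasRingHomProperty.instIsZariskiLocalAtSource (Q := RingHom.FinitePresentation)
  haveI hfl : Flat d := IsZariskiLocalAtSource.sigmaDesc fun j => (hc j).1
  haveI hfp : LocallyOfFinitePresentation d := IsZariskiLocalAtSource.sigmaDesc fun j => (hc j).2
  haveI : Surjective d := ⟨fun v => by
    obtain ⟨j, w, rfl⟩ := hsurj v
    exact ⟨(Sigma.ι W j).base w, congrArg (fun k : W j ⟶ V => k.base w) (Sigma.ι_desc c j)⟩⟩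
  refine MorphismProperty.of_isPullback_of_descendsAlong (P := P)
    (Q := @Surjective ⊓ @Flat ⊓ @LocallyOfFinitePresentation) (IsPullback.of_hasPullback h d).flip
    ⟨⟨inferInstance, hfl⟩, hfp⟩ ?_
  rw [IsZariskiLocalAtTarget.iff_of_openCover (P := P) (sigmaOpenCover W)]
  intro j
  change P (pullback.snd (pullback.snd h d) (Sigma.ι W j))
  have e := (IsPullback.of_hasPullback (pullback.snd h d) (Sigma.ι W j)).paste_horiz
    (IsPullback.of_hasPullback h d)
  rw [Sigma.ι_desc] at e
  rw [← e.isoPullback_hom_snd, P.cancel_left_of_respectsIso]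
  exact hP j

/-- A property of representable morphisms descends along fppf coverings of the target. -/
theorem repWith_of_fppf {P : MorphismProperty Scheme.{u}} [P.IsStableUnderBaseChange]
    [IsZariskiLocalAtTarget P] [P.DescendsAlong (@Surjective ⊓ @Flat ⊓ @LocallyOfFinitePresentation)]
    {ι : Type u} {X Y : Sp S} {Yi Xi : ι → Sp S} {g : ∀ i, Yi i ⟶ Y} {f : X ⟶ Y} {p : ∀ i, Xi i ⟶ Yi i}
    {q : ∀ i, Xi i ⟶ X} (hY : IsAlgSpace Y) (hYi : ∀ i, IsAlgSpace (Yi i)) (hg : IsFppfCover Yi g)
    (sq : ∀ i, IsPullback (q i) (p i) f (g i))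
    (hf : Representable f) (h : ∀ i, RepWith P (p i)) : RepWith P f := by
  refine ⟨hf, fun T A t fstA sndA sqA => ?_⟩
  change P sndA.left
  obtain ⟨W, c, l, hc, hsurj, hl⟩ := exists_fppf_family Yi g hY hYi hg t
  refine of_fppf_family _ (fun j => (W j).left) (fun j => (c j).left) hc hsurj fun j => ?_
  have sq1 : IsPullback ((yon S).map (pullback.fst sndA (c j)) ≫ fstA)
      ((yon S).map (pullback.snd sndA (c j))) f (l j ≫ g j) := by
    rw [hl]
    exact ((IsPullback.of_hasPullback sndA (c j)).map (yon S)).paste_horiz sqA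
  have hpz : IsPullback (pullback.fst sndA (c j)).left (pullback.snd sndA (c j)).left sndA.left (c j).left :=
    (IsPullback.of_hasPullback sndA (c j)).map (Over.forget S)
  rw [← hpz.isoPullback_inv_snd, P.cancel_left_of_respectsIso]
  exact (h j).property (l j) _ _ (IsPullback.of_right (h₁₁ := (sq j).lift _
    ((yon S).map (pullback.snd sndA (c j)) ≫ l j) (by rw [Category.assoc]; exact sq1.w))
    (by rw [(sq j).lift_fst]; exact sq1) ((sq j).lift_snd _ _ _) (sq j))

theorem isLocalOnBase_fppf_immersion :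
    IsLocalOnBase (IsFppfCover (S := S)) (RepWith @IsImmersion) := by
  haveI := Groth.Agent.Desc59.descendsAlong_immersion_fppf.{u}
  intro ι Y Yi g hY hYi hg X f hX Xi p q hXi sq
  refine ⟨fun h i => (repWith_isStableUnderBaseChange _).of_isPullback (sq i) h, fun h => ?_⟩
  exact repWith_of_fppf hY hYi hg sq (representable_of_fpqc
    (fun _ _ k hk => @isIndQuasiAffineHom_of_isImmersion _ _ k hk) hX hY
    (isFpqcCover_of_isFppfCover Yi g hY hYi hg) sq h) h

end Groth.Agent.SpFP87
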