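import Groth.Agent.SpFP87.RepDescProps
import Groth.Agent.Desc59.DescQA
import Groth.Agent.LimDesc62.Affine
import Groth.Agent.LimDesc62.Wrap
import Groth.Agent.FlatMor66.IndQA2
/-!
Quasi-affine morphisms of algebraic spaces are fpqc local on the base.
-/

set_option autoImplicit false
set_option linter.style.haveILetI false
set_option backward.isDefEq.respectTransparency false
universe u
open CategoryTheory CategoryTheory.Limits AlgebraicGeometry Opposite TopologicalSpace
open AlgSp
open Groth.Agent.Desc59 (indQA)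

namespace Groth.Agent.SpFP87

variable {S : Scheme.{u}}

/-- Quasi-affine morphisms of schemes, as a morphism property. -/
def qaMor : MorphismProperty Scheme.{u} := fun _ _ f => Mor2.IsQuasiAffine f

theorem qaMor_le_indQA : qaMor.{u} ≤ indQA := by
  intro X Y f hf V hV W hW
  haveI : (f ⁻¹ᵁ V).toScheme.IsQuasiAffine := hf.2 V hV
  haveI : CompactSpace W.toScheme := isCompact_iff_compactSpace.mp hW
  exact Scheme.IsQuasiAffine.of_isImmersion W.ι

instance qaMor_isStableUnderBaseChange : qaMor.{u}.IsStableUnderBaseChange := by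
  haveI : qaMor.{u}.RespectsIso := Groth.Agent.LimDesc62.respectsIso_mor2IsQuasiAffine
  refine MorphismProperty.IsStableUnderBaseChange.mk' fun T Y X g f _ (hf : Mor2.IsQuasiAffine f) => ?_
  haveI : QuasiCompact f := hf.1
  change Mor2.IsQuasiAffine (pullback.fst g f)
  let J := {W : T.affineOpens // ∃ V : X.affineOpens, W.1 ≤ g ⁻¹ᵁ V.1}
  refine Groth.Agent.LimDesc62.isQuasiAffine_of_cover (pullback.fst g f) (fun j : J => j.1.1) ?_ ?_
  · refine eq_top_iff.mpr fun t _ => ?_
    obtain ⟨_, ⟨V, hV, rfl⟩, hgV, -⟩ :=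
      X.isBasis_affineOpens.exists_subset_of_mem_open (Set.mem_univ (g t)) isOpen_univ
    obtain ⟨_, ⟨W, hW, rfl⟩, htW, hWV⟩ :=
      T.isBasis_affineOpens.exists_subset_of_mem_open (a := t) hgV (g ⁻¹ᵁ V).2
    exact Opens.mem_iSup.mpr ⟨⟨⟨W, hW⟩, ⟨V, hV⟩, hWV⟩, htW⟩
  · rintro ⟨W, V, hWV⟩
    haveI : IsAffine W.1.toScheme := W.2
    haveI : IsAffine V.1.toScheme := V.2
    haveI : (f ⁻¹ᵁ V.1).toScheme.IsQuasiAffine := hf.2 V.1 V.2
    let l := g.resLE V.1 W.1 hWV
    let q : (pullback.fst g f ⁻¹ᵁ W.1).toScheme ⟶ (f ⁻¹ᵁ V.1).toScheme :=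
      (isPullback_morphismRestrict f V.1).lift (pullback.fst g f ∣_ W.1 ≫ l)
        ((pullback.fst g f ⁻¹ᵁ W.1).ι ≫ pullback.snd g f) (by
          rw [Category.assoc, Category.assoc, Scheme.Hom.resLE_comp_ι, ← Category.assoc,
            morphismRestrict_ι, Category.assoc, pullback.condition])
    have sq' : IsPullback q (pullback.fst g f ∣_ W.1) (f ∣_ V.1) l := by
      refine IsPullback.of_right (h₁₂ := (f ⁻¹ᵁ V.1).ι) (v₁₃ := f) (h₂₂ := V.1.ι) ?_
        (IsPullback.lift_fst ..) (isPullback_morphismRestrict f V.1).flip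
      rw [IsPullback.lift_snd, Scheme.Hom.resLE_comp_ι]
      exact (isPullback_morphismRestrict (pullback.fst g f) W.1).flip.paste_horiz
        (IsPullback.of_hasPullback g f).flip
    haveI : IsAffineHom l := inferInstance
    haveI : IsAffineHom q := MorphismProperty.of_isPullback sq'.flip (inferInstanceAs (IsAffineHom l))
    exact Scheme.IsQuasiAffine.of_isAffineHom q

instance qaMor_isZariskiLocalAtTarget : IsZariskiLocalAtTarget qaMor.{u} := by
  haveI : qaMor.{u}.RespectsIso := Groth.Agent.LimDesc62.respectsIso_mor2IsQuasiAffine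
  refine IsZariskiLocalAtTarget.mk' (fun {X Y} f U hf => ?_) fun {X Y} f ι U hU hf => ?_
  · exact (qaMor.{u}).of_isPullback (isPullback_morphismRestrict f U).flip hf
  · haveI : QuasiCompact f := (IsZariskiLocalAtTarget.iff_of_iSup_eq_top (P := @QuasiCompact) U
      hU).mpr fun i => (hf i).1
    let J := {W : Y.affineOpens // ∃ i, W.1 ≤ U i}
    refine Groth.Agent.LimDesc62.isQuasiAffine_of_cover f (fun j : J => j.1.1) ?_ ?_
    · refine eq_top_iff.mpr fun y _ => ?_
      obtain ⟨i, hi⟩ := Opens.mem_iSup.mp ((hU.ge : (⊤ : Y.Opens) ≤ iSup U) (Opens.mem_top y))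
      obtain ⟨_, ⟨W, hW, rfl⟩, hyW, hWU⟩ :=
        Y.isBasis_affineOpens.exists_subset_of_mem_open (a := y) hi (U i).2
      exact Opens.mem_iSup.mpr ⟨⟨⟨W, hW⟩, i, hWU⟩, hyW⟩
    · rintro ⟨W, i, hWi⟩
      have h0 := (hf i).2 ((U i).ι ⁻¹ᵁ W.1)
        (W.2.preimage_of_isOpenImmersion (U i).ι (by simpa using hWi))
      rw [Groth.Agent.FlatMor66.qa_image_ι_iff] at h0
      rwa [image_morphismRestrict_preimage, Scheme.Hom.image_preimage_eq_opensRange_inf,
        Scheme.Opens.opensRange_ι, inf_eq_right.mpr hWi] at h0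

theorem repWith_qaMor_iff {X Y : Sp S} (f : X ⟶ Y) (hX : IsAlgSpace X) (hY : IsAlgSpace Y) :
    RepWith qaMor f ↔ IsQuasiAffineMor f := by
  refine ⟨fun h Z hZ g => ⟨_, _, _, h.rep.isPullback g, ?_⟩, fun h => ?_⟩
  · haveI := hZ
    have hs : Mor2.IsQuasiAffine (h.rep.snd g).left := h.property_snd g
    exact Groth.Agent.FlatMor66.qa_congr
      (Scheme.topIso _).symm (hs.2 ⊤ (isAffineOpen_top _))
  · refine repWith_of_affine_test qaMor_le_indQA hX hY fun Z hZ l => ?_
    obtain ⟨W, i, fst, sq, hW⟩ := h hZ l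
    haveI := hW; haveI := hZ
    refine ⟨W, fst, i, sq, ?_⟩
    haveI : QuasiCompact i.left := inferInstance
    refine Groth.Agent.LimDesc62.isQuasiAffine_of_cover i.left (fun _ : PUnit => (⊤ : Z.left.Opens))
      iSup_const fun _ => ?_
    exact Groth.Agent.FlatMor66.qa_congr (Scheme.topIso _) hW

theorem isLocalOnBase_fpqc_quasiAffine : IsLocalOnBase (IsFpqcCover (S := S)) IsQuasiAffineMor :=
  isLocalOnBase_congr (isLocalOnBase_fpqc_repWith (P := qaMor)
    Groth.Agent.Desc59.descendsAlong_quasiAffine qaMor_le_indQA)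
    fun f hX hY => repWith_qaMor_iff f hX hY

end Groth.Agent.SpFP87
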