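import Groth.Agent.SpFP87.NormExists
import Groth.Agent.SpFP87.EtLocInst
import Groth.Agent.SpFP87.FpqcMono
import Groth.Agent.SpFP87.FpqcRep
import Groth.Agent.SpPts86.LqfSep
import Groth.Agent.SpPts86.PieceChart
import Groth.Agent.Unr55.DescProps
import Groth.Agent.S10298
import Mathlib.AlgebraicGeometry.ZariskisMainTheorem
/-!
Zariski's main theorem for algebraic spaces, through relative normalizations.
-/

set_option autoImplicit false
set_option linter.style.haveILetI false
set_option backward.isDefEq.respectTransparency false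
universe u
open CategoryTheory CategoryTheory.Limits AlgebraicGeometry
open AlgSp
open Groth.Agent.SpPts86

namespace Groth.Agent.SpFP87

variable {S : Scheme.{u}}

theorem quasiCompact_of_isQuasiCompactMor_yon {W V : Over S} {g : W ⟶ V}
    (h : IsQuasiCompactMor ((yon S).map g)) : QuasiCompact g.left := by
  rw [quasiCompact_iff_forall_isAffineOpen]
  intro O hO
  haveI : IsAffine O.toScheme := hO
  haveI : CompactSpace (openOver V O).left := inferInstanceAs (CompactSpace O.toScheme)
  haveI := compactSpace_points_yon (openOver V O)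
  have sq : IsPullback ((yon S).map (openIncl W (g.left ⁻¹ᵁ O)))
      ((yon S).map (pieceLift g O ≫ pullback.snd _ _)) ((yon S).map g) ((yon S).map (openIncl V O)) := by
    refine (IsPullback.of_map (Over.forget S) ?_ ?_).map (yon S)
    · rw [Category.assoc, ← pullback.condition, reassoc_of% pieceLift_fst g O]
    · have e : pieceLift g O ≫ pullback.snd g (openIncl V O) = Over.homMk (g.left ∣_ O) (by
          show (g.left ∣_ O) ≫ O.ι ≫ V.hom = (g.left ⁻¹ᵁ O).ι ≫ W.hom
          rw [← Category.assoc, morphismRestrict_ι, Category.assoc, Over.w g]) := pullback.lift_snd _ _ _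
      rw [e]
      exact (isPullback_morphismRestrict g.left O).flip
  have := compactSpace_of_isQuasiCompactMor h (IsAlgSpace.yon_obj _) sq
  have hc : CompactSpace (openOver W (g.left ⁻¹ᵁ O)).left := (Points.schemeHomeo _).symm.compactSpace
  exact isCompact_iff_compactSpace.mpr hc

/-- For a morphism of schemes, a relative normalization of algebraic spaces is the scheme one. -/
theorem exists_toNormalization_iso {W V : Over S} (g : W ⟶ V) [QuasiCompact g.left] [QuasiSeparated g.left]
    {NT : Sp S} (hNT : IsAlgSpace NT) {νT : NT ⟶ (yon S).obj V} {k : (yon S).obj W ⟶ NT}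
    (hn : IsRelNormalization ((yon S).map g) νT k) :
    ∃ (N₀ : Over S) (t : W ⟶ N₀) (m : N₀ ⟶ V) (e₀ : N₀.left ≅ g.left.normalization) (e : (yon S).obj N₀ ≅ NT),
      t.left ≫ e₀.hom = g.left.toNormalization ∧ e₀.hom ≫ g.left.fromNormalization = m.left ∧
      e.hom ≫ νT = (yon S).map m ∧ (yon S).map t ≫ e.hom = k := by
  let N₀ : Over S := Over.mk (g.left.fromNormalization ≫ V.hom)
  let t : W ⟶ N₀ := Over.homMk g.left.toNormalization (by
    show g.left.toNormalization ≫ g.left.fromNormalization ≫ V.hom = W.hom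
    rw [Scheme.Hom.toNormalization_fromNormalization_assoc]; exact Over.w g)
  let m : N₀ ⟶ V := Over.homMk g.left.fromNormalization rfl
  have h0 := Groth.Agent.S10298.result g t m (Iso.refl _) (Category.comp_id _) (Category.id_comp _)
  obtain ⟨e, e1, e2⟩ := exists_iso_of_isRelNormalization (IsAlgSpace.yon_obj N₀) hNT h0 hn
  exact ⟨N₀, t, m, Iso.refl _, e, Category.comp_id _, Category.id_comp _, e1, e2⟩

variable {X Y : Sp S} {f : X ⟶ Y}

/-- A separated quasi-finite base change over a scheme is a scheme. -/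
theorem exists_scheme_baseChange (hX : IsAlgSpace X) (hY : IsAlgSpace Y)
    (hqf : LocP (@LocallyQuasiFinite ⊓ @LocallyOfFiniteType) f) (hqc : IsQuasiCompactMor f)
    (hsep : IsSeparatedMor f) {V : Over S} (v : (yon S).obj V ⟶ Y) :
    ∃ (W : Over S) (a : (yon S).obj W ⟶ X) (g : W ⟶ V), IsPullback a ((yon S).map g) f v ∧
      IsSeparated g.left ∧ QuasiCompact g.left ∧ LocallyQuasiFinite g.left ∧ LocallyOfFiniteType g.left := by
  have sq := IsPullback.of_hasPullback f v
  have hP : IsAlgSpace (pullback f v) := isAlgSpace_pullback f v hX (IsAlgSpace.yon_obj V) hY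
  obtain ⟨W, ⟨Φ⟩⟩ := exists_iso_of_lqf_separated hP (isSeparatedMor_of_isPullback sq hsep)
    (locP_baseChange sq hX hY (IsAlgSpace.yon_obj V) hqf)
  obtain ⟨g, hg⟩ := (yon S).map_surjective (Φ.hom ≫ pullback.snd f v)
  have sq' : IsPullback (Φ.hom ≫ pullback.fst f v) ((yon S).map g) f v :=
    sq.of_iso Φ.symm (Iso.refl _) (Iso.refl _) (Iso.refl _) (by simp) (by simp [hg]) (by simp) (by simp)
  have h := (locP_yon_map_iff g).1 (locP_baseChange sq' hX hY (IsAlgSpace.yon_obj V) hqf)
  exact ⟨W, _, g, sq', (isSeparatedMor_yon_map_iff g).1 (isSeparatedMor_of_isPullback sq' hsep),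
    quasiCompact_of_isQuasiCompactMor_yon (isQuasiCompactMor_baseChange hqc sq'), h.1, h.2⟩

theorem isQuasiAffineMor_of_lqf_separated (hX : IsAlgSpace X) (hY : IsAlgSpace Y)
    (hqf : LocP (@LocallyQuasiFinite ⊓ @LocallyOfFiniteType) f) (hqc : IsQuasiCompactMor f)
    (hsep : IsSeparatedMor f) : IsQuasiAffineMor f := by
  intro V hV v
  haveI := hV
  obtain ⟨W, a, g, sq, _, _, _, _⟩ := exists_scheme_baseChange hX hY hqf hqc hsep v
  refine ⟨W, g, a, sq, ?_⟩
  haveI : CompactSpace W.left := QuasiCompact.compactSpace_of_compactSpace g.left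
  haveI : IsAffine g.left.normalization := isAffine_of_isAffineHom g.left.fromNormalization
  exact Scheme.IsQuasiAffine.of_isImmersion g.left.toNormalization

/-- The source of a quasi-finite separated morphism is a qc open of the normalization of the target. -/
theorem openImmersion_toNormalization (hX : IsAlgSpace X) (hY : IsAlgSpace Y)
    (hqf : LocP (@LocallyQuasiFinite ⊓ @LocallyOfFiniteType) f) (hqc : IsQuasiCompactMor f)
    (hsep : IsSeparatedMor f) {Y' : Sp S} (hY' : IsAlgSpace Y') {ν : Y' ⟶ Y} {f' : X ⟶ Y'}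
    (hn : IsRelNormalization f ν f') : RepWith @IsOpenImmersion f' ∧ IsQuasiCompactMor f' := by
  have hqs : IsQuasiSeparatedMor f :=
    repWith_mono (fun _ _ k hk => by have : IsClosedImmersion k := hk; infer_instance) hsep
  obtain ⟨V, v, hv, hvs⟩ := hY.atlas
  obtain ⟨W, a, g, sqX, _, _, _, _⟩ := exists_scheme_baseChange hX hY hqf hqc hsep v
  have hνr := (isIntegralMor_iff ν).1 hn.2.1
  let b := hνr.rep.fst v
  let νV := hνr.rep.snd v
  have sqN : IsPullback b ((yon S).map νV) ν v := hνr.rep.isPullback v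
  let k := sqN.lift (a ≫ f') ((yon S).map g) (by rw [Category.assoc, hn.1, sqX.w])
  have hsm : LocP @Smooth v := LocP.of_le (P := @Etale) (fun _ _ k (hk : Etale k) => (inferInstance : Smooth k))
    (locP_of_repWith (IsAlgSpace.yon_obj V).diag hY hv)
  have hk := univBC_of_isRelNormalization hY hX hqc hqs hY' hn (IsAlgSpace.yon_obj V) hsm a ((yon S).map g) b
    ((yon S).map νV) sqX sqN k (sqN.lift_snd _ _ _) (sqN.lift_fst _ _ _)
  obtain ⟨N₀, t, m, e₀, e, ht, -, -, he⟩ := exists_toNormalization_iso g (IsAlgSpace.yon_obj _) hk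
  obtain ⟨k₀, hk₀⟩ := (yon S).map_surjective k
  obtain ⟨e', he'⟩ := (yon S).map_surjective e.hom
  have hko : IsOpenImmersion k₀.left := by
    have : k₀ = t ≫ e' := (yon S).map_injective (by rw [Functor.map_comp, hk₀, he', he])
    rw [this]
    haveI : IsIso ((yon S).map e') := by rw [he']; infer_instance
    haveI : IsIso e' := isIso_of_fully_faithful (yon S) e'
    haveI : IsOpenImmersion t.left := by
      rw [show t.left = g.left.toNormalization ≫ e₀.inv by rw [← ht, Category.assoc, e₀.hom_inv_id, Category.comp_id]]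
      infer_instance
    show IsOpenImmersion (t.left ≫ e'.left)
    infer_instance
  have hkq : QuasiCompact k₀.left := by
    have h1 : g = k₀ ≫ νV := (yon S).map_injective (by rw [Functor.map_comp, hk₀]; exact (sqN.lift_snd _ _ _).symm)
    haveI : IsIntegralHom νV.left := hνr.property_snd v
    haveI : QuasiCompact (k₀.left ≫ νV.left) := by rw [← Over.comp_left, ← h1]; infer_instance
    exact QuasiCompact.of_comp k₀.left νV.left
  have sqf : IsPullback a ((yon S).map k₀) f' b := by
    refine IsPullback.of_bot ?_ (by rw [hk₀]; exact (sqN.lift_fst _ _ _).symm) sqN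
    rw [hn.1, hk₀]
    have : k ≫ (yon S).map νV = (yon S).map g := sqN.lift_snd _ _ _
    rw [this]
    exact sqX
  obtain ⟨hb, hbs⟩ := etale_surj_of_isPullback sqN hv hvs
  have hcov : IsFppfCover (fun _ : PUnit.{u + 1} => (yon S).obj (hνr.rep.pullback v)) (fun _ => b) :=
    ⟨fun _ => ⟨LocP.of_le (P := @Etale) (fun _ _ k hk => by haveI : Etale k := hk; exact inferInstanceAs (Flat k))
        (Groth.Agent.SpPts86.locP_etale_of_isEtaleMor (Groth.Agent.SpPts86.isEtaleMor_of_repWith_etale hb)),
      LocP.of_le (P := @Etale) (fun _ _ k hk => by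
        haveI : Etale k := hk; exact inferInstanceAs (LocallyOfFinitePresentation k))
        (Groth.Agent.SpPts86.locP_etale_of_isEtaleMor (Groth.Agent.SpPts86.isEtaleMor_of_repWith_etale hb))⟩,
      fun x => ⟨⟨⟩, isSurjectiveMor_of_repWith hbs x⟩⟩
  have hfc := isFpqcCover_of_isFppfCover _ _ hY' (fun _ => IsAlgSpace.yon_obj _) hcov
  have ho : RepWith @IsOpenImmersion f' :=
    (isLocalOnBase_fpqc_openImmersion (fun _ : PUnit.{u + 1} => (yon S).obj (hνr.rep.pullback v)) (fun _ => b) hY'
      (fun _ => IsAlgSpace.yon_obj _) hfc f' hX (fun _ => (yon S).obj W) (fun _ => (yon S).map k₀) (fun _ => a)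
      (fun _ => IsAlgSpace.yon_obj _) (fun _ => sqf)).2 fun _ => (repWith_yon_map_iff _ _).2 hko
  refine ⟨ho, isQuasiCompactMor_of_repWith hY' ?_⟩
  haveI := Groth.Agent.Unr55.quasiCompact
  exact repWith_of_fpqc hfc (fun _ => sqf) ho.rep fun _ => (repWith_yon_map_iff _ _).2 hkq

end Groth.Agent.SpFP87
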