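import Groth.Agent.FlatMor68.KoszulCalc
import Groth.Agent.FlatMor67.LCIDescent
import Mathlib.AlgebraicGeometry.Morphisms.Descent
import Mathlib.RingTheory.RingHom.FaithfullyFlat
import Mathlib.AlgebraicGeometry.Morphisms.FlatDescent
import Mathlib.AlgebraicGeometry.Morphisms.Etale

/-! Descent of local complete intersection morphisms along etale covers of the target. -/

set_option backward.isDefEq.respectTransparency.types false
set_option autoImplicit false
universe u

open CategoryTheory CategoryTheory.Limits AlgebraicGeometry TensorProduct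

namespace Groth.Agent.SpFP87

open FlatMor68.LCICalc FlatMor68.KoszulCalc

theorem lciHom_codescendsAlong :
    RingHom.CodescendsAlong (fun {R S} [CommRing R] [CommRing S] => @LCIHom R S _ _)
      RingHom.FaithfullyFlat := by
  refine RingHom.CodescendsAlong.mk _ lciHom_isLocal.respectsIso fun R S T _ _ _ _ _ hS hT => ?_
  rw [RingHom.faithfullyFlat_algebraMap_iff] at hS
  rw [lciHom_algebraMap] at hT ⊢
  exact FlatMor67.isLCI_descend (ι := Fin 1) (R := fun _ => S)
    (fun p => ⟨0, PrimeSpectrum.comap_surjective_of_faithfullyFlat p⟩) fun _ => hT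

variable {U V W : Scheme.{u}}

/-- Affine case of descent. -/
theorem lciProp_of_pullback_Spec {A A' B : CommRingCat.{u}} (f : Spec A' ⟶ Spec A) (g : Spec B ⟶ Spec A)
    [Flat f] [Surjective f] (h : lciProp (pullback.fst f g)) : lciProp g := by
  refine of_pullback_fst_Spec_of_codescendsAlong (P := lciProp.{u})
    (P' := (@Surjective ⊓ @Flat : MorphismProperty Scheme.{u}))
    lciHom_codescendsAlong (fun {R S φ} hφ => ?_) (fun {R S φ} => HasRingHomProperty.Spec_iff) ⟨‹_›, ‹_›⟩ h
  rw [RingHom.FaithfullyFlat.iff_flat_and_comap_surjective]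
  refine ⟨?_, hφ.1.surj⟩
  exact HasRingHomProperty.Spec_iff (P := @Flat).1 hφ.2

/-- Local complete intersection morphisms descend along etale covers of the target. -/
theorem lciProp_of_etale_pullback (e : W ⟶ V) (h : U ⟶ V) [Etale e] [Surjective e]
    (hl : lciProp (pullback.fst e h)) : lciProp h := by
  have key : ∀ u : U, ∃ (O : U.Opens), u ∈ O ∧ lciProp (O.ι ≫ h) := by
    intro u
    obtain ⟨w, hw⟩ := e.surjective (h u)
    obtain ⟨_, ⟨V₀, hV₀, rfl⟩, hv, -⟩ :=
      V.isBasis_affineOpens.exists_subset_of_mem_open (Set.mem_univ (h u)) isOpen_univ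
    obtain ⟨_, ⟨W₀, hW₀, rfl⟩, hwW, hWV⟩ :=
      W.isBasis_affineOpens.exists_subset_of_mem_open
        (show w ∈ e ⁻¹ᵁ V₀ by show e w ∈ V₀; rw [hw]; exact hv) (e ⁻¹ᵁ V₀).isOpen
    obtain ⟨g, hgle, hgv⟩ := hV₀.exists_basicOpen_le (V := ⟨e '' W₀, e.isOpenMap _ W₀.isOpen⟩)
      ⟨h u, w, hwW, hw⟩ hv
    have hD : IsAffineOpen (V.basicOpen g) := hV₀.basicOpen g
    let gW : Γ(W, W₀) := (e.appLE V₀ W₀ hWV).hom g
    have hW₁ : W.basicOpen gW = W₀ ⊓ e ⁻¹ᵁ V.basicOpen g := by
      simp [gW, Scheme.Hom.appLE, ← Scheme.preimage_basicOpen]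
    have hWaff : IsAffineOpen (W.basicOpen gW) := hW₀.basicOpen gW
    have hWD : W.basicOpen gW ≤ e ⁻¹ᵁ V.basicOpen g := hW₁ ▸ inf_le_right
    obtain ⟨_, ⟨O, hO, rfl⟩, huO, hOD⟩ :=
      U.isBasis_affineOpens.exists_subset_of_mem_open (show u ∈ h ⁻¹ᵁ V.basicOpen g from hgv)
        (h ⁻¹ᵁ V.basicOpen g).isOpen
    refine ⟨O, huO, ?_⟩
    let f' := Spec.map (e.appLE (V.basicOpen g) (W.basicOpen gW) hWD)
    let g' := Spec.map (h.appLE (V.basicOpen g) O hOD)
    have w1 : f' ≫ hD.fromSpec = hWaff.fromSpec ≫ e := hD.SpecMap_appLE_fromSpec e hWaff hWD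
    have w2 : g' ≫ hD.fromSpec = hO.fromSpec ≫ h := hD.SpecMap_appLE_fromSpec h hO hOD
    haveI : Flat f' := by
      have : Flat (f' ≫ hD.fromSpec) := by rw [w1]; infer_instance
      exact MorphismProperty.of_postcomp (W := @Flat) (W' := @IsOpenImmersion) f' hD.fromSpec
        inferInstance this
    haveI : Surjective f' := by
      refine ⟨fun z => ?_⟩
      have hz : hD.fromSpec z ∈ V.basicOpen g := by
        rw [← SetLike.mem_coe, ← hD.range_fromSpec]; exact ⟨z, rfl⟩
      obtain ⟨w', hw'W, hw'⟩ := hgle hz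
      have : w' ∈ W.basicOpen gW := by
        rw [hW₁]; exact ⟨hw'W, show e w' ∈ V.basicOpen g from hw' ▸ hz⟩
      rw [← SetLike.mem_coe, ← hWaff.range_fromSpec] at this
      obtain ⟨z', rfl⟩ := this
      refine ⟨z', hD.fromSpec.isOpenEmbedding.injective ?_⟩
      rw [← Scheme.Hom.comp_apply, w1, Scheme.Hom.comp_apply, hw']
    have h3 : lciProp (pullback.fst f' g') := by
      refine lciProp_of_comp_smooth _ hWaff.fromSpec ?_
      have : pullback.fst f' g' ≫ hWaff.fromSpec =
          pullback.map f' g' e h hWaff.fromSpec hO.fromSpec hD.fromSpec w1 w2 ≫ pullback.fst e h :=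
        (pullback.lift_fst _ _ _).symm
      rw [this]
      exact IsZariskiLocalAtSource.comp hl _
    have h4 := lciProp_of_pullback_Spec f' g' h3
    have h5 : lciProp (hO.fromSpec ≫ h) := w2 ▸ lciProp_comp _ _ h4 (lciProp_smooth hD.fromSpec)
    rwa [IsAffineOpen.fromSpec, Category.assoc,
      lciProp.cancel_left_of_respectsIso] at h5
  choose O hO hl' using key
  exact (IsZariskiLocalAtSource.iff_of_openCover (P := lciProp.{u})
    (Scheme.openCoverOfIsOpenCover U O (TopologicalSpace.IsOpenCover.mk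
      (eq_top_iff.2 fun u _ => TopologicalSpace.Opens.mem_iSup.2 ⟨u, hO u⟩)))).2 hl'

end Groth.Agent.SpFP87
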