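import Groth.Agent.SpFP87.Reduced
import Groth.Agent.SchBasics.Reduced
import Groth.Agent.SpPts86.ImmDescent
import Groth.Agent.SpPts86.Subspace
import Groth.Prelude.Def_AlgSpSub
import Mathlib.AlgebraicGeometry.IdealSheaf.Subscheme
/-!
Reduced induced structures on closed subsets of algebraic spaces.
-/

set_option autoImplicit false
set_option linter.style.haveILetI false
set_option backward.isDefEq.respectTransparency false
universe u
open CategoryTheory CategoryTheory.Limits AlgebraicGeometry Opposite Topology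
open AlgSp
open Groth.Agent.SpPts86

namespace Groth.Agent.SpFP87

variable {S : Scheme.{u}} (X : Sp S) {U C : Over S} (a : (yon S).obj U ⟶ X) (ι : C ⟶ U)

/-- The sections all of whose local lifts through `a` factor through `ι`. -/
def subOfFactor : Subfunctor X.obj where
  obj T := {x | ∀ (W : Over S) (c : W ⟶ T.unop) (l : W ⟶ U),
    (yon S).map l ≫ a = (yon S).map c ≫ (J S).uliftYonedaEquiv.symm x → ∃ k : W ⟶ C, k ≫ ι = l}
  map := by
    rintro ⟨T⟩ ⟨T'⟩ φ x hx W c l e
    rw [← φ.op_unop, ← GrothendieckTopology.uliftYonedaEquiv_symm_naturality_left,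
      ← Functor.map_comp_assoc] at e
    exact hx W _ l e

variable {X}

theorem isSheaf_subOfFactor [Mono ι] : Presieve.IsSheaf (J S) (subOfFactor X a ι).toFunctor := by
  have hF : Presieve.IsSheaf (J S) X.obj := (isSheaf_iff_isSheaf_of_type _ _).1 X.property
  rw [Subfunctor.isSheaf_iff _ hF]
  rintro ⟨T⟩ x hx W c l e
  let R : Sieve W := Sieve.pullback c ((subOfFactor X a ι).sieveOfSection x)
  have hR : R ∈ J S W := (J S).pullback_stable c hx
  have hlift : ∀ ⦃Z : Over S⦄ (g : Z ⟶ W), R g → ∃ k : Z ⟶ C, k ≫ ι = g ≫ l := by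
    intro Z g hg
    refine hg Z (𝟙 Z) (g ≫ l) ?_
    rw [← GrothendieckTopology.uliftYonedaEquiv_symm_naturality_left, ← Functor.map_comp_assoc,
      Category.id_comp, Functor.map_comp, Category.assoc, e, ← Functor.map_comp_assoc]
  choose k hk using hlift
  have hC : Presieve.IsSheaf (J S) ((yon S).obj C).obj :=
    (isSheaf_iff_isSheaf_of_type _ _).1 ((yon S).obj C).property
  let fam : Presieve.FamilyOfElements ((yon S).obj C).obj (R : Presieve W) :=
    fun Z g hg => uE ((yon S).map (k g hg))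
  have hfam : fam.Compatible := by
    intro Z₁ Z₂ Z g₁ g₂ f₁ f₂ h₁ h₂ h
    have e0 : g₁ ≫ k f₁ h₁ = g₂ ≫ k f₂ h₂ := by
      rw [← cancel_mono ι, Category.assoc, Category.assoc, hk, hk, ← Category.assoc, ← Category.assoc, h]
    show ((yon S).obj C).obj.map g₁.op (uE ((yon S).map (k f₁ h₁))) =
      ((yon S).obj C).obj.map g₂.op (uE ((yon S).map (k f₂ h₂)))
    rw [GrothendieckTopology.uliftYonedaEquiv_naturality, GrothendieckTopology.uliftYonedaEquiv_naturality,
      ← Functor.map_comp, ← Functor.map_comp, e0]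
  obtain ⟨m, hm⟩ := (yon S).map_surjective ((uE (S := S)).symm ((hC R hR).amalgamate fam hfam))
  refine ⟨m, (yon S).map_injective ?_⟩
  have hU : Presieve.IsSheaf (J S) ((yon S).obj U).obj :=
    (isSheaf_iff_isSheaf_of_type _ _).1 ((yon S).obj U).property
  apply (uE (S := S)).injective
  refine (hU R hR).isSeparatedFor.ext fun Z g hg => ?_
  rw [GrothendieckTopology.uliftYonedaEquiv_naturality, GrothendieckTopology.uliftYonedaEquiv_naturality]
  refine congrArg _ ?_
  rw [← Functor.map_comp, ← Functor.map_comp, ← Category.assoc]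
  congr 1
  have h1 : ((yon S).obj C).obj.map g.op (uE ((yon S).map m)) = uE ((yon S).map (k g hg)) := by
    rw [hm, Equiv.apply_symm_apply]
    exact (hC R hR).valid_glue hfam g hg
  rw [GrothendieckTopology.uliftYonedaEquiv_naturality, ← Functor.map_comp] at h1
  rw [(yon S).map_injective ((uE (S := S)).injective h1), hk]

variable (X)

/-- The subsheaf of `X` cut out by `ι` on the chart `a`. -/
def factorSheaf [Mono ι] : Sp S :=
  ⟨(subOfFactor X a ι).toFunctor, (isSheaf_iff_isSheaf_of_type _ _).2 (isSheaf_subOfFactor a ι)⟩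

/-- The inclusion of `factorSheaf`. -/
def factorι [Mono ι] : factorSheaf X a ι ⟶ X := ⟨(subOfFactor X a ι).ι⟩

variable {X}

instance mono_factorι [Mono ι] : Mono (factorι X a ι) := by
  refine mono_of_forall_yon fun T p q e => ?_
  apply (J S).uliftYonedaEquiv.injective
  apply Subtype.ext
  have := congrArg (J S).uliftYonedaEquiv e
  rwa [GrothendieckTopology.uliftYonedaEquiv_comp, GrothendieckTopology.uliftYonedaEquiv_comp] at this

theorem factorι_prop [Mono ι] {T : Over S} (b : (yon S).obj T ⟶ factorSheaf X a ι) (W : Over S) (c : W ⟶ T)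
    (l : W ⟶ U) (e : (yon S).map l ≫ a = (yon S).map c ≫ b ≫ factorι X a ι) : ∃ k : W ⟶ C, k ≫ ι = l := by
  have hb : ((J S).uliftYonedaEquiv b).1 = (J S).uliftYonedaEquiv (b ≫ factorι X a ι) := by
    rw [GrothendieckTopology.uliftYonedaEquiv_comp]; rfl
  refine ((J S).uliftYonedaEquiv b).2 W c l ?_
  rw [hb, Equiv.symm_apply_apply]
  exact e

theorem exists_factor_lift [Mono ι] {T : Over S} (g : (yon S).obj T ⟶ X)
    (h : ∀ (W : Over S) (c : W ⟶ T) (l : W ⟶ U), (yon S).map l ≫ a = (yon S).map c ≫ g → ∃ k : W ⟶ C, k ≫ ι = l) :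
    ∃ b : (yon S).obj T ⟶ factorSheaf X a ι, b ≫ factorι X a ι = g := by
  refine ⟨(J S).uliftYonedaEquiv.symm ⟨(J S).uliftYonedaEquiv g, fun W c l e => h W c l ?_⟩, ?_⟩
  · simpa using e
  · apply (J S).uliftYonedaEquiv.injective
    rw [GrothendieckTopology.uliftYonedaEquiv_comp]
    erw [Equiv.apply_symm_apply]
    rfl

/-- The chart pulls the subsheaf back to `ι` when `ι` is invariant. -/
theorem exists_isPullback_factor (hX : IsAlgSpace X) [Mono ι]
    (hinv : ∀ (W : Over S) (l l' : W ⟶ U), (yon S).map l ≫ a = (yon S).map l' ≫ a →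
      (∃ k : W ⟶ C, k ≫ ι = l) → ∃ k : W ⟶ C, k ≫ ι = l') :
    ∃ p : (yon S).obj C ⟶ factorSheaf X a ι, IsPullback p ((yon S).map ι) (factorι X a ι) a := by
  obtain ⟨p, hp⟩ := exists_factor_lift a ι ((yon S).map ι ≫ a) fun W c l e =>
    hinv W (c ≫ ι) l (by rw [Functor.map_comp, Category.assoc, e]) ⟨c, rfl⟩
  haveI : Mono ((yon S).map ι) := mono_of_forall_yon fun T f g e => by
    obtain ⟨f, rfl⟩ := (yon S).map_surjective f
    obtain ⟨g, rfl⟩ := (yon S).map_surjective g
    rw [← Functor.map_comp, ← Functor.map_comp] at e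
    rw [(cancel_mono ι).1 ((yon S).map_injective e)]
  refine ⟨p, IsPullback.mk' hp (fun Z f g _ e2 => (cancel_mono ((yon S).map ι)).1 e2) fun Z u v e => ?_⟩
  obtain ⟨l, hl⟩ := exists_factor_of_forall_yon (j := (yon S).map ι) v fun T x => by
    obtain ⟨y, hy⟩ := (yon S).map_surjective (x ≫ v)
    obtain ⟨k, hk⟩ := factorι_prop a ι (x ≫ u) T (𝟙 T) y (by
      rw [CategoryTheory.Functor.map_id, Category.id_comp, hy, Category.assoc, Category.assoc, e])
    exact ⟨(yon S).map k, by rw [← hy, ← Functor.map_comp, hk]⟩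
  exact ⟨l, by rw [← cancel_mono (factorι X a ι), Category.assoc, hp, ← Category.assoc, hl, e], hl⟩

/-- A closed immersion into which a reduced scheme maps on points is factored through. -/
theorem exists_lift_of_reduced {D C' R : Scheme.{u}} (i : D ⟶ R) (j : C' ⟶ R) [IsClosedImmersion j]
    [IsReduced D] (h : Set.range i ⊆ Set.range j) : ∃ k : D ⟶ C', k ≫ j = i := by
  haveI : Surjective (pullback.fst i j) := ⟨fun d => by
    obtain ⟨c, hc⟩ := h ⟨d, rfl⟩
    obtain ⟨z, hz, -⟩ := Scheme.Pullback.exists_preimage_pullback (f := i) (g := j) d c hc.symm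
    exact ⟨z, hz⟩⟩
  haveI : IsIso (pullback.fst i j) := isIso_of_isClosedImmersion_of_surjective _
  exact ⟨inv (pullback.fst i j) ≫ pullback.snd i j, by
    rw [Category.assoc, ← pullback.condition, IsIso.inv_hom_id_assoc]⟩

theorem exists_isRedInduced (hX : IsAlgSpace X) (T : Set (Points X)) (hT : IsClosed T) :
    ∃ (Z : Sp S) (i : Z ⟶ X), IsAlgSpace Z ∧ IsRedInduced T i := by
  obtain ⟨U, a, ha, has⟩ := hX.atlas
  let A : Set ↥U.left := Points.ofPt a ⁻¹' T
  have hA : IsClosed A := hT.preimage (Points.continuous_ofPt a)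
  let I := Scheme.IdealSheafData.vanishingIdeal (⟨A, hA⟩ : TopologicalSpace.Closeds ↥U.left)
  let C : Over S := Over.mk (I.subschemeι ≫ U.hom)
  let ι : C ⟶ U := Over.homMk I.subschemeι rfl
  haveI hι : IsClosedImmersion ι.left := inferInstanceAs (IsClosedImmersion I.subschemeι)
  haveI : IsReduced C.left := SchBasics.isReduced_vanishingIdeal_subscheme _
  haveI : Mono ι := (Over.forget S).mono_of_mono_map (f := ι) (inferInstanceAs (Mono ι.left))
  have hr : Set.range ι.left = A := by
    show Set.range I.subschemeι = A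
    rw [Scheme.IdealSheafData.range_subschemeι, Scheme.IdealSheafData.coe_support_vanishingIdeal]
    rfl
  obtain ⟨R, t, s, sq⟩ := exists_isPullback_yon hX.diag a a
  haveI : Etale t.left := etale_snd_of_isPullback sq.flip ha
  haveI : Etale s.left := etale_snd_of_isPullback sq ha
  have hinv : ∀ (W : Over S) (l l' : W ⟶ U), (yon S).map l ≫ a = (yon S).map l' ≫ a →
      (∃ k : W ⟶ C, k ≫ ι = l) → ∃ k : W ⟶ C, k ≫ ι = l' := by
    rintro W _ l' e ⟨k, rfl⟩
    obtain ⟨ρ, hρ⟩ := (yon S).map_surjective (sq.lift _ _ e)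
    have h1 : ρ ≫ t = k ≫ ι := (yon S).map_injective (by rw [Functor.map_comp, hρ]; exact sq.lift_fst _ _ _)
    have h2 : ρ ≫ s = l' := (yon S).map_injective (by rw [Functor.map_comp, hρ]; exact sq.lift_snd _ _ _)
    haveI : IsReduced (pullback ι.left t.left) :=
      isReduced_of_smooth (pullback.fst ι.left t.left)
    have hsub : Set.range (pullback.snd ι.left t.left ≫ s.left) ⊆ Set.range ι.left := by
      rintro _ ⟨z, rfl⟩
      rw [hr, Scheme.Hom.comp_apply]
      show Points.ofPt a _ ∈ T
      have h3 : t.left (pullback.snd ι.left t.left z) ∈ A := by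
        rw [← hr, ← Scheme.Hom.comp_apply, ← pullback.condition]
        exact ⟨pullback.fst ι.left t.left z, rfl⟩
      rw [show Points.ofPt a (s.left (pullback.snd ι.left t.left z)) =
        Points.ofPt a (t.left (pullback.snd ι.left t.left z)) from
        ((ofPt_eq_of_isPullback sq _).symm)]
      exact h3
    obtain ⟨k₂, hk₂⟩ := exists_lift_of_reduced (pullback.snd ι.left t.left ≫ s.left) ι.left hsub
    let m := pullback.lift (f := ι.left) (g := t.left) k.left ρ.left
      ((congrArg CommaMorphism.left h1).symm)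
    have hm : m ≫ pullback.snd ι.left t.left = ρ.left := pullback.lift_snd _ _ _
    have hk' : (m ≫ k₂) ≫ ι.left = l'.left := by
      rw [Category.assoc, hk₂, ← Category.assoc, hm, ← h2]
      rfl
    refine ⟨Over.homMk (m ≫ k₂) ?_, Over.OverMorphism.ext hk'⟩
    rw [← Over.w ι, ← Category.assoc, hk', Over.w]
  obtain ⟨p, sqp⟩ := exists_isPullback_factor a ι hX hinv
  have hcl : RepWith @IsClosedImmersion (factorι X a ι) :=
    repWith_isClosedImmersion_of_cover (locLift_of_atlas ha has) sqp
  refine ⟨factorSheaf X a ι, factorι X a ι, isAlgSpace_of_representable_mono hcl.1 hX, hcl, ?_, ?_⟩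
  · ext x
    obtain ⟨u, rfl⟩ := surjective_ofPt has x
    show u ∈ Points.ofPt a ⁻¹' Set.range (Points.map (factorι X a ι)) ↔ u ∈ A
    rw [preimage_ofPt_range_map sqp, hr]
  · exact ⟨C, p, (repWith_isStableUnderBaseChange _).of_isPullback sqp.flip ha,
      (repWith_isStableUnderBaseChange _).of_isPullback sqp.flip has, inferInstanceAs (IsReduced C.left)⟩

end Groth.Agent.SpFP87
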