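import Groth.Agent.Div89.Cartier
import Groth.Agent.Div89.Pullback
/-!
Effective Cartier ideals descend along flat morphisms locally of finite presentation.
-/

set_option autoImplicit false
set_option linter.style.haveILetI false
universe u
open CategoryTheory AlgebraicGeometry Opposite nonZeroDivisors
open Groth.Agent.Div89

namespace Groth.Agent.SpFP87

/-- An ideal becoming principal on a non-zero-divisor along a local flat map is principal. -/
theorem exists_generator_of_map_local {ι R R' : Type*} [CommRing R] [CommRing R'] [IsLocalRing R] [IsLocalRing R']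
    (φ : R →+* R') [IsLocalHom φ] (hφ : φ.Flat) (a : ι → R) (J : Ideal R) (hJ : J = Ideal.span (Set.range a))
    {g : R'} (hg : g ∈ R'⁰) (h : J.map φ = Ideal.span {g}) :
    ∃ i, J = Ideal.span {a i} ∧ a i ∈ R⁰ ∧ J.map φ = Ideal.span {φ (a i)} := by
  algebraize [φ]
  haveI : Module.Flat R R' := hφ
  haveI : IsLocalHom (algebraMap R R') := ‹IsLocalHom φ›
  haveI : Module.FaithfullyFlat R R' := Module.FaithfullyFlat.of_flat_of_isLocalHom
  have hJ' : J.map φ = Ideal.span (Set.range fun i => φ (a i)) := by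
    rw [hJ, Ideal.map_span, ← Set.range_comp]; rfl
  obtain ⟨i, hi⟩ : ∃ i, Ideal.span {φ (a i)} = J.map φ := by
    by_contra! hne
    have hle : J.map φ ≤ Ideal.span {g} * IsLocalRing.maximalIdeal R' := by
      rw [hJ', Ideal.span_le]
      rintro _ ⟨i, rfl⟩
      have hmem : φ (a i) ∈ Ideal.span {g} := by
        rw [← h, hJ']
        exact Ideal.subset_span ⟨i, rfl⟩
      obtain ⟨t, ht⟩ := Ideal.mem_span_singleton'.1 hmem
      refine Ideal.mem_span_singleton_mul.2 ⟨t, fun ht' => hne i ?_, by rw [mul_comm, ht]⟩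
      rw [← ht, Ideal.span_singleton_mul_left_unit ht', h]
    obtain ⟨r, hr, hgr⟩ := Ideal.mem_span_singleton_mul.1 (hle (h.ge (Ideal.mem_span_singleton_self g)))
    have hr1 : r = 1 := sub_eq_zero.1 ((mem_nonZeroDivisors_iff_right.1 hg) _ (by
      rw [sub_mul, one_mul, mul_comm, hgr, sub_self]))
    exact (IsLocalRing.maximalIdeal.isMaximal R').ne_top ((Ideal.eq_top_iff_one _).2 (hr1 ▸ hr))
  refine ⟨i, ?_, ?_, hi.symm⟩
  · have e : ((Ideal.span {a i} : Ideal R).map (algebraMap R R')) = J.map (algebraMap R R') := by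
      rw [Ideal.map_span, Set.image_singleton]; exact hi
    rw [← Ideal.comap_map_eq_self_of_faithfullyFlat (B := R') J, ← e,
      Ideal.comap_map_eq_self_of_faithfullyFlat]
  · have hn : φ (a i) ∈ R'⁰ := generator_mem_nonZeroDivisors hg (hi.trans h)
    refine mem_nonZeroDivisors_iff_right.2 fun x hx => ?_
    have h0 : φ x = 0 := (mem_nonZeroDivisors_iff_right.1 hn) _ (by rw [← map_mul, hx, map_zero])
    exact (FaithfulSMul.algebraMap_injective R R') (h0.trans (map_zero φ).symm)

/-- Being effective Cartier is local for flat morphisms locally of finite presentation. -/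
theorem isEffCartier_of_flat_nhds {X : Scheme.{u}} {I : X.IdealSheafData}
    (H : ∀ x : X, ∃ (X' : Scheme.{u}) (c : X' ⟶ X), Flat c ∧ LocallyOfFinitePresentation c ∧
      x ∈ Set.range c ∧ BlowUp.IsEffCartierIdeal (I.comap c)) :
    BlowUp.IsEffCartierIdeal I := by
  intro x
  obtain ⟨X', c, hfl, hfp, ⟨x', rfl⟩, hI⟩ := H x
  obtain ⟨U, hxU⟩ := exists_affine_le (U := (⊤ : X.Opens)) (x := c x') trivial
  replace hxU := hxU.1
  obtain ⟨g, hg, hgI⟩ := exists_stalk_generator hI x'
  rw [stalkIdeal_comap] at hgI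
  haveI : IsLocalHom (c.stalkMap x').hom := inferInstance
  have hspan : stalkIdeal I (c x') = Ideal.span (Set.range fun a : I.ideal U =>
      (X.presheaf.germ U.1 (c x') hxU).hom a.1) := by
    rw [stalkIdeal_eq I U (c x') hxU, ← Ideal.span_eq (I.ideal U), Ideal.map_span]
    congr 1
    ext y
    simp
  obtain ⟨⟨a, haI⟩, -, -, hgen⟩ :=
    exists_generator_of_map_local (c.stalkMap x').hom (Flat.stalkMap c x') _ _ hspan hg hgI
  obtain ⟨V, hxV, hVU⟩ := exists_affine_le (U := c ⁻¹ᵁ U.1) (x := x') hxU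
  let a' : Γ(X', V.1) := (c.appLE U.1 V.1 hVU).hom a
  have hgerm : ∀ z (hz : z ∈ V.1), (X'.presheaf.germ V.1 z hz).hom a' =
      (c.stalkMap z).hom ((X.presheaf.germ U.1 (c z) (hVU hz)).hom a) := fun z hz => by
    erw [Scheme.Hom.germ_stalkMap_apply]
    exact X'.presheaf.germ_res_apply (homOfLE hVU) z hz (c.app U.1 a)
  obtain ⟨W, hxW, b, hb, hbI⟩ := hI x'
  obtain ⟨W', hxW', hW'⟩ := exists_affine_le (U := V.1 ⊓ W.1) (x := x') ⟨hxV, hxW⟩
  have hW'V : W'.1 ≤ V.1 := fun y hy => (hW' hy).1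
  have hW'W : W'.1 ≤ W.1 := fun y hy => (hW' hy).2
  have hbI' := ideal_res_span hW'W hbI
  have hb' := res_mem_nonZeroDivisors hW'W hb
  set b' := (X'.presheaf.map (homOfLE hW'W).op).hom b
  let a'' := (X'.presheaf.map (homOfLE hW'V).op).hom a'
  have hga : ∀ z (hz : z ∈ W'.1), (X'.presheaf.germ W'.1 z hz).hom a'' =
      (c.stalkMap z).hom ((X.presheaf.germ U.1 (c z) (hVU (hW'V hz))).hom a) := fun z hz => by
    rw [germ_res_affine hW'V z hz]
    exact hgerm z (hW'V hz)
  have hmem : a'' ∈ (I.comap c).ideal W' := by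
    rw [IsAffineOpen.mem_ideal_iff W'.2]
    intro z hz
    rw [← stalkIdeal_eq _ W' z hz, stalkIdeal_comap, hga z hz]
    refine Ideal.mem_map_of_mem _ ?_
    rw [stalkIdeal_eq I U (c z) (hVU (hW'V hz))]
    exact Ideal.mem_map_of_mem _ haI
  obtain ⟨t, ht⟩ := Ideal.mem_span_singleton'.1 (hbI'.le hmem)
  have hu : IsUnit ((X'.presheaf.germ W'.1 x' hxW').hom t) := by
    have e1 : Ideal.span {(X'.presheaf.germ W'.1 x' hxW').hom a''} =
        Ideal.span {(X'.presheaf.germ W'.1 x' hxW').hom b'} := by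
      rw [hga x' hxW', ← stalkIdeal_eq_span hbI' x' hxW', stalkIdeal_comap]
      exact hgen.symm
    obtain ⟨r, hr⟩ := Ideal.mem_span_singleton'.1 (e1.ge (Ideal.mem_span_singleton_self _))
    rw [← ht, map_mul, ← mul_assoc] at hr
    exact IsUnit.of_mul_eq_one r (by
      rw [mul_comm]
      exact sub_eq_zero.1 ((mem_nonZeroDivisors_iff_right.1 (germ_mem_nonZeroDivisors W' hb' x' hxW')) _
        (by rw [sub_mul, hr, one_mul, sub_self])))
  let W'' : X'.affineOpens := X'.affineBasicOpen t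
  have hx'' : x' ∈ W''.1 := (X'.mem_basicOpen t x' hxW').2 hu
  have hopen : IsOpen (c '' (W''.1 : Set X')) := c.isOpenMap _ W''.1.isOpen
  let O : X.Opens := ⟨c '' (W''.1 : Set X'), hopen⟩
  obtain ⟨U', hxU', hU'⟩ := exists_affine_le (U := U.1 ⊓ O) (x := c x') ⟨hxU, x', hx'', rfl⟩
  have hU'U : U'.1 ≤ U.1 := fun y hy => (hU' hy).1
  let a₀ : Γ(X, U'.1) := (X.presheaf.map (homOfLE hU'U).op).hom a
  have hst : ∀ y (hy : y ∈ U'.1), stalkIdeal I y = Ideal.span {(X.presheaf.germ U'.1 y hy).hom a₀} ∧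
      (X.presheaf.germ U'.1 y hy).hom a₀ ∈ (X.presheaf.stalk y)⁰ := by
    intro y hy
    obtain ⟨z, hz, rfl⟩ := (hU' hy).2
    have hzW : z ∈ W'.1 := X'.basicOpen_le t hz
    have hut : IsUnit ((X'.presheaf.germ W'.1 z hzW).hom t) := (X'.mem_basicOpen t z hzW).1 hz
    rw [germ_res_affine hU'U (c z) hy]
    haveI : IsLocalHom (c.stalkMap z).hom := inferInstance
    have hgz : (stalkIdeal I (c z)).map (c.stalkMap z).hom =
        Ideal.span {(c.stalkMap z).hom ((X.presheaf.germ U.1 (c z) (hU'U hy)).hom a)} := by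
      rw [← stalkIdeal_comap, stalkIdeal_eq_span hbI' z hzW, ← hga z hzW, ← ht, map_mul,
        Ideal.span_singleton_mul_left_unit hut]
    have hnz : (c.stalkMap z).hom ((X.presheaf.germ U.1 (c z) (hU'U hy)).hom a) ∈ (X'.presheaf.stalk z)⁰ := by
      rw [← hga z hzW, ← ht, map_mul]
      exact mul_mem hut.mem_nonZeroDivisors (germ_mem_nonZeroDivisors W' hb' z hzW)
    algebraize [(c.stalkMap z).hom]
    haveI : Module.Flat (X.presheaf.stalk (c z)) (X'.presheaf.stalk z) := Flat.stalkMap c z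
    haveI : IsLocalHom (algebraMap (X.presheaf.stalk (c z)) (X'.presheaf.stalk z)) :=
      ‹IsLocalHom (c.stalkMap z).hom›
    haveI : Module.FaithfullyFlat (X.presheaf.stalk (c z)) (X'.presheaf.stalk z) :=
      Module.FaithfullyFlat.of_flat_of_isLocalHom
    refine ⟨?_, mem_nonZeroDivisors_iff_right.2 fun w hw => ?_⟩
    · rw [← Ideal.comap_map_eq_self_of_faithfullyFlat (B := X'.presheaf.stalk z) (stalkIdeal I (c z))]
      conv_rhs => rw [← Ideal.comap_map_eq_self_of_faithfullyFlat (B := X'.presheaf.stalk z) (Ideal.span _)]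
      congr 1
      rw [Ideal.map_span, Set.image_singleton]
      exact hgz
    · have h0 : (c.stalkMap z).hom w = 0 :=
        (mem_nonZeroDivisors_iff_right.1 hnz) _ (by rw [← map_mul, hw, map_zero])
      exact (FaithfulSMul.algebraMap_injective (X.presheaf.stalk (c z)) (X'.presheaf.stalk z))
        (h0.trans (map_zero _).symm)
  exact ⟨U', hxU', a₀, mem_nonZeroDivisors_of_germ U' a₀ fun y hy => (hst y hy).2,
    ideal_eq_span_of_stalk fun y hy => (hst y hy).1⟩

end Groth.Agent.SpFP87
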