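import Groth.Agent.SpFP87.Sober
import Groth.Agent.SpPts86.EtaleMor
import Groth.Prelude.Def_AlgSpDec
import Groth.Prelude.Def_Flat
import Mathlib.Topology.KrullDimension
/-!
Dimension theory of decent algebraic spaces.
-/

set_option autoImplicit false
set_option linter.style.haveILetI false
set_option backward.isDefEq.respectTransparency false
universe u
open CategoryTheory CategoryTheory.Limits AlgebraicGeometry Opposite Topology
open AlgSp
open Groth.Agent.SpPts86

namespace Groth.Agent.SpFP87

attribute [local instance 50] specializationOrder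

theorem topologicalKrullDim_eq_iSup (Y : Type u) [TopologicalSpace Y] [QuasiSober Y] [T0Space Y] :
    topologicalKrullDim Y = ⨆ y : Y, (Order.coheight y : WithBot ℕ∞) := by
  rw [topologicalKrullDim, Order.krullDim_eq_of_orderIso (irreducibleSetEquivPoints (α := Y)),
    Order.krullDim_eq_iSup_coheight]

theorem topologicalKrullDim_open_eq_iSup {Y : Type u} [TopologicalSpace Y] [QuasiSober Y] [T0Space Y]
    {O : Set Y} (hO : IsOpen O) :
    topologicalKrullDim O = ⨆ y : O, (Order.coheight (y : Y) : WithBot ℕ∞) := by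
  have hemb : IsOpenEmbedding (Subtype.val : O → Y) := hO.isOpenEmbedding_subtypeVal
  haveI : QuasiSober O := hemb.quasiSober
  rw [topologicalKrullDim_eq_iSup]
  exact iSup_congr fun y => by rw [hemb.coheight_eq (x := y) Subtype.val]

theorem dim_stalk_eq_zero_iff {U : Scheme.{u}} (u : ↥U) :
    ringKrullDim (U.presheaf.stalk u) = 0 ↔ ∀ a : ↥U, a ⤳ u → a = u := by
  rw [ringKrullDim_stalk_eq_coheight, WithBot.coe_eq_zero, Order.coheight_eq_zero]
  exact ⟨fun h a ha => (Specializes.antisymm (h ha) ha).eq.symm, fun h a ha => (h a ha).symm ▸ le_rfl⟩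

variable {S : Scheme.{u}} {X Y : Sp S}

theorem coheight_ofPt (hX : IsAlgSpace X) (hd : IsDecent X) [T0Space (Points X)] {U : Over S}
    {φ : (yon S).obj U ⟶ X} (hφ : RepWith @Etale φ) (u : ↥U.left) :
    Order.coheight u = Order.coheight (Points.ofPt φ u) := by
  refine Order.coheight_eq_of_strictMono _ (fun a b hab => ?_) (fun a x hax => ?_) u
  · refine lt_of_le_of_ne (hab.le.map (Points.continuous_ofPt φ)) fun e => hab.ne ?_
    exact (eq_of_specializes_of_decent hX hd hφ hab.le e.symm).symm
  · obtain ⟨a', ha', rfl⟩ := exists_generalization_lift hX hd hφ hax.le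
    exact ⟨a', lt_of_le_of_ne ha' (fun e => hax.ne (by rw [e])), rfl⟩

theorem localDim_eq (hX : IsAlgSpace X) (hd : IsDecent X) {U : Over S} {φ : (yon S).obj U ⟶ X}
    (hφ : RepWith @Etale φ) (u : ↥U.left) :
    FlatMor.localDim ↥U.left u = FlatMor.localDim (Points X) (Points.ofPt φ u) := by
  haveI := t0Space_points hX hd
  haveI := quasiSober_points hX hd
  unfold FlatMor.localDim
  apply le_antisymm
  · refine le_iInf (α := WithBot ℕ∞) fun W => iInf_le_of_le (α := WithBot ℕ∞)
      ⟨⟨Points.ofPt φ ⁻¹' W.1, W.1.isOpen.preimage (Points.continuous_ofPt φ)⟩, W.2⟩ ?_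
    rw [topologicalKrullDim_open_eq_iSup W.1.isOpen]
    refine (topologicalKrullDim_open_eq_iSup (W.1.isOpen.preimage (Points.continuous_ofPt φ))).trans_le ?_
    refine iSup_le (α := WithBot ℕ∞) fun z => ?_
    rw [coheight_ofPt hX hd hφ]
    exact le_iSup (fun y : (W.1 : Set (Points X)) => (Order.coheight (y : Points X) : WithBot ℕ∞))
      ⟨Points.ofPt φ z.1, z.2⟩
  · refine le_iInf (α := WithBot ℕ∞) fun O => iInf_le_of_le (α := WithBot ℕ∞) ⟨⟨Points.ofPt φ '' O.1, isOpenMap_ofPt hφ _ O.1.isOpen⟩, u, O.2, rfl⟩ ?_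
    rw [topologicalKrullDim_open_eq_iSup O.1.isOpen]
    refine (topologicalKrullDim_open_eq_iSup (isOpenMap_ofPt hφ _ O.1.isOpen)).trans_le ?_
    refine iSup_le (α := WithBot ℕ∞) fun y => ?_
    obtain ⟨z, hz, hzy⟩ := y.2
    rw [← hzy, ← coheight_ofPt hX hd hφ]
    exact le_iSup (fun w : (O.1 : Set ↥U.left) => (Order.coheight (w : ↥U.left) : WithBot ℕ∞)) ⟨z, hz⟩

theorem topologicalKrullDim_points (hX : IsAlgSpace X) (hd : IsDecent X) :
    topologicalKrullDim (Points X) = dim X := by
  haveI := t0Space_points hX hd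
  haveI := quasiSober_points hX hd
  rw [topologicalKrullDim_eq_iSup]
  unfold dim
  apply le_antisymm
  · refine iSup_le (α := WithBot ℕ∞) fun x => ?_
    obtain ⟨U, a, ha, has⟩ := hX.atlas
    obtain ⟨u, rfl⟩ := surjective_ofPt has x
    rw [← coheight_ofPt hX hd ha]
    refine le_trans ?_ (le_iSup_of_le (α := WithBot ℕ∞) U (le_iSup_of_le a (le_iSup_of_le ha le_rfl)))
    rw [topologicalKrullDim_eq_iSup]
    exact le_iSup (fun w : ↥U.left => (Order.coheight w : WithBot ℕ∞)) u
  · refine iSup_le (α := WithBot ℕ∞) fun U => iSup_le (α := WithBot ℕ∞) fun a => iSup_le (α := WithBot ℕ∞) fun ha => ?_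
    rw [topologicalKrullDim_eq_iSup]
    refine iSup_le (α := WithBot ℕ∞) fun u => ?_
    rw [coheight_ofPt hX hd ha]
    exact le_iSup (fun y : Points X => (Order.coheight y : WithBot ℕ∞)) _

theorem coheight_irreducibleCloseds (hX : IsAlgSpace X) (hd : IsDecent X)
    (T : TopologicalSpace.IrreducibleCloseds (Points X)) (ξ : Points X)
    (hξ : IsGenericPoint ξ (T : Set (Points X))) {U : Over S} {φ : (yon S).obj U ⟶ X}
    (hφ : RepWith @Etale φ) (u : ↥U.left) (hu : Points.ofPt φ u = ξ) :
    (Order.coheight T : WithBot ℕ∞) = ringKrullDim ↥(U.left.presheaf.stalk u) := by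
  haveI := t0Space_points hX hd
  haveI := quasiSober_points hX hd
  rw [ringKrullDim_stalk_eq_coheight, coheight_ofPt hX hd hφ, hu,
    ← Order.coheight_orderIso irreducibleSetEquivPoints T]
  congr 2
  exact (T.2.isGenericPoint_genericPoint T.3).eq hξ

/-- For a space etale over a decent one, generic points of components are the points of codimension zero. -/
theorem isGeneric_iff_forall_eq (hY : IsAlgSpace Y) (hX : IsAlgSpace X) (hd : IsDecent X) (f : Y ⟶ X) {V : Over S}
    {a : (yon S).obj V ⟶ Y} (ha : RepWith @Etale a) (has : RepWith @Surjective a) (hf : RepWith @Etale (a ≫ f))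
    (v : ↥V.left) :
    (∃ T ∈ irreducibleComponents (Points Y), IsGenericPoint (Points.ofPt a v) T) ↔ ∀ w, w ⤳ v → w = v := by
  haveI := t0Space_points hX hd
  have hcomp : ∀ z, Points.map f (Points.ofPt a z) = Points.ofPt (a ≫ f) z := fun z => Points.map_ofPt a f z
  constructor
  · rintro ⟨T, hT, hgen⟩ w hw
    have h1 : Points.ofPt a w ⤳ Points.ofPt a v := hw.map (Points.continuous_ofPt a)
    have h2 : Points.ofPt a v ⤳ Points.ofPt a w := by
      have hle : T ⊆ closure {Points.ofPt a w} := by
        rw [← hgen.def]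
        exact specializes_iff_closure_subset.1 h1
      have := hT.2 (isIrreducible_singleton.closure) hle
      exact hgen.specializes (this (subset_closure rfl))
    refine eq_of_specializes_of_decent hX hd hf hw ?_
    rw [← hcomp, ← hcomp]
    exact ((h1.map (Points.continuous_map f)).antisymm (h2.map (Points.continuous_map f))).eq
  · intro hmax
    obtain ⟨W, hWaff, hvW, hW⟩ := exists_affine_subchart hf v
    haveI := hWaff
    set x := Points.ofPt (a ≫ f) v with hx
    let F : Set ↥V.left := {z | z ∈ W ∧ Points.ofPt (a ≫ f) z = x}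
    have hF : F.Finite := by
      refine (((finite_fibres_of_isDecent hX hd hW x).1).image W.ι).subset fun z hz => ?_
      refine ⟨⟨z, hz.1⟩, ?_, rfl⟩
      show Points.ofPt ((yon S).map _ ≫ a ≫ f) _ = x
      rw [ofPt_comp]
      exact hz.2
    have hnot : v ∉ closure (F \ {v}) := by
      rw [← Set.biUnion_of_singleton (F \ {v}), (hF.sdiff).closure_biUnion]
      intro hv
      obtain ⟨z, ⟨hz, hzv⟩, hv⟩ := Set.mem_iUnion₂.1 hv
      exact hzv (eq_of_specializes_of_decent hX hd hf (specializes_iff_mem_closure.2 hv) hz.2)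
    let Ov : Set ↥V.left := (W : Set ↥V.left) \ closure (F \ {v})
    have hOv : IsOpen Ov := W.isOpen.sdiff isClosed_closure
    let O : Set (Points Y) := Points.ofPt a '' Ov
    have hO : IsOpen O := isOpenMap_ofPt ha _ hOv
    have hOfib : ∀ y ∈ O, Points.map f y = x → y = Points.ofPt a v := by
      rintro - ⟨z, ⟨hzW, hz⟩, rfl⟩ hzx
      by_cases hzv : z = v
      · rw [hzv]
      · exact absurd (subset_closure (show z ∈ F \ {v} from ⟨⟨hzW, (hcomp z).symm.trans hzx⟩, hzv⟩)) hz
    obtain ⟨T, hT, hyT⟩ : ∃ T ∈ irreducibleComponents (Points Y), closure {Points.ofPt a v} ⊆ T :=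
      exists_mem_irreducibleComponents_subset_of_isIrreducible _ isIrreducible_singleton.closure
    haveI := quasiSober_points hX hd
    have himg : IsIrreducible (closure (Points.map f '' T)) :=
      (hT.1.image _ (Points.continuous_map f).continuousOn).closure
    obtain ⟨ξ, hξ⟩ := QuasiSober.sober himg isClosed_closure
    have hxξ : ξ = x := by
      have hξx : ξ ⤳ x := hξ.specializes (subset_closure ⟨_, hyT (subset_closure rfl), hcomp v⟩)
      obtain ⟨w, hw, rfl⟩ := exists_generalization_lift hX hd hf (b := v) hξx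
      rw [hmax w hw]
    refine ⟨T, hT, ?_⟩
    refine (Set.Subset.antisymm hyT ?_ : closure {Points.ofPt a v} = T)
    intro z hz
    rw [← specializes_iff_mem_closure, specializes_iff_forall_open]
    intro Ω hΩ hzΩ
    obtain ⟨z', hz'T, hz'Ω, hz'O⟩ := hT.1.2 Ω O hΩ hO ⟨z, hz, hzΩ⟩
      ⟨_, hyT (subset_closure rfl), v, ⟨hvW, hnot⟩, rfl⟩
    obtain ⟨w', rfl⟩ := surjective_ofPt has z'
    have hxw : x ⤳ Points.ofPt (a ≫ f) w' := hxξ ▸ hξ.specializes (subset_closure ⟨_, hz'T, hcomp w'⟩)
    obtain ⟨w, hw, hwx⟩ := exists_generalization_lift hX hd hf hxw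
    have h1 : Points.ofPt a w ⤳ Points.ofPt a w' := hw.map (Points.continuous_ofPt a)
    rw [← hOfib _ (h1.mem_open hO hz'O) ((hcomp w).trans hwx)]
    exact h1.mem_open hΩ hz'Ω

end Groth.Agent.SpFP87
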