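import Mathlib
/-!
If `A → B` is flat and `B → B ⊗[A] B` is etale, then near every prime `q` of `B` the map descends to an etale
algebra over an open of `Spec A`.
-/

set_option autoImplicit false
set_option linter.style.haveILetI false
universe u
open TensorProduct

namespace Groth.Agent.SpFP87.EtSpread

section Lift

variable {R : Type*} [CommRing R] {S : Type u} [CommRing S] [Algebra R S] {M : Submonoid S}
  {L : Type*} [CommRing L] [Algebra R L] [Algebra S L] [IsScalarTower R S L] [IsLocalization M L]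

theorem exists_lift_away {T : Type*} [CommRing T] [Algebra R T] [Algebra.FinitePresentation R T]
    (f : T →ₐ[R] L) :
    ∃ m ∈ M, ∃ ψ : T →ₐ[R] Localization.Away m, ∀ (κ : Localization.Away m →ₐ[R] L),
      (∀ s, κ (algebraMap S (Localization.Away m) s) = algebraMap S L s) → ∀ t, κ (ψ t) = f t := by
  classical
  obtain ⟨n, π, hπ, rels, hrels⟩ := Algebra.FinitePresentation.out (R := R) (A := T)
  choose a hab using fun i => IsLocalization.surj M (f (π (MvPolynomial.X i)))
  let g : S := ∏ i, ((a i).2 : S)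
  have hg : g ∈ M := prod_mem fun i _ => (a i).2.2
  let L' (m : S) := Localization.Away m
  have hu : ∀ (m : S) (i), g ∣ m → IsUnit (algebraMap S (Localization.Away m) ((a i).2 : S)) := fun m i h =>
    IsLocalization.Away.isUnit_of_dvd (x := m) ((Finset.dvd_prod_of_mem _ (Finset.mem_univ i)).trans h)
  let ψ₀ (m : S) (h : g ∣ m) : MvPolynomial (Fin n) R →ₐ[R] Localization.Away m :=
    MvPolynomial.aeval fun i => algebraMap S (Localization.Away m) (a i).1 * ↑(hu m i h).unit⁻¹
  have hκ : ∀ (m : S) (h : g ∣ m) (κ : Localization.Away m →ₐ[R] L),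
      (∀ s, κ (algebraMap S (Localization.Away m) s) = algebraMap S L s) → κ.comp (ψ₀ m h) = f.comp π := by
    intro m h κ hk
    refine MvPolynomial.algHom_ext fun i => ?_
    apply (IsLocalization.map_units L (a i).2).mul_left_inj.1
    rw [AlgHom.comp_apply, AlgHom.comp_apply, hab, ← hk ((a i).2 : S), ← map_mul,
      MvPolynomial.aeval_X, mul_assoc, IsUnit.val_inv_mul, mul_one, hk]
  have kill : ∀ r ∈ rels, ∃ s ∈ M, ∀ (m : S) (h : g ∣ m), s ∣ m → ψ₀ m h r = 0 := by
    intro r hr
    obtain ⟨k, x, hx⟩ := IsLocalization.Away.surj g (ψ₀ g dvd_rfl r)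
    let κ : Localization.Away g →ₐ[R] L :=
      { IsLocalization.Away.lift g (IsLocalization.map_units L (⟨g, hg⟩ : M)) with
        commutes' := fun c => by
          simp [IsScalarTower.algebraMap_apply R S (Localization.Away g), ← IsScalarTower.algebraMap_apply R S L] }
    have hk : ∀ s, κ (algebraMap S (Localization.Away g) s) = algebraMap S L s :=
      fun s => IsLocalization.Away.lift_eq g (g := algebraMap S L) (IsLocalization.map_units L (⟨g, hg⟩ : M)) s
    have hπr : π r = 0 := by
      have : r ∈ RingHom.ker π.toRingHom := hrels ▸ Ideal.subset_span hr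
      exact this
    have h0 : algebraMap S L x = 0 := by
      have h1 := congrArg κ hx
      rw [map_mul, ← AlgHom.comp_apply, hκ g dvd_rfl κ hk, AlgHom.comp_apply, hπr, map_zero, zero_mul, hk] at h1
      exact h1.symm
    obtain ⟨⟨s, hs⟩, hsx⟩ := (IsLocalization.map_eq_zero_iff M L x).1 h0
    refine ⟨s, hs, fun m h hsm => ?_⟩
    let ρ : Localization.Away g →ₐ[R] Localization.Away m :=
      { IsLocalization.Away.lift g (IsLocalization.Away.isUnit_of_dvd (S := Localization.Away m) (x := m) h) with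
        commutes' := fun c => by
          simp [IsScalarTower.algebraMap_apply R S (Localization.Away g),
            ← IsScalarTower.algebraMap_apply R S (Localization.Away m)] }
    have hρ : ∀ s, ρ (algebraMap S (Localization.Away g) s) = algebraMap S (Localization.Away m) s :=
      fun s => IsLocalization.Away.lift_eq g (g := algebraMap S (Localization.Away m)) (IsLocalization.Away.isUnit_of_dvd (S := Localization.Away m) (x := m) h) s
    have hρψ : ρ.comp (ψ₀ g dvd_rfl) = ψ₀ m h := by
      refine MvPolynomial.algHom_ext fun i => ?_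
      apply (hu m i h).mul_left_inj.1
      rw [AlgHom.comp_apply, MvPolynomial.aeval_X, MvPolynomial.aeval_X, mul_assoc _ (↑(hu m i h).unit⁻¹ : Localization.Away m),
        IsUnit.val_inv_mul, mul_one, ← hρ ((a i).2 : S), ← map_mul, mul_assoc, IsUnit.val_inv_mul, mul_one, hρ]
    have hx0 : algebraMap S (Localization.Away m) x = 0 := by
      rw [← (IsLocalization.Away.isUnit_of_dvd (S := Localization.Away m) (x := m) hsm).mul_right_eq_zero,
        ← map_mul, hsx, map_zero]
    have h2 := congrArg ρ hx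
    rw [map_mul, map_pow, ← AlgHom.comp_apply, hρψ, hρ, hρ, hx0] at h2
    exact ((IsLocalization.Away.isUnit_of_dvd (S := Localization.Away m) (x := m) h).pow k).mul_left_eq_zero.1 h2
  choose s hs hk using fun r : rels => kill r.1 r.2
  let m : S := g * ∏ r, s r
  have hm : m ∈ M := mul_mem hg (prod_mem fun r _ => hs r)
  have hker : RingHom.ker π ≤ RingHom.ker (ψ₀ m (dvd_mul_right _ _)) := by
    show RingHom.ker π.toRingHom ≤ _
    rw [← hrels, Ideal.span_le]
    exact fun r hr => hk ⟨r, hr⟩ m (dvd_mul_right _ _) (Dvd.dvd.mul_left (Finset.dvd_prod_of_mem s (Finset.mem_univ _)) g)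
  refine ⟨m, hm, AlgHom.liftOfSurjective _ hπ _ hker, fun κ h t => ?_⟩
  obtain ⟨p, rfl⟩ := hπ t
  show κ (AlgHom.liftOfSurjective π hπ (ψ₀ m (dvd_mul_right _ _)) hker (π p)) = f (π p)
  erw [AlgHom.liftOfSurjective_apply]
  exact DFunLike.congr_fun (hκ m (dvd_mul_right _ _) κ h) p

end Lift

section LocMod

variable {A : Type*} [CommRing A] {S T : Submonoid A} {M M' M₁ N N' : Type*} [AddCommGroup M] [Module A M]
  [AddCommGroup M'] [Module A M'] [AddCommGroup M₁] [Module A M₁] [AddCommGroup N] [Module A N]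
  [AddCommGroup N'] [Module A N']

theorem isLocalizedModule_of_comp (hTS : T ≤ S) (j : M →ₗ[A] M₁) [IsLocalizedModule T j] (f : M →ₗ[A] M')
    [IsLocalizedModule S f] (f₁ : M₁ →ₗ[A] M') (h : f₁ ∘ₗ j = f) : IsLocalizedModule S f₁ where
  map_units x := IsLocalizedModule.map_units f x
  surj y := by
    obtain ⟨⟨m, s⟩, hs⟩ := IsLocalizedModule.surj S f y
    exact ⟨⟨j m, s⟩, hs.trans (LinearMap.congr_fun h m).symm⟩
  exists_of_eq {x₁ x₂} e := by
    obtain ⟨⟨m₁, t₁⟩, h₁⟩ := IsLocalizedModule.surj T j x₁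
    obtain ⟨⟨m₂, t₂⟩, h₂⟩ := IsLocalizedModule.surj T j x₂
    simp only [Submonoid.smul_def] at h₁ h₂
    have h' : f ((t₂ : A) • m₁) = f ((t₁ : A) • m₂) := by
      rw [← h, LinearMap.comp_apply, LinearMap.comp_apply, map_smul j, map_smul j, ← h₁, ← h₂, smul_smul, smul_smul,
        mul_comm, map_smul, map_smul, e]
    obtain ⟨c, hc⟩ := IsLocalizedModule.exists_of_eq (S := S) (f := f) h'
    simp only [Submonoid.smul_def] at hc ⊢
    refine ⟨c * ⟨_, hTS (mul_mem t₁.2 t₂.2)⟩, ?_⟩
    have h3 := congrArg j hc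
    simp only [map_smul, ← h₁, ← h₂, smul_smul] at h3
    simp only [Submonoid.coe_mul]
    convert h3 using 2 <;> ring

theorem map_bijective_of (f : M →ₗ[A] M') [IsLocalizedModule S f] (g : N →ₗ[A] N') [IsLocalizedModule S g]
    (h : M →ₗ[A] N) (h' : M' →ₗ[A] N') (e : h' ∘ₗ f = g ∘ₗ h) :
    ((∀ z, ∃ s ∈ S, s • z ∈ Set.range h) → Function.Surjective h') ∧
      ((∀ c, h c = 0 → ∃ s ∈ S, s • c = 0) → Function.Injective h') := by
  have e' : ∀ x, h' (f x) = g (h x) := LinearMap.congr_fun e
  have uN : ∀ (s : A) (hs : s ∈ S), Function.Bijective fun y : N' => s • y := fun s hs =>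
    (Module.End.isUnit_iff _).1 (IsLocalizedModule.map_units g ⟨s, hs⟩)
  have uM : ∀ (s : A) (hs : s ∈ S), Function.Bijective fun y : M' => s • y := fun s hs =>
    (Module.End.isUnit_iff _).1 (IsLocalizedModule.map_units f ⟨s, hs⟩)
  refine ⟨fun H y => ?_, fun H => ?_⟩
  · obtain ⟨⟨z, s₀⟩, hz⟩ := IsLocalizedModule.surj S g y
    obtain ⟨s, hs, m, hm⟩ := H z
    obtain ⟨m', hm'⟩ := (uM _ (mul_mem hs s₀.2)).2 (f m)
    refine ⟨m', (uN _ (mul_mem hs s₀.2)).1 ?_⟩
    simp only [Submonoid.smul_def] at hz hm'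
    show (s * (s₀ : A)) • h' m' = (s * (s₀ : A)) • y
    rw [← map_smul, hm', e', hm, map_smul, ← hz, smul_smul]
  · rw [injective_iff_map_eq_zero]
    intro x hx
    obtain ⟨⟨c, s₀⟩, hc⟩ := IsLocalizedModule.surj S f x
    simp only [Submonoid.smul_def] at hc
    have h0 : g (h c) = g 0 := by rw [← e', ← hc, map_smul, hx, smul_zero, map_zero]
    obtain ⟨t, ht⟩ := IsLocalizedModule.exists_of_eq (S := S) (f := g) h0
    simp only [Submonoid.smul_def, smul_zero] at ht
    obtain ⟨s, hs, hsc⟩ := H ((t : A) • c) (by rw [map_smul, ht])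
    apply (uM _ (mul_mem (mul_mem hs t.2) s₀.2)).1
    show (s * t * (s₀ : A)) • x = (s * t * (s₀ : A)) • (0 : M')
    rw [smul_zero, mul_smul, hc, ← map_smul, mul_smul, hsc, map_zero]

theorem exists_of_isLocalizedModule_comp (l : N →ₗ[A] N') [IsLocalizedModule S l] (h : M →ₗ[A] N)
    [IsLocalizedModule S (l ∘ₗ h)] :
    (∀ z, ∃ s ∈ S, s • z ∈ Set.range h) ∧ ∀ c, h c = 0 → ∃ s ∈ S, s • c = 0 := by
  refine ⟨fun z => ?_, fun c hc => ?_⟩
  · obtain ⟨⟨m, s⟩, hs⟩ := IsLocalizedModule.surj S (l ∘ₗ h) (l z)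
    simp only [Submonoid.smul_def, LinearMap.comp_apply] at hs
    rw [← map_smul] at hs
    obtain ⟨t, ht⟩ := IsLocalizedModule.exists_of_eq (S := S) (f := l) hs
    simp only [Submonoid.smul_def] at ht
    exact ⟨t * s, mul_mem t.2 s.2, (t : A) • m, by rw [map_smul, ← ht, mul_smul]⟩
  · have h0 : (l ∘ₗ h) c = (l ∘ₗ h) 0 := by simp [hc]
    obtain ⟨t, ht⟩ := IsLocalizedModule.exists_of_eq (S := S) (f := l ∘ₗ h) h0
    exact ⟨t, t.2, by simpa [Submonoid.smul_def] using ht⟩

theorem isLocalizedModule_lTensor (P : Type*) [AddCommGroup P] [Module A P] (f : M →ₗ[A] M')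
    [IsLocalizedModule S f] : IsLocalizedModule S (f.lTensor P) := by
  have h : f.lTensor P = (TensorProduct.comm A M' P).toLinearMap ∘ₗ
      (AlgebraTensorModule.rTensor A P f ∘ₗ (TensorProduct.comm A P M).toLinearMap) := by
    ext p m; simp
  rw [h]
  infer_instance

end LocMod

section Nbhd

variable (A B : Type u) [CommRing A] [CommRing B] [Algebra A B] (p : Ideal A) [p.IsPrime]

/-- `B` localised at the primes of `A` outside `p`. -/
abbrev LocB : Type u := B ⊗[A] Localization.AtPrime p

/-- An etale `A`-algebra approximating a localisation of `B` near `p`. -/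
structure Nbhd where
  g : A
  hg : g ∉ p
  C : Type u
  D : Type u
  [cC : CommRing C]
  [cD : CommRing D]
  [aC : Algebra A C]
  [aD : Algebra A D]
  [bD : Algebra B D]
  [tD : IsScalarTower A B D]
  [loc : IsLocalization.Away (algebraMap A B g) D]
  [et : Algebra.Etale A C]
  φ : C →ₐ[A] D
  ι : D →ₐ[A] LocB A B p
  hι : ∀ b : B, ι (algebraMap B D b) = algebraMap B (LocB A B p) b
  hC : IsLocalizedModule p.primeCompl (ι.comp φ).toLinearMap

attribute [instance] Nbhd.cC Nbhd.cD Nbhd.aC Nbhd.aD Nbhd.bD Nbhd.tD Nbhd.loc Nbhd.et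

variable {A B p}

theorem isLocalizedModule_locB :
    IsLocalizedModule p.primeCompl (IsScalarTower.toAlgHom A B (LocB A B p)).toLinearMap := by
  rw [isLocalizedModule_iff_isLocalization]
  infer_instance

theorem Nbhd.powers_le (N : Nbhd A B p) : Submonoid.powers N.g ≤ p.primeCompl :=
  Submonoid.powers_le.2 N.hg

theorem Nbhd.hD (N : Nbhd A B p) : IsLocalizedModule p.primeCompl N.ι.toLinearMap := by
  haveI : IsLocalizedModule (Submonoid.powers N.g) (IsScalarTower.toAlgHom A B N.D).toLinearMap := by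
    rw [isLocalizedModule_iff_isLocalization, Algebra.algebraMapSubmonoid_powers]
    exact N.loc
  haveI := isLocalizedModule_locB (A := A) (B := B) (p := p)
  exact isLocalizedModule_of_comp N.powers_le (IsScalarTower.toAlgHom A B N.D).toLinearMap
    (IsScalarTower.toAlgHom A B (LocB A B p)).toLinearMap _ (LinearMap.ext N.hι)

/-- The comparison map `B ⊗ C ⟶ B ⊗ D`. -/
noncomputable abbrev Nbhd.cmp (N : Nbhd A B p) : B ⊗[A] N.C →ₐ[B] B ⊗[A] N.D :=
  Algebra.TensorProduct.map (AlgHom.id B B) N.φ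

theorem Nbhd.cmp_apply (N : Nbhd A B p) (x : B ⊗[A] N.C) : N.cmp x = N.φ.toLinearMap.lTensor B x := by
  induction x using TensorProduct.induction_on with
  | zero => simp
  | tmul b c => simp
  | add x y hx hy => simp [hx, hy]

theorem Nbhd.cmp_loc (N : Nbhd A B p) :
    (∀ z, ∃ s ∈ p.primeCompl, s • z ∈ Set.range N.cmp) ∧ ∀ c, N.cmp c = 0 → ∃ s ∈ p.primeCompl, s • c = 0 := by
  haveI := N.hD
  haveI := isLocalizedModule_lTensor (S := p.primeCompl) B N.ι.toLinearMap
  haveI : IsLocalizedModule p.primeCompl (N.ι.toLinearMap ∘ₗ N.φ.toLinearMap) := N.hC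
  haveI : IsLocalizedModule p.primeCompl (N.ι.toLinearMap.lTensor B ∘ₗ N.φ.toLinearMap.lTensor B) := by
    rw [← LinearMap.lTensor_comp]
    exact isLocalizedModule_lTensor B _
  have h := exists_of_isLocalizedModule_comp (S := p.primeCompl) (N.ι.toLinearMap.lTensor B)
    (N.φ.toLinearMap.lTensor B)
  have e : ⇑(N.φ.toLinearMap.lTensor B) = ⇑N.cmp := funext fun x => (N.cmp_apply x).symm
  rwa [e] at h

/-- Shrinking a neighbourhood. -/
theorem Nbhd.exists_step (N : Nbhd A B p) {s : A} (hs : s ∉ p) :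
    ∃ (N' : Nbhd A B p) (fC : B ⊗[A] N.C →ₗ[A] B ⊗[A] N'.C) (fD : B ⊗[A] N.D →ₗ[A] B ⊗[A] N'.D),
      N'.g = N.g * s ∧ IsLocalizedModule (Submonoid.powers s) fC ∧ IsLocalizedModule (Submonoid.powers s) fD ∧
      (∀ x, N'.cmp (fC x) = fD (N.cmp x)) ∧
      Set.range (PrimeSpectrum.comap (algebraMap A N'.C)) =
        Set.range (PrimeSpectrum.comap (algebraMap A N.C)) ∩ PrimeSpectrum.basicOpen s := by
  let C' := Localization.Away (algebraMap A N.C s)
  let D' := Localization.Away (algebraMap A N.D s)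
  have hsD : algebraMap A N.D s = algebraMap B N.D (algebraMap A B s) := IsScalarTower.algebraMap_apply ..
  haveI : IsLocalization.Away (algebraMap B N.D (algebraMap A B s)) D' := hsD ▸ inferInstance
  haveI : IsLocalization.Away (algebraMap A B (N.g * s)) D' := by
    rw [map_mul]
    exact IsLocalization.Away.mul' N.D D' _ _
  let jC : N.C →ₐ[A] C' := IsScalarTower.toAlgHom A N.C C'
  let jD : N.D →ₐ[A] D' := IsScalarTower.toAlgHom A N.D D'
  have huC : IsUnit (jD.comp N.φ (algebraMap A N.C s)) := by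
    rw [AlgHom.commutes, IsScalarTower.algebraMap_apply A N.D D']
    exact IsLocalization.Away.algebraMap_isUnit _
  let φ' : C' →ₐ[A] D' := IsLocalization.Away.liftAlgHom (algebraMap A N.C s) (f := jD.comp N.φ) huC
  have hu : IsUnit (N.ι (algebraMap A N.D s)) := by
    rw [AlgHom.commutes]
    have := (IsLocalization.map_units (Localization.AtPrime p) (⟨s, hs⟩ : p.primeCompl)).map
      (Algebra.TensorProduct.includeRight (R := A) (A := B) (B := Localization.AtPrime p))
    simpa using this
  let ι' : D' →ₐ[A] LocB A B p := IsLocalization.Away.liftAlgHom (algebraMap A N.D s) (f := N.ι) hu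
  have hφ : ∀ c, φ' (algebraMap N.C C' c) = algebraMap N.D D' (N.φ c) := fun c =>
    IsLocalization.Away.lift_eq (algebraMap A N.C s) (g := (jD.comp N.φ).toRingHom) huC c
  have hι' : ∀ d, ι' (algebraMap N.D D' d) = N.ι d := fun d =>
    IsLocalization.Away.lift_eq (algebraMap A N.D s) (g := N.ι.toRingHom) hu d
  have hle : Submonoid.powers s ≤ p.primeCompl := Submonoid.powers_le.2 hs
  haveI hjC : IsLocalizedModule (Submonoid.powers s) jC.toLinearMap := by
    rw [isLocalizedModule_iff_isLocalization, Algebra.algebraMapSubmonoid_powers]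
    infer_instance
  haveI hjD : IsLocalizedModule (Submonoid.powers s) jD.toLinearMap := by
    rw [isLocalizedModule_iff_isLocalization, Algebra.algebraMapSubmonoid_powers]
    infer_instance
  haveI := N.hC
  have hcomp : (ι'.comp φ').toLinearMap ∘ₗ jC.toLinearMap = (N.ι.comp N.φ).toLinearMap :=
    LinearMap.ext fun c => by
      simp [jC, hφ, hι']
  haveI : Algebra.Etale N.C C' := Algebra.Etale.of_isLocalizationAway (algebraMap A N.C s)
  haveI : Algebra.Etale A C' := Algebra.Etale.comp A N.C C'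
  let N' : Nbhd A B p :=
    { g := N.g * s
      hg := p.primeCompl.mul_mem N.hg hs
      C := C', D := D', φ := φ', ι := ι'
      hι := fun b => by rw [IsScalarTower.algebraMap_apply B N.D D', hι', N.hι]
      hC := isLocalizedModule_of_comp hle jC.toLinearMap (N.ι.comp N.φ).toLinearMap _ hcomp }
  refine ⟨N', jC.toLinearMap.lTensor B, jD.toLinearMap.lTensor B, rfl,
    isLocalizedModule_lTensor B _, isLocalizedModule_lTensor B _, fun x => ?_, ?_⟩
  · rw [N'.cmp_apply, N.cmp_apply, ← LinearMap.comp_apply, ← LinearMap.lTensor_comp, ← LinearMap.comp_apply,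
      ← LinearMap.lTensor_comp]
    congr 2
    exact LinearMap.ext hφ
  · show Set.range (PrimeSpectrum.comap (algebraMap A C')) = _
    rw [IsScalarTower.algebraMap_eq A N.C C', PrimeSpectrum.comap_comp, Set.range_comp,
      PrimeSpectrum.localization_away_comap_range C' (algebraMap A N.C s),
      ← PrimeSpectrum.comap_basicOpen, TopologicalSpace.Opens.coe_comap, ContinuousMap.coe_mk, Set.image_preimage_eq_range_inter]

theorem Nbhd.fp_tensor [Algebra.Etale B (B ⊗[A] B)] (N : Nbhd A B p) :
    Algebra.FinitePresentation B (B ⊗[A] N.D) :=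
  (inferInstance : Algebra.FinitePresentation B (Localization.Away ((1 : B) ⊗ₜ[A] algebraMap A B N.g))).equiv
    (IsLocalization.Away.tensorProductEquivTMulRight A B (algebraMap A B N.g) N.D).symm

theorem Nbhd.exists_surjective [Algebra.Etale B (B ⊗[A] B)] (N : Nbhd A B p) :
    ∃ N' : Nbhd A B p, Function.Surjective N'.cmp := by
  classical
  haveI := N.fp_tensor
  obtain ⟨t, ht⟩ := (inferInstance : Algebra.FiniteType B (B ⊗[A] N.D)).out
  choose s hs x hx using fun y : t => N.cmp_loc.1 y.1
  obtain ⟨N', fC, fD, -, hfC, hfD, hcmp, -⟩ := N.exists_step (s := ∏ y, s y)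
    (prod_mem (S := p.primeCompl) fun y _ => hs y)
  have key : ∀ z : B ⊗[A] N.D, ∃ k : ℕ, ((∏ y, s y) ^ k) • z ∈ N.cmp.range := fun z => by
    have hz : z ∈ Algebra.adjoin B (t : Set (B ⊗[A] N.D)) := ht ▸ trivial
    induction hz using Algebra.adjoin_induction with
    | mem y hy =>
      obtain ⟨r, hr⟩ := Finset.dvd_prod_of_mem s (Finset.mem_univ ⟨y, hy⟩)
      refine ⟨1, r • x ⟨y, hy⟩, ?_⟩
      show (N.cmp.restrictScalars A) (r • x ⟨y, hy⟩) = _
      rw [map_smul, AlgHom.restrictScalars_apply, hx, pow_one, hr, mul_comm, mul_smul]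
    | algebraMap b => exact ⟨0, by rw [pow_zero, one_smul]; exact N.cmp.range.algebraMap_mem b⟩
    | add a b _ _ ha hb =>
      obtain ⟨k, hk⟩ := ha
      obtain ⟨l, hl⟩ := hb
      refine ⟨k + l, ?_⟩
      rw [smul_add]
      refine add_mem ?_ ?_
      · rw [pow_add, mul_comm, mul_smul, algebra_compatible_smul B]
        exact N.cmp.range.smul_mem hk _
      · rw [pow_add, mul_smul, algebra_compatible_smul B]
        exact N.cmp.range.smul_mem hl _
    | mul a b _ _ ha hb =>
      obtain ⟨k, hk⟩ := ha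
      obtain ⟨l, hl⟩ := hb
      refine ⟨k + l, ?_⟩
      rw [pow_add, ← smul_mul_smul_comm]
      exact mul_mem hk hl
  refine ⟨N', (map_bijective_of (S := Submonoid.powers (∏ y, s y)) fC fD (N.cmp.toLinearMap.restrictScalars A)
    (N'.cmp.toLinearMap.restrictScalars A) (LinearMap.ext hcmp)).1 fun z => ?_⟩
  obtain ⟨k, hk⟩ := key z
  exact ⟨_, ⟨k, rfl⟩, hk⟩

theorem Nbhd.exists_bijective [Algebra.Etale B (B ⊗[A] B)] (N : Nbhd A B p) :
    ∃ N' : Nbhd A B p, Function.Bijective N'.cmp := by
  classical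
  obtain ⟨N, hN⟩ := N.exists_surjective
  haveI := N.fp_tensor
  obtain ⟨t, ht⟩ := Algebra.FinitePresentation.ker_fG_of_surjective N.cmp hN
  choose s hs hx using fun y : t => N.cmp_loc.2 y.1 (show y.1 ∈ RingHom.ker N.cmp.toRingHom from
    ht ▸ Ideal.subset_span y.2)
  obtain ⟨N', fC, fD, -, hfC, hfD, hcmp, -⟩ := N.exists_step (s := ∏ y, s y)
    (prod_mem (S := p.primeCompl) fun y _ => hs y)
  have h := map_bijective_of (S := Submonoid.powers (∏ y, s y)) fC fD (N.cmp.toLinearMap.restrictScalars A)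
    (N'.cmp.toLinearMap.restrictScalars A) (LinearMap.ext hcmp)
  refine ⟨N', h.2 fun c hc => ⟨_, ⟨1, rfl⟩, ?_⟩, h.1 fun z => ⟨1, one_mem _, by
    obtain ⟨m, hm⟩ := hN z; exact ⟨m, by rw [one_smul]; exact hm⟩⟩⟩
  have hc' : c ∈ RingHom.ker N.cmp.toRingHom := hc
  rw [← ht] at hc'
  show (∏ y, s y) ^ 1 • c = 0
  rw [pow_one]
  clear hc
  induction hc' using Submodule.span_induction with
  | mem y hy =>
    obtain ⟨r, hr⟩ := Finset.dvd_prod_of_mem s (Finset.mem_univ ⟨y, hy⟩)
    rw [hr, mul_comm, mul_smul, hx ⟨y, hy⟩, smul_zero]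
  | zero => exact smul_zero _
  | add a b _ _ ha hb => rw [smul_add, ha, hb, add_zero]
  | smul r a _ ha => rw [smul_comm, ha, smul_zero]

end Nbhd

section Main

set_option backward.isDefEq.respectTransparency false

variable (A B : Type u) [CommRing A] [CommRing B] [Algebra A B]

theorem etale_tensor (X : Type u) [CommRing X] [Algebra A X] [Algebra B X] [IsScalarTower A B X]
    [Algebra.Etale B (B ⊗[A] B)] : Algebra.Etale X (X ⊗[A] B) :=
  .of_equiv (Algebra.TensorProduct.cancelBaseChange A B X X B)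

theorem faithfullyFlat_atPrime [Module.Flat A B] (q : Ideal B) [q.IsPrime] :
    Module.FaithfullyFlat (Localization.AtPrime (q.comap (algebraMap A B)))
      (Localization.AtPrime (q.comap (algebraMap A B)) ⊗[A] B) := by
  refine ⟨fun m hm htop => ?_⟩
  rw [IsLocalRing.eq_maximalIdeal hm, Ideal.smul_top_eq_map] at htop
  let l : Localization.AtPrime (q.comap (algebraMap A B)) →ₐ[A] Localization.AtPrime q :=
    { Localization.localRingHom (q.comap (algebraMap A B)) q (algebraMap A B) rfl with
      commutes' := fun a => by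
        simp [Localization.localRingHom_to_map, ← IsScalarTower.algebraMap_apply] }
  let ψ := Algebra.TensorProduct.lift l (IsScalarTower.toAlgHom A B (Localization.AtPrime q))
    fun _ _ => Commute.all _ _
  have h1 : (1 : Localization.AtPrime (q.comap (algebraMap A B)) ⊗[A] B) ∈
      Ideal.map (algebraMap (Localization.AtPrime (q.comap (algebraMap A B))) _)
        (IsLocalRing.maximalIdeal _) := by
    rw [← Submodule.restrictScalars_mem (Localization.AtPrime (q.comap (algebraMap A B))), htop]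
    trivial
  have hle : Ideal.map (algebraMap (Localization.AtPrime (q.comap (algebraMap A B))) _)
      (IsLocalRing.maximalIdeal _) ≤ (IsLocalRing.maximalIdeal (Localization.AtPrime q)).comap ψ := by
    refine Ideal.map_le_iff_le_comap.2 fun x hx => ?_
    show ψ (x ⊗ₜ 1) ∈ IsLocalRing.maximalIdeal _
    rw [Algebra.TensorProduct.lift_tmul, map_one, mul_one]
    haveI := Localization.isLocalHom_localRingHom (q.comap (algebraMap A B)) q (algebraMap A B) rfl
    exact map_nonunit (Localization.localRingHom (q.comap (algebraMap A B)) q (algebraMap A B) rfl) x hx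
  have := hle h1
  simp at this

variable {A B}

set_option maxHeartbeats 1000000 in
theorem exists_nbhd [Module.Flat A B] [Algebra.Etale B (B ⊗[A] B)] (q : Ideal B) [q.IsPrime] :
    Nonempty (Nbhd A B (q.comap (algebraMap A B))) := by
  classical
  let p := q.comap (algebraMap A B)
  let Ap := Localization.AtPrime p
  haveI := faithfullyFlat_atPrime A B q
  letI : Algebra B (Ap ⊗[A] B) := Algebra.TensorProduct.rightAlgebra
  haveI : IsScalarTower A B (Ap ⊗[A] B) := Algebra.TensorProduct.right_isScalarTower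
  haveI := etale_tensor A B (Ap ⊗[A] B)
  haveI : Algebra.Etale (Ap ⊗[A] B) ((Ap ⊗[A] B) ⊗[Ap] (Ap ⊗[A] B)) := by
    have e := (Algebra.TensorProduct.cancelBaseChange A Ap (Ap ⊗[A] B) (Ap ⊗[A] B) B).symm
    exact Algebra.Etale.of_equiv (A := (Ap ⊗[A] B) ⊗[A] B) e
  haveI : Algebra.Etale Ap (Ap ⊗[A] B) := Algebra.Etale.of_etale_tensorProduct_of_faithfullyFlat (Ap ⊗[A] B)
  obtain ⟨A₀, B₀, _, _, hfg, _, ⟨e⟩⟩ := Algebra.Etale.exists_subalgebra_fg (R := ℤ) (A := Ap) (B := Ap ⊗[A] B)
  haveI : Algebra.FiniteType ℤ A₀ := (Subalgebra.fg_iff_finiteType A₀).1 hfg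
  haveI : Algebra.FinitePresentation ℤ A₀ := Algebra.FinitePresentation.of_finiteType.1 inferInstance
  obtain ⟨m, hm, ψ, hψ⟩ := exists_lift_away (R := ℤ) (S := A) (M := p.primeCompl) (L := Ap) A₀.val
  let Am := Localization.Away m
  let κ : Am →+* Ap := IsLocalization.Away.lift m (IsLocalization.map_units Ap (⟨m, hm⟩ : p.primeCompl))
  letI : Algebra A₀ Am := ψ.toRingHom.toAlgebra
  letI : Algebra Am Ap := κ.toAlgebra
  have hκ : ∀ a : A, κ (algebraMap A Am a) = algebraMap A Ap a := fun a =>
    IsLocalization.Away.lift_eq m (IsLocalization.map_units Ap (⟨m, hm⟩ : p.primeCompl)) a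
  haveI : IsScalarTower A Am Ap := .of_algebraMap_eq fun a => (hκ a).symm
  haveI : IsScalarTower A₀ Am Ap := .of_algebraMap_eq fun a =>
    (hψ { κ with commutes' := fun k => by simp } hκ a).symm
  haveI : SMulCommClass A₀ A Am := ⟨fun x y z => by simp only [Algebra.smul_def]; ring⟩
  haveI : SMulCommClass A₀ A Ap := ⟨fun x y z => by simp only [Algebra.smul_def]; ring⟩
  haveI : Algebra.Etale A Am := Algebra.Etale.of_isLocalizationAway m
  let C₀ := Am ⊗[A₀] B₀
  haveI : Algebra.Etale A C₀ := Algebra.Etale.comp A Am C₀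
  let η : C₀ →ₐ[A] Ap ⊗[A₀] B₀ :=
    { (Algebra.TensorProduct.map (IsScalarTower.toAlgHom A₀ Am Ap) (AlgHom.id A₀ B₀)).toRingHom with
      commutes' := fun a => by
        show Algebra.TensorProduct.map _ _ (algebraMap A Am a ⊗ₜ 1) = algebraMap A Ap a ⊗ₜ 1
        rw [Algebra.TensorProduct.map_tmul, map_one, IsScalarTower.coe_toAlgHom',
          ← IsScalarTower.algebraMap_apply A Am Ap] }
  letI : Algebra C₀ (Ap ⊗[A₀] B₀) := η.toRingHom.toAlgebra
  haveI : IsScalarTower A C₀ (Ap ⊗[A₀] B₀) := .of_algebraMap_eq fun a => (η.commutes a).symm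
  haveI : IsScalarTower Am C₀ (Ap ⊗[A₀] B₀) := IsScalarTower.of_algebraMap_eq' (R := Am) (S := C₀)
    (A := Ap ⊗[A₀] B₀) (RingHom.ext fun a => by
      show κ a ⊗ₜ[A₀] (1 : B₀) = Algebra.TensorProduct.map _ _ (a ⊗ₜ 1)
      rw [Algebra.TensorProduct.map_tmul, map_one]
      rfl)
  haveI : IsLocalization (Algebra.algebraMapSubmonoid Am p.primeCompl) Ap :=
    IsLocalization.isLocalization_of_submonoid_le Am Ap (Submonoid.powers m) p.primeCompl
      (Submonoid.powers_le.2 hm)
  haveI := IsLocalization.tensorProduct_tensorProduct A₀ B₀ (Algebra.algebraMapSubmonoid Am p.primeCompl) Ap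
    (RingHom.ext fun b => by
      show Algebra.TensorProduct.map _ _ ((1 : Am) ⊗ₜ b) = (1 : Ap) ⊗ₜ b
      simp)
  haveI hηl : IsLocalizedModule p.primeCompl η.toLinearMap := by
    have : IsLocalization (Algebra.algebraMapSubmonoid C₀ p.primeCompl) (Ap ⊗[A₀] B₀) := by
      have e : Algebra.algebraMapSubmonoid C₀ (Algebra.algebraMapSubmonoid Am p.primeCompl) =
          Algebra.algebraMapSubmonoid C₀ p.primeCompl := by
        ext x
        simp only [Algebra.algebraMapSubmonoid, Submonoid.mem_map, exists_exists_and_eq_and]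
        rfl
      rw [← e]
      exact this
    exact isLocalizedModule_iff_isLocalization.2 this
  let θ : Ap ⊗[A₀] B₀ ≃ₐ[A] LocB A B p :=
    (e.symm.restrictScalars A).trans (Algebra.TensorProduct.comm A Ap B)
  let ι₀ : C₀ →ₐ[A] LocB A B p := θ.toAlgHom.comp η
  have hι₀ : IsLocalizedModule p.primeCompl ι₀.toLinearMap :=
    IsLocalizedModule.of_linearEquiv (S := p.primeCompl) (f := η.toLinearMap) θ.toLinearEquiv
  obtain ⟨m₂, ⟨g, hg, rfl⟩, φ, hφ⟩ :=
    exists_lift_away (R := A) (S := B) (M := Algebra.algebraMapSubmonoid B p.primeCompl) (L := LocB A B p) ι₀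
  have hu : IsUnit ((IsScalarTower.toAlgHom A B (LocB A B p)) (algebraMap A B g)) :=
    IsLocalization.map_units (LocB A B p)
      (⟨_, g, hg, rfl⟩ : Algebra.algebraMapSubmonoid B p.primeCompl)
  let ι : Localization.Away (algebraMap A B g) →ₐ[A] LocB A B p :=
    IsLocalization.Away.liftAlgHom (algebraMap A B g) (f := IsScalarTower.toAlgHom A B (LocB A B p)) hu
  have hι : ∀ b, ι (algebraMap B (Localization.Away (algebraMap A B g)) b) = algebraMap B (LocB A B p) b :=
    fun b => IsLocalization.Away.lift_eq (algebraMap A B g)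
      (g := (IsScalarTower.toAlgHom A B (LocB A B p)).toRingHom) hu b
  have hιφ : ι.comp φ = ι₀ := AlgHom.ext (hφ ι hι)
  exact ⟨{ g := g, hg := hg, C := C₀, D := _, φ := φ, ι := ι, hι := hι, hC := hιφ ▸ hι₀ }⟩

/-- Near every prime of `B`, a flat `A`-algebra with `B → B ⊗[A] B` etale descends to an etale algebra. -/
theorem exists_etale_nbhd [Module.Flat A B] [Algebra.Etale B (B ⊗[A] B)] (q : Ideal B) [q.IsPrime] :
    ∃ (g : A) (C D : Type u) (_ : CommRing C) (_ : CommRing D) (_ : Algebra A C) (_ : Algebra A D)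
      (_ : Algebra B D) (_ : IsScalarTower A B D) (φ : C →ₐ[A] D),
      algebraMap A B g ∉ q ∧ IsLocalization.Away (algebraMap A B g) D ∧ Algebra.Etale A C ∧
      Set.range (PrimeSpectrum.comap (algebraMap A C)) = PrimeSpectrum.basicOpen g ∧
      Function.Bijective (Algebra.TensorProduct.map (AlgHom.id A D) φ) := by
  classical
  let p := q.comap (algebraMap A B)
  obtain ⟨N₀⟩ := exists_nbhd (A := A) q
  obtain ⟨N, hN⟩ := N₀.exists_bijective
  -- the point `p` is in the image of `C`
  let l : Localization.AtPrime p →ₐ[A] Localization.AtPrime q :=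
    { Localization.localRingHom p q (algebraMap A B) rfl with
      commutes' := fun a => by
        simp [Localization.localRingHom_to_map, ← IsScalarTower.algebraMap_apply] }
  let χ : N.C →ₐ[A] Localization.AtPrime q :=
    ((Algebra.TensorProduct.lift (IsScalarTower.toAlgHom A B (Localization.AtPrime q)) l
      fun _ _ => Commute.all _ _).comp N.ι).comp N.φ
  have hp : (⟨p, inferInstance⟩ : PrimeSpectrum A) ∈ Set.range (PrimeSpectrum.comap (algebraMap A N.C)) := by
    refine ⟨⟨(IsLocalRing.maximalIdeal (Localization.AtPrime q)).comap χ, inferInstance⟩, PrimeSpectrum.ext ?_⟩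
    ext a
    show χ (algebraMap A N.C a) ∈ IsLocalRing.maximalIdeal (Localization.AtPrime q) ↔ a ∈ p
    rw [AlgHom.commutes, IsScalarTower.algebraMap_apply A B (Localization.AtPrime q),
      IsLocalization.AtPrime.to_map_mem_maximal_iff (Localization.AtPrime q) q]
    rfl
  haveI : Algebra.Smooth A N.C := inferInstance
  have ho : IsOpen (Set.range (PrimeSpectrum.comap (algebraMap A N.C))) :=
    (PrimeSpectrum.isOpenMap_comap_of_hasGoingDown_of_finitePresentation).isOpen_range
  obtain ⟨_, ⟨g₀, rfl⟩, hpg, hsub⟩ := PrimeSpectrum.isTopologicalBasis_basic_opens.exists_subset_of_mem_open hp ho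
  obtain ⟨N', fC, fD, hg', hfC, hfD, hcmp, hr⟩ := N.exists_step (s := N.g * g₀)
    (p.primeCompl.mul_mem N.hg hpg)
  have hN' : Function.Bijective N'.cmp := by
    have h := map_bijective_of (S := Submonoid.powers (N.g * g₀)) fC fD (N.cmp.toLinearMap.restrictScalars A)
      (N'.cmp.toLinearMap.restrictScalars A) (LinearMap.ext hcmp)
    exact ⟨h.2 fun c hc => ⟨1, one_mem _, by rw [one_smul]; exact hN.1 (hc.trans (map_zero N.cmp).symm)⟩,
      h.1 fun z => ⟨1, one_mem _, by obtain ⟨m, hm⟩ := hN.2 z; exact ⟨m, by rw [one_smul]; exact hm⟩⟩⟩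
  refine ⟨N'.g, N'.C, N'.D, inferInstance, inferInstance, inferInstance, inferInstance, inferInstance,
    inferInstance, N'.φ, N'.hg, inferInstance, inferInstance, ?_, ?_⟩
  · rw [hr]
    have : (PrimeSpectrum.basicOpen (N.g * g₀) : Set (PrimeSpectrum A)) =
        PrimeSpectrum.basicOpen N'.g := by
      rw [hg', PrimeSpectrum.basicOpen_mul, PrimeSpectrum.basicOpen_mul N.g (N.g * g₀),
        PrimeSpectrum.basicOpen_mul, ← inf_assoc, inf_idem]
    rw [← this, Set.inter_eq_right, PrimeSpectrum.basicOpen_mul]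
    exact fun x hx => hsub hx.2
  · haveI : IsLocalizedModule (Submonoid.powers N'.g) (IsScalarTower.toAlgHom A B N'.D).toLinearMap := by
      rw [isLocalizedModule_iff_isLocalization, Algebra.algebraMapSubmonoid_powers]
      exact N'.loc
    have h := map_bijective_of (S := Submonoid.powers N'.g)
      (AlgebraTensorModule.rTensor A N'.C (IsScalarTower.toAlgHom A B N'.D).toLinearMap)
      (AlgebraTensorModule.rTensor A N'.D (IsScalarTower.toAlgHom A B N'.D).toLinearMap)
      (N'.φ.toLinearMap.lTensor B) (N'.φ.toLinearMap.lTensor N'.D) (by ext b c; simp)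
    have e : ⇑(Algebra.TensorProduct.map (AlgHom.id A N'.D) N'.φ) = ⇑(N'.φ.toLinearMap.lTensor N'.D) := by
      funext x
      induction x using TensorProduct.induction_on with
      | zero => simp
      | tmul b c => simp
      | add x y hx hy => simp [hx, hy]
    rw [e]
    have e' : ⇑(N'.φ.toLinearMap.lTensor B) = ⇑N'.cmp := funext fun x => (N'.cmp_apply x).symm
    exact ⟨h.2 fun c hc => ⟨1, one_mem _, by
        rw [one_smul]; exact hN'.1 ((show N'.cmp c = 0 from e' ▸ hc).trans (map_zero N'.cmp).symm)⟩,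
      h.1 fun z => ⟨1, one_mem _, by rw [one_smul, e']; exact hN'.2 z⟩⟩

end Main

end Groth.Agent.SpFP87.EtSpread
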