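import Groth.Agent.SpFP87.FpqcMono
import Groth.Agent.SpFP87.CovDesc
import Groth.Agent.SpFP87.Covers
import Groth.Agent.SpPts86.QCMor
/-!
Monomorphisms into spectra of fields and into spaces with an fppf field chart.
-/

set_option autoImplicit false
set_option linter.style.haveILetI false
set_option backward.isDefEq.respectTransparency false
universe u
open CategoryTheory CategoryTheory.Limits AlgebraicGeometry Opposite
open AlgSp
open Groth.Agent.SpPts86

namespace Groth.Agent.SpFP87

variable {S : Scheme.{u}}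

theorem flat_to_specField {K : Type u} [Field K] {X : Scheme.{u}} (f : X ⟶ Spec (CommRingCat.of K)) : Flat f := by
  haveI : IsZariskiLocalAtSource (@Flat : MorphismProperty Scheme.{u}) :=
    HasRingHomProperty.instIsZariskiLocalAtSource (Q := RingHom.Flat)
  refine IsZariskiLocalAtSource.of_openCover X.affineCover fun i => ?_
  obtain ⟨φ, hφ⟩ := Spec.map_surjective (X.affineCover.f i ≫ f)
  rw [← hφ, HasRingHomProperty.Spec_iff (P := @Flat)]
  algebraize [φ.hom]
  exact RingHom.flat_algebraMap_iff.2 inferInstance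

/-- A monomorphism from a nonempty algebraic space to the spectrum of a field is an isomorphism. -/
theorem isIso_of_mono_to_field {K : Type u} [Field K] (str : Spec (CommRingCat.of K) ⟶ S) {P : Sp S}
    (hP : IsAlgSpace P) (m : P ⟶ (yon S).obj (Over.mk str)) [Mono m] (x : Points P) : IsIso m := by
  obtain ⟨U, p, -, hps⟩ := hP.atlas
  obtain ⟨u, -⟩ := surjective_ofPt hps x
  let W : Over S := Over.mk (U.left.fromSpecResidueField u ≫ U.hom)
  haveI : IsAffine W.left := inferInstanceAs (IsAffine (Spec _))
  let l : (yon S).obj W ⟶ P :=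
    (yon S).map (Over.homMk (U.left.fromSpecResidueField u) rfl : W ⟶ U) ≫ p
  obtain ⟨c, hc⟩ := (yon S).map_surjective (l ≫ m)
  haveI : Flat c.left := flat_to_specField c.left
  haveI : Surjective c.left := ⟨fun y => ⟨(Classical.arbitrary (PrimeSpectrum (U.left.residueField u)) :), Subsingleton.elim (α := PrimeSpectrum K) _ _⟩⟩
  have hW := IsAlgSpace.yon_obj W
  have hK := IsAlgSpace.yon_obj (Over.mk str)
  have hcov : IsFpqcCover (fun _ : PUnit.{u + 1} => (yon S).obj W) (fun _ => (yon S).map c) := by
    refine ⟨fun _ => (locP_yon_map_iff c).2 inferInstance, fun Z hZ h => ?_⟩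
    haveI := hZ
    obtain ⟨z, rfl⟩ := (yon S).map_surjective h
    let R : Over S := Over.mk (pullback.fst z.left c.left ≫ Z.hom)
    let r : R ⟶ Z := Over.homMk (pullback.fst z.left c.left) rfl
    let r' : R ⟶ W := Over.homMk (pullback.snd z.left c.left) (by
      show pullback.snd z.left c.left ≫ W.hom = pullback.fst z.left c.left ≫ Z.hom
      rw [← Over.w c, ← Over.w z, pullback.condition_assoc])
    haveI : IsAffine (Over.mk str).left := inferInstanceAs (IsAffine (Spec _))
    haveI : IsAffine R.left := inferInstanceAs (IsAffine (pullback z.left c.left))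
    refine ⟨1, fun _ => R, fun _ => r, fun _ => inferInstance,
      fun _ => inferInstanceAs (Flat (pullback.fst z.left c.left)),
      fun y => ⟨0, Surjective.surj (f := pullback.fst z.left c.left) y⟩, fun _ => ⟨PUnit.unit, (yon S).map r', ?_⟩⟩
    rw [← Functor.map_comp, ← Functor.map_comp]
    exact congrArg (yon S).map (Over.OverMorphism.ext pullback.condition.symm)
  let Q := pullback m ((yon S).map c)
  have hQ : IsAlgSpace Q := isAlgSpace_pullback m ((yon S).map c) hP hW hK
  let σ : (yon S).obj W ⟶ Q := pullback.lift l (𝟙 _) (by rw [Category.id_comp, hc])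
  haveI : IsSplitEpi (pullback.snd m ((yon S).map c)) := ⟨⟨⟨σ, pullback.lift_snd _ _ _⟩⟩⟩
  haveI : IsIso (pullback.snd m ((yon S).map c)) := isIso_of_mono_of_isSplitEpi _
  exact (isLocalOnBase_fpqc_isomorphisms (fun _ => (yon S).obj W) (fun _ => (yon S).map c) hK (fun _ => hW)
    hcov m hP (fun _ => Q) (fun _ => pullback.snd _ _) (fun _ => pullback.fst _ _) (fun _ => hQ)
    (fun _ => IsPullback.of_hasPullback _ _)).2 fun _ => (inferInstance : IsIso _)

/-- A monomorphism from a nonempty space to a space with an fppf field chart is an isomorphism. -/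
theorem isIso_of_mono_to_fppf_field {Z' Z : Sp S} (hZ' : IsAlgSpace Z') (hZ : IsAlgSpace Z) (f : Z' ⟶ Z)
    [Mono f] {k : Type u} [Field k] (str : Spec (CommRingCat.of k) ⟶ S)
    (p : (yon S).obj (Over.mk str) ⟶ Z) (h1 : LocP @LocallyOfFinitePresentation p) (h2 : LocP @Flat p)
    (h3 : IsSurjectiveMor p) (x : Points Z') : IsIso f := by
  have hk := IsAlgSpace.yon_obj (Over.mk str)
  let P := pullback f p
  have hP : IsAlgSpace P := isAlgSpace_pullback f p hZ' hk hZ
  obtain ⟨y, hy⟩ := h3 (Points.map f x)
  obtain ⟨z, -, -⟩ := exists_of_isPullback (IsPullback.of_hasPullback f p) x y hy.symm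
  haveI : IsIso (pullback.snd f p) := isIso_of_mono_to_field str hP _ z
  have hcov : IsFpqcCover (fun _ : PUnit.{u + 1} => (yon S).obj (Over.mk str)) (fun _ => p) :=
    isFpqcCover_of_isFppfCover _ _ hZ (fun _ => hk)
      ⟨fun _ => ⟨h2, h1⟩, fun y => ⟨PUnit.unit, h3 y⟩⟩
  exact (isLocalOnBase_fpqc_isomorphisms (fun _ => (yon S).obj (Over.mk str)) (fun _ => p) hZ (fun _ => hk)
    hcov f hZ' (fun _ => P) (fun _ => pullback.snd _ _) (fun _ => pullback.fst _ _) (fun _ => hP)
    (fun _ => IsPullback.of_hasPullback _ _)).2 fun _ => (inferInstance : IsIso _)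

end Groth.Agent.SpFP87
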