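import Groth.Agent.SpFP87.NoethDesc
import Groth.Agent.SpFP87.FieldMono
import Groth.Agent.Unr55.UnrQF
/-!
Noetherian fibres.
-/

set_option autoImplicit false
set_option linter.style.haveILetI false
set_option backward.isDefEq.respectTransparency false
universe u
open CategoryTheory CategoryTheory.Limits AlgebraicGeometry Opposite
open AlgSp
open Groth.Agent.SpPts86

namespace Groth.Agent.SpFP87

variable {S : Scheme.{u}}

/-- A chart of a base change along a morphism of base schemes. -/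
theorem exists_bc_chart {T T' : Over S} (c : T' ⟶ T) {P Q : Sp S} (q : Q ⟶ (yon S).obj T)
    (p : P ⟶ (yon S).obj T') (pr : P ⟶ Q) (sq : IsPullback pr p q ((yon S).map c)) {U : Over S}
    (a : (yon S).obj U ⟶ Q) (ha : RepWith @Etale a) (s : U ⟶ T) (hs : a ≫ q = (yon S).map s) :
    ∃ (U' : Over S) (a' : (yon S).obj U' ⟶ P), RepWith @Etale a' ∧
      U'.left = pullback s.left c.left ∧ (RepWith @Surjective a → RepWith @Surjective a') := by
  let U' : Over S := Over.mk (pullback.fst s.left c.left ≫ U.hom)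
  let r₁ : U' ⟶ U := Over.homMk (pullback.fst s.left c.left) rfl
  let r₂ : U' ⟶ T' := Over.homMk (pullback.snd s.left c.left) (by
    show pullback.snd _ _ ≫ T'.hom = pullback.fst _ _ ≫ U.hom
    rw [← Over.w c, ← Over.w s, pullback.condition_assoc])
  have hR : IsPullback r₁ r₂ s c :=
    IsPullback.of_map (Over.forget S) (Over.OverMorphism.ext pullback.condition)
      (IsPullback.of_hasPullback s.left c.left)
  let a' : (yon S).obj U' ⟶ P := sq.lift ((yon S).map r₁ ≫ a) ((yon S).map r₂)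
    (by rw [Category.assoc, hs, ← Functor.map_comp, ← Functor.map_comp, hR.w])
  have h : IsPullback ((yon S).map r₁) a' a pr := by
    refine IsPullback.of_bot ?_ (sq.lift_fst _ _ _).symm sq
    rw [sq.lift_snd, hs]
    exact hR.map (yon S)
  exact ⟨U', a', (repWith_isStableUnderBaseChange _).of_isPullback h ha, rfl,
    fun has => (repWith_isStableUnderBaseChange _).of_isPullback h has⟩

/-- Local noetherianity descends along a faithfully flat affine morphism of base schemes. -/
theorem isLocNoethSp_of_baseChange {T T' : Over S} (c : T' ⟶ T) [IsAffineHom c.left] [Flat c.left]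
    [Surjective c.left] {P Q : Sp S} (hQ : IsAlgSpace Q) (q : Q ⟶ (yon S).obj T) (p : P ⟶ (yon S).obj T')
    (pr : P ⟶ Q) (sq : IsPullback pr p q ((yon S).map c)) (h : IsLocNoethSp P) : IsLocNoethSp Q := by
  have hP : IsAlgSpace P := isAlgSpace_of_isPullback sq hQ (IsAlgSpace.yon_obj _) (IsAlgSpace.yon_obj _).diag
  obtain ⟨U, a, ha, has⟩ := hQ.atlas
  obtain ⟨s, hs⟩ := (yon S).map_surjective (a ≫ q)
  obtain ⟨U', a', ha', e, -⟩ := exists_bc_chart c q p pr sq a ha s hs.symm
  haveI : IsLocallyNoetherian (pullback s.left c.left) := e ▸ isLocallyNoetherian_chart hP h ha'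
  exact ⟨U, a, ha, has, Groth.Agent.S2492.result (pullback.fst s.left c.left)⟩

/-- Local noetherianity ascends along a base change of finite type. -/
theorem isLocNoethSp_baseChange_of_lft {T T' : Over S} (c : T' ⟶ T) [LocallyOfFiniteType c.left]
    {P Q : Sp S} (hQ : IsAlgSpace Q) (q : Q ⟶ (yon S).obj T) (p : P ⟶ (yon S).obj T')
    (pr : P ⟶ Q) (sq : IsPullback pr p q ((yon S).map c)) (h : IsLocNoethSp Q) : IsLocNoethSp P := by
  obtain ⟨U, a, ha, has⟩ := hQ.atlas
  obtain ⟨s, hs⟩ := (yon S).map_surjective (a ≫ q)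
  haveI := isLocallyNoetherian_chart hQ h ha
  obtain ⟨U', a', ha', e, hsur⟩ := exists_bc_chart c q p pr sq a ha s hs.symm
  refine ⟨U', a', ha', hsur has, ?_⟩
  rw [e]
  exact LocallyOfFiniteType.isLocallyNoetherian (pullback.fst s.left c.left)

theorem flat_surjective_affine_field {T' T : Over S} (c : T' ⟶ T) [IsAffine T'.left] [Nonempty ↥T'.left]
    {K : Type u} [Field K] (e : T.left ≅ Spec (CommRingCat.of K)) :
    IsAffineHom c.left ∧ Flat c.left ∧ Surjective c.left := by
  haveI : IsAffine T.left := IsAffine.of_isIso e.hom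
  haveI := flat_to_specField (c.left ≫ e.hom)
  have hsub : Subsingleton ↥T.left := ⟨fun x y => e.hom.homeomorph.injective (Subsingleton.elim (α := PrimeSpectrum K) _ _)⟩
  refine ⟨isAffineHom_of_isAffine _, ?_, ⟨fun y => ⟨Classical.arbitrary _, Subsingleton.elim (α := ↥T.left) _ _⟩⟩⟩
  have : c.left = (c.left ≫ e.hom) ≫ e.inv := by simp
  rw [this]
  infer_instance

/-- A field point lying over a monomorphic field point factors through it. -/
theorem exists_factor_of_mono {Y : Sp S} (hY : IsAlgSpace Y) (p p₀ : FieldPt Y)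
    (hpp : Points.mk p = Points.mk p₀) [Mono p₀.toHom] :
    ∃ c : p.pt ⟶ p₀.pt, (yon S).map c ≫ p₀.toHom = p.toHom := by
  let P := pullback p₀.toHom p.toHom
  have hP : IsAlgSpace P := isAlgSpace_pullback _ _ (IsAlgSpace.yon_obj _) (IsAlgSpace.yon_obj _) hY
  have e : Points.map p₀.toHom (Points.ofScheme p₀.pt (IsLocalRing.closedPoint p₀.K)) =
      Points.map p.toHom (Points.ofScheme p.pt (IsLocalRing.closedPoint p.K)) := by
    rw [← Points.ofPt_eq_map_ofScheme, ← Points.ofPt_eq_map_ofScheme, Points.ofPt_toHom, Points.ofPt_toHom, hpp]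
  obtain ⟨z, -, -⟩ := exists_of_isPullback (IsPullback.of_hasPullback p₀.toHom p.toHom) _ _ e
  haveI : IsIso (pullback.snd p₀.toHom p.toHom) := isIso_of_mono_to_field p.str hP _ z
  obtain ⟨c, hc⟩ := (yon S).map_surjective
    (inv (pullback.snd p₀.toHom p.toHom) ≫ pullback.fst p₀.toHom p.toHom)
  exact ⟨c, by rw [hc, Category.assoc, pullback.condition, IsIso.inv_hom_id_assoc]⟩

theorem isLocNoethSp_fibre_mono {X Y : Sp S} (hX : IsAlgSpace X) (hY : IsAlgSpace Y) (f : X ⟶ Y)
    (p p₀ : FieldPt Y) (hpp : Points.mk p = Points.mk p₀) [Mono p₀.toHom]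
    (hN : ∀ ⦃P : Sp S⦄ (fst : P ⟶ X) (snd : P ⟶ (yon S).obj p.pt),
      IsPullback fst snd f p.toHom → IsLocNoethSp P)
    {Q : Sp S} (qfst : Q ⟶ X) (qsnd : Q ⟶ (yon S).obj p₀.pt) (hQ : IsPullback qfst qsnd f p₀.toHom) :
    IsLocNoethSp Q := by
  obtain ⟨c, hc⟩ := exists_factor_of_mono hY p p₀ hpp
  have sq := IsPullback.of_hasPullback qsnd ((yon S).map c)
  have h := hN (pullback.fst qsnd ((yon S).map c) ≫ qfst) (pullback.snd qsnd ((yon S).map c))
    (hc ▸ sq.paste_horiz hQ)
  haveI : IsAffine p.pt.left := inferInstanceAs (IsAffine (Spec _))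
  haveI : Nonempty ↥p.pt.left := ⟨IsLocalRing.closedPoint p.K⟩
  obtain ⟨_, _, _⟩ := flat_surjective_affine_field c (K := p₀.K) (Iso.refl _)
  exact isLocNoethSp_of_baseChange c (isAlgSpace_of_isPullback hQ hX (IsAlgSpace.yon_obj _) hY.diag)
    qsnd _ _ sq h

theorem isLocNoethSp_fibre_ofPt {X Y : Sp S} (hX : IsAlgSpace X) (hY : IsAlgSpace Y) (f : X ⟶ Y)
    (p : FieldPt Y) {V : Over S} (b : (yon S).obj V ⟶ Y) (hb : RepWith @Etale b) (v : ↥V.left)
    (hv : Points.ofPt b v = Points.mk p)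
    (hN : ∀ ⦃P : Sp S⦄ (fst : P ⟶ X) (snd : P ⟶ (yon S).obj p.pt),
      IsPullback fst snd f p.toHom → IsLocNoethSp P)
    {Q : Sp S} (qfst : Q ⟶ X) (qsnd : Q ⟶ (yon S).obj (FieldPt.ofPt b v).pt)
    (hQ : IsPullback qfst qsnd f (FieldPt.ofPt b v).toHom) :
    IsLocNoethSp Q := by
  have hQs := isAlgSpace_of_isPullback hQ hX (IsAlgSpace.yon_obj _) hY.diag
  have hq : (FieldPt.ofPt b v).toHom =
      (yon S).map (Over.homMk (V.left.fromSpecResidueField v) rfl : (FieldPt.ofPt b v).pt ⟶ V) ≫ b :=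
    FieldPt.toHom_ofPt b v
  obtain ⟨R, r₁, r₂, sqR⟩ := exists_isPullback_yon hY.diag p.toHom b
  haveI : Etale r₁.left := etale_snd_of_isPullback sqR.flip hb
  obtain ⟨r, -, hr2⟩ := exists_pt_of_isPullback' sqR (IsLocalRing.closedPoint p.K) v
    ((Points.ofPt_toHom p _).trans hv.symm)
  haveI : IsLocallyArtinian p.pt.left := inferInstanceAs (IsLocallyArtinian (Spec _))
  haveI : LocallyQuasiFinite r₁.left := Groth.Agent.Unr55.locallyQuasiFinite_of_formallyUnramified r₁.left
  haveI : IsLocallyArtinian R.left := IsLocallyArtinian.of_locallyQuasiFinite r₁.left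
  haveI : LocallyOfFiniteType (R.left.fromSpecResidueField r) := by
    haveI : IsClosedImmersion (R.left.fromSpecResidueField r) :=
      isClosed_singleton_iff_isClosedImmersion.1 (isClosed_discrete _)
    infer_instance
  let T' : Over S := Over.mk (R.left.fromSpecResidueField r ≫ R.hom)
  let j : T' ⟶ R := Over.homMk (R.left.fromSpecResidueField r) rfl
  haveI : LocallyOfFiniteType (j ≫ r₁).left :=
    inferInstanceAs (LocallyOfFiniteType (R.left.fromSpecResidueField r ≫ r₁.left))
  subst hr2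
  let c : T' ⟶ (FieldPt.ofPt b (r₂.left r)).pt := Over.homMk (Spec.map (r₂.left.residueFieldMap r)) (by
    show Spec.map _ ≫ V.left.fromSpecResidueField (r₂.left r) ≫ V.hom = R.left.fromSpecResidueField r ≫ R.hom
    rw [Scheme.Hom.SpecMap_residueFieldMap_fromSpecResidueField_assoc, Over.w r₂])
  have hc : (yon S).map c ≫ (FieldPt.ofPt b (r₂.left r)).toHom = (yon S).map (j ≫ r₁) ≫ p.toHom := by
    rw [hq, Functor.map_comp (yon S) j r₁, Category.assoc, sqR.w, ← Category.assoc, ← Category.assoc,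
      ← Functor.map_comp, ← Functor.map_comp]
    congr 2
    exact Over.OverMorphism.ext (Scheme.Hom.SpecMap_residueFieldMap_fromSpecResidueField _ _)
  have sqP := IsPullback.of_hasPullback f p.toHom
  have hP0 := hN _ _ sqP
  have sq' := IsPullback.of_hasPullback qsnd ((yon S).map c)
  have big : IsPullback (pullback.fst qsnd ((yon S).map c) ≫ qfst) (pullback.snd qsnd ((yon S).map c)) f
      ((yon S).map (j ≫ r₁) ≫ p.toHom) := hc ▸ sq'.paste_horiz hQ
  have small := IsPullback.of_right (h₁₁ := sqP.lift (pullback.fst qsnd ((yon S).map c) ≫ qfst)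
      (pullback.snd qsnd ((yon S).map c) ≫ (yon S).map (j ≫ r₁)) (by rw [big.w, Category.assoc]))
    (h₁₂ := pullback.fst f p.toHom) (by rw [sqP.lift_fst]; exact big) (sqP.lift_snd _ _ _) sqP
  have hP' : IsLocNoethSp (pullback qsnd ((yon S).map c)) := isLocNoethSp_baseChange_of_lft (j ≫ r₁)
    (isAlgSpace_pullback _ _ hX (IsAlgSpace.yon_obj _) hY) _ _ _ small hP0
  haveI : IsAffine T'.left := inferInstanceAs (IsAffine (Spec _))
  haveI : Nonempty ↥T'.left := ⟨IsLocalRing.closedPoint (R.left.residueField r)⟩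
  obtain ⟨_, _, _⟩ := flat_surjective_affine_field c (K := V.left.residueField (r₂.left r)) (Iso.refl _)
  exact isLocNoethSp_of_baseChange c hQs qsnd _ _ sq' hP'

theorem isLocNoethSp_fibre_of_lft {X Y : Sp S} (hX : IsAlgSpace X) (hY : IsAlgSpace Y) (f : X ⟶ Y)
    (hf : LocP @LocallyOfFiniteType f) (p : FieldPt Y) {P : Sp S} (fst : P ⟶ X)
    (snd : P ⟶ (yon S).obj p.pt) (hP : IsPullback fst snd f p.toHom) : IsLocNoethSp P := by
  have hPs := isAlgSpace_of_isPullback hP hX (IsAlgSpace.yon_obj _) hY.diag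
  obtain ⟨W, a, ha, has⟩ := hPs.atlas
  obtain ⟨c, hc⟩ := (yon S).map_surjective (a ≫ snd)
  have h : LocP @LocallyOfFiniteType snd := locP_baseChange hP hX hY (IsAlgSpace.yon_obj _) hf
  haveI : LocallyOfFiniteType c.left := h a (𝟙 _) c ha (repWith_id _ _) (by rw [Category.comp_id, hc])
  haveI : IsLocallyNoetherian p.pt.left := inferInstanceAs (IsLocallyNoetherian (Spec _))
  exact ⟨W, a, ha, has, LocallyOfFiniteType.isLocallyNoetherian c.left⟩

end Groth.Agent.SpFP87
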