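import Groth.Agent.FlatMor66.BCStalk
import Groth.Agent.FlatMor66.FibCritScheme
import Groth.Agent.FlatMor66.FlatDescentSource
import Groth.Agent.FlatMor67.FibreCrit
import Groth.Agent.ConsProp93.Criterion
import Groth.Agent.SpPts86.HasAtMorInv
import Groth.Agent.SpPts86.EtaleMor
import Groth.Agent.SpFP87.LocPRep
import Groth.Agent.SpFP87.Basic

/-!
Flatness of a morphism at a point: chart invariance, the flat locus and base change.
-/

set_option autoImplicit false
set_option linter.style.haveILetI false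
set_option backward.isDefEq.respectTransparency false
universe u

open CategoryTheory CategoryTheory.Limits AlgebraicGeometry Topology
open AlgSp

namespace Groth.Agent.SpFP87

/-- Flatness of the stalk map at a point. -/
def FlatPt : ∀ (U V : Scheme.{u}), (U ⟶ V) → ↥U → Prop := fun _ _ h u => (h.stalkMap u).hom.Flat

theorem flat_stalkMap_comp {X Y Z : Scheme.{u}} (f : X ⟶ Y) (g : Y ⟶ Z) {x : X}
    (hf : (f.stalkMap x).hom.Flat) (hg : (g.stalkMap (f x)).hom.Flat) : ((f ≫ g).stalkMap x).hom.Flat := by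
  rw [Scheme.Hom.stalkMap_comp, CommRingCat.hom_comp]
  exact hg.comp hf

theorem flat_stalkMap_of_comp {X Y Z : Scheme.{u}} (f : X ⟶ Y) (g : Y ⟶ Z) {x : X}
    (hf : (f.stalkMap x).hom.Flat) (h : ((f ≫ g).stalkMap x).hom.Flat) : (g.stalkMap (f x)).hom.Flat := by
  rw [Scheme.Hom.stalkMap_comp, CommRingCat.hom_comp] at h
  haveI : IsLocalHom (f.stalkMap x).hom := f.toLRSHom.prop x
  exact Groth.Agent.FlatMor66.flat_of_comp_localHom _ _ hf h

theorem flat_stalkMap_congr {X Y : Scheme.{u}} {f f' : X ⟶ Y} (e : f = f') {x : X}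
    (h : (f.stalkMap x).hom.Flat) : (f'.stalkMap x).hom.Flat := e ▸ h

theorem flat_stalkMap_point {X Y : Scheme.{u}} (f : X ⟶ Y) {x x' : X} (e : x = x')
    (h : (f.stalkMap x).hom.Flat) : (f.stalkMap x').hom.Flat := e ▸ h

/-- Flatness at a point may be checked after composing with an etale map. -/
theorem flat_stalkMap_of_comp_etale {X Y Z : Scheme.{u}} (f : X ⟶ Y) (b : Y ⟶ Z) [Etale b] {x : X}
    (h : ((f ≫ b).stalkMap x).hom.Flat) : (f.stalkMap x).hom.Flat := by
  let Γ : X ⟶ pullback b (f ≫ b) := pullback.lift f (𝟙 X) (by rw [Category.id_comp])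
  haveI : Etale (Γ ≫ pullback.snd b (f ≫ b)) := by rw [pullback.lift_snd]; infer_instance
  haveI : Etale Γ := MorphismProperty.of_postcomp (W := @Etale) (W' := @Etale) Γ (pullback.snd b (f ≫ b))
    inferInstance inferInstance
  have hx : pullback.snd b (f ≫ b) (Γ x) = x := by
    rw [← Scheme.Hom.comp_apply, pullback.lift_snd]; rfl
  have h1 : ((pullback.fst b (f ≫ b)).stalkMap (Γ x)).hom.Flat :=
    Groth.Agent.FlatMor66.flat_stalkMap_fst (IsPullback.of_hasPullback b (f ≫ b)) (Γ x)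
      (flat_stalkMap_point _ hx.symm h)
  exact flat_stalkMap_congr (pullback.lift_fst _ _ _) (flat_stalkMap_comp Γ _ (Flat.stalkMap Γ x) h1)

theorem etInv_flatPt : Groth.Agent.SpPts86.EtInv FlatPt.{u} := by
  intro U U' V V' h h' a b ha hb comm u'
  constructor
  · intro H
    exact flat_stalkMap_of_comp_etale h' b
      (flat_stalkMap_congr comm.symm (flat_stalkMap_comp a h (Flat.stalkMap a u') H))
  · intro H
    exact flat_stalkMap_of_comp a h (Flat.stalkMap a u')
      (flat_stalkMap_congr comm (flat_stalkMap_comp h' b H (Flat.stalkMap b (h' u'))))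

section SchemeLocus

variable {X Y S X' Y' S' : Scheme.{u}} (f : X ⟶ Y) (g : Y ⟶ S)

theorem isOpen_flatPt [LocallyOfFinitePresentation (f ≫ g)] [LocallyOfFiniteType g] [Flat (f ≫ g)] :
    IsOpen {x : ↥X | FlatPt X Y f x} := by
  have : {x : ↥X | FlatPt X Y f x} = {x : ↥X | (g.stalkMap (f x)).hom.Flat ∧ (f.stalkMap x).hom.Flat} :=
    Set.ext fun x => ⟨fun h => ⟨flat_stalkMap_of_comp f g h (Flat.stalkMap (f ≫ g) x), h⟩, fun h => h.2⟩
  rw [this]
  exact (Groth.Agent.FlatMor66.critere_scheme f g).2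

theorem flatPt_baseChange_iff [LocallyOfFinitePresentation (f ≫ g)] [LocallyOfFiniteType g] [Flat (f ≫ g)]
    {h : S' ⟶ S} {gY : Y' ⟶ Y} {g' : Y' ⟶ S'} (hY : IsPullback gY g' g h)
    {gX : X' ⟶ X} {f' : X' ⟶ Y'} (hX : IsPullback gX f' f gY) (x' : X') :
    FlatPt X' Y' f' x' ↔ FlatPt X Y f (gX x') := by
  refine ⟨fun h' => ?_, fun H => Groth.Agent.FlatMor66.flat_stalkMap_fst hX.flip x' H⟩
  have hX2 : IsPullback gX (f' ≫ g') (f ≫ g) h := hX.paste_vert hY
  let s' : S' := (f' ≫ g') x'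
  obtain ⟨eX, heX, hsX⟩ := Groth.Agent.ConsProp93.exists_isPullback_fiber hX2 s'
  obtain ⟨eY, heY, hsY⟩ := Groth.Agent.ConsProp93.exists_isPullback_fiber hY s'
  let φ' := MoreMor.fiberMap f' g' s'
  let φ := MoreMor.fiberMap f g (h s')
  have e1 : φ' ≫ g'.fiberι s' = (f' ≫ g').fiberι s' ≫ f' := pullback.lift_fst _ _ _
  have e2 : φ ≫ g.fiberι (h s') = (f ≫ g).fiberι (h s') ≫ f := pullback.lift_fst _ _ _
  have e3 : φ' ≫ g'.fiberToSpecResidueField s' = (f' ≫ g').fiberToSpecResidueField s' := pullback.lift_snd _ _ _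
  have e4 : φ ≫ g.fiberToSpecResidueField (h s') = (f ≫ g).fiberToSpecResidueField (h s') := pullback.lift_snd _ _ _
  have hw : eX ≫ φ = φ' ≫ eY := by
    refine pullback.hom_ext ?_ ?_
    · show (eX ≫ φ) ≫ g.fiberι (h s') = (φ' ≫ eY) ≫ g.fiberι (h s')
      rw [Category.assoc, Category.assoc, e2, heY, reassoc_of% heX, reassoc_of% e1, hX.w]
    · show (eX ≫ φ) ≫ g.fiberToSpecResidueField (h s') = (φ' ≫ eY) ≫ g.fiberToSpecResidueField (h s')
      rw [Category.assoc, Category.assoc, e4, hsX.w, hsY.w, reassoc_of% e3]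
  have hsq : IsPullback eX φ' φ eY := IsPullback.of_bot (by rw [e3, e4]; exact hsX) hw hsY
  haveI : Flat (Spec.map (h.residueFieldMap s')) := by
    rw [HasRingHomProperty.Spec_iff (P := @Flat)]
    letI := (h.residueFieldMap s').hom.toAlgebra
    exact (inferInstance : Module.Flat (S.residueField (h s')) (S'.residueField s'))
  haveI : Flat eY := MorphismProperty.of_isPullback hsY.flip inferInstance
  haveI : Flat eX := MorphismProperty.of_isPullback hsq.flip inferInstance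
  let z' : (f' ≫ g').fiber s' := (f' ≫ g').asFiber x'
  have hz' : (f' ≫ g').fiberι s' z' = x' := (f' ≫ g').fiberι_asFiber x'
  have hz : (f ≫ g).fiberι (h s') (eX z') = gX x' := by
    rw [← Scheme.Hom.comp_apply, heX, Scheme.Hom.comp_apply, hz']
  obtain ⟨cB, hcB, hcC, kB, kC, sq⟩ := Groth.Agent.FlatMor66.exists_fibre_square f' g' s' z'
  have h1 : (φ'.stalkMap z').hom.Flat := by
    rw [Groth.Agent.FlatMor66.flat_iff_quotientMap _ _ cB _ _ hcB hcC kB
      (kC.trans (Ideal.map_map _ _).symm) sq]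
    letI := (f'.stalkMap ((f' ≫ g').fiberι s' z')).hom.toAlgebra
    have hfl : (f'.stalkMap ((f' ≫ g').fiberι s' z')).hom.Flat := flat_stalkMap_point f' hz'.symm h'
    haveI : Module.Flat (Y'.presheaf.stalk (f' ((f' ≫ g').fiberι s' z'))) (X'.presheaf.stalk ((f' ≫ g').fiberι s' z')) := hfl
    exact Groth.Agent.Frg27.flat_quotientMap _
  have h2 : (φ.stalkMap (eX z')).hom.Flat :=
    flat_stalkMap_of_comp eX φ (Flat.stalkMap eX z')
      (flat_stalkMap_congr hw.symm (flat_stalkMap_comp φ' eY h1 (Flat.stalkMap eY _)))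
  have h3 := (Groth.Agent.FlatMor66.critere_scheme_aux f g (h s') (eX z')).1.1 ⟨Flat.stalkMap _ _, h2⟩
  exact flat_stalkMap_point f hz h3.2

end SchemeLocus

open Groth.Agent.SpPts86

variable {S : Scheme.{u}} {X Y Z : Sp S}

theorem isFlatAtMor_iff_chart (hX : IsAlgSpace X) (hY : IsAlgSpace Y) {f : X ⟶ Y} {U V : Over S}
    {a : (yon S).obj U ⟶ X} {b : (yon S).obj V ⟶ Y} {h : U ⟶ V}
    (ha : RepWith @Etale a) (hb : RepWith @Etale b) (w : a ≫ f = (yon S).map h ≫ b) (u : ↥U.left) :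
    IsFlatAtMor f (Points.ofPt a u) ↔ FlatPt U.left V.left h.left u :=
  ⟨fun H => H a b h u ha hb w rfl, fun H _ _ a' b' h' u' ha' hb' w' hu' =>
    forall_diagram_of_hasAtMor hX hY etInv_flatPt ⟨U, V, a, b, h, u, ha, hb, w, rfl, H⟩ ha' hb' w' hu'⟩

/-- A chart of a base change. -/
theorem exists_baseChange_chart {Y' Z' : Sp S} {h : Y ⟶ Z} {g : Z' ⟶ Z} {pY : Y' ⟶ Y} {h' : Y' ⟶ Z'}
    (sqY : IsPullback pY h' h g) {V C' Wk : Over S} {b : (yon S).obj V ⟶ Y} {c' : (yon S).obj C' ⟶ Z'}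
    (hb : RepWith @Etale b) (hbs : RepWith @Surjective b) (hc : RepWith @Etale c') (hcs : RepWith @Surjective c')
    {fV : Wk ⟶ V} {qz : Wk ⟶ C'} (sqV : IsPullback ((yon S).map fV) ((yon S).map qz) (b ≫ h) (c' ≫ g)) :
    ∃ β : (yon S).obj Wk ⟶ Y', RepWith @Etale β ∧ RepWith @Surjective β ∧
      β ≫ pY = (yon S).map fV ≫ b ∧ β ≫ h' = (yon S).map qz ≫ c' := by
  have sqT : IsPullback (pullback.fst h' c' ≫ pY) (pullback.snd h' c') h (c' ≫ g) :=
    (IsPullback.of_hasPullback h' c').paste_horiz sqY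
  let l := sqT.lift ((yon S).map fV ≫ b) ((yon S).map qz) (by rw [Category.assoc]; exact sqV.w)
  have sqL : IsPullback ((yon S).map fV) l b (pullback.fst h' c' ≫ pY) :=
    IsPullback.of_bot (show IsPullback ((yon S).map fV) (l ≫ pullback.snd h' c') (b ≫ h) (c' ≫ g) by
      rw [sqT.lift_snd]; exact sqV) (sqT.lift_fst _ _ _).symm sqT
  refine ⟨l ≫ pullback.fst h' c',
    (repWith_isMultiplicative (S := S) @Etale).comp_mem _ _
      ((repWith_isStableUnderBaseChange (S := S) @Etale).of_isPullback sqL hb)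
      ((repWith_isStableUnderBaseChange (S := S) @Etale).of_isPullback (IsPullback.of_hasPullback h' c').flip hc),
    (repWith_isMultiplicative (S := S) @Surjective).comp_mem _ _
      ((repWith_isStableUnderBaseChange (S := S) @Surjective).of_isPullback sqL hbs)
      ((repWith_isStableUnderBaseChange (S := S) @Surjective).of_isPullback (IsPullback.of_hasPullback h' c').flip hcs),
    by rw [Category.assoc, sqT.lift_fst], ?_⟩
  rw [Category.assoc, pullback.condition, ← Category.assoc, sqT.lift_snd]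

theorem isOpen_isFlatAtMor {f : X ⟶ Y} {h : Y ⟶ Z} (hX : IsAlgSpace X) (hY : IsAlgSpace Y) (hZ : IsAlgSpace Z)
    (hfp : LocP @LocallyOfFinitePresentation (f ≫ h)) (hfl : LocP @Flat (f ≫ h))
    (hft : LocP @LocallyOfFiniteType h) : IsOpen {x : Points X | IsFlatAtMor f x} := by
  obtain ⟨C, c, hc, hcs⟩ := hZ.atlas
  obtain ⟨V, b, g', hb, hbs, w2⟩ := exists_compatible_chart h hY hZ.diag hc hcs
  obtain ⟨U, a, f', ha, has, w1⟩ := exists_compatible_chart f hX hY.diag hb hbs
  have w3 : a ≫ f ≫ h = (yon S).map (f' ≫ g') ≫ c := by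
    rw [reassoc_of% w1, w2, Functor.map_comp, Category.assoc]
  haveI : LocallyOfFinitePresentation (f'.left ≫ g'.left) := hfp a c (f' ≫ g') ha hc w3
  haveI : Flat (f'.left ≫ g'.left) := hfl a c (f' ≫ g') ha hc w3
  haveI : LocallyOfFiniteType g'.left := hft b c g' hb hc w2
  rw [← (isOpenQuotientMap_ofPt ha has).isQuotientMap.isOpen_preimage]
  have : Points.ofPt a ⁻¹' {x : Points X | IsFlatAtMor f x} = {u | FlatPt U.left V.left f'.left u} :=
    Set.ext fun u => isFlatAtMor_iff_chart hX hY ha hb w1 u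
  rw [this]
  exact isOpen_flatPt f'.left g'.left

theorem isFlatAtMor_baseChange_iff {X' Y' Z' : Sp S} {f : X ⟶ Y} {h : Y ⟶ Z} {g : Z' ⟶ Z} {f' : X' ⟶ Y'}
    {h' : Y' ⟶ Z'} {pX : X' ⟶ X} {pY : Y' ⟶ Y}
    (hX : IsAlgSpace X) (hY : IsAlgSpace Y) (hZ : IsAlgSpace Z)
    (hX' : IsAlgSpace X') (hY' : IsAlgSpace Y') (hZ' : IsAlgSpace Z')
    (hfp : LocP @LocallyOfFinitePresentation (f ≫ h)) (hfl : LocP @Flat (f ≫ h))
    (hft : LocP @LocallyOfFiniteType h)
    (sqY : IsPullback pY h' h g) (sqX : IsPullback pX f' f pY) (x' : Points X') :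
    IsFlatAtMor f' x' ↔ IsFlatAtMor f (Points.map pX x') := by
  obtain ⟨C, c, hc, hcs⟩ := hZ.atlas
  obtain ⟨C', c', ξ, hc', hcs', wξ⟩ := exists_compatible_chart g hZ' hZ.diag hc hcs
  obtain ⟨V, b, hb, hbs⟩ := hY.atlas
  obtain ⟨U, a, h0, ha, has, wa⟩ := exists_compatible_chart f hX hY.diag hb hbs
  obtain ⟨W, fW, gW, sqW⟩ := Groth.Agent.SpFP87.exists_isPullback_yon hZ.diag (b ≫ h) c
  obtain ⟨U', fU, gU, sqU⟩ := Groth.Agent.SpFP87.exists_isPullback_yon hZ.diag ((yon S).map h0 ≫ b ≫ h) c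
  obtain ⟨k, hk⟩ := (yon S).map_surjective
    (sqW.lift ((yon S).map (fU ≫ h0)) ((yon S).map gU) (by rw [Functor.map_comp, Category.assoc]; exact sqU.w))
  have hk1 : k ≫ fW = fU ≫ h0 := (yon S).map_injective (by rw [Functor.map_comp, hk, sqW.lift_fst])
  have hk2 : k ≫ gW = gU := (yon S).map_injective (by rw [Functor.map_comp, hk, sqW.lift_snd])
  haveI : Etale fW.left := etale_snd_of_isPullback sqW.flip hc
  haveI : Etale fU.left := etale_snd_of_isPullback sqU.flip hc
  have hWb : RepWith @Etale ((yon S).map fW ≫ b) := repWith_etale_comp fW hb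
  have hUa : RepWith @Etale ((yon S).map fU ≫ a) := repWith_etale_comp fU ha
  have w1 : ((yon S).map fU ≫ a) ≫ f = (yon S).map k ≫ (yon S).map fW ≫ b := by
    rw [Category.assoc, wa, ← Functor.map_comp_assoc, ← hk1, Functor.map_comp_assoc]
  have w2 : ((yon S).map fW ≫ b) ≫ h = (yon S).map gW ≫ c := by rw [Category.assoc]; exact sqW.w
  have w3 : ((yon S).map fU ≫ a) ≫ f ≫ h = (yon S).map (k ≫ gW) ≫ c := by
    rw [← Category.assoc ((yon S).map fU ≫ a), w1, Category.assoc, w2, Functor.map_comp, Category.assoc]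
  haveI : LocallyOfFinitePresentation (k.left ≫ gW.left) := hfp _ c (k ≫ gW) hUa hc w3
  haveI : Flat (k.left ≫ gW.left) := hfl _ c (k ≫ gW) hUa hc w3
  haveI : LocallyOfFiniteType gW.left := hft _ c gW hWb hc w2
  obtain ⟨Wz, fV, qz, sqV⟩ := Groth.Agent.SpFP87.exists_isPullback_yon hZ.diag (b ≫ h) ((yon S).map ξ ≫ c)
  obtain ⟨Uz, fUz, qU, sqUz⟩ := Groth.Agent.SpFP87.exists_isPullback_yon hZ.diag ((yon S).map h0 ≫ b ≫ h) ((yon S).map ξ ≫ c)
  obtain ⟨wz, hwz⟩ := (yon S).map_surjective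
    (sqW.lift ((yon S).map fV) ((yon S).map (qz ≫ ξ)) (by rw [Functor.map_comp, Category.assoc]; exact sqV.w))
  obtain ⟨uz, huz⟩ := (yon S).map_surjective
    (sqU.lift ((yon S).map fUz) ((yon S).map (qU ≫ ξ)) (by rw [Functor.map_comp, Category.assoc]; exact sqUz.w))
  have sqWz : IsPullback ((yon S).map wz) ((yon S).map qz) ((yon S).map gW) ((yon S).map ξ) := by
    have ho : IsPullback ((yon S).map wz ≫ (yon S).map fW) ((yon S).map qz) (b ≫ h) ((yon S).map ξ ≫ c) := by
      rw [hwz, sqW.lift_fst]; exact sqV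
    exact IsPullback.of_right ho (by rw [hwz, sqW.lift_snd, Functor.map_comp]) sqW
  have sqUz' : IsPullback ((yon S).map uz) ((yon S).map qU) ((yon S).map gU) ((yon S).map ξ) := by
    have ho : IsPullback ((yon S).map uz ≫ (yon S).map fU) ((yon S).map qU) ((yon S).map h0 ≫ b ≫ h)
        ((yon S).map ξ ≫ c) := by
      rw [huz, sqU.lift_fst]; exact sqUz
    exact IsPullback.of_right ho (by rw [huz, sqU.lift_snd, Functor.map_comp]) sqU
  obtain ⟨kz, hkz⟩ := (yon S).map_surjective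
    (sqV.lift ((yon S).map (fUz ≫ h0)) ((yon S).map qU) (by rw [Functor.map_comp, Category.assoc]; exact sqUz.w))
  have hkz1 : (yon S).map kz ≫ (yon S).map fV = (yon S).map fUz ≫ (yon S).map h0 := by
    rw [hkz, sqV.lift_fst, Functor.map_comp]
  have hkz2 : (yon S).map kz ≫ (yon S).map qz = (yon S).map qU := by rw [hkz, sqV.lift_snd]
  have hcomm : (yon S).map uz ≫ (yon S).map k = (yon S).map kz ≫ (yon S).map wz := by
    apply sqW.hom_ext
    · rw [Category.assoc, Category.assoc, hk, sqW.lift_fst, hwz, sqW.lift_fst, hkz1, huz,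
        (yon S).map_comp fU h0, ← Category.assoc, sqU.lift_fst]
    · rw [Category.assoc, Category.assoc, hk, sqW.lift_snd, hwz, sqW.lift_snd, huz, sqU.lift_snd,
        Functor.map_comp, Functor.map_comp, ← Category.assoc ((yon S).map kz), hkz2]
  have sqk : IsPullback ((yon S).map uz) ((yon S).map kz) ((yon S).map k) ((yon S).map wz) := by
    have ho : IsPullback ((yon S).map uz) ((yon S).map kz ≫ (yon S).map qz)
        ((yon S).map k ≫ (yon S).map gW) ((yon S).map ξ) := by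
      rw [hkz2, ← Functor.map_comp, hk2]; exact sqUz'
    exact IsPullback.of_bot ho hcomm sqWz
  obtain ⟨β, hβ, -, hβ1, hβ2⟩ := exists_baseChange_chart sqY hb hbs hc' hcs' (fV := fV) (qz := qz) (wξ ▸ sqV)
  obtain ⟨α, hα, hαs, hα1, hα2⟩ := exists_baseChange_chart (sqX.paste_vert sqY) ha has hc' hcs' (fV := fUz) (qz := qU)
    (by rw [reassoc_of% wa, wξ]; exact sqUz)
  have w4 : α ≫ f' = (yon S).map kz ≫ β := by
    apply sqY.hom_ext
    · rw [Category.assoc, Category.assoc, ← sqX.w, reassoc_of% hα1, hβ1, wa, reassoc_of% hkz1]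
    · rw [Category.assoc, Category.assoc, hα2, hβ2, reassoc_of% hkz2]
  obtain ⟨u', rfl⟩ := surjective_ofPt hαs x'
  have hp : Points.map pX (Points.ofPt α u') = Points.ofPt ((yon S).map fU ≫ a) (uz.left u') := by
    rw [Points.map_ofPt, hα1, ← ofPt_comp]
    congr 1
    rw [← Category.assoc, huz, sqU.lift_fst]
  rw [hp, isFlatAtMor_iff_chart hX' hY' hα hβ w4, isFlatAtMor_iff_chart hX hY hUa hWb w1]
  exact flatPt_baseChange_iff k.left gW.left (isPullback_left sqWz) (isPullback_left sqk) u'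

end Groth.Agent.SpFP87
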