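import Groth.Agent.SpFP87.LocalST
import Groth.Agent.SpPts86.Subspace
import Groth.Prelude.Def_AlgSpDec
import Mathlib.AlgebraicGeometry.ResidueField
import Mathlib.AlgebraicGeometry.Noetherian
/-!
Decent algebraic spaces and decent morphisms: formal properties.
-/

set_option autoImplicit false
set_option linter.style.haveILetI false
universe u
open CategoryTheory CategoryTheory.Limits AlgebraicGeometry Opposite
open AlgSp
open Groth.Agent.SpPts86

namespace Groth.Agent.SpFP87

variable {S : Scheme.{u}}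

/-- `mono ⊓ quasi-compact` representable morphisms compose. -/
theorem repWith_qc_comp {A B C : Sp S} {a : A ⟶ B} {b : B ⟶ C} (ha : RepWith @QuasiCompact a)
    (hb : RepWith @QuasiCompact b) : RepWith @QuasiCompact (a ≫ b) :=
  MorphismProperty.comp_mem (W := RepWith (@QuasiCompact : MorphismProperty Scheme.{u})) _ _ ha hb

theorem repWith_qc_baseChange {X Y X' Y' : Sp S} {fst : X' ⟶ X} {snd : X' ⟶ Y'} {f : X ⟶ Y} {g : Y' ⟶ Y}
    (sq : IsPullback fst snd f g) (hf : RepWith @QuasiCompact f) : RepWith @QuasiCompact snd :=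
  (repWith_isStableUnderBaseChange _).of_isPullback sq hf

theorem mono_baseChange {X Y X' Y' : Sp S} {fst : X' ⟶ X} {snd : X' ⟶ Y'} {f : X ⟶ Y} {g : Y' ⟶ Y}
    (sq : IsPullback fst snd f g) [Mono f] : Mono snd := by
  refine ⟨fun a b e => sq.hom_ext ?_ e⟩
  rw [← cancel_mono f, Category.assoc, Category.assoc, sq.w, ← Category.assoc, ← Category.assoc, e]

/-- A point of a scheme gives a monomorphic quasi-compact point. -/
theorem exists_point_of_ofPt {F : Sp S} {W : Over S} (m : (yon S).obj W ⟶ F) [Mono m] (w : ↥W.left) :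
    ∃ p : FieldPt F, Points.mk p = Points.ofPt m w ∧ Mono p.toHom ∧
      (RepWith @QuasiCompact m → RepWith @QuasiCompact p.toHom) := by
  refine ⟨FieldPt.ofPt m w, rfl, ?_, fun h => ?_⟩
  · rw [FieldPt.toHom_ofPt]
    let k : Over.mk (W.left.fromSpecResidueField w ≫ W.hom) ⟶ W :=
      Over.homMk (W.left.fromSpecResidueField w) rfl
    have hk : Mono ((yon S).map k) :=
      mono_of_repWith_le (P := @IsPreimmersion) (fun _ _ f (_ : IsPreimmersion f) => inferInstanceAs (Mono f))
        ((repWith_yon_map_iff _ k).2 (inferInstanceAs (IsPreimmersion (W.left.fromSpecResidueField w))))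
    exact @mono_comp _ _ _ _ _ ((yon S).map k) hk m inferInstance
  · rw [FieldPt.toHom_ofPt]
    exact repWith_qc_comp ((repWith_yon_map_iff _ _).2
      (inferInstanceAs (QuasiCompact (W.left.fromSpecResidueField w)))) h

/-- Decency criterion: every point lies on a monomorphic quasi-compact map from a scheme. -/
theorem isDecent_of_forall {F : Sp S}
    (h : ∀ x : Points F, ∃ (W : Over S) (m : (yon S).obj W ⟶ F),
      Mono m ∧ RepWith @QuasiCompact m ∧ x ∈ Set.range (Points.ofPt m)) : IsDecent F := fun x => by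
  obtain ⟨W, m, hm, hq, w, rfl⟩ := h x
  obtain ⟨p, hp, h1, h2⟩ := exists_point_of_ofPt m w
  exact ⟨p, hp, h1, h2 hq⟩

theorem isDecent_yon (T : Over S) : IsDecent ((yon S).obj T) :=
  isDecent_of_forall fun x => ⟨T, 𝟙 _, inferInstance, repWith_id _ T,
    (Points.schemeHomeo T).surjective x⟩

theorem exists_scheme_pullback {Y : Sp S} (hY : Representable (Limits.diag Y)) {A B : Over S}
    (a : (yon S).obj A ⟶ Y) (b : (yon S).obj B ⟶ Y) {P : Sp S} {fst : P ⟶ (yon S).obj A}
    {snd : P ⟶ (yon S).obj B} (sq : IsPullback fst snd a b) : ∃ W : Over S, Nonempty ((yon S).obj W ≅ P) := by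
  obtain ⟨W, p, q, sq'⟩ := exists_isPullback_yon hY a b
  exact ⟨W, ⟨sq'.isoIsPullback _ _ sq⟩⟩

/-- A fibre product of decent sheaves over a sheaf with representable diagonal is decent. -/
theorem isDecent_pullback {X Y Z P : Sp S} {fst : P ⟶ X} {snd : P ⟶ Z} {f : X ⟶ Y} {g : Z ⟶ Y}
    (sq : IsPullback fst snd f g) (hY : Representable (Limits.diag Y)) (hX : IsDecent X)
    (hZ : IsDecent Z) : IsDecent P := by
  refine isDecent_of_forall fun x => ?_
  obtain ⟨p, hp, hpm, hpq⟩ := hX (Points.map fst x)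
  obtain ⟨q, hq, hqm, hqq⟩ := hZ (Points.map snd x)
  haveI := hpm
  haveI := hqm
  let sq1 := IsPullback.of_hasPullback fst p.toHom
  haveI : Mono (pullback.fst fst p.toHom) := mono_baseChange sq1.flip
  let sq2 := IsPullback.of_hasPullback (pullback.fst fst p.toHom ≫ snd) q.toHom
  haveI : Mono (pullback.fst (pullback.fst fst p.toHom ≫ snd) q.toHom) := mono_baseChange sq2.flip
  let m₀ := pullback.fst (pullback.fst fst p.toHom ≫ snd) q.toHom ≫ pullback.fst fst p.toHom
  haveI : Mono m₀ := mono_comp _ _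
  have hm₀ : RepWith @QuasiCompact m₀ :=
    repWith_qc_comp (repWith_qc_baseChange sq2.flip hqq) (repWith_qc_baseChange sq1.flip hpq)
  obtain ⟨W, ⟨e⟩⟩ : ∃ W : Over S, Nonempty ((yon S).obj W ≅ pullback (pullback.fst fst p.toHom ≫ snd) q.toHom) := by
    exact exists_scheme_pullback hY (p.toHom ≫ f) (q.toHom ≫ g)
      (sq2.paste_horiz (sq1.flip.paste_vert sq))
  refine ⟨W, e.hom ≫ m₀, mono_comp _ _,
    (MorphismProperty.cancel_left_of_respectsIso (RepWith (@QuasiCompact : MorphismProperty Scheme.{u})) e.hom m₀).2 hm₀, ?_⟩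
  obtain ⟨a, ha, -⟩ := exists_of_isPullback sq1 x
    (Points.ofScheme p.pt (IsLocalRing.closedPoint p.K))
    (by rw [← Points.ofPt_eq_map_ofScheme, Points.ofPt_toHom, hp])
  obtain ⟨b, hb, -⟩ := exists_of_isPullback sq2 a
    (Points.ofScheme q.pt (IsLocalRing.closedPoint q.K))
    (by rw [← Points.ofPt_eq_map_ofScheme, Points.ofPt_toHom, hq, Points.map_comp, ha])
  refine ⟨(Points.schemeHomeo W).symm (Points.map e.inv b), ?_⟩
  rw [Points.ofPt_eq_map_ofScheme]
  refine (congrArg (Points.map (e.hom ≫ m₀)) ((Points.schemeHomeo W).apply_symm_apply _)).trans ?_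
  rw [← Points.map_comp, e.inv_hom_id_assoc, Points.map_comp, hb, ha]

theorem isDecentMor_of_isDecent {X Y : Sp S} (f : X ⟶ Y) (hY : Representable (Limits.diag Y))
    (hX : IsDecent X) : IsDecentMor f := fun T _ _ _ _ sq => isDecent_pullback sq hY hX (isDecent_yon T)

theorem isDecent_of_isDecentMor {X Y : Sp S} (f : X ⟶ Y) (hf : IsDecentMor f) (hY : IsDecent Y) :
    IsDecent X := fun x => by
  obtain ⟨q, hq, hqm, hqq⟩ := hY (Points.map f x)
  haveI := hqm
  let sq := IsPullback.of_hasPullback f q.toHom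
  haveI : Mono (pullback.fst f q.toHom) := mono_baseChange sq.flip
  obtain ⟨z, hz, -⟩ := exists_of_isPullback sq x (Points.ofScheme q.pt (IsLocalRing.closedPoint q.K))
    (by rw [← Points.ofPt_eq_map_ofScheme, Points.ofPt_toHom, hq])
  obtain ⟨p, hp, hpm, hpq⟩ := hf q.toHom _ _ sq z
  haveI := hpm
  refine ⟨p.map (pullback.fst f q.toHom), ?_, ?_, ?_⟩
  · rw [← Points.map_mk, hp, hz]
  · rw [FieldPt.toHom_map]; exact @mono_comp _ _ _ _ _ _ hpm _ inferInstance
  · rw [FieldPt.toHom_map]; exact repWith_qc_comp hpq (repWith_qc_baseChange sq.flip hqq)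

theorem isDecentMor_baseChange {X Y X' Y' : Sp S} {fst : X' ⟶ X} {snd : X' ⟶ Y'} {f : X ⟶ Y} {g : Y' ⟶ Y}
    (sq : IsPullback fst snd f g) (hf : IsDecentMor f) : IsDecentMor snd :=
  fun _ _ t _ _ sq' => hf (t ≫ g) _ _ (sq'.paste_horiz sq)

theorem isDecentMor_comp {X Y Z : Sp S} (f : X ⟶ Y) (g : Y ⟶ Z) (hf : IsDecentMor f) (hg : IsDecentMor g) :
    IsDecentMor (f ≫ g) := fun T F' t fst snd sq => by
  let sqY := IsPullback.of_hasPullback g t
  let n : F' ⟶ pullback g t := sqY.lift (fst ≫ f) snd (by rw [Category.assoc]; exact sq.w)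
  have sq' : IsPullback fst n f (pullback.fst g t) :=
    IsPullback.of_bot (by rw [sqY.lift_snd]; exact sq) (sqY.lift_fst _ _ _).symm sqY
  exact isDecent_of_isDecentMor n (isDecentMor_baseChange sq' hf) (hg t _ _ sqY)

theorem exists_mono_point_of_representable {X Y : Sp S} (f : X ⟶ Y) (hf : Representable f)
    (x : Points X) (q : FieldPt Y) (hq : Points.mk q = Points.map f x) [Mono q.toHom] :
    ∃ p : FieldPt X, Points.mk p = x ∧ Mono p.toHom := by
  obtain ⟨W, s, fstW, sq⟩ := hf q.toHom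
  haveI : Mono fstW := mono_baseChange sq.flip
  obtain ⟨w, hw, -⟩ := exists_pt_of_isPullback sq x (IsLocalRing.closedPoint q.K)
    (by rw [Points.ofPt_toHom, hq])
  obtain ⟨p, hp, hpm, -⟩ := exists_point_of_ofPt fstW w
  exact ⟨p, hp.trans hw, hpm⟩

end Groth.Agent.SpFP87
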