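import Groth.Agent.SpFP87.MonoPointFib
import Groth.Agent.SpPts86.DiagProps
/-!
Representable and quasi-separated morphisms are decent.
-/

set_option autoImplicit false
set_option linter.style.haveILetI false
set_option backward.isDefEq.respectTransparency false
universe u
open CategoryTheory CategoryTheory.Limits AlgebraicGeometry Opposite
open AlgSp
open Groth.Agent.SpPts86 Groth.Agent.BddFib93

namespace Groth.Agent.SpFP87

variable {S : Scheme.{u}}

theorem isAffine_pullback_of_fac {A B W T : Scheme.{u}} (f : A ⟶ W) (g : B ⟶ W) (i : W ⟶ T) [Mono i]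
    [IsAffine A] [IsAffine B] [IsAffine W] {P : Scheme.{u}} {a : P ⟶ A} {b : P ⟶ B}
    (sq : IsPullback a b (f ≫ i) (g ≫ i)) : IsAffine P := by
  have sq' : IsPullback (pullback.fst f g) (pullback.snd f g) (f ≫ i) (g ≫ i) :=
    IsPullback.of_isLimit (PullbackCone.isLimitOfCompMono f g i _ (pullback.isLimit f g))
  exact IsAffine.of_isIso (sq.isoIsPullback _ _ sq').hom

/-- Over a scheme, an affine chart landing in an affine open has bounded fibres if the space is quasi-separated. -/
theorem hasUnivBddFibres_of_qs_over_yon {X : Sp S} (hX : IsAlgSpace X) {T : Over S} (π : X ⟶ (yon S).obj T)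
    (hπ : RepWith @QuasiCompact (pullback.diagonal π)) {U : Over S} [IsAffine U.left]
    (φ : (yon S).obj U ⟶ X) (hφ : RepWith @Etale φ) (g : U ⟶ T) (hg : φ ≫ π = (yon S).map g)
    (W : T.left.Opens) (hW : IsAffineOpen W) (hgW : Set.range g.left ⊆ W) : W4dec.HasUnivBddFibres φ := by
  obtain ⟨R, t, s, sq⟩ := exists_isPullback_yon hX.diag φ φ
  have h1 : RepWith @QuasiCompact (pullback.map φ φ (φ ≫ π) (φ ≫ π) _ _ π
      (Category.id_comp _).symm (Category.id_comp _).symm) :=
    (repWith_isStableUnderBaseChange _).of_isPullback (pullback_map_diagonal_isPullback φ φ π) hπ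
  have sqP : IsPullback ((yon S).map (pullback.fst g g)) ((yon S).map (pullback.snd g g)) (φ ≫ π) (φ ≫ π) := by
    rw [hg]; exact (IsPullback.of_hasPullback g g).map (yon S)
  have h2 : RepWith @QuasiCompact (sq.isoPullback.hom ≫ pullback.map φ φ (φ ≫ π) (φ ≫ π) _ _ π
      (Category.id_comp _).symm (Category.id_comp _).symm ≫ sqP.isoPullback.inv) := by
    rw [MorphismProperty.cancel_left_of_respectsIso (RepWith (@QuasiCompact : MorphismProperty Scheme.{u})),
      MorphismProperty.cancel_right_of_respectsIso (RepWith (@QuasiCompact : MorphismProperty Scheme.{u}))]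
    exact h1
  obtain ⟨d, hd⟩ := (yon S).map_surjective (sq.isoPullback.hom ≫ pullback.map φ φ (φ ≫ π) (φ ≫ π) _ _ π
      (Category.id_comp _).symm (Category.id_comp _).symm ≫ sqP.isoPullback.inv)
  rw [← hd, repWith_yon_map_iff] at h2
  haveI : IsAffine W.toScheme := hW
  haveI : IsAffine (pullback g g).left := by
    have sqS := isPullback_left ((IsPullback.of_hasPullback g g).map (yon S))
    obtain ⟨l, hl⟩ : ∃ l, l ≫ W.ι = g.left :=
      ⟨IsOpenImmersion.lift W.ι g.left (by rw [Scheme.Opens.range_ι]; exact hgW), IsOpenImmersion.lift_fac _ _ _⟩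
    rw [← hl] at sqS
    exact isAffine_pullback_of_fac l l W.ι sqS
  haveI : QuasiCompact d.left := h2
  haveI : CompactSpace ↥R.left := QuasiCompact.compactSpace_of_compactSpace d.left
  haveI : Etale t.left := etale_snd_of_isPullback sq.flip hφ
  obtain ⟨n, hn⟩ := univBounded_of_etale t.left
  refine ⟨n, degFibresLE_of_range_subset sq.flip ?_ ((degFibresLE_yon_iff t n).2 hn)⟩
  rw [range_map_yon]

theorem hasUnivBddFibres_affine_of_qs {X : Sp S} (hX : IsAlgSpace X) {T : Over S} (π : X ⟶ (yon S).obj T)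
    (hπ : RepWith @QuasiCompact (pullback.diagonal π)) {V : Over S} [IsAffine V.left]
    (ψ : (yon S).obj V ⟶ X) (hψ : RepWith @Etale ψ) : W4dec.HasUnivBddFibres ψ := by
  let κ := Σ (U : Over S), { x : ((yon S).obj U ⟶ X) × (U ⟶ T) × T.left.Opens //
    IsAffine U.left ∧ RepWith @Etale x.1 ∧ x.1 ≫ π = (yon S).map x.2.1 ∧ IsAffineOpen x.2.2 ∧
      Set.range x.2.1.left ⊆ x.2.2 }
  refine hasUnivBddFibres_of_etale_cover hX (fun x : κ => x.1) (fun x => x.2.1.1) (fun x => x.2.2.2.1)
    (fun x => ?_) ψ hψ (fun v => ?_)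
  · haveI := x.2.2.1
    exact hasUnivBddFibres_of_qs_over_yon hX π hπ x.2.1.1 x.2.2.2.1 x.2.1.2.1 x.2.2.2.2.1 x.2.1.2.2
      x.2.2.2.2.2.1 x.2.2.2.2.2.2
  · obtain ⟨g, hg⟩ := (yon S).map_surjective (ψ ≫ π)
    obtain ⟨W, hW, hvW, -⟩ := exists_isAffineOpen_mem_and_subset (U := (⊤ : T.left.Opens)) (x := g.left v) trivial
    obtain ⟨U, hU, hvU, hUW⟩ := exists_isAffineOpen_mem_and_subset (U := g.left ⁻¹ᵁ W) (x := v) hvW
    let U' : Over S := Over.mk (U.ι ≫ V.hom)
    let j : U' ⟶ V := Over.homMk U.ι rfl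
    haveI : Etale j.left := inferInstanceAs (Etale U.ι)
    refine ⟨⟨U', ⟨((yon S).map j ≫ ψ, j ≫ g, W), hU,
      MorphismProperty.comp_mem (W := RepWith (@Etale : MorphismProperty Scheme.{u})) _ _
        ((repWith_yon_map_iff _ _).2 inferInstance) hψ, ?_, hW, ?_⟩⟩, (⟨v, hvU⟩ : U.toScheme), ?_⟩
    · rw [Category.assoc, ← hg, Functor.map_comp]
    · rintro - ⟨z, rfl⟩
      exact hUW z.2
    · show Points.ofPt ((yon S).map j ≫ ψ) _ = _
      rw [ofPt_comp]
      rfl

theorem isDecent_of_qs_over_yon {X : Sp S} (hX : IsAlgSpace X) {T : Over S} (π : X ⟶ (yon S).obj T)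
    (hπ : RepWith @QuasiCompact (pullback.diagonal π)) : IsDecent X :=
  isDecent_of_bdd hX fun _ ψ hU hψ => by
    haveI := hU
    exact hasUnivBddFibres_affine_of_qs hX π hπ ψ hψ

theorem isDecentMor_of_representable {X Y : Sp S} {f : X ⟶ Y} (hf : Representable f) : IsDecentMor f := by
  intro T F' g fst snd sq
  exact (isDecent_yon (hf.pullback g)).of_iso ((hf.isPullback g).isoIsPullback _ _ sq)

theorem isDecentMor_of_qs {X Y : Sp S} {f : X ⟶ Y} (hX : IsAlgSpace X) (hY : IsAlgSpace Y)
    (hf : IsQuasiSeparatedMor f) : IsDecentMor f := by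
  intro T F' g fst snd sq
  refine isDecent_of_qs_over_yon (isAlgSpace_of_isPullback sq hX (IsAlgSpace.yon_obj T) hY.diag) snd ?_
  haveI := (repWith_isStableUnderBaseChange (S := S) (@QuasiCompact : MorphismProperty Scheme.{u}))
  exact MorphismProperty.of_isPullback (P := (RepWith (S := S) (@QuasiCompact : MorphismProperty Scheme.{u})).diagonal)
    sq hf

end Groth.Agent.SpFP87
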