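import Groth.Agent.SpFP87.EtLocInst
import Groth.Agent.SpPts86.Target
import Groth.Agent.Desc59.FlatPure
/-!
Flatness descends along maps of sheaves which are locally surjective.
-/

set_option autoImplicit false
set_option linter.style.haveILetI false
universe u
open CategoryTheory CategoryTheory.Limits AlgebraicGeometry Opposite
open AlgSp
open Groth.Agent.SpPts86

namespace Groth.Agent.SpFP87

variable {S : Scheme.{u}}

/-- A map with covering lifts has lifts on fppf families indexed by the points of the target scheme. -/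
theorem exists_fppf_lifts {H G : Sp S} {b : H ⟶ G} (hb : CovLift b) {T : Over S} (g : (yon S).obj T ⟶ G) :
    ∃ (W : ↥T.left → Over S) (c : ∀ t, W t ⟶ T) (l : ∀ t, (yon S).obj (W t) ⟶ H),
      (∀ t, Flat (c t).left) ∧ (∀ t, LocallyOfFinitePresentation (c t).left) ∧
      (∀ t, t ∈ Set.range (c t).left) ∧ ∀ t, l t ≫ b = (yon S).map (c t) ≫ g := by
  obtain ⟨R, hR, hl⟩ := hb T g
  have h : Sieve.overEquiv T R ∈ Scheme.fppfTopology T.left :=
    (GrothendieckTopology.mem_over_iff _ _).1 hR
  have : (@Flat ⊓ @LocallyOfFinitePresentation :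
      MorphismProperty Scheme.{u}).IsStableUnderBaseChange :=
    MorphismProperty.IsStableUnderBaseChange.inf
  have : MorphismProperty.IsMultiplicative
      (@Flat ⊓ @LocallyOfFinitePresentation : MorphismProperty Scheme.{u}) :=
    { id_mem := fun X => ⟨(inferInstance : Flat (𝟙 X)),
        (inferInstance : LocallyOfFinitePresentation (𝟙 X))⟩
      comp_mem := fun f g ⟨_, _⟩ ⟨_, _⟩ => ⟨(inferInstance : Flat (f ≫ g)),
        (inferInstance : LocallyOfFinitePresentation (f ≫ g))⟩ }
  obtain ⟨𝒰, h𝒰⟩ := Scheme.exists_cover_of_mem_grothendieckTopology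
    (P := @Flat ⊓ @LocallyOfFinitePresentation) h
  choose i y hy using 𝒰.exists_eq
  choose l hl' using fun t => hl _ _ ((Sieve.overEquiv_iff R _).1 (h𝒰 _ _ ⟨i t⟩))
  exact ⟨_, _, l, fun t => (𝒰.map_prop (i t)).1, fun t => (𝒰.map_prop (i t)).2,
    fun t => ⟨y t, hy t⟩, hl'⟩

theorem locP_flat_of_covLift {X Y Z : Sp S} {g : X ⟶ Y} {h : Y ⟶ Z} (hX : IsAlgSpace X)
    (hY : IsAlgSpace Y) (hZ : IsAlgSpace Z) (hg : CovLift g) (hgh : LocP @Flat (g ≫ h)) :
    LocP @Flat h := by
  obtain ⟨T, e, he, hes⟩ := hZ.atlas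
  obtain ⟨V, b, k, hb, hbs, w⟩ := exists_compatible_chart h hY hZ.diag he hes
  have hXV := isAlgSpace_pullback g b hX (IsAlgSpace.yon_obj V) hY
  obtain ⟨U, c, hc, hcs⟩ := hXV.atlas
  obtain ⟨j, hj⟩ := (yon S).map_surjective (c ≫ pullback.snd g b)
  let a : (yon S).obj U ⟶ X := c ≫ pullback.fst g b
  have ha : RepWith @Etale a :=
    MorphismProperty.comp_mem (W := RepWith (@Etale : MorphismProperty Scheme.{u})) _ _ hc
      ((repWith_isStableUnderBaseChange (@Etale : MorphismProperty Scheme.{u})).of_isPullback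
        (IsPullback.of_hasPullback g b).flip hb)
  have hjk : Flat (j ≫ k).left := hgh a e (j ≫ k) ha he (by
    rw [Functor.map_comp, hj]
    simp only [a, Category.assoc]
    rw [pullback.condition_assoc, w])
  obtain ⟨W, cw, l, hfl, -, hsurj, hl⟩ := exists_fppf_lifts hg b
  choose W' r s sq using fun t => exists_isPullback_yon hXV.diag c
    (pullback.lift (l t) ((yon S).map (cw t)) (hl t))
  have hs : ∀ t, Etale (s t).left := fun t => etale_snd_of_isPullback (sq t) hc
  have hss : ∀ t, Surjective (s t).left := fun t => etale_snd_of_isPullback (sq t) hcs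
  have hrs : ∀ t, r t ≫ j = s t ≫ cw t := fun t => (yon S).map_injective (by
    rw [Functor.map_comp, Functor.map_comp, hj, ← Category.assoc, (sq t).w, Category.assoc,
      pullback.lift_snd])
  refine locP_of_chart (h := k) hY.diag hZ.diag hb hbs he w ?_
  let d : ∐ (fun t => (W' t).left) ⟶ V.left := Sigma.desc fun t => ((s t).left ≫ (cw t).left)
  haveI : Flat d := IsZariskiLocalAtSource.sigmaDesc fun t => by
    haveI := hs t; haveI := hfl t; exact inferInstance
  haveI : Surjective d := ⟨fun v => by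
    obtain ⟨w', hw'⟩ := hsurj v
    obtain ⟨v', hv'⟩ := (hss v).surj w'
    refine ⟨(Sigma.ι (fun t => (W' t).left) v).base v', ?_⟩
    refine (congrArg (fun m : (W' v).left ⟶ V.left => m.base v')
      (Sigma.ι_desc (fun t => (s t).left ≫ (cw t).left) v)).trans ?_
    change (cw v).left ((s v).left v') = v
    rw [hv', hw']⟩
  haveI : Flat (j.left ≫ k.left) := hjk
  refine Groth.Agent.Desc59.FlatPure.flat_of_flat_comp_of_factor j.left k.left d
    (Sigma.desc fun t => (r t).left) ?_
  refine Sigma.hom_ext _ _ fun t => ?_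
  rw [Sigma.ι_desc_assoc, Sigma.ι_desc]
  exact congrArg CommaMorphism.left (hrs t)

end Groth.Agent.SpFP87
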