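import Groth.Agent.SpFP87.NoethDesc
import Groth.Agent.SpFP87.Reduced
import Groth.Agent.SpFP87.FieldMono
import Groth.Agent.SpFP87.LocPRep
import Groth.Agent.SpPts86.QuotSpace
import Groth.Agent.SpPts86.EqvRel
import Groth.Agent.SpPts86.Quot
import Groth.Agent.SpPts86.QuotSp
import Groth.Agent.Unr55.UnrQF
/-!
Residual spaces: the image of a residue field point in an algebraic space is an algebraic space.
-/

set_option autoImplicit false
set_option linter.style.haveILetI false
set_option backward.isDefEq.respectTransparency false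
universe u
open CategoryTheory CategoryTheory.Limits AlgebraicGeometry Opposite
open AlgSp
open Groth.Agent.SpPts86

namespace Groth.Agent.SpFP87

theorem isField_stalk {Y : Scheme.{u}} [IsLocallyArtinian Y] [IsReduced Y] (y : Y) :
    IsField (Y.presheaf.stalk y) := by
  obtain ⟨U, hU, hy, -⟩ := exists_isAffineOpen_mem_and_subset (U := (⊤ : Y.Opens)) (x := y) trivial
  letI := TopCat.Presheaf.algebra_section_stalk Y.presheaf ⟨y, hy⟩
  haveI := hU.isLocalization_stalk ⟨y, hy⟩
  haveI : IsArtinianRing Γ(Y, U) := IsLocallyArtinian.isArtinianRing_presheaf_obj ⟨U, hU⟩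
  haveI : IsArtinianRing (Y.presheaf.stalk y) :=
    IsArtinianRing.localization_artinian (hU.primeIdealOf ⟨y, hy⟩).asIdeal.primeCompl _
  exact IsArtinianRing.isField_of_isReduced_of_isLocalRing _

/-- A preimmersion to a reduced locally artinian scheme is an open immersion. -/
theorem isOpenImmersion_of_isPreimmersion {X Y : Scheme.{u}} (f : X ⟶ Y) [IsPreimmersion f]
    [IsLocallyArtinian Y] [IsReduced Y] : IsOpenImmersion f := by
  haveI : ∀ x, IsIso (f.stalkMap x) := fun x => by
    rw [ConcreteCategory.isIso_iff_bijective]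
    letI := (isField_stalk (f x)).toField
    exact ⟨(f.stalkMap x).hom.injective, f.stalkMap_surjective x⟩
  exact IsOpenImmersion.of_isIso_stalkMap f ⟨f.isEmbedding, isOpen_discrete _⟩

theorem isLocallyArtinian_of_etale {K : Type u} [Field K] {T : Scheme.{u}} (f : T ⟶ Spec (CommRingCat.of K))
    [Etale f] : IsLocallyArtinian T ∧ IsReduced T := by
  haveI := Groth.Agent.Unr55.locallyQuasiFinite_of_formallyUnramified f
  haveI : IsLocallyArtinian (Spec (CommRingCat.of K)) := inferInstance
  exact ⟨.of_locallyQuasiFinite f, isReduced_of_smooth f⟩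

variable {S : Scheme.{u}}

/-- The residue point as a scheme over the base. -/
noncomputable def resPt {U : Over S} (u : ↥U.left) : Over S := Over.mk (U.left.fromSpecResidueField u ≫ U.hom)

/-- The residue point inclusion. -/
noncomputable def resIncl {U : Over S} (u : ↥U.left) : resPt u ⟶ U := Over.homMk (U.left.fromSpecResidueField u) rfl

/-- The self fibre product of a residue point of an etale chart is etale over the point. -/
theorem etale_resPt_rel {X : Sp S} (hX : IsAlgSpace X) {U : Over S} {φ : (yon S).obj U ⟶ X}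
    (hφ : RepWith @Etale φ) (u : ↥U.left) {R : Over S} {t s : R ⟶ resPt u}
    (sq : IsPullback ((yon S).map t) ((yon S).map s) ((yon S).map (resIncl u) ≫ φ)
      ((yon S).map (resIncl u) ≫ φ)) : Etale s.left := by
  obtain ⟨M, a, b, sqM⟩ := exists_isPullback_yon hX.diag φ ((yon S).map (resIncl u) ≫ φ)
  haveI hb : Etale b.left := etale_snd_of_isPullback sqM hφ
  haveI : Etale (show M.left ⟶ Spec (CommRingCat.of (U.left.residueField u)) from b.left) := hb
  obtain ⟨_, _⟩ := isLocallyArtinian_of_etale (show M.left ⟶ Spec (CommRingCat.of (U.left.residueField u)) from b.left)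
  obtain ⟨c, hc⟩ := (yon S).map_surjective (sqM.lift ((yon S).map t ≫ (yon S).map (resIncl u)) ((yon S).map s)
    (by rw [Category.assoc]; exact sq.w))
  have hcb : c ≫ b = s := (yon S).map_injective (by rw [Functor.map_comp, hc, sqM.lift_snd])
  have sq2 : IsPullback ((yon S).map t) ((yon S).map c) ((yon S).map (resIncl u)) ((yon S).map a) := by
    refine IsPullback.of_bot ?_ (by rw [hc, sqM.lift_fst]) sqM
    rw [← Functor.map_comp, hcb]
    exact sq
  haveI : IsPreimmersion (resIncl u).left := inferInstanceAs (IsPreimmersion (U.left.fromSpecResidueField u))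
  haveI : IsPreimmersion c.left := MorphismProperty.of_isPullback (isPullback_left sq2) inferInstance
  haveI := isOpenImmersion_of_isPreimmersion c.left
  rw [← hcb, Over.comp_left]
  infer_instance

/-- A map from a quotient is a monomorphism when it has the same kernel pair. -/
theorem mono_of_kernelPair {Q X : Sp S} {R W : Over S} {t s : R ⟶ W} {q : (yon S).obj W ⟶ Q}
    {p : (yon S).obj W ⟶ X} (hl : LocLift q)
    (sqQ : IsPullback ((yon S).map t) ((yon S).map s) q q)
    (sq : IsPullback ((yon S).map t) ((yon S).map s) p p) (i : Q ⟶ X) (hi : q ≫ i = p) : Mono i := by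
  refine ⟨fun {T} a b h => sp_hom_ext fun T' g => ?_⟩
  obtain ⟨W₁, c₁, l₁, hc₁, hl₁⟩ := hl T' (g ≫ a)
  obtain ⟨W₂, c₂, l₂, hc₂, hl₂⟩ := hl T' (g ≫ b)
  obtain ⟨V, e, x, y, he, hx, hy⟩ := exists_common_refinement hc₁ hc₂
  refine cover_hom_ext e he ?_
  have hab : ((yon S).map x ≫ l₁) ≫ p = ((yon S).map y ≫ l₂) ≫ p := by
    simp only [← hi, Category.assoc, reassoc_of% hl₁, reassoc_of% hl₂, h]
    rw [← Functor.map_comp_assoc, ← Functor.map_comp_assoc, hx, hy]
  have h1 : (yon S).map e ≫ g ≫ a = ((yon S).map x ≫ l₁) ≫ q := by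
    rw [Category.assoc, hl₁, ← Functor.map_comp_assoc, hx]
  have h2 : (yon S).map e ≫ g ≫ b = ((yon S).map y ≫ l₂) ≫ q := by
    rw [Category.assoc, hl₂, ← Functor.map_comp_assoc, hy]
  rw [h1, h2, ← sq.lift_fst _ _ hab, Category.assoc, sqQ.w, ← Category.assoc, sq.lift_snd]

/-- The residual space at a point: the image of a residue field point of an etale chart. -/
theorem exists_residual {X : Sp S} (hX : IsAlgSpace X) {U : Over S} {φ : (yon S).obj U ⟶ X}
    (hφ : RepWith @Etale φ) (u : ↥U.left) :
    ∃ (Q : Sp S) (i : Q ⟶ X) (q : (yon S).obj (resPt u) ⟶ Q),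
      IsAlgSpace Q ∧ Mono i ∧ LocLift q ∧ RepWith @Etale q ∧ RepWith @Surjective q ∧
        q ≫ i = (yon S).map (resIncl u) ≫ φ := by
  let p := (yon S).map (resIncl u) ≫ φ
  obtain ⟨R, t, s, sq⟩ := exists_isPullback_yon hX.diag p p
  have heq : IsEqvRel s t := isEqvRel_of_isPullback sq
  have hs : Etale s.left := etale_resPt_rel hX hφ u sq
  have ht : Etale t.left := etale_resPt_rel hX hφ u sq.flip
  obtain ⟨hQ, hqe, hqs⟩ := quotMap_atlas (s := s) (t := t) ⟨heq, hs, ht⟩
  have sqQ := quotMap_kernelPair heq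
  have hl := locLift_quotMap s t
  obtain ⟨i, hi⟩ := exists_desc hl p fun W l l' h => by
    rw [← sqQ.lift_fst _ _ h, Category.assoc, sq.w, ← Category.assoc, sqQ.lift_snd]
  refine ⟨_, i, quotMap s t, hQ, ?_, hl, hqe, hqs, hi⟩
  exact mono_of_kernelPair hl sqQ sq i hi

theorem subsingleton_resPt {U : Over S} (u : ↥U.left) : Subsingleton ↥(resPt u).left :=
  inferInstanceAs (Subsingleton ↥(Spec (U.left.residueField u)))

theorem resIncl_apply {U : Over S} (u : ↥U.left) (w : ↥(resPt u).left) : (resIncl u).left w = u :=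
  Scheme.fromSpecResidueField_apply u w

/-- The residual space has a single point, lying over the given one. -/
theorem range_residual {X Q : Sp S} {U : Over S} {φ : (yon S).obj U ⟶ X} (u : ↥U.left) {i : Q ⟶ X}
    {q : (yon S).obj (resPt u) ⟶ Q} (hqs : RepWith @Surjective q)
    (hi : q ≫ i = (yon S).map (resIncl u) ≫ φ) :
    Set.range (Points.map i) = {Points.ofPt φ u} := by
  have key : ∀ w, Points.map i (Points.ofPt q w) = Points.ofPt φ u := fun w => by
    rw [Points.map_ofPt, hi, ofPt_comp, resIncl_apply]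
  let w0 : ↥(resPt u).left := IsLocalRing.closedPoint (U.left.residueField u)
  ext x
  constructor
  · rintro ⟨z, rfl⟩
    obtain ⟨w, rfl⟩ := surjective_ofPt hqs z
    exact key w
  · rintro rfl
    exact ⟨_, key w0⟩

theorem residual_fppf {Q : Sp S} (hQ : IsAlgSpace Q) {U : Over S} (u : ↥U.left)
    {q : (yon S).obj (resPt u) ⟶ Q} (hqe : RepWith @Etale q) (hqs : RepWith @Surjective q) :
    ∃ (k : Type u) (_ : Field k) (str : Spec (CommRingCat.of k) ⟶ S) (p : (yon S).obj (Over.mk str) ⟶ Q),
      LocP @LocallyOfFinitePresentation p ∧ LocP @Flat p ∧ IsSurjectiveMor p :=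
  ⟨U.left.residueField u, inferInstance, U.left.fromSpecResidueField u ≫ U.hom, q,
    locP_of_repWith (IsAlgSpace.yon_obj _).diag hQ (repWith_mono (fun _ _ f (_ : Etale f) => inferInstance) hqe),
    locP_of_repWith (IsAlgSpace.yon_obj _).diag hQ (repWith_mono (fun _ _ f (_ : Etale f) => inferInstance) hqe),
    isSurjectiveMor_of_repWith hqs⟩

theorem exists_residualSpace {X : Sp S} (hX : IsAlgSpace X) (x : Points X) :
    ∃ (Q : Space S) (i : Q.obj ⟶ X), Mono i ∧ Set.range (Points.map i) = {x} ∧
      ∃ (k : Type u) (_ : Field k) (str : Spec (CommRingCat.of k) ⟶ S)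
        (p : (yon S).obj (Over.mk str) ⟶ Q.obj),
        LocP @LocallyOfFinitePresentation p ∧ LocP @Flat p ∧ IsSurjectiveMor p := by
  obtain ⟨U, φ, hφ, hs⟩ := hX.atlas
  obtain ⟨u, rfl⟩ := surjective_ofPt hs x
  obtain ⟨Q, i, q, hQ, hm, -, hqe, hqs, hi⟩ := exists_residual hX hφ u
  exact ⟨⟨Q, hQ⟩, i, hm, range_residual u hqs hi, residual_fppf hQ u hqe hqs⟩

theorem residual_unique {X Z Z' : Sp S} (hX : IsAlgSpace X) (hZ : IsAlgSpace Z) (hZ' : IsAlgSpace Z')
    (x : Points X) (i : Z ⟶ X) (i' : Z' ⟶ X) [Mono i] [Mono i']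
    (hi : Set.range (Points.map i) = {x}) (hi' : Set.range (Points.map i') = {x})
    (hk : ∃ (k : Type u) (_ : Field k) (str : Spec (CommRingCat.of k) ⟶ S) (p : (yon S).obj (Over.mk str) ⟶ Z),
      LocP @LocallyOfFinitePresentation p ∧ LocP @Flat p ∧ IsSurjectiveMor p)
    (hk' : ∃ (k : Type u) (_ : Field k) (str : Spec (CommRingCat.of k) ⟶ S) (p : (yon S).obj (Over.mk str) ⟶ Z'),
      LocP @LocallyOfFinitePresentation p ∧ LocP @Flat p ∧ IsSurjectiveMor p) :
    ∃ e : Z' ≅ Z, e.hom ≫ i = i' := by
  obtain ⟨k, _, str, p, h1, h2, h3⟩ := hk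
  obtain ⟨k', _, str', p', h1', h2', h3'⟩ := hk'
  let P := pullback i i'
  have hP : IsAlgSpace P := isAlgSpace_pullback i i' hZ hZ' hX
  let z : Points Z := Points.map p (Points.ofScheme (Over.mk str) (IsLocalRing.closedPoint k))
  let z' : Points Z' := Points.map p' (Points.ofScheme (Over.mk str') (IsLocalRing.closedPoint k'))
  have e : Points.map i z = Points.map i' z' :=
    ((hi ▸ Set.mem_range_self z : Points.map i z ∈ ({x} : Set _))).trans
      ((hi' ▸ Set.mem_range_self z' : Points.map i' z' ∈ ({x} : Set _))).symm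
  obtain ⟨y, -, -⟩ := exists_of_isPullback (IsPullback.of_hasPullback i i') z z' e
  haveI : Mono (pullback.fst i i') := inferInstance
  haveI : Mono (pullback.snd i i') := inferInstance
  haveI := isIso_of_mono_to_fppf_field hP hZ (pullback.fst i i') str p h1 h2 h3 y
  haveI := isIso_of_mono_to_fppf_field hP hZ' (pullback.snd i i') str' p' h1' h2' h3' y
  exact ⟨(asIso (pullback.snd i i')).symm ≪≫ asIso (pullback.fst i i'), by simp [pullback.condition]⟩

end Groth.Agent.SpFP87
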