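import Groth.Agent.SpFP87.FpqcSheaf
/-!
Algebraic spaces are sheaves for the fpqc topology.
-/

set_option autoImplicit false
set_option linter.style.haveILetI false
set_option backward.isDefEq.respectTransparency false
universe u
open CategoryTheory CategoryTheory.Limits AlgebraicGeometry Opposite
open AlgSp

namespace Groth.Agent.SpFP87

variable {S : Scheme.{u}}

/-- Flat families with finitely many affine members over every affine open are fpqc coverings. -/
theorem isFpqcCover_yon_of_affines {T : Over S} (n : T.left.affineOpens → ℕ)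
    (V : (Σ U : T.left.affineOpens, Fin (n U)) → Over S) (v : ∀ i, V i ⟶ T)
    (hV : ∀ i, IsAffine (V i).left) (hv : ∀ i, Flat (v i).left)
    (hrange : ∀ i, Set.range (v i).left ⊆ (i.1.1 : Set ↥T.left))
    (hcov : ∀ (U : T.left.affineOpens), ∀ t ∈ U.1, ∃ k : Fin (n U), t ∈ Set.range (v ⟨U, k⟩).left) :
    IsFpqcCover (fun i => (yon S).obj (V i)) (fun i => (yon S).map (v i)) := by
  classical
  refine ⟨fun i => locP_of_repWith (IsAlgSpace.yon_obj (V i)).diag (IsAlgSpace.yon_obj T)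
    ((repWith_yon_map_iff _ (v i)).2 (hv i)), fun Z hZ z => ?_⟩
  obtain ⟨z, rfl⟩ := (yon S).map_surjective z
  haveI := hZ
  have hloc : ∀ x : ↥Z.left, ∃ (W : Z.left.Opens) (U : T.left.affineOpens), IsAffineOpen W ∧ x ∈ W ∧
      Set.range (W.ι ≫ z.left) ⊆ (U.1 : Set ↥T.left) := by
    intro x
    obtain ⟨U, hU, hxU, -⟩ :=
      exists_isAffineOpen_mem_and_subset (U := (⊤ : T.left.Opens)) (x := z.left x) trivial
    obtain ⟨W, hW, hxW, hWle⟩ := exists_isAffineOpen_mem_and_subset (U := z.left ⁻¹ᵁ U) (x := x) hxU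
    refine ⟨W, ⟨U, hU⟩, hW, hxW, ?_⟩
    rintro _ ⟨⟨a, ha⟩, rfl⟩
    exact hWle ha
  choose W U hW hxW hrangeW using hloc
  obtain ⟨s, hs⟩ := isCompact_univ.elim_finite_subcover (fun x => (W x : Set ↥Z.left))
    (fun x => (W x).2) fun x _ => Set.mem_iUnion.2 ⟨x, hxW x⟩
  let K := Σ x : ↥s, Fin (n (U x.1))
  let ℓ : ∀ x : ↥s, (W x.1).toScheme ⟶ (U x.1).1.toScheme := fun x =>
    IsOpenImmersion.lift (U x.1).1.ι ((W x.1).ι ≫ z.left) (by
      rw [Scheme.Opens.range_ι]; exact hrangeW _)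
  let ν : ∀ k : K, (V ⟨U k.1.1, k.2⟩).left ⟶ (U k.1.1).1.toScheme := fun k =>
    IsOpenImmersion.lift (U k.1.1).1.ι (v ⟨U k.1.1, k.2⟩).left (by
      rw [Scheme.Opens.range_ι]; exact hrange _)
  have hℓ : ∀ x : ↥s, ℓ x ≫ (U x.1).1.ι = (W x.1).ι ≫ z.left := fun x => IsOpenImmersion.lift_fac _ _ _
  have hν : ∀ k : K, ν k ≫ (U k.1.1).1.ι = (v ⟨U k.1.1, k.2⟩).left := fun k =>
    IsOpenImmersion.lift_fac _ _ _
  let P : K → Scheme.{u} := fun k => pullback (ℓ k.1) (ν k)
  let d : ∀ k : K, P k ⟶ Z.left := fun k => pullback.fst (ℓ k.1) (ν k) ≫ (W k.1.1).ι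
  let PO : K → Over S := fun k => Over.mk (d k ≫ Z.hom)
  let dO : ∀ k : K, PO k ⟶ Z := fun k => Over.homMk (d k) rfl
  have hd : ∀ k, d k ≫ z.left = pullback.snd (ℓ k.1) (ν k) ≫ (v ⟨U k.1.1, k.2⟩).left := fun k => by
    rw [← hν k, ← pullback.condition_assoc, hℓ, Category.assoc]
  let e := (Fintype.equivFin K).symm
  refine ⟨Fintype.card K, fun j => PO (e j), fun j => dO (e j), fun j => ?_, fun j => ?_, fun x => ?_,
    fun j => ?_⟩
  · haveI : IsAffine (W (e j).1.1).toScheme := hW _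
    haveI : IsAffine (U (e j).1.1).1.toScheme := (U (e j).1.1).2
    haveI := hV ⟨U (e j).1.1, (e j).2⟩
    exact inferInstanceAs (IsAffine (pullback (ℓ (e j).1) (ν (e j))))
  · have hνf : Flat (ν (e j)) := by
      have hpb : IsPullback (𝟙 _) (ν (e j)) (v ⟨U (e j).1.1, (e j).2⟩).left (U (e j).1.1).1.ι :=
        IsPullback.of_isLimit' ⟨by rw [Category.id_comp, hν]⟩
          (PullbackCone.IsLimit.mk _ (fun c => c.fst) (fun c => Category.comp_id _)
            (fun c => by rw [← cancel_mono (U (e j).1.1).1.ι, Category.assoc, hν, c.condition])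
            (fun c m h1 _ => by simpa using h1))
      exact MorphismProperty.of_isPullback (P := @Flat) hpb (hv _)
    haveI := hνf
    exact inferInstanceAs (Flat (pullback.fst (ℓ (e j).1) (ν (e j)) ≫ (W (e j).1.1).ι))
  · obtain ⟨x₀, hx₀, hx⟩ := Set.mem_iUnion₂.1 (hs (Set.mem_univ x))
    let xs : ↥s := ⟨x₀, hx₀⟩
    have hzU : z.left x ∈ (U x₀).1 := hrangeW x₀ ⟨⟨x, hx⟩, rfl⟩
    obtain ⟨k, p, hp⟩ := hcov _ _ hzU
    let κ : K := ⟨xs, k⟩
    have heq : ℓ xs ⟨x, hx⟩ = ν κ p := by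
      apply (U x₀).1.ι.isOpenEmbedding.injective
      exact ((congr($(hℓ xs) ⟨x, hx⟩)).trans hp.symm).trans (congr($(hν κ) p)).symm
    obtain ⟨r, hr, -⟩ := Scheme.Pullback.exists_preimage_pullback (f := ℓ xs) (g := ν κ) ⟨x, hx⟩ p heq
    have key : ∀ (k' : K), k' = κ → x ∈ Set.range (dO k').left := by
      rintro _ rfl
      refine ⟨r, ?_⟩
      show (W x₀).ι (pullback.fst (ℓ xs) (ν κ) r) = x
      rw [hr]; rfl
    exact ⟨e.symm κ, key _ (e.apply_symm_apply κ)⟩
  · let q : PO (e j) ⟶ V ⟨U (e j).1.1, (e j).2⟩ := Over.homMk (pullback.snd (ℓ (e j).1) (ν (e j))) (by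
      show _ = d (e j) ≫ Z.hom
      rw [← Over.w (v ⟨U (e j).1.1, (e j).2⟩), ← Category.assoc, ← hd, Category.assoc, Over.w z])
    refine ⟨⟨U (e j).1.1, (e j).2⟩, (yon S).map q, ?_⟩
    rw [← Functor.map_comp, ← Functor.map_comp]
    exact congrArg (yon S).map (Over.OverMorphism.ext (hd (e j)).symm)

/-- A covering sieve for the fpqc topology contains an fpqc covering by affine schemes. -/
theorem exists_affines_of_mem_fpqc {T : Over S} {R : Sieve T} (hR : R ∈ (Scheme.fpqcTopology.over S) T) :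
    ∃ (n : T.left.affineOpens → ℕ) (V : (Σ U : T.left.affineOpens, Fin (n U)) → Over S) (v : ∀ i, V i ⟶ T),
      (∀ i, IsAffine (V i).left) ∧ (∀ i, Flat (v i).left) ∧
      (∀ i, Set.range (v i).left ⊆ (i.1.1 : Set ↥T.left)) ∧
      (∀ (U : T.left.affineOpens), ∀ t ∈ U.1, ∃ k : Fin (n U), t ∈ Set.range (v ⟨U, k⟩).left) ∧
      ∀ i, R (v i) := by
  have h : Sieve.overEquiv T R ∈ Scheme.fpqcTopology T.left := (GrothendieckTopology.mem_over_iff _ _).1 hR
  obtain ⟨Q, hQ, hQR⟩ :=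
    (Precoverage.mem_toGrothendieck_iff_of_isStableUnderComposition (J := Scheme.fpqcPrecoverage)).1 h
  obtain ⟨𝒰, rfl⟩ := Precoverage.mem_iff_exists_zeroHypercover.1 hQ
  have hqc : QuasiCompactCover 𝒰.toPreZeroHypercover :=
    Scheme.presieve₀_mem_qcPrecoverage_iff.1 𝒰.mem₀.1
  have hflat : ∀ i, Flat (𝒰.f i) := ((Scheme.presieve₀_mem_precoverage_iff _).1 𝒰.mem₀.2).2
  choose n a W hW heq using fun U : T.left.affineOpens =>
    QuasiCompactCover.exists_isAffineOpen_of_isCompact 𝒰.toPreZeroHypercover U.2.isCompact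
  refine ⟨n, fun i => Over.mk (((W i.1 i.2).ι ≫ 𝒰.f (a i.1 i.2)) ≫ T.hom),
    fun i => Over.homMk ((W i.1 i.2).ι ≫ 𝒰.f (a i.1 i.2)) rfl, fun i => hW i.1 i.2, fun i => ?_, fun i => ?_,
    fun U t ht => ?_, fun i => ?_⟩
  · haveI := hflat (a i.1 i.2)
    exact inferInstanceAs (Flat ((W i.1 i.2).ι ≫ 𝒰.f (a i.1 i.2)))
  · rintro _ ⟨⟨x, hx⟩, rfl⟩
    exact (heq i.1).le (Set.mem_iUnion.2 ⟨i.2, x, hx, rfl⟩)
  · obtain ⟨k, x, hx, hxt⟩ := Set.mem_iUnion.1 ((heq U).ge ht)
    exact ⟨k, ⟨x, hx⟩, hxt⟩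
  · exact (Sieve.overEquiv_iff R _).1
      ((Sieve.overEquiv T R).downward_closed (hQR _ _ (Presieve.ofArrows.mk (a i.1 i.2))) _)

/-- An algebraic space is a sheaf for the fpqc topology. -/
theorem isSheaf_fpqc {X : Sp S} (hX : IsAlgSpace X) :
    Presheaf.IsSheaf (Scheme.fpqcTopology.over S) X.obj := by
  rw [isSheaf_iff_isSheaf_of_type]
  intro T R hR x hx
  obtain ⟨n, V, v, hV, hv, hrange, hcov, hvR⟩ := exists_affines_of_mem_fpqc hR
  have hg := isFpqcCover_yon_of_affines n V v hV hv hrange hcov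
  let b : ∀ i, (yon S).obj (V i) ⟶ X := fun i => uE.symm (x (v i) (hvR i))
  have hext : ∀ {a a' : (yon S).obj T ⟶ X},
      (∀ i, (yon S).map (v i) ≫ a = (yon S).map (v i) ≫ a') → a = a' :=
    fun {a a'} h => hom_ext_of_fpqcCover hX hg h
  have hmap : ∀ {W W' : Over S} (k : W' ⟶ W) (f : W ⟶ T) (hf : R f),
      (yon S).map k ≫ uE.symm (x f hf) = uE.symm (x (k ≫ f) (R.downward_closed hf k)) := fun {W W'} k f hf => by
    refine (uE (S := S)).injective ?_
    rw [Equiv.apply_symm_apply, ← GrothendieckTopology.uliftYonedaEquiv_naturality,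
      Equiv.apply_symm_apply]
    have := hx k (𝟙 _) hf (R.downward_closed hf k) (Category.id_comp _).symm
    simpa using this
  have hxc : ∀ {W : Over S} (f f' : W ⟶ T) (e : f = f') (hf : R f) (hf' : R f'), x f hf = x f' hf' := by
    intro W f f' e hf hf'; subst e; rfl
  have hcomp : ∀ i j, pullback.fst ((yon S).map (v i)) ((yon S).map (v j)) ≫ b i =
      pullback.snd ((yon S).map (v i)) ((yon S).map (v j)) ≫ b j := fun i j => sp_hom_ext fun W l => by
    rw [← Category.assoc, ← Category.assoc]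
    obtain ⟨k₁, hk₁⟩ := (yon S).map_surjective (l ≫ pullback.fst _ _)
    obtain ⟨k₂, hk₂⟩ := (yon S).map_surjective (l ≫ pullback.snd _ _)
    have hk : k₁ ≫ v i = k₂ ≫ v j := (yon S).map_injective (by
      rw [Functor.map_comp, Functor.map_comp, hk₁, hk₂, Category.assoc, Category.assoc, pullback.condition])
    rw [← hk₁, ← hk₂]
    refine (hmap k₁ _ _).trans (Eq.trans ?_ (hmap k₂ _ _).symm)
    exact congrArg _ (hxc _ _ hk _ _)
  obtain ⟨t, ht⟩ := exists_desc_of_fpqcCover (bi := b) hcomp hX hg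
  refine ⟨uE t, fun W f hf => ?_, fun y hy => ?_⟩
  · refine (GrothendieckTopology.uliftYonedaEquiv_naturality _ _ _).trans ?_
    rw [← Equiv.eq_symm_apply]
    let V' : (Σ U : T.left.affineOpens, Fin (n U)) → Sp S := fun i => pullback ((yon S).map f) ((yon S).map (v i))
    have hg' : IsFpqcCover V' (fun i => pullback.fst ((yon S).map f) ((yon S).map (v i))) :=
      isFpqcCover_baseChange ((yon S).map f) _ _ V' _ (fun i => pullback.snd ((yon S).map f) ((yon S).map (v i)))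
        (fun i => IsPullback.of_hasPullback ((yon S).map f) ((yon S).map (v i))) (IsAlgSpace.yon_obj T) (IsAlgSpace.yon_obj W)
        (fun i => IsAlgSpace.yon_obj (V i)) hg
    refine hom_ext_of_fpqcCover hX hg' fun i => sp_hom_ext fun W' l => ?_
    rw [← Category.assoc, ← Category.assoc, ← Category.assoc, Category.assoc (l ≫ _)]
    obtain ⟨k₁, hk₁⟩ := (yon S).map_surjective (l ≫ pullback.fst ((yon S).map f) ((yon S).map (v i)))
    obtain ⟨k₂, hk₂⟩ := (yon S).map_surjective (l ≫ pullback.snd ((yon S).map f) ((yon S).map (v i)))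
    have hk : k₁ ≫ f = k₂ ≫ v i := (yon S).map_injective (by
      rw [Functor.map_comp, Functor.map_comp, hk₁, hk₂, Category.assoc, Category.assoc, pullback.condition])
    have e1 : (yon S).map k₁ ≫ (yon S).map f ≫ t = (yon S).map k₂ ≫ b i := by
      rw [← Functor.map_comp_assoc, hk, Functor.map_comp_assoc, ht i]
    rw [← hk₁]
    refine e1.trans ((hmap k₂ _ _).trans (Eq.trans ?_ (hmap k₁ f hf).symm))
    exact congrArg _ (hxc _ _ hk.symm _ _)
  · refine (Equiv.symm_apply_eq _).1 (hext fun i => ?_)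
    rw [ht i]
    refine (uE (S := S)).injective ?_
    rw [Equiv.apply_symm_apply, ← GrothendieckTopology.uliftYonedaEquiv_naturality, Equiv.apply_symm_apply]
    exact hy _ _

end Groth.Agent.SpFP87
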