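import Groth.Agent.SpFP87.RepSigma
import Groth.Agent.SpFP87.FpqcMono
import Groth.Agent.SpFP87.Covers
import Groth.Agent.SpFP87.EtaleMor
import Groth.Agent.Desc59.DDFppf
/-!
Representability descends along fpqc coverings for ind-quasi-affine morphisms.
-/

set_option autoImplicit false
set_option linter.style.haveILetI false
universe u
open CategoryTheory CategoryTheory.Limits AlgebraicGeometry Opposite
open AlgSp
open Groth.Agent.Desc59 (IsFpqcMor indQA IsQuot IsInvariant)

namespace Groth.Agent.SpFP87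

variable {S : Scheme.{u}}

theorem isFpqcMor_sigma {κ : Type u} (W : κ → Over S) {T : Over S} (c : sigmaOver W ⟶ T) [Flat c.left]
    [Surjective c.left]
    (hcov : ∀ U : T.left.Opens, IsAffineOpen U → ∃ (m : ℕ) (k : Fin m → κ),
      (∀ j, IsAffine (W (k j)).left) ∧
      (U : Set T.left) = ⋃ j, Set.range (sigmaIncl W (k j) ≫ c).left) :
    IsFpqcMor c.left := by
  refine ⟨?_, (Scheme.singleton_mem_precoverage_iff _ _).2 ⟨c.left.surjective, ‹_›⟩⟩
  have e : Presieve.singleton c.left = (PreZeroHypercover.singleton.{u} c.left).presieve₀ :=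
    (PreZeroHypercover.presieve₀_singleton _).symm
  rw [e, Scheme.presieve₀_mem_qcPrecoverage_iff]
  refine ⟨fun {U} hU => ?_⟩
  obtain ⟨m, k, hW, hUeq⟩ := hcov U hU
  let V : Fin m → (sigmaOver W).left.Opens := fun j =>
    (haveI := sigmaIncl_isOpenImmersion W (k j); (sigmaIncl W (k j)).left.opensRange)
  refine IsCompactOpenCovered.of_finite (κ := Fin m) (fun _ => PUnit.unit) V (fun j => ?_) ?_
  · haveI := hW j
    exact isCompact_range (sigmaIncl W (k j)).left.continuous
  · rw [hUeq]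
    refine Set.iUnion_congr fun j => ?_
    ext x
    constructor
    · rintro ⟨_, ⟨y, rfl⟩, rfl⟩
      exact ⟨y, rfl⟩
    · rintro ⟨y, rfl⟩
      exact ⟨_, ⟨y, rfl⟩, rfl⟩

/-- The affine schemes over the affine opens through which a covering lifts, as one fpqc morphism. -/
theorem exists_fpqc_lift {ι : Type u} {Y : Sp S} {Yi : ι → Sp S} {g : ∀ i, Yi i ⟶ Y}
    (hg : IsFpqcCover Yi g) (T : Over S) (t : (yon S).obj T ⟶ Y) :
    ∃ (κ : Type u) (W : κ → Over S) (c : sigmaOver W ⟶ T),
      Flat c.left ∧ Surjective c.left ∧ IsFpqcMor c.left ∧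
      ∀ k, IsAffine (W k).left ∧ ∃ (i : ι) (l : (yon S).obj (W k) ⟶ Yi i),
        l ≫ g i = (yon S).map (sigmaIncl W k) ≫ (yon S).map c ≫ t := by
  have h : ∀ U : T.left.affineOpens, ∃ (m : ℕ) (W : Fin m → Over S)
      (c : ∀ j, W j ⟶ (Over.mk (U.1.ι ≫ T.hom) : Over S)),
      (∀ j, IsAffine (W j).left) ∧ (∀ j, Flat (c j).left) ∧
      (∀ z : ↥U.1.toScheme, ∃ j, z ∈ Set.range (c j).left) ∧
      ∀ j, ∃ (i : ι) (l : (yon S).obj (W j) ⟶ Yi i),
        l ≫ g i = (yon S).map (c j) ≫ (yon S).map (Over.homMk U.1.ι rfl : (Over.mk (U.1.ι ≫ T.hom) : Over S) ⟶ T) ≫ t :=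
    fun U => hg.2 (Over.mk (U.1.ι ≫ T.hom)) U.2 _
  choose m W c hW hfl hsurj hlift using h
  let κ : Type u := Σ U : T.left.affineOpens, Fin (m U)
  let W' : κ → Over S := fun k => W k.1 k.2
  let d : ∀ k : κ, W' k ⟶ T := fun k => c k.1 k.2 ≫ Over.homMk k.1.1.ι rfl
  let e : sigmaOver W' ⟶ T := Over.homMk (Sigma.desc fun k => (d k).left) (by
    refine Sigma.hom_ext _ _ fun k => ?_
    exact ((Category.assoc _ _ _).symm.trans (congrArg (· ≫ T.hom) (Sigma.ι_desc (fun k => (d k).left) k))).trans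
      ((Over.w (d k)).trans (Sigma.ι_desc (fun k => (W' k).hom) k).symm))
  have he : ∀ k, sigmaIncl W' k ≫ e = d k := fun k =>
    Over.OverMorphism.ext (Sigma.ι_desc (fun k => (d k).left) k)
  haveI : ∀ k : κ, Flat (d k).left := fun k => by
    haveI := hfl k.1 k.2
    exact inferInstanceAs (Flat ((c k.1 k.2).left ≫ k.1.1.ι))
  haveI : IsZariskiLocalAtSource (@Flat : MorphismProperty Scheme.{u}) :=
    HasRingHomProperty.instIsZariskiLocalAtSource (Q := RingHom.Flat)
  haveI hef : Flat e.left := IsZariskiLocalAtSource.sigmaDesc (P := (@Flat : MorphismProperty Scheme.{u})) inferInstance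
  haveI hes : Surjective e.left := ⟨fun x => by
    obtain ⟨U, hU, hx, -⟩ := exists_isAffineOpen_mem_and_subset (U := (⊤ : T.left.Opens)) (x := x) trivial
    obtain ⟨j, y, hy⟩ := hsurj ⟨U, hU⟩ ⟨x, hx⟩
    refine ⟨(sigmaIncl W' ⟨⟨U, hU⟩, j⟩).left y, ?_⟩
    exact (congr($(congrArg CommaMorphism.left (he ⟨⟨U, hU⟩, j⟩)) y)).trans (congrArg U.ι hy)⟩
  refine ⟨κ, W', e, hef, hes, isFpqcMor_sigma W' e fun U hU => ?_, fun k => ?_⟩
  · refine ⟨m ⟨U, hU⟩, fun j => ⟨⟨U, hU⟩, j⟩, fun j => hW _ j, ?_⟩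
    ext x
    simp only [Set.mem_iUnion, he]
    constructor
    · intro hx
      obtain ⟨j, y, hy⟩ := hsurj ⟨U, hU⟩ ⟨x, hx⟩
      exact ⟨j, y, congrArg U.ι hy⟩
    · rintro ⟨j, y, rfl⟩
      exact ((c ⟨U, hU⟩ j).left y).2
  · obtain ⟨i, l, hl⟩ := hlift k.1 k.2
    refine ⟨hW k.1 k.2, i, l, ?_⟩
    rw [hl, ← Functor.map_comp_assoc, ← Functor.map_comp_assoc, he]

section Descent

variable {F : Sp S} {Z T A : Over S} {π : F ⟶ (yon S).obj T} {c : Z ⟶ T} {s : A ⟶ Z}
  {a : (yon S).obj A ⟶ F}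

theorem existsUnique_transport (sq : IsPullback a ((yon S).map s) π ((yon S).map c))
    {X : Scheme.{u}} (x₁ : X ⟶ Z.left) (v : X ⟶ A.left) (h : (v ≫ s.left) ≫ c.left = x₁ ≫ c.left) :
    ∃! v' : {v' : X ⟶ A.left // v' ≫ s.left = x₁},
      ∀ (σ : X ⟶ S) (e : v ≫ A.hom = σ) (e' : v'.1 ≫ A.hom = σ),
        (yon S).map (Over.homMk v'.1 e' : Over.mk σ ⟶ A) ≫ a = (yon S).map (Over.homMk v e : Over.mk σ ⟶ A) ≫ a := by
  let σ : X ⟶ S := v ≫ A.hom
  have e0 : x₁ ≫ Z.hom = σ := by
    rw [← Over.w c, ← Category.assoc, ← h, Category.assoc, Category.assoc, Over.w c, Over.w s]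
  let vO : Over.mk σ ⟶ A := Over.homMk v rfl
  let xO : Over.mk σ ⟶ Z := Over.homMk x₁ e0
  have hc : ((yon S).map vO ≫ a) ≫ π = (yon S).map xO ≫ (yon S).map c := by
    rw [Category.assoc, sq.w, ← Functor.map_comp, ← Functor.map_comp, ← Functor.map_comp]
    exact congrArg (yon S).map (Over.OverMorphism.ext ((Category.assoc _ _ _).symm.trans h))
  obtain ⟨w, hw⟩ := (yon S).map_surjective (sq.lift _ _ hc)
  have hws : w ≫ s = xO := (yon S).map_injective (by rw [Functor.map_comp, hw, sq.lift_snd])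
  refine ⟨⟨w.left, congrArg CommaMorphism.left hws⟩, fun σ' e e' => ?_, fun v' hv' => Subtype.ext ?_⟩
  · obtain rfl : σ' = σ := e.symm
    show (yon S).map w ≫ a = _
    rw [hw, sq.lift_fst]
  · have e' : v'.1 ≫ A.hom = σ := by rw [← Over.w s, ← Category.assoc, v'.2, e0]
    have h1 : (yon S).map (Over.homMk v'.1 e' : Over.mk σ ⟶ A) = (yon S).map w := by
      refine sq.hom_ext ?_ ?_
      · rw [hv' σ rfl e', hw, sq.lift_fst]
      · rw [← Functor.map_comp, ← Functor.map_comp, hws]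
        exact congrArg (yon S).map (Over.OverMorphism.ext v'.2)
    exact congrArg CommaMorphism.left ((yon S).map_injective h1)

set_option maxHeartbeats 1000000 in
theorem exists_descentDatum (sq : IsPullback a ((yon S).map s) π ((yon S).map c)) :
    ∃ D : Desc.SchDD c.left, ∃ i : D.obj ≅ Over.mk s.left,
      ∀ ⦃U : Over T.left⦄ (q : A.left ⟶ U.left), IsInvariant D (i.hom.left ≫ q) →
        ∀ ⦃X : Over S⦄ (u u' : X ⟶ A), (yon S).map u ≫ a = (yon S).map u' ≫ a → u.left ≫ q = u'.left ≫ q := by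
  have hsec : ∀ {X : Scheme.{u}} (x₀ x₁ : X ⟶ Z.left), x₀ ≫ c.left = x₁ ≫ c.left →
      ∀ v : Desc.Lifts (Over.mk s.left) x₀, (v.1 ≫ s.left) ≫ c.left = x₁ ≫ c.left := fun x₀ x₁ h v => by
    rw [show v.1 ≫ s.left = x₀ from v.2, h]
  choose tr htr hun using fun (X : Scheme.{u}) (x₁ : X ⟶ Z.left) (v : X ⟶ A.left)
    (h : (v ≫ s.left) ≫ c.left = x₁ ≫ c.left) => existsUnique_transport sq x₁ v h
  let D : Desc.SchDD c.left :=
    { obj := Over.mk s.left
      φ := fun X x₀ x₁ h =>
        { toFun := fun v => tr X x₁ v.1 (hsec x₀ x₁ h v)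
          invFun := fun v => tr X x₀ v.1 (hsec x₁ x₀ h.symm v)
          left_inv := fun v => (hun X x₀ _ _ v fun σ e e' => (htr X x₁ v.1 (hsec x₀ x₁ h v) σ e' e).symm).symm
          right_inv := fun v => (hun X x₁ _ _ v fun σ e e' => (htr X x₀ v.1 (hsec x₁ x₀ h.symm v) σ e' e).symm).symm }
      φ_natural := fun X X' g x₀ x₁ h h' v v' hv => by
        let r := tr X x₁ v.1 (hsec x₀ x₁ h v)
        refine (congrArg Subtype.val (hun X' (g ≫ x₁) v'.1 (hsec _ _ h' v')
          ⟨g ≫ r.1, (Category.assoc _ _ _).trans (congrArg (g ≫ ·) r.2)⟩ fun σ e e' => ?_)).symm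
        have e0 : v.1 ≫ A.hom = v.1 ≫ A.hom := rfl
        have e1 : r.1 ≫ A.hom = v.1 ≫ A.hom := by
          rw [← Over.w s, ← Category.assoc, ← Category.assoc, show r.1 ≫ s.left = x₁ from r.2,
            show v.1 ≫ s.left = x₀ from v.2, ← Over.w c, ← Category.assoc, ← Category.assoc, h]
        let gO : Over.mk σ ⟶ Over.mk (v.1 ≫ A.hom) := Over.homMk g (by
          show g ≫ v.1 ≫ A.hom = σ
          rw [← Category.assoc, ← hv]; exact e)
        have k1 : (Over.homMk (g ≫ r.1) e' : Over.mk σ ⟶ A) = gO ≫ Over.homMk r.1 e1 :=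
          Over.OverMorphism.ext rfl
        have k2 : (Over.homMk v'.1 e : Over.mk σ ⟶ A) = gO ≫ Over.homMk v.1 e0 :=
          Over.OverMorphism.ext hv
        show (yon S).map (Over.homMk (g ≫ r.1) e' : Over.mk σ ⟶ A) ≫ a = _
        rw [k1, k2, Functor.map_comp, Functor.map_comp, Category.assoc, Category.assoc,
          htr X x₁ v.1 (hsec x₀ x₁ h v) _ e0 e1]
      φ_self := fun X x v => (hun X x _ _ v fun σ e e' => rfl).symm
      φ_comp := fun X x₀ x₁ x₂ h₀₁ h₁₂ v => hun X x₂ v.1 _ _ fun σ e e' => by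
        have e1 : (tr X x₁ v.1 (hsec x₀ x₁ h₀₁ v)).1 ≫ A.hom = σ := by
          rw [← e, ← Over.w s, ← Category.assoc, ← Category.assoc,
            show (tr X x₁ v.1 _).1 ≫ s.left = x₁ from (tr X x₁ v.1 _).2,
            show v.1 ≫ s.left = x₀ from v.2, ← Over.w c, ← Category.assoc, ← Category.assoc, h₀₁]
        exact (htr X x₂ _ _ σ e1 e').trans (htr X x₁ v.1 _ σ e e1) }
  refine ⟨D, Iso.refl _, fun U q hq X u u' huu => ?_⟩
  have hq' : IsInvariant D q := by
    have := hq
    rwa [Iso.refl_hom, Over.id_left, Category.id_comp] at this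
  have hc : (u.left ≫ s.left) ≫ c.left = (u'.left ≫ s.left) ≫ c.left := by
    refine congrArg CommaMorphism.left (show (u ≫ s) ≫ c = (u' ≫ s) ≫ c from (yon S).map_injective ?_)
    simp only [Functor.map_comp, Category.assoc]
    rw [← sq.w, ← Category.assoc, huu, Category.assoc]
  have h1 : tr X.left (u'.left ≫ s.left) u.left hc = ⟨u'.left, rfl⟩ := (hun X.left _ u.left hc _ fun σ e e' => by
    obtain rfl : X.hom = σ := (Over.w u).symm.trans e
    exact huu.symm).symm
  have h2 : (D.φ (u.left ≫ s.left) (u'.left ≫ s.left) hc ⟨u.left, rfl⟩).1 ≫ q = u.left ≫ q :=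
    hq'.φ_comp _ _ _ _
  rw [← h2]
  exact congrArg (fun w => w.1 ≫ q) h1

/-- The sheaf is the descended scheme. -/
theorem exists_iso_yon_of_pullback (hF : IsAlgSpace F) (sq : IsPullback a ((yon S).map s) π ((yon S).map c))
    [Flat c.left] [Surjective c.left] [IsFpqcMor c.left] (hs : indQA s.left) :
    ∃ (B : Over S) (e : F ≅ (yon S).obj B) (b : B ⟶ T), e.hom ≫ (yon S).map b = π := by
  obtain ⟨D, i, hi⟩ := exists_descentDatum sq
  haveI : IsIso i.hom.left := ((Over.forget Z.left).mapIso i).isIso_hom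
  have hD : MoreMor.IsIndQuasiAffineHom D.obj.hom := by
    have hsq : IsPullback i.hom.left D.obj.hom s.left (𝟙 _) :=
      IsPullback.of_horiz_isIso ⟨(Over.w i.hom).trans (Category.comp_id _).symm⟩
    exact MorphismProperty.of_isPullback (P := indQA) hsq hs
  obtain ⟨U, π₀, hU⟩ := Groth.Agent.Desc59.exists_isQuot_iff.2
    (Groth.Agent.Desc59.effective_of_isIndQuasiAffineHom' c.left D hD)
  let B : Over S := Over.mk (U.hom ≫ T.hom)
  let b : B ⟶ T := Over.homMk U.hom rfl
  let q₀ : A.left ⟶ U.left := i.inv.left ≫ π₀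
  have hiq : i.hom.left ≫ q₀ = π₀ := by
    rw [← Category.assoc, ← Over.comp_left, i.hom_inv_id, Over.id_left, Category.id_comp]
  have hKEY := hi (U := U) q₀ (by rw [hiq]; exact hU.invariant)
  have hiso : IsIso i.inv.left := ((Over.forget Z.left).mapIso i.symm).isIso_hom
  have hsq₀ : IsPullback q₀ s.left U.hom c.left := by
    have h0 : IsPullback i.inv.left s.left D.obj.hom (𝟙 _) :=
      IsPullback.of_horiz_isIso ⟨(Over.w i.inv).trans (Category.comp_id _).symm⟩
    have := h0.paste_horiz hU.isPullback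
    rwa [Category.id_comp] at this
  let q : A ⟶ B := Over.homMk q₀ (by
    show q₀ ≫ U.hom ≫ T.hom = A.hom
    rw [← Category.assoc, hsq₀.w, Category.assoc, Over.w c, Over.w s])
  have hqb : q ≫ b = s ≫ c := Over.OverMorphism.ext hsq₀.w
  have hqpb : IsPullback q s b c := IsPullback.of_map (Over.forget S) hqb hsq₀
  -- points of `F` map to points of `B`
  have hpt : ∀ (X : Over S) (g : (yon S).obj X ⟶ F), ∃! w : X ⟶ B,
      ∀ (X' : Over S) (p : X' ⟶ X) (v : X' ⟶ A), (yon S).map v ≫ a = (yon S).map p ≫ g → v ≫ q = p ≫ w := by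
    intro X g
    obtain ⟨d, hd⟩ := (yon S).map_surjective (g ≫ π)
    let R := pullback d c
    let r : R ⟶ X := pullback.fst d c
    have hR : IsPullback r.left (pullback.snd d c).left d.left c.left :=
      (IsPullback.of_hasPullback d c).map (Over.forget S)
    have hcond : ((yon S).map r ≫ g) ≫ π = (yon S).map (pullback.snd d c) ≫ (yon S).map c := by
      rw [Category.assoc, ← hd, ← Functor.map_comp, ← Functor.map_comp]
      exact congrArg (yon S).map pullback.condition
    obtain ⟨v₀, hv₀⟩ := (yon S).map_surjective (sq.lift _ _ hcond)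
    haveI : Flat r.left := MorphismProperty.of_isPullback hR.flip ‹Flat c.left›
    haveI : Surjective r.left := MorphismProperty.of_isPullback hR.flip ‹Surjective c.left›
    haveI : IsFpqcMor r.left := IsFpqcMor.of_isPullback hR.flip
    haveI : Epi r.left := Flat.epi_of_flat_of_surjective r.left
    have hv₀a : (yon S).map v₀ ≫ a = (yon S).map r ≫ g := by rw [hv₀, sq.lift_fst]
    have hcompat : ∀ {X₀ : Scheme.{u}} (g₁ g₂ : X₀ ⟶ R.left), g₁ ≫ r.left = g₂ ≫ r.left →
        g₁ ≫ (v₀ ≫ q).left = g₂ ≫ (v₀ ≫ q).left := by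
      intro X₀ g₁ g₂ hg
      let X' : Over S := Over.mk (g₁ ≫ R.hom)
      let p₁ : X' ⟶ R := Over.homMk g₁ rfl
      let p₂ : X' ⟶ R := Over.homMk g₂ (by
        show g₂ ≫ R.hom = g₁ ≫ R.hom
        rw [← Over.w r, ← Category.assoc, ← hg, Category.assoc])
      have hp : p₁ ≫ r = p₂ ≫ r := Over.OverMorphism.ext hg
      have := hKEY (p₁ ≫ v₀) (p₂ ≫ v₀) (by
        rw [Functor.map_comp_assoc, Functor.map_comp_assoc, hv₀a, ← Functor.map_comp_assoc, hp,
          Functor.map_comp_assoc])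
      exact (Category.assoc _ _ _).symm.trans (this.trans (Category.assoc _ _ _))
    let w₀ : X.left ⟶ B.left := EffectiveEpi.desc r.left (v₀ ≫ q).left fun g₁ g₂ h => hcompat g₁ g₂ h
    have hw₀ : r.left ≫ w₀ = (v₀ ≫ q).left := EffectiveEpi.fac r.left _ _
    let w : X ⟶ B := Over.homMk w₀ ((cancel_epi r.left).1 (by
      rw [← Category.assoc, hw₀, Over.w (v₀ ≫ q), Over.w r]))
    have hrw : r ≫ w = v₀ ≫ q := Over.OverMorphism.ext hw₀
    refine ⟨w, fun X' p v hv => ?_, fun w' hw' => ?_⟩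
    · have hc' : p ≫ d = (v ≫ s) ≫ c := (yon S).map_injective (by
        simp only [Functor.map_comp, Category.assoc]
        rw [hd, ← Category.assoc, ← hv, Category.assoc, sq.w])
      let l : X' ⟶ R := pullback.lift p (v ≫ s) hc'
      have hl : l ≫ r = p := pullback.lift_fst _ _ _
      have hlv : (yon S).map (l ≫ v₀) ≫ a = (yon S).map v ≫ a := by
        rw [Functor.map_comp_assoc, hv₀a, ← Functor.map_comp_assoc, hl, hv]
      refine Over.OverMorphism.ext ((hKEY (l ≫ v₀) v hlv).symm.trans ?_)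
      exact congrArg CommaMorphism.left (show (l ≫ v₀) ≫ q = p ≫ w by
        rw [Category.assoc, ← hrw, ← Category.assoc, hl])
    · exact Over.OverMorphism.ext ((cancel_epi r.left).1
        (congrArg CommaMorphism.left ((hw' R r v₀ hv₀a).symm.trans hrw.symm)))
  choose w hw hwu using hpt
  have hnat : ∀ {X X' : Over S} (k : X' ⟶ X) (g : (yon S).obj X ⟶ F),
      w X' ((yon S).map k ≫ g) = k ≫ w X g := fun {X X'} k g =>
    (hwu X' _ _ fun X'' p v hv => by
      rw [← Category.assoc]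
      exact hw X g X'' (p ≫ k) v (by rw [hv, Functor.map_comp_assoc])).symm
  let ψ : F ⟶ (yon S).obj B := ⟨{
    app := fun X => ↾fun x => uE ((yon S).map (w X.unop (uE.symm x)))
    naturality := by
      rintro ⟨X⟩ ⟨X'⟩ k
      ext x
      change uE ((yon S).map (w X' (uE.symm (F.obj.map k x)))) =
        ((yon S).obj B).obj.map k (uE ((yon S).map (w X (uE.symm x))))
      rw [← k.op_unop, GrothendieckTopology.uliftYonedaEquiv_naturality,
        ← GrothendieckTopology.uliftYonedaEquiv_symm_naturality_left, hnat, Functor.map_comp] }⟩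
  have hψ : ∀ (X : Over S) (g : (yon S).obj X ⟶ F), g ≫ ψ = (yon S).map (w X g) := fun X g =>
    (uE (S := S)).injective (by
      rw [GrothendieckTopology.uliftYonedaEquiv_comp]
      change uE ((yon S).map (w X (uE.symm (uE g)))) = _
      rw [Equiv.symm_apply_apply])
  have hψb : ψ ≫ (yon S).map b = π := sp_hom_ext fun X g => by
    rw [← Category.assoc, hψ, ← Functor.map_comp]
    obtain ⟨d, hd⟩ := (yon S).map_surjective (g ≫ π)
    rw [← hd]
    refine congrArg (yon S).map ?_
    let R := pullback d c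
    let r : R ⟶ X := pullback.fst d c
    have hR : IsPullback r.left (pullback.snd d c).left d.left c.left :=
      (IsPullback.of_hasPullback d c).map (Over.forget S)
    haveI : Flat r.left := MorphismProperty.of_isPullback hR.flip ‹Flat c.left›
    haveI : Surjective r.left := MorphismProperty.of_isPullback hR.flip ‹Surjective c.left›
    haveI : Epi r.left := Flat.epi_of_flat_of_surjective r.left
    have hcond : ((yon S).map r ≫ g) ≫ π = (yon S).map (pullback.snd d c) ≫ (yon S).map c := by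
      rw [Category.assoc, ← hd, ← Functor.map_comp, ← Functor.map_comp]
      exact congrArg (yon S).map pullback.condition
    obtain ⟨v, hv⟩ := (yon S).map_surjective (sq.lift _ _ hcond)
    have hvs : v ≫ s = pullback.snd d c := (yon S).map_injective (by rw [Functor.map_comp, hv, sq.lift_snd])
    have h1 := hw X g R r v (by rw [hv, sq.lift_fst])
    refine Over.OverMorphism.ext ((cancel_epi r.left).1 (congrArg CommaMorphism.left (?_ : r ≫ w X g ≫ b = r ≫ d)))
    rw [← Category.assoc, ← h1, Category.assoc, hqb, ← Category.assoc, hvs, ← pullback.condition]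
  have hψa : a ≫ ψ = (yon S).map q := by
    rw [hψ]
    refine congrArg (yon S).map ?_
    have := hw A a A (𝟙 A) (𝟙 A) rfl
    simpa using this.symm
  have hsqψ : IsPullback a (𝟙 _) ψ ((yon S).map q) := by
    have h2 : IsPullback ((yon S).map q) ((yon S).map s) ((yon S).map b) ((yon S).map c) := hqpb.map (yon S)
    refine IsPullback.of_bot ?_ (by rw [Category.id_comp, hψa]) h2
    rw [hψb, Category.id_comp]
    exact sq
  have hcq : IsFpqcCover (fun _ : PUnit.{u + 1} => (yon S).obj A) (fun _ => (yon S).map q) := by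
    haveI : Flat q.left := MorphismProperty.of_isPullback hsq₀.flip ‹Flat c.left›
    haveI : IsFpqcMor q.left := IsFpqcMor.of_isPullback hsq₀.flip
    haveI : Surjective q.left := MorphismProperty.of_isPullback hsq₀.flip ‹Surjective c.left›
    refine ⟨fun _ => locP_of_repWith (IsAlgSpace.yon_obj A).diag (IsAlgSpace.yon_obj B)
      ((repWith_yon_map_iff _ q).2 ‹Flat q.left›), fun X hX z => ?_⟩
    obtain ⟨z, rfl⟩ := (yon S).map_surjective z
    haveI := hX
    let R := pullback z q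
    let r : R ⟶ X := pullback.fst z q
    have hR : IsPullback r.left (pullback.snd z q).left z.left q.left :=
      (IsPullback.of_hasPullback z q).map (Over.forget S)
    haveI : Flat r.left := MorphismProperty.of_isPullback hR.flip ‹Flat q.left›
    haveI : IsFpqcMor r.left := IsFpqcMor.of_isPullback hR.flip
    obtain ⟨X', g, hX', hg, hgs⟩ := IsFpqcMor.exists_affine_subcover r.left (isAffineOpen_top X.left)
    let W : Over S := Over.mk ((g ≫ (r.left ⁻¹ᵁ ⊤).ι) ≫ R.hom)
    let l : W ⟶ R := Over.homMk (g ≫ (r.left ⁻¹ᵁ ⊤).ι) rfl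
    haveI := hg
    refine ⟨1, fun _ => W, fun _ => l ≫ r, fun _ => hX',
      fun _ => inferInstanceAs (Flat ((g ≫ (r.left ⁻¹ᵁ ⊤).ι) ≫ r.left)), fun x => ⟨0, ?_⟩,
      fun _ => ⟨PUnit.unit, (yon S).map (l ≫ pullback.snd z q), ?_⟩⟩
    · obtain ⟨y, hy⟩ := (g ≫ r.left ∣_ ⊤).surjective ⟨x, trivial⟩
      refine ⟨y, ?_⟩
      have := congr(Subtype.val $hy)
      exact (congr($(morphismRestrict_ι r.left ⊤) (g y))).symm.trans this
    · rw [← Functor.map_comp, ← Functor.map_comp, Category.assoc, Category.assoc, ← pullback.condition]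
  have hiso : MorphismProperty.isomorphisms (Sp S) ψ :=
    (isLocalOnBase_fpqc_isomorphisms (fun _ : PUnit.{u + 1} => (yon S).obj A) (fun _ => (yon S).map q)
      (IsAlgSpace.yon_obj B) (fun _ => IsAlgSpace.yon_obj A) hcq ψ hF (fun _ => (yon S).obj A) (fun _ => 𝟙 _)
      (fun _ => a) (fun _ => IsAlgSpace.yon_obj A) (fun _ => hsqψ)).2
      fun _ => MorphismProperty.isomorphisms.infer_property _
  haveI : IsIso ψ := hiso
  exact ⟨B, asIso ψ, b, hψb⟩

end Descent

theorem representable_of_fpqc' {P : MorphismProperty Scheme.{u}} [IsZariskiLocalAtTarget P]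
    (hPqa : P ≤ indQA) {ι : Type u} {X Y : Sp S} {Yi Xi : ι → Sp S} {g : ∀ i, Yi i ⟶ Y} {f : X ⟶ Y}
    {p : ∀ i, Xi i ⟶ Yi i} {q : ∀ i, Xi i ⟶ X} (hX : IsAlgSpace X) (hY : IsAlgSpace Y)
    (hg : IsFpqcCover Yi g) (sq : ∀ i, IsPullback (q i) (p i) f (g i))
    (h : ∀ (i : ι) (Z : Over S), IsAffine Z.left → ∀ l : (yon S).obj Z ⟶ Yi i,
      ∃ (A : Over S) (a : (yon S).obj A ⟶ Xi i) (s : A ⟶ Z),
        IsPullback a ((yon S).map s) (p i) l ∧ P s.left) :
    Representable f := by
  intro T t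
  obtain ⟨κ, W, c, hc1, hc2, hc3, hlift⟩ := exists_fpqc_lift hg T t
  choose hW i l hl using hlift
  haveI := hc1; haveI := hc2; haveI := hc3
  let π := pullback.snd f t
  choose A₀ a₀ s₀ hsq₀ hPs₀ using fun k => h (i k) (W k) (hW k) (l k)
  have sqk : ∀ k, IsPullback (a₀ k ≫ q (i k)) ((yon S).map (s₀ k)) f
      ((yon S).map (sigmaIncl W k) ≫ (yon S).map c ≫ t) := fun k => by
    rw [← hl k]
    exact (hsq₀ k).paste_horiz (sq (i k))
  obtain ⟨A, b, s, sqA, hPs⟩ := exists_pullback_sigma f W ((yon S).map c ≫ t) _ _ _ sqk P hPs₀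
  have hcomm : b ≫ f = ((yon S).map s ≫ (yon S).map c) ≫ t := by rw [sqA.w, Category.assoc]
  have sqπ : IsPullback (pullback.lift b ((yon S).map s ≫ (yon S).map c) hcomm) ((yon S).map s) π ((yon S).map c) :=
    IsPullback.of_right (by rw [pullback.lift_fst]; exact sqA) (pullback.lift_snd _ _ _)
      (IsPullback.of_hasPullback f t)
  obtain ⟨B, e, b', he⟩ := exists_iso_yon_of_pullback (isAlgSpace_pullback f t hX (IsAlgSpace.yon_obj T) hY)
    sqπ (hPqa _ hPs)
  exact ⟨B, b', e.inv ≫ pullback.fst f t,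
    IsPullback.of_iso (IsPullback.of_hasPullback f t) e (Iso.refl _) (Iso.refl _) (Iso.refl _)
      (by simp) (by simp only [Iso.refl_hom, Category.comp_id]; exact he.symm) (by simp) (by simp)⟩

theorem representable_of_fpqc {P : MorphismProperty Scheme.{u}} [IsZariskiLocalAtTarget P]
    (hPqa : P ≤ indQA) {ι : Type u} {X Y : Sp S} {Yi Xi : ι → Sp S} {g : ∀ i, Yi i ⟶ Y} {f : X ⟶ Y}
    {p : ∀ i, Xi i ⟶ Yi i} {q : ∀ i, Xi i ⟶ X} (hX : IsAlgSpace X) (hY : IsAlgSpace Y)
    (hg : IsFpqcCover Yi g) (sq : ∀ i, IsPullback (q i) (p i) f (g i)) (h : ∀ i, RepWith P (p i)) :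
    Representable f :=
  representable_of_fpqc' hPqa hX hY hg sq fun i _ _ l =>
    ⟨_, _, _, (h i).rep.isPullback l, (h i).property_snd l⟩

/-- A morphism of algebraic spaces with represented pullbacks to affine schemes is representable. -/
theorem repWith_of_affine_test {P : MorphismProperty Scheme.{u}} [IsZariskiLocalAtTarget P]
    (hPqa : P ≤ indQA) {X Y : Sp S} {f : X ⟶ Y} (hX : IsAlgSpace X) (hY : IsAlgSpace Y)
    (h : ∀ (Z : Over S), IsAffine Z.left → ∀ l : (yon S).obj Z ⟶ Y,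
      ∃ (A : Over S) (a : (yon S).obj A ⟶ X) (s : A ⟶ Z),
        IsPullback a ((yon S).map s) f l ∧ P s.left) : RepWith P f := by
  have hid : IsFpqcCover (fun _ : PUnit.{u + 1} => Y) (fun _ => 𝟙 Y) :=
    ⟨fun _ => fun _ _ a b k ha hb w => by
      have hk : Etale k.left := (isEtaleMor_iff_locP (𝟙 Y) hY hY).1
        (fun U φ hφ => by rwa [Category.comp_id]) a b k ha hb w
      exact (inferInstance : Flat k.left),
    fun Z hZ z => ⟨1, fun _ => Z, fun _ => 𝟙 Z, fun _ => hZ, fun _ => inferInstanceAs (Flat (𝟙 Z.left)),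
      fun x => ⟨0, x, rfl⟩, fun _ => ⟨PUnit.unit, z, by simp⟩⟩⟩
  have hrep : Representable f :=
    representable_of_fpqc' hPqa (Xi := fun _ : PUnit.{u + 1} => X) (p := fun _ => f) (q := fun _ => 𝟙 X)
      hX hY hid (fun _ => IsPullback.of_horiz_isIso ⟨by simp⟩) (fun _ => h)
  refine ⟨hrep, fun T A t a s sqA => ?_⟩
  change P s.left
  rw [IsZariskiLocalAtTarget.iff_of_openCover (P := P) T.left.affineCover]
  intro k
  let Z : Over S := Over.mk (T.left.affineCover.f k ≫ T.hom)
  let z : Z ⟶ T := Over.homMk (T.left.affineCover.f k) rfl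
  obtain ⟨B, b, r, sqB, hr⟩ := h Z (inferInstanceAs (IsAffine (T.left.affineCover.X k))) ((yon S).map z ≫ t)
  have sq1 : IsPullback ((yon S).map (pullback.fst s z) ≫ a) ((yon S).map (pullback.snd s z)) f
      ((yon S).map z ≫ t) := ((IsPullback.of_hasPullback s z).map (yon S)).paste_horiz sqA
  obtain ⟨m, hm⟩ := (yon S).map_surjective (sq1.isoIsPullback _ _ sqB).hom
  haveI : IsIso ((yon S).map m) := by rw [hm]; infer_instance
  haveI : IsIso m := isIso_of_fully_faithful (yon S) m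
  have hms : m ≫ r = pullback.snd s z := (yon S).map_injective (by
    rw [Functor.map_comp, hm]; exact sq1.isoIsPullback_hom_snd _ _ sqB)
  have hpz : IsPullback (pullback.fst s z).left (pullback.snd s z).left s.left z.left :=
    (IsPullback.of_hasPullback s z).map (Over.forget S)
  change P (pullback.snd s.left z.left)
  rw [← hpz.isoPullback_inv_snd, P.cancel_left_of_respectsIso, ← hms, Over.comp_left]
  haveI : IsIso m.left := ((Over.forget S).mapIso (asIso m)).isIso_hom
  exact (P.cancel_left_of_respectsIso m.left r.left).2 hr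

end Groth.Agent.SpFP87
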