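import Groth.Agent.SpFP87.DecentDesc
import Mathlib.AlgebraicGeometry.Morphisms.Flat
/-!
Specializations in decent algebraic spaces.
-/

set_option autoImplicit false
set_option linter.style.haveILetI false
set_option backward.isDefEq.respectTransparency false
universe u
open CategoryTheory CategoryTheory.Limits AlgebraicGeometry Opposite Topology
open AlgSp
open Groth.Agent.SpPts86

namespace Groth.Agent.SpFP87

variable {S : Scheme.{u}} {X : Sp S}

/-- A generalization inside a fibre of an etale morphism is trivial. -/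
theorem eq_of_specializes_of_locallyQuasiFinite {A B : Scheme.{u}} (f : A ⟶ B) [LocallyQuasiFinite f] {a b : ↥A}
    (h : a ⤳ b) (e : f a = f b) : a = b := by
  haveI := (f.isDiscrete_preimage_singleton (f b)).to_subtype
  have h' : (⟨a, e⟩ : ↥(f ⁻¹' {f b})) ⤳ ⟨b, rfl⟩ := (subtype_specializes_iff _ _).2 h
  exact congrArg Subtype.val h'.eq

/-- An affine open chart cut out of a chart. -/
theorem exists_affine_subchart {U : Over S} {a : (yon S).obj U ⟶ X} (ha : RepWith @Etale a) (u : ↥U.left) :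
    ∃ (W : U.left.Opens) (_ : IsAffine (Over.mk (W.ι ≫ U.hom) : Over S).left), u ∈ W ∧
      RepWith @Etale ((yon S).map (Over.homMk W.ι rfl : Over.mk (W.ι ≫ U.hom) ⟶ U) ≫ a) := by
  obtain ⟨W, hW, huW, -⟩ := exists_isAffineOpen_mem_and_subset (U := (⊤ : U.left.Opens)) (x := u) trivial
  exact ⟨W, hW, huW, MorphismProperty.comp_mem (W := RepWith (@Etale : MorphismProperty Scheme.{u})) _ _
    ((repWith_yon_map_iff _ _).2 (inferInstanceAs (Etale W.ι))) ha⟩

/-- Distinct points of a finite fibre of a chart do not specialize to each other. -/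
theorem eq_of_specializes_of_finite (hX : IsAlgSpace X) {U : Over S} {φ : (yon S).obj U ⟶ X}
    (hφ : RepWith @Etale φ) {W : U.left.Opens} {x : Points X}
    (hfin : {u : ↥U.left | u ∈ W ∧ Points.ofPt φ u = x}.Finite) {a b : ↥U.left} (haW : a ∈ W) (hbW : b ∈ W)
    (h : a ⤳ b) (e : Points.ofPt φ a = Points.ofPt φ b) (hx : Points.ofPt φ b = x) : a = b := by
  by_contra hne
  have hW : RepWith @Etale ((yon S).map (Over.homMk W.ι rfl : Over.mk (W.ι ≫ U.hom) ⟶ U) ≫ φ) :=
    MorphismProperty.comp_mem (W := RepWith (@Etale : MorphismProperty Scheme.{u})) _ _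
      ((repWith_yon_map_iff _ _).2 (inferInstanceAs (Etale W.ι))) hφ
  let V : Over S := Over.mk (W.ι ≫ U.hom)
  let ψ : (yon S).obj V ⟶ X := (yon S).map (Over.homMk W.ι rfl : V ⟶ U) ≫ φ
  obtain ⟨R, t, s, _, _, sq, -, -, -⟩ := exists_common_chart hX hW hW
  haveI : LocallyQuasiFinite t.left := Groth.Agent.Unr55.locallyQuasiFinite_of_formallyUnramified _
  let F := {z : ↥V.left // Points.ofPt ψ z = Points.ofPt ψ (⟨b, hbW⟩ : W.toScheme)}
  haveI : Finite F := by
    haveI := hfin.to_subtype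
    refine Finite.of_injective (β := {u : ↥U.left | u ∈ W ∧ Points.ofPt φ u = x}) (fun z => ⟨z.1.1, z.1.2, ?_⟩)
      (fun z z' e => by simp only [Subtype.mk.injEq] at e; exact Subtype.ext (Subtype.ext e))
    have hz : Points.ofPt ((yon S).map (Over.homMk W.ι rfl : V ⟶ U) ≫ φ) z.1 =
        Points.ofPt ((yon S).map (Over.homMk W.ι rfl : V ⟶ U) ≫ φ) (⟨b, hbW⟩ : W.toScheme) := z.2
    exact ((ofPt_comp _ _ _).symm.trans (hz.trans (ofPt_comp _ _ _))).trans hx
  let r : F → F → Prop := fun c d => c.1 ⤳ d.1 ∧ c.1 ≠ d.1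
  haveI : IsTrans F r := ⟨fun c d e hcd hde => ⟨hcd.1.trans hde.1, fun hce =>
    hde.2 ((Specializes.antisymm hde.1 (hce ▸ hcd.1)).eq)⟩⟩
  haveI : Std.Irrefl r := ⟨fun c hc => hc.2 rfl⟩
  have hwf : WellFounded r := Finite.wellFounded_of_trans_of_irrefl r
  suffices ∀ c d : F, ¬ r c d by
    refine this ⟨(⟨a, haW⟩ : W.toScheme), ?_⟩ ⟨(⟨b, hbW⟩ : W.toScheme), rfl⟩
      ⟨(subtype_specializes_iff _ _).2 h, fun h' => hne (congrArg Subtype.val h')⟩
    show Points.ofPt ((yon S).map _ ≫ φ) _ = Points.ofPt ((yon S).map _ ≫ φ) _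
    rw [ofPt_comp, ofPt_comp]
    exact e
  intro c
  induction c using hwf.induction with
  | _ c ih =>
    intro d hcd
    obtain ⟨z, hzt, hzs⟩ := exists_pt_common_chart sq c.1 d.1 (c.2.trans d.2.symm)
    obtain ⟨z', hz', hz's⟩ := Flat.generalizingMap (f := s.left) (show c.1 ⤳ s.left z from hzs ▸ hcd.1)
    have hc' : Points.ofPt ψ (t.left z') = Points.ofPt ψ (⟨b, hbW⟩ : W.toScheme) := by
      rw [ofPt_eq_of_isPullback sq z', hz's]
      exact c.2
    refine ih ⟨t.left z', hc'⟩ ⟨hzt ▸ hz'.map t.left.continuous, fun e' => ?_⟩ c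
      ⟨hzt ▸ hz'.map t.left.continuous, fun e' => ?_⟩
    all_goals
      have := eq_of_specializes_of_locallyQuasiFinite t.left hz' (e'.trans hzt.symm)
      subst this
      exact hcd.2 (hz's.symm.trans hzs)

/-- In a decent space, distinct points of a chart in one fibre do not specialize to each other. -/
theorem eq_of_specializes_of_decent (hX : IsAlgSpace X) (hd : IsDecent X) {U : Over S} {φ : (yon S).obj U ⟶ X}
    (hφ : RepWith @Etale φ) {a b : ↥U.left} (h : a ⤳ b) (e : Points.ofPt φ a = Points.ofPt φ b) : a = b := by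
  obtain ⟨W, hWaff, hbW, hW⟩ := exists_affine_subchart hφ b
  haveI := hWaff
  refine eq_of_specializes_of_finite hX hφ (W := W) ?_ (h.mem_open W.isOpen hbW) hbW h e rfl
  refine ((finite_fibres_of_isDecent hX hd hW (Points.ofPt φ b)).1.image W.ι).subset fun u hu => ?_
  refine ⟨⟨u, hu.1⟩, ?_, rfl⟩
  show Points.ofPt ((yon S).map _ ≫ φ) _ = _
  rw [ofPt_comp]
  exact hu.2

/-- Generalizations lift along charts of decent spaces. -/
theorem exists_generalization_lift (hX : IsAlgSpace X) (hd : IsDecent X) {U : Over S} {φ : (yon S).obj U ⟶ X}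
    (hφ : RepWith @Etale φ) {x : Points X} {b : ↥U.left} (h : x ⤳ Points.ofPt φ b) :
    ∃ a : ↥U.left, a ⤳ b ∧ Points.ofPt φ a = x := by
  obtain ⟨W, hWaff, hbW, hW⟩ := exists_affine_subchart hφ b
  haveI := hWaff
  let V : Over S := Over.mk (W.ι ≫ U.hom)
  let ψ : (yon S).obj V ⟶ X := (yon S).map (Over.homMk W.ι rfl : V ⟶ U) ≫ φ
  have hF := (finite_fibres_of_isDecent hX hd hW x).1
  have hcl : (⟨b, hbW⟩ : W.toScheme) ∈ closure (Points.ofPt ψ ⁻¹' {x}) := by
    refine mem_closure_iff.2 fun O hO hbO => ?_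
    have hb : Points.ofPt φ b ∈ Points.ofPt ψ '' O := ⟨(⟨b, hbW⟩ : W.toScheme), hbO, by
      show Points.ofPt ((yon S).map _ ≫ φ) _ = _
      rw [ofPt_comp]; rfl⟩
    obtain ⟨z, hz, hzx⟩ := h.mem_open (isOpenMap_ofPt hW O hO) hb
    exact ⟨z, hz, hzx⟩
  obtain ⟨a, ha, hab⟩ : ∃ a ∈ Points.ofPt ψ ⁻¹' {x}, a ⤳ (⟨b, hbW⟩ : W.toScheme) := by
    rw [← Set.biUnion_of_singleton (Points.ofPt ψ ⁻¹' {x}), hF.closure_biUnion] at hcl
    obtain ⟨a, ha, hab⟩ := Set.mem_iUnion₂.1 hcl
    exact ⟨a, ha, specializes_iff_mem_closure.2 hab⟩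
  refine ⟨a.1, (subtype_specializes_iff _ _).1 hab, ?_⟩
  have : Points.ofPt ((yon S).map (Over.homMk W.ι rfl : V ⟶ U) ≫ φ) a = x := ha
  rwa [ofPt_comp] at this

theorem t0Space_points (hX : IsAlgSpace X) (hd : IsDecent X) : T0Space (Points X) := by
  refine ⟨fun x y h => ?_⟩
  obtain ⟨U, φ, hφ, hs⟩ := hX.atlas
  obtain ⟨b, rfl⟩ := surjective_ofPt hs y
  obtain ⟨a, hab, rfl⟩ := exists_generalization_lift hX hd hφ h.specializes
  obtain ⟨c, hca, hc⟩ := exists_generalization_lift hX hd hφ h.symm.specializes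
  obtain rfl := eq_of_specializes_of_decent hX hd hφ (hca.trans hab) hc
  rw [(Specializes.antisymm hab hca).eq]

end Groth.Agent.SpFP87
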