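import Groth.Agent.SpFP87.EffCartier
import Groth.Prelude.Def_AlgSpModX
/-!
Effective Cartier divisors and products of ideals.
-/

set_option autoImplicit false
set_option linter.style.haveILetI false
set_option backward.isDefEq.respectTransparency false
universe u
open CategoryTheory CategoryTheory.Limits AlgebraicGeometry Opposite
open AlgSp
open Groth.Agent.SpPts86

namespace Groth.Agent.SpFP87

variable {S : Scheme.{u}} {X : Sp S} {D D₁ D₂ : Sp S} {i : D ⟶ X} {i₁ : D₁ ⟶ X} {i₂ : D₂ ⟶ X}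

theorem idealOfRep_ideal (hi : RepWith @IsClosedImmersion i) (E : EtOver X) (hE : IsAffine E.obj.left.left) :
    (idealOfRep hi.1).ideal E hE =
      (idealOf hi E.obj.hom).ideal ⟨⊤, isAffineOpen_top E.obj.left.left⟩ := by
  haveI : IsClosedImmersion (hi.rep.snd E.obj.hom).left := hi.property_snd _
  rw [idealOf, Scheme.Hom.ker_apply]
  rfl

theorem idealOf_mul_of_cutOut {I₁ I₂ : IdealEt X} (h₁ : IsCutOutBy I₁ i₁) (h₂ : IsCutOutBy I₂ i₂)
    (h : IsCutOutBy (I₁ * I₂) i) {U : Over S} [IsAffine U.left] (a : (yon S).obj U ⟶ X)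
    (ha : RepWith @Etale a) :
    idealOf h.1 a = idealOf h₁.1 a * idealOf h₂.1 a := by
  let E : EtOver X := EtOver.mk a ha
  haveI hE : IsAffine E.obj.left.left := ‹IsAffine U.left›
  refine Scheme.IdealSheafData.ext_of_isAffine ?_
  rw [Scheme.IdealSheafData.ideal_mul, Pi.mul_apply]
  obtain ⟨hi, e⟩ := h
  obtain ⟨hi₁, e₁⟩ := h₁
  obtain ⟨hi₂, e₂⟩ := h₂
  have := congrArg (fun K : IdealEt X => K.ideal E hE) e
  subst e₁ e₂
  rw [IdealEt.mul_ideal, idealOfRep_ideal hi E hE, idealOfRep_ideal hi₁ E hE, idealOfRep_ideal hi₂ E hE] at this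
  exact this

/-- Cartier-ness may be tested on affine etale charts. -/
theorem isEffCartierSub_of_affine (hi : RepWith @IsClosedImmersion i) (hX : IsAlgSpace X)
    (h : ∀ {U : Over S} [IsAffine U.left] (a : (yon S).obj U ⟶ X), RepWith @Etale a → CartierOn hi a) :
    IsEffCartierSub i := by
  refine isEffCartierSub_of_forall hi hX fun {U} φ hφ => cartierOn_of_local hi hX φ hφ fun u => ?_
  obtain ⟨R, j, hR, hj, hu⟩ : ∃ (R : Scheme.{u}) (j : R ⟶ U.left), IsAffine R ∧ IsOpenImmersion j ∧ u ∈ Set.range j := by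
    obtain ⟨W, hW, hu, -⟩ := exists_isAffineOpen_mem_and_subset (U := (⊤ : U.left.Opens)) (x := u) trivial
    exact ⟨W.toScheme, W.ι, hW, inferInstance, ⟨u, hu⟩, rfl⟩
  obtain ⟨r, hr⟩ := hu
  let R' : Over S := Over.mk (j ≫ U.hom)
  let j' : R' ⟶ U := Over.homMk j rfl
  haveI : IsAffine R'.left := hR
  haveI : Etale j'.left := inferInstanceAs (Etale j)
  have ha : RepWith @Etale ((yon S).map j' ≫ φ) :=
      MorphismProperty.comp_mem (W := RepWith (@Etale : MorphismProperty Scheme.{u})) _ _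
        ((repWith_yon_map_iff _ _).2 inferInstance) hφ
  refine ⟨R', _, r, ha, ?_, h _ ha⟩
  rw [ofPt_comp]
  show Points.ofPt φ (j r) = _
  rw [hr]

theorem isEffCartierSub_mul (hX : IsAlgSpace X) {I₁ I₂ : IdealEt X} (h₁ : IsCutOutBy I₁ i₁)
    (h₂ : IsCutOutBy I₂ i₂) (h : IsCutOutBy (I₁ * I₂) i) (e₁ : IsEffCartierSub i₁) (e₂ : IsEffCartierSub i₂) :
    IsEffCartierSub i := by
  refine isEffCartierSub_of_affine h.1 hX fun {U} _ a ha => ?_
  show BlowUp.IsEffCartierIdeal _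
  rw [idealOf_mul_of_cutOut h₁ h₂ h a ha]
  exact Groth.Agent.Div89.isEffCartier_mul (cartierOn_of_isEffCartierSub _ hX e₁ a ha)
    (cartierOn_of_isEffCartierSub _ hX e₂ a ha)

theorem isEffCartierSub_factors (hX : IsAlgSpace X) {I₁ I₂ : IdealEt X} (h₁ : IsCutOutBy I₁ i₁)
    (h₂ : IsCutOutBy I₂ i₂) (h : IsCutOutBy (I₁ * I₂) i) (e : IsEffCartierSub i) :
    IsEffCartierSub i₁ ∧ IsEffCartierSub i₂ := by
  constructor
  · refine isEffCartierSub_of_affine h₁.1 hX fun {U} _ a ha => ?_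
    have hc : BlowUp.IsEffCartierIdeal (idealOf h.1 a) := cartierOn_of_isEffCartierSub h.1 hX e a ha
    rw [idealOf_mul_of_cutOut h₁ h₂ h a ha] at hc
    exact Groth.Agent.Div89.isEffCartier_left_of_mul (I := idealOf h₁.1 a) (J := idealOf h₂.1 a) hc
  · refine isEffCartierSub_of_affine h₂.1 hX fun {U} _ a ha => ?_
    have hc : BlowUp.IsEffCartierIdeal (idealOf h.1 a) := cartierOn_of_isEffCartierSub h.1 hX e a ha
    rw [idealOf_mul_of_cutOut h₁ h₂ h a ha] at hc
    exact Groth.Agent.Div89.isEffCartier_right_of_mul (I := idealOf h₁.1 a) (J := idealOf h₂.1 a) hc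

end Groth.Agent.SpFP87
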