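import Groth.Agent.SpFP87.UnivThick
import Mathlib.RingTheory.Flat.EquationalCriterion
/-!
First order thickenings of algebraic spaces are stable under arbitrary base change.
-/

set_option autoImplicit false
set_option linter.style.haveILetI false
universe u
open CategoryTheory CategoryTheory.Limits AlgebraicGeometry
open AlgSp

namespace Groth.Agent.SpFP87

variable {S : Scheme.{u}}

/-- The point of an affine scheme attached to a ring map out of its global sections. -/
noncomputable abbrev specPt (V : Over S) [IsAffine V.left] {C : Type u} [CommRing C]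
    (ψ : Γ(V.left, ⊤) →+* C) :
    (Over.mk ((Spec.map (CommRingCat.ofHom ψ) ≫ V.left.isoSpec.inv) ≫ V.hom) : Over S) ⟶ V :=
  Over.homMk (Spec.map (CommRingCat.ofHom ψ) ≫ V.left.isoSpec.inv) rfl

theorem isoSpec_inv_appTop' (X : Scheme.{u}) [IsAffine X] :
    X.isoSpec.inv.appTop = (Scheme.ΓSpecIso Γ(X, ⊤)).inv := by
  have h1 : X.isoSpec.hom.appTop = (Scheme.ΓSpecIso Γ(X, ⊤)).hom := Scheme.toSpecΓ_appTop X
  rw [← cancel_epi (Scheme.ΓSpecIso Γ(X, ⊤)).hom, Iso.hom_inv_id, ← h1, ← Scheme.Hom.comp_appTop,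
    Iso.inv_hom_id]
  rfl

theorem specPt_appTop (V : Over S) [IsAffine V.left] {C : Type u} [CommRing C]
    (ψ : Γ(V.left, ⊤) →+* C) :
    (specPt V ψ).left.appTop = CommRingCat.ofHom ψ ≫ (Scheme.ΓSpecIso (.of C)).inv := by
  change (Spec.map (CommRingCat.ofHom ψ) ≫ V.left.isoSpec.inv).appTop = _
  rw [Scheme.Hom.comp_appTop, isoSpec_inv_appTop', Scheme.ΓSpecIso_inv_naturality]
  rfl

theorem exists_factor_iff {V W : Over S} [IsAffine V.left] (i : W ⟶ V) [IsClosedImmersion i.left]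
    {C : Type u} [CommRing C] (ψ : Γ(V.left, ⊤) →+* C) :
    (∃ k, k ≫ i = specPt V ψ) ↔ RingHom.ker i.left.appTop.hom ≤ RingHom.ker ψ := by
  constructor
  · rintro ⟨k, hk⟩ x hx
    have h := congrArg (fun f : _ ⟶ V.left => f.appTop x) (congrArg CommaMorphism.left hk)
    simp only [Over.comp_left, Scheme.Hom.comp_appTop, specPt_appTop] at h
    have hx' : i.left.appTop x = 0 := hx
    rw [CommRingCat.comp_apply, CommRingCat.comp_apply, hx', map_zero] at h
    exact (ConcreteCategory.bijective_of_isIso (Scheme.ΓSpecIso (.of C)).inv).1 (h.symm.trans (map_zero _).symm)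
  · intro h
    have H : i.left.ker ≤ (specPt V ψ).left.ker := by
      haveI : QuasiCompact (specPt V ψ).left :=
        inferInstanceAs (QuasiCompact (Spec.map (CommRingCat.ofHom ψ) ≫ V.left.isoSpec.inv))
      refine Scheme.IdealSheafData.le_of_isAffine ?_
      rw [Scheme.Hom.ker_apply, Scheme.Hom.ker_apply]
      intro x hx
      have hx' : ψ x = 0 := h hx
      change (specPt V ψ).left.appTop x = 0
      rw [specPt_appTop, CommRingCat.comp_apply]
      change (Scheme.ΓSpecIso (.of C)).inv (ψ x) = 0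
      rw [hx', map_zero]
    refine ⟨Over.homMk (IsClosedImmersion.lift i.left (specPt V ψ).left H) ?_, ?_⟩
    · rw [← Over.w i, IsClosedImmersion.lift_fac_assoc]; rfl
    · ext : 1
      exact IsClosedImmersion.lift_fac _ _ H

theorem sqZero_iff_ker_appTop {V W : Scheme.{u}} [IsAffine V] (i : W ⟶ V) [QuasiCompact i] :
    sqZero i ↔ RingHom.ker i.appTop.hom * RingHom.ker i.appTop.hom = ⊥ := by
  constructor
  · intro hi
    have h1 := congrArg (fun J : V.IdealSheafData => J.ideal ⟨⊤, isAffineOpen_top _⟩) hi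
    simp [Scheme.IdealSheafData.ideal_mul, Scheme.Hom.ker_apply, Pi.mul_apply, Scheme.Hom.appTop] at h1 ⊢
    exact h1
  · intro h
    refine Scheme.IdealSheafData.ext_of_isAffine ?_
    simp [Scheme.IdealSheafData.ideal_mul, Scheme.Hom.ker_apply, Pi.mul_apply, Scheme.Hom.appTop] at h ⊢
    exact h

/-- An element killed by flat algebras meeting every prime vanishes. -/
theorem exists_notMem_mul_eq_zero {A C : Type u} [CommRing A] [CommRing C] (ψ : A →+* C) (hψ : ψ.Flat)
    (q : PrimeSpectrum C) {x : A} (hx : ψ x = 0) : ∃ s, ψ s ∉ q.asIdeal ∧ s * x = 0 := by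
  letI := ψ.toAlgebra
  haveI : Module.Flat A C := hψ
  obtain ⟨k, a, y, hy, ha⟩ := Module.Flat.isTrivialRelation_of_sum_smul_eq_zero (R := A) (M := C)
    (f := fun _ : Fin 1 => x) (x := fun _ => (1 : C)) (by
      simp [Algebra.smul_def, RingHom.algebraMap_toAlgebra, hx])
  by_contra hne
  push Not at hne
  refine q.isPrime.ne_top ((Ideal.eq_top_iff_one _).2 ?_)
  have h1 : (1 : C) = ∑ j, a 0 j • y j := hy 0
  rw [h1]
  refine Ideal.sum_mem _ fun j _ => ?_
  rw [Algebra.smul_def, RingHom.algebraMap_toAlgebra]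
  refine Ideal.mul_mem_right _ _ ?_
  by_contra hmem
  exact hne (a 0 j) hmem (by simpa [mul_comm] using ha j)

theorem factor_iff_of_isPullback {T T' : Sp S} {j : T ⟶ T'} {V W : Over S} [IsAffine V.left]
    {g : (yon S).obj V ⟶ T'} {t : (yon S).obj W ⟶ T} {i : W ⟶ V} [IsClosedImmersion i.left]
    (sq : IsPullback t ((yon S).map i) j g) {C : Type u} [CommRing C] (ψ : Γ(V.left, ⊤) →+* C) :
    (∃ m, m ≫ j = (yon S).map (specPt V ψ) ≫ g) ↔
      RingHom.ker i.left.appTop.hom ≤ RingHom.ker ψ := by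
  rw [← exists_factor_iff i ψ]
  constructor
  · rintro ⟨m, hm⟩
    obtain ⟨k, hk⟩ := (yon S).map_surjective (sq.lift m _ hm)
    exact ⟨k, (yon S).map_injective (by rw [Functor.map_comp, hk, sq.lift_snd])⟩
  · rintro ⟨k, hk⟩
    exact ⟨(yon S).map k ≫ t, (Category.assoc _ _ _).trans ((congrArg (_ ≫ ·) sq.w).trans
      ((Category.assoc _ _ _).symm.trans (congrArg (· ≫ g)
        (((yon S).map_comp _ _).symm.trans (congrArg (yon S).map hk)))))⟩

variable {T T' : Sp S} {j : T ⟶ T'}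

theorem sqZero_of_atlas (hj : RepWith thick j) {U : Over S} {b : (yon S).obj U ⟶ T'}
    (hb : RepWith @Etale b) (hbs : RepWith @Surjective b)
    (H : ∀ U₀ : U.left.Opens, IsAffineOpen U₀ → sqZero
      (hj.rep.snd ((yon S).map (Over.homMk U₀.ι rfl : Over.mk (U₀.ι ≫ U.hom) ⟶ U) ≫ b)).left)
    {V W : Over S} [IsAffine V.left] (g : (yon S).obj V ⟶ T') {t : (yon S).obj W ⟶ T} {i : W ⟶ V}
    (sq : IsPullback t ((yon S).map i) j g) : sqZero i.left := by
  haveI : IsClosedImmersion i.left := (hj.property g _ _ sq).1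
  rw [sqZero_iff_ker_appTop]
  set J := RingHom.ker i.left.appTop.hom
  rw [eq_bot_iff]
  intro x hx
  rw [Ideal.mem_bot]
  let c := hb.rep.snd g
  haveI : Etale c.left := hb.property_snd g
  haveI : Surjective c.left := hbs.property g _ _ (hb.rep.isPullback g)
  obtain ⟨r, hr⟩ : ∃ r : hb.rep.pullback g ⟶ U, (yon S).map r = hb.rep.fst g := (yon S).map_surjective _
  by_contra hx0
  obtain ⟨P, hP, hxP⟩ := Ideal.exists_le_maximal ((Submodule.span Γ(V.left, ⊤) {x}).annihilator) (by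
    intro htop
    apply hx0
    rw [Ideal.eq_top_iff_one, Submodule.mem_annihilator_span_singleton, one_smul] at htop
    exact htop)
  let p : PrimeSpectrum Γ(V.left, ⊤) := ⟨P, hP.isPrime⟩
  obtain ⟨z, hz⟩ := c.left.surjective (V.left.isoSpec.inv p)
  obtain ⟨U₀, hU₀, hzU, -⟩ := exists_isAffineOpen_mem_and_subset (U := (⊤ : U.left.Opens)) (x := r.left z) trivial
  obtain ⟨O, hO, hzO, hOU⟩ := exists_isAffineOpen_mem_and_subset (U := r.left ⁻¹ᵁ U₀) (x := z) hzU
  haveI : IsAffine U₀.toScheme := hU₀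
  let V₀ : Over S := Over.mk (U₀.ι ≫ U.hom)
  haveI : IsAffine V₀.left := hU₀
  let ι₀ : V₀ ⟶ U := Over.homMk U₀.ι rfl
  have hb₀ : RepWith @Etale ((yon S).map ι₀ ≫ b) := etale_openImm_comp hb U₀
  let i₀ := hj.rep.snd ((yon S).map ι₀ ≫ b)
  haveI : IsClosedImmersion i₀.left := (hj.property_snd ((yon S).map ι₀ ≫ b)).1
  have hi₀ := (sqZero_iff_ker_appTop i₀.left).1
    (H U₀ hU₀)
  obtain ⟨C, ⟨e⟩⟩ : ∃ C : CommRingCat.{u}, Nonempty (Spec C ≅ O.toScheme) := ⟨_, ⟨hO.isoSpec.symm⟩⟩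
  obtain ⟨ψ, hψ⟩ : ∃ ψ : Γ(V.left, ⊤) ⟶ C, Spec.map ψ = e.hom ≫ O.ι ≫ c.left ≫ V.left.isoSpec.hom :=
    ⟨Spec.preimage _, Spec.map_preimage _⟩
  obtain ⟨φ, hφ⟩ : ∃ φ : Γ(V₀.left, ⊤) ⟶ C,
      Spec.map φ = e.hom ≫ r.left.resLE U₀ O hOU ≫ V₀.left.isoSpec.hom :=
    ⟨Spec.preimage _, Spec.map_preimage _⟩
  haveI : Etale (e.hom ≫ O.ι ≫ c.left ≫ V.left.isoSpec.hom) := inferInstance
  have hflat : ψ.hom.Flat := (HasRingHomProperty.Spec_iff (P := @Flat.{u})).1 (hψ ▸ inferInstance)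
  -- both pulled back ideals agree in `C`
  have key : J.map ψ.hom ≤ (RingHom.ker i₀.left.appTop.hom).map φ.hom := by
    set K := (RingHom.ker i₀.left.appTop.hom).map φ.hom
    let π := Ideal.Quotient.mk K
    have h0 : RingHom.ker i₀.left.appTop.hom ≤ RingHom.ker (π.comp φ.hom) := fun y hy =>
      Ideal.Quotient.eq_zero_iff_mem.2 (Ideal.mem_map_of_mem _ hy)
    obtain ⟨m, hm⟩ := (factor_iff_of_isPullback (hj.rep.isPullback _) (π.comp φ.hom)).2 h0
    let q : Spec (.of (C ⧸ K)) ⟶ (hb.rep.pullback g).left :=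
      Spec.map (CommRingCat.ofHom π) ≫ e.hom ≫ O.ι
    have e1 : (specPt V₀ (π.comp φ.hom)).left ≫ U₀.ι = q ≫ r.left := by
      change (Spec.map (CommRingCat.ofHom (π.comp φ.hom)) ≫ V₀.left.isoSpec.inv) ≫ U₀.ι = _
      rw [show CommRingCat.ofHom (π.comp φ.hom) = φ ≫ CommRingCat.ofHom π from rfl, Spec.map_comp, hφ]
      simp only [Category.assoc, Iso.hom_inv_id_assoc]
      simp [q, V₀]
    have e2 : (specPt V (π.comp ψ.hom)).left = q ≫ c.left := by
      change Spec.map (CommRingCat.ofHom (π.comp ψ.hom)) ≫ V.left.isoSpec.inv = _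
      rw [show CommRingCat.ofHom (π.comp ψ.hom) = ψ ≫ CommRingCat.ofHom π from rfl, Spec.map_comp, hψ]
      simp [q]
    let qO : (Over.mk ((specPt V (π.comp ψ.hom)).left ≫ V.hom) : Over S) ⟶ hb.rep.pullback g :=
      Over.homMk q (by
        show q ≫ _ = (specPt V (π.comp ψ.hom)).left ≫ V.hom
        rw [e2]
        exact (congrArg (q ≫ ·) (Over.w c)).symm.trans (Category.assoc _ _ _).symm)
    have hstr : (specPt V₀ (π.comp φ.hom)).left ≫ V₀.hom = (specPt V (π.comp ψ.hom)).left ≫ V.hom := by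
      show _ ≫ U₀.ι ≫ U.hom = _
      rw [← Category.assoc, e1, e2, Category.assoc]
      exact (congrArg (q ≫ ·) ((Over.w r).trans (Over.w c).symm)).trans (Category.assoc _ _ _).symm
    let e' : (Over.mk ((specPt V (π.comp ψ.hom)).left ≫ V.hom) : Over S) ⟶
        Over.mk ((specPt V₀ (π.comp φ.hom)).left ≫ V₀.hom) :=
      Over.homMk (𝟙 _) ((Category.id_comp _).trans hstr)
    have he' : e' ≫ specPt V₀ (π.comp φ.hom) ≫ ι₀ = qO ≫ r := by
      ext : 1; exact (Category.id_comp _).trans e1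
    have hc' : qO ≫ c = specPt V (π.comp ψ.hom) := by ext : 1; exact e2.symm
    have hJ : J ≤ RingHom.ker (π.comp ψ.hom) := by
      refine (factor_iff_of_isPullback sq _).1 ⟨(yon S).map e' ≫ m, ?_⟩
      calc ((yon S).map e' ≫ m) ≫ j = (yon S).map e' ≫ m ≫ j := Category.assoc _ _ _
        _ = (yon S).map e' ≫ (yon S).map (specPt V₀ (π.comp φ.hom)) ≫ (yon S).map ι₀ ≫ b :=
          congrArg ((yon S).map e' ≫ ·) hm
        _ = (yon S).map (e' ≫ specPt V₀ (π.comp φ.hom) ≫ ι₀) ≫ b := by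
          simp only [Functor.map_comp, Category.assoc]
        _ = (yon S).map (qO ≫ r) ≫ b := congrArg (fun a => (yon S).map a ≫ b) he'
        _ = ((yon S).map qO ≫ (yon S).map r) ≫ b := congrArg (· ≫ b) ((yon S).map_comp _ _)
        _ = (yon S).map qO ≫ (yon S).map c ≫ g := (Category.assoc _ _ _).trans
          (congrArg ((yon S).map qO ≫ ·) ((congrArg (· ≫ b) hr).trans (hb.rep.isPullback g).w))
        _ = (yon S).map (qO ≫ c) ≫ g :=
          ((Category.assoc _ _ _).symm.trans (congrArg (· ≫ g) ((yon S).map_comp _ _).symm))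
        _ = _ := congrArg (fun a => (yon S).map a ≫ g) hc'
    exact Ideal.map_le_iff_le_comap.2 fun y hy => Ideal.mem_comap.2 (Ideal.Quotient.eq_zero_iff_mem.1 (show π (ψ.hom y) = 0 from hJ hy))
  have hψx : ψ.hom x = 0 := by
    have h1 : ψ.hom x ∈ (J * J).map ψ.hom := Ideal.mem_map_of_mem _ hx
    rw [Ideal.map_mul] at h1
    have h2 := Ideal.mul_mono key key h1
    rwa [← Ideal.map_mul, hi₀, Ideal.map_bot, Ideal.mem_bot] at h2
  obtain ⟨w, hw⟩ : ∃ w : Spec C, O.ι (e.hom w) = z := by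
    obtain ⟨w, hw⟩ := e.hom.surjective ⟨z, hzO⟩
    exact ⟨w, by rw [hw]; rfl⟩
  obtain ⟨s, hs1, hs2⟩ := exists_notMem_mul_eq_zero ψ.hom hflat w hψx
  have hwp : Spec.map ψ w = p := by
    rw [hψ]
    simp only [Scheme.Hom.comp_apply, hw, hz]
    exact congr($(V.left.isoSpec.inv_hom_id) p)
  refine hs1 ?_
  have hsP : s ∈ P := hxP ((Submodule.mem_annihilator_span_singleton _ _).2 hs2)
  rw [← show (Spec.map ψ w).asIdeal = P from congrArg PrimeSpectrum.asIdeal hwp] at hsP
  exact hsP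

theorem sqZero_of_isPullback (hj : IsFOThickMor j) (hT' : IsAlgSpace T') {V W : Over S} [IsAffine V.left]
    (g : (yon S).obj V ⟶ T') {t : (yon S).obj W ⟶ T} {i : W ⟶ V}
    (sq : IsPullback t ((yon S).map i) j g) : sqZero i.left := by
  obtain ⟨U, b, hb, hbs⟩ := hT'.atlas
  exact sqZero_of_atlas hj.1 hb hbs (fun U₀ hU₀ =>
    hj.2 _ _ _ hU₀ (etale_openImm_comp hb U₀) (hj.1.rep.isPullback _)) g sq

/-- A thickening of first order on the affine opens of one atlas is a first order thickening. -/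
theorem isFOThickMor_of_atlas (hj : RepWith thick j) {U : Over S} {b : (yon S).obj U ⟶ T'}
    (hb : RepWith @Etale b) (hbs : RepWith @Surjective b)
    (H : ∀ U₀ : U.left.Opens, IsAffineOpen U₀ → sqZero
      (hj.rep.snd ((yon S).map (Over.homMk U₀.ι rfl : Over.mk (U₀.ι ≫ U.hom) ⟶ U) ≫ b)).left) :
    IsFOThickMor j :=
  ⟨hj, fun V W c t x hV _ sq => by
    haveI := hV
    exact sqZero_of_atlas hj hb hbs H c sq⟩

/-- First order thickenings of algebraic spaces are stable under arbitrary base change. -/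
theorem isFOThickMor_baseChange {U U' : Sp S} {p : U ⟶ T} {i : U ⟶ U'} {p' : U' ⟶ T'}
    (sq : IsPullback p i j p') (hT' : IsAlgSpace T') (hj : IsFOThickMor j) : IsFOThickMor i := by
  refine ⟨(repWith_isStableUnderBaseChange thick).of_isPullback sq hj.1, fun V W b t x hV _ sq' => ?_⟩
  haveI := hV
  exact sqZero_of_isPullback hj hT' (b ≫ p') (sq'.paste_horiz sq)

end Groth.Agent.SpFP87
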