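import Groth.Agent.SpFP87.EtSpread
import Groth.Agent.SpFP87.FpqcMono
import Groth.Agent.SpFP87.LocalST
import Groth.Agent.SpPts86.Compact
import Groth.Agent.SpPts86.ImmDescent
import Groth.Agent.SpPts86.ZarGlue
/-!
A flat monomorphism of algebraic spaces is representable.
-/

set_option autoImplicit false
set_option linter.style.haveILetI false
set_option backward.isDefEq.respectTransparency false
universe u
open CategoryTheory CategoryTheory.Limits AlgebraicGeometry TensorProduct
open AlgSp
open Groth.Agent.SpPts86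

namespace Groth.Agent.SpFP87

variable {S : Scheme.{u}}

/-- The fibre product of affine schemes over `Over.mk q`, inside sheaves. -/
theorem isPullback_over_spec {A B C : Type u} [CommRing A] [CommRing B] [CommRing C] [Algebra A B]
    [Algebra A C] {qA : Spec (CommRingCat.of A) ⟶ S} {qB : Spec (CommRingCat.of B) ⟶ S}
    {qC : Spec (CommRingCat.of C) ⟶ S} (a : Over.mk qB ⟶ Over.mk qA) (b : Over.mk qC ⟶ Over.mk qA)
    (ha : a.left = Spec.map (CommRingCat.ofHom (algebraMap A B)))
    (hb : b.left = Spec.map (CommRingCat.ofHom (algebraMap A C))) :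
    ∃ (qR : Spec (CommRingCat.of (B ⊗[A] C)) ⟶ S) (p : Over.mk qR ⟶ Over.mk qB) (r : Over.mk qR ⟶ Over.mk qC),
      p.left = Spec.map (CommRingCat.ofHom (Algebra.TensorProduct.includeLeftRingHom : B →+* B ⊗[A] C)) ∧
      r.left = Spec.map (CommRingCat.ofHom
        (Algebra.TensorProduct.includeRight : C →ₐ[A] B ⊗[A] C).toRingHom) ∧
      IsPullback ((yon S).map p) ((yon S).map r) ((yon S).map a) ((yon S).map b) := by
  have sq := isPullback_SpecMap_of_isPushout _ _ _ _ (CommRingCat.isPushout_tensorProduct A B C)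
  let qR := Spec.map (CommRingCat.ofHom
    (Algebra.TensorProduct.includeLeftRingHom : B →+* B ⊗[A] C)) ≫ qB
  let p : Over.mk qR ⟶ Over.mk qB := Over.homMk (Spec.map (CommRingCat.ofHom
    (Algebra.TensorProduct.includeLeftRingHom : B →+* B ⊗[A] C))) rfl
  let r : Over.mk qR ⟶ Over.mk qC := Over.homMk (Spec.map (CommRingCat.ofHom
    (Algebra.TensorProduct.includeRight : C →ₐ[A] B ⊗[A] C).toRingHom)) (by
      have hU : a.left ≫ qA = qB := Over.w a
      have hV : b.left ≫ qA = qC := Over.w b
      show _ ≫ qC = _ ≫ qB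
      rw [← hU, ← hV, ha, hb, ← Category.assoc, ← Category.assoc, sq.w])
  refine ⟨qR, p, r, rfl, rfl, IsPullback.map (yon S) ?_⟩
  refine IsPullback.of_map (Over.forget S) (Over.OverMorphism.ext ?_) ?_
  · simpa [p, r, ha, hb] using sq.w
  · simpa [p, r, ha, hb] using sq

/-- A flat monomorphism to an affine scheme is Zariski locally on the source an affine scheme. -/
theorem exists_affine_nbhd_of_flat_mono {A : CommRingCat.{u}} (q : Spec A ⟶ S) {F : Sp S} (hF : IsAlgSpace F)
    (f : F ⟶ (yon S).obj (Over.mk q)) [Mono f] (hfl : LocP @Flat f) (x : Points F) :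
    ∃ (V : Over S) (j : (yon S).obj V ⟶ F), RepWith @IsOpenImmersion j ∧ x ∈ Set.range (Points.ofPt j) := by
  obtain ⟨U₀, p₀, hp₀, hp₀s⟩ := hF.atlas
  obtain ⟨t₀, rfl⟩ := surjective_ofPt hp₀s x
  obtain ⟨O, hO, htO, -⟩ := exists_isAffineOpen_mem_and_subset (x := t₀) (U := ⊤) trivial
  let Bc : CommRingCat.{u} := Γ(U₀.left, O)
  let U : Over S := Over.mk (hO.fromSpec ≫ U₀.hom)
  let ι₀ : U ⟶ U₀ := Over.homMk hO.fromSpec rfl
  haveI : Etale ι₀.left := inferInstanceAs (Etale hO.fromSpec)
  let a : (yon S).obj U ⟶ F := (yon S).map ι₀ ≫ p₀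
  have ha : RepWith @Etale a := by
    haveI := hp₀
    exact MorphismProperty.comp_mem (W := RepWith (@Etale : MorphismProperty Scheme.{u})) _ _
      ((repWith_yon_map_iff _ _).2 inferInstance) hp₀
  obtain ⟨u, hu⟩ : t₀ ∈ Set.range ι₀.left := by
    show t₀ ∈ Set.range hO.fromSpec
    rw [hO.range_fromSpec]; exact htO
  obtain ⟨s, hs⟩ := (yon S).map_surjective (a ≫ f)
  obtain ⟨φs, hφs⟩ := Spec.map_surjective (s.left : Spec Bc ⟶ Spec A)
  algebraize [φs.hom]
  have hsleft : s.left = Spec.map (CommRingCat.ofHom (algebraMap A Bc)) := hφs.symm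
  haveI : Module.Flat A Bc := by
    have h1 : Flat s.left := hfl a (𝟙 _) s ha (repWith_id _ _) (by rw [hs]; exact (Category.comp_id _).symm)
    rw [hsleft, HasRingHomProperty.Spec_iff (P := @Flat)] at h1
    exact RingHom.flat_algebraMap_iff.1 h1
  haveI : Algebra.Etale Bc (Bc ⊗[A] Bc) := by
    obtain ⟨qR, p, r, hp, -, sq⟩ := isPullback_over_spec (A := A) (B := Bc) (C := Bc) (qA := q)
      (qB := hO.fromSpec ≫ U₀.hom) (qC := hO.fromSpec ≫ U₀.hom) s s hsleft hsleft
    rw [hs] at sq
    have sqa : IsPullback ((yon S).map r) ((yon S).map p) a a :=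
      ⟨⟨(cancel_mono f).1 (by rw [Category.assoc, Category.assoc]; exact sq.flip.w)⟩, ⟨PullbackCone.IsLimit.mk _
        (fun c => sq.flip.lift c.fst c.snd (by rw [← Category.assoc, c.condition, Category.assoc]))
        (fun c => sq.flip.lift_fst _ _ _) (fun c => sq.flip.lift_snd _ _ _)
        (fun c m h1 h2 => sq.flip.hom_ext (h1.trans (sq.flip.lift_fst _ _ _).symm)
          (h2.trans (sq.flip.lift_snd _ _ _).symm))⟩⟩
    have h1 : Etale p.left := ha.property a _ _ sqa
    rw [hp] at h1
    have h2 : Etale (Spec.map (CommRingCat.ofHom (algebraMap Bc (Bc ⊗[A] Bc)))) := h1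
    rw [HasRingHomProperty.Spec_iff (P := @Etale)] at h2
    exact RingHom.etale_algebraMap.1 h2
  obtain ⟨g, C, D, _, _, _, _, _, _, φ, hgu, hloc, hC, hrange, hbij⟩ :=
    EtSpread.exists_etale_nbhd (A := A) (B := Bc) u.asIdeal
  haveI := hloc
  haveI := hC
  -- the schemes involved
  let Ag := Localization.Away g
  let DT : Over S := Over.mk (Spec.map (CommRingCat.ofHom (algebraMap A Ag)) ≫ q)
  let d : DT ⟶ Over.mk q := Over.homMk (Spec.map (CommRingCat.ofHom (algebraMap A Ag))) rfl
  haveI : IsOpenImmersion d.left := IsOpenImmersion.of_isLocalization g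
  haveI : Mono d.left := inferInstance
  haveI : Mono d := (Over.forget S).mono_of_mono_map (f := d) (inferInstanceAs (Mono d.left))
  let Z : Over S := Over.mk (Spec.map (CommRingCat.ofHom (algebraMap A C)) ≫ q)
  let zT : Z ⟶ Over.mk q := Over.homMk (Spec.map (CommRingCat.ofHom (algebraMap A C))) rfl
  let V : Over S := Over.mk (Spec.map (CommRingCat.ofHom (algebraMap A D)) ≫ q)
  let vT : V ⟶ Over.mk q := Over.homMk (Spec.map (CommRingCat.ofHom (algebraMap A D))) rfl
  let c : V ⟶ U := Over.homMk (Spec.map (CommRingCat.ofHom (algebraMap Bc D))) (by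
    have hw : s.left ≫ q = U.hom := Over.w s
    show Spec.map _ ≫ U.hom = Spec.map _ ≫ q
    rw [← hw, hsleft, ← Category.assoc, ← Spec.map_comp, ← CommRingCat.ofHom_comp,
      ← IsScalarTower.algebraMap_eq])
  haveI : IsOpenImmersion c.left := IsOpenImmersion.of_isLocalization (algebraMap A Bc g)
  have hcs : c ≫ s = vT := Over.OverMorphism.ext (by
    show Spec.map _ ≫ s.left = Spec.map _
    rw [hsleft, ← Spec.map_comp, ← CommRingCat.ofHom_comp, ← IsScalarTower.algebraMap_eq])
  have hφA : φ.toRingHom.comp (algebraMap A C) = algebraMap A D := RingHom.ext φ.commutes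
  let m : V ⟶ Z := Over.homMk (Spec.map (CommRingCat.ofHom φ.toRingHom)) (by
    show Spec.map _ ≫ Spec.map _ ≫ q = Spec.map _ ≫ q
    rw [← Category.assoc, ← Spec.map_comp, ← CommRingCat.ofHom_comp, hφA])
  have hmz : m ≫ zT = vT := Over.OverMorphism.ext (by
    show Spec.map _ ≫ Spec.map _ = Spec.map _
    rw [← Spec.map_comp, ← CommRingCat.ofHom_comp, hφA])
  have hdr : Set.range d.left = (PrimeSpectrum.basicOpen g : Set (PrimeSpectrum A)) :=
    PrimeSpectrum.localization_away_comap_range Ag g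
  have hzr : Set.range zT.left = (PrimeSpectrum.basicOpen g : Set (PrimeSpectrum A)) := hrange
  let zl : Z.left ⟶ DT.left := IsOpenImmersion.lift d.left zT.left (hzr.le.trans hdr.ge)
  have hzl : zl ≫ d.left = zT.left := IsOpenImmersion.lift_fac _ _ _
  let zD : Z ⟶ DT := Over.homMk zl (by
    show zl ≫ d.left ≫ q = _
    rw [← Category.assoc, hzl]
    rfl)
  have hzD : zD ≫ d = zT := Over.OverMorphism.ext hzl
  -- the open subspace of `F`
  let aV : (yon S).obj V ⟶ F := (yon S).map c ≫ a
  have haV : RepWith @Etale aV := by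
    haveI : Etale c.left := inferInstance
    exact MorphismProperty.comp_mem (W := RepWith (@Etale : MorphismProperty Scheme.{u})) _ _
      ((repWith_yon_map_iff _ _).2 inferInstance) ha
  have hWo : IsOpen (Set.range (Points.ofPt aV)) := (isOpenMap_ofPt haV).isOpen_range
  let W := restrictSheaf F (Set.range (Points.ofPt aV))
  let ι : W ⟶ F := restrictι F _
  have hW : IsAlgSpace W := isAlgSpace_restrictSheaf hF hWo
  obtain ⟨a', ha'⟩ := exists_restrict_lift (W := Set.range (Points.ofPt aV)) aV subset_rfl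
  change (yon S).obj V ⟶ W at a'
  change a' ≫ ι = aV at ha'
  haveI : Mono ι := mono_restrictι
  have sqa' : IsPullback (𝟙 _) a' aV ι := by
    refine ⟨⟨by rw [Category.id_comp, ha']⟩, ⟨PullbackCone.IsLimit.mk _ (fun c => c.fst)
      (fun c => Category.comp_id _) (fun c => ?_) (fun c m h1 _ => (Category.comp_id m).symm.trans h1)⟩⟩
    rw [← cancel_mono ι, Category.assoc, ha']
    exact c.condition
  have ha'e : RepWith @Etale a' := (repWith_isStableUnderBaseChange _).of_isPullback sqa' haV
  have ha's : RepWith @Surjective a' := repWith_surjective_of_surjective_ofPt ha'e.rep fun w => by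
    obtain ⟨v, hv⟩ : Points.map ι w ∈ Set.range (Points.ofPt aV) :=
      (range_map_restrictι hWo).le ⟨w, rfl⟩
    exact ⟨v, injective_map_of_mono ι (by rw [Points.map_ofPt, ha', hv])⟩
  have hl' : LocLift a' := locLift_of_atlas ha'e ha's
  have hd' : RepWith @IsOpenImmersion ((yon S).map d) := (repWith_yon_map_iff _ _).2 inferInstance
  haveI : Mono ((yon S).map d) := inferInstance
  have haVf : aV ≫ f = (yon S).map (m ≫ zD) ≫ (yon S).map d := by
    rw [Category.assoc, ← hs, ← Functor.map_comp, ← Functor.map_comp, hcs, Category.assoc, hzD, hmz]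
  obtain ⟨fD, hfD⟩ := exists_factor_of_range_subset hd' (ι ≫ f) (by
    rintro - ⟨w, rfl⟩
    obtain ⟨v, rfl⟩ := surjective_ofPt ha's w
    refine ⟨Points.ofPt ((yon S).map (m ≫ zD)) v, ?_⟩
    rw [Points.map_ofPt, Points.map_ofPt, ← Category.assoc, ha', haVf])
  have ha'D : a' ≫ fD = (yon S).map m ≫ (yon S).map zD := by
    rw [← cancel_mono ((yon S).map d), Category.assoc, hfD, ← Category.assoc, ha', haVf, Functor.map_comp]
  -- `V` is the fibre product
  obtain ⟨qR, p₁, p₂, hp₁, hp₂, sqD⟩ := isPullback_over_spec (A := A) (B := D) (C := D) (qA := q)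
    (qB := V.hom) (qC := V.hom) vT vT rfl rfl
  obtain ⟨qR', r₁, r₂, hr₁, hr₂, sqC⟩ := isPullback_over_spec (A := A) (B := D) (C := C) (qA := q)
    (qB := V.hom) (qC := Z.hom) vT zT rfl rfl
  let R : Over S := Over.mk qR
  let R' : Over S := Over.mk qR' 
  let k₀ := CommRingCat.ofHom (Algebra.TensorProduct.map (AlgHom.id A D) φ).toRingHom
  haveI : IsIso k₀ := (ConcreteCategory.isIso_iff_bijective _).2 hbij
  have hk1 : CommRingCat.ofHom (Algebra.TensorProduct.includeLeftRingHom : D →+* D ⊗[A] C) ≫ k₀ =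
      CommRingCat.ofHom (Algebra.TensorProduct.includeLeftRingHom : D →+* D ⊗[A] D) := by
    ext b; simp [k₀]
  have hk2 : CommRingCat.ofHom (Algebra.TensorProduct.includeRight : C →ₐ[A] D ⊗[A] C).toRingHom ≫ k₀ =
      CommRingCat.ofHom φ.toRingHom ≫
        CommRingCat.ofHom (Algebra.TensorProduct.includeRight : D →ₐ[A] D ⊗[A] D).toRingHom := by
    ext b; simp [k₀]
  let kl : R.left ⟶ R'.left := Spec.map k₀
  have hk1' : kl ≫ r₁.left = p₁.left := by
    rw [hp₁, hr₁]
    show Spec.map k₀ ≫ Spec.map _ = _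
    rw [← Spec.map_comp, hk1]
  have hk2' : kl ≫ r₂.left = p₂.left ≫ m.left := by
    rw [hp₂, hr₂]
    show Spec.map k₀ ≫ Spec.map _ = Spec.map _ ≫ Spec.map _
    rw [← Spec.map_comp, hk2, Spec.map_comp]
  let k : R ⟶ R' := Over.homMk kl (by rw [← Over.w r₁, ← Category.assoc, hk1', Over.w p₁])
  haveI : IsIso kl := inferInstance
  haveI : IsIso ((Over.forget S).map k) := inferInstanceAs (IsIso kl)
  haveI : IsIso k := isIso_of_reflects_iso k (Over.forget S)
  have hkr1 : (yon S).map k ≫ (yon S).map r₁ = (yon S).map p₁ := by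
    rw [← Functor.map_comp, show k ≫ r₁ = p₁ from Over.OverMorphism.ext hk1']
  have hkr2 : (yon S).map k ≫ (yon S).map r₂ = (yon S).map p₂ ≫ (yon S).map m := by
    rw [← Functor.map_comp, ← Functor.map_comp, show k ≫ r₂ = p₂ ≫ m from Over.OverMorphism.ext hk2']
  have hvf : ∀ {T' : Over S} (α : (yon S).obj T' ⟶ (yon S).obj V),
      α ≫ (yon S).map vT = (α ≫ a') ≫ ι ≫ f := fun α => by
    rw [Category.assoc, ← Category.assoc a', ha', haVf, ← Functor.map_comp, Category.assoc, hzD, hmz]
  let mt : (yon S).obj V ⟶ pullback fD ((yon S).map zD) := pullback.lift a' ((yon S).map m) ha'D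
  haveI : Mono mt := mono_of_probe fun T' α β hab => by
    have h1 : α ≫ a' = β ≫ a' := by
      simpa [mt, Category.assoc] using congrArg (· ≫ pullback.fst _ _) hab
    have h2 : α ≫ (yon S).map m = β ≫ (yon S).map m := by
      simpa [mt, Category.assoc] using congrArg (· ≫ pullback.snd _ _) hab
    have e : α ≫ (yon S).map vT = β ≫ (yon S).map vT := by rw [hvf, hvf, h1]
    have e2 : sqD.lift α β e = sqD.lift α α rfl := by
      rw [← cancel_mono ((yon S).map k)]
      refine sqC.hom_ext ?_ ?_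
      · simp only [Category.assoc, hkr1, sqD.lift_fst]
      · simp only [Category.assoc, hkr2]
        rw [← Category.assoc, ← Category.assoc, sqD.lift_snd, sqD.lift_snd, h2]
    simpa using (congrArg (· ≫ (yon S).map p₂) e2).symm
  haveI : IsIso mt := isIso_of_mono_of_locLift mt fun T' g₀ => by
    obtain ⟨W', c', l, hc', hl⟩ := hl' T' (g₀ ≫ pullback.fst _ _)
    have e : l ≫ (yon S).map vT = ((yon S).map c' ≫ g₀ ≫ pullback.snd _ _) ≫ (yon S).map zT := by
      rw [hvf, hl, ← hzD, Functor.map_comp]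
      simp only [Category.assoc]
      rw [← hfD, pullback.condition_assoc]
    let ρ : (yon S).obj W' ⟶ (yon S).obj R := sqC.lift l _ e ≫ inv ((yon S).map k)
    have h1 : ρ ≫ (yon S).map p₁ = l := by
      simp [ρ, ← hkr1]
    have h2 : (ρ ≫ (yon S).map p₂) ≫ (yon S).map m = (yon S).map c' ≫ g₀ ≫ pullback.snd _ _ := by
      rw [Category.assoc, ← hkr2]
      simp [ρ]
    have h3 : (ρ ≫ (yon S).map p₂) ≫ a' = l ≫ a' := by
      rw [← cancel_mono ι, ← cancel_mono f]
      simp only [Category.assoc]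
      have := congrArg (ρ ≫ ·) sqD.w
      simp only [← Category.assoc] at this
      rw [h1] at this
      have e1 := hvf (ρ ≫ (yon S).map p₂)
      have e2 := hvf l
      simp only [Category.assoc] at e1 e2 this ⊢
      rw [← e1, ← e2, this]
    refine ⟨W', c', ρ ≫ (yon S).map p₂, hc', pullback.hom_ext ?_ ?_⟩
    · simp only [mt, Category.assoc, pullback.lift_fst]
      rw [← Category.assoc, h3, hl]
    · simp only [mt, Category.assoc, pullback.lift_snd]
      rw [← Category.assoc, h2]
  have sqP : IsPullback a' ((yon S).map m) fD ((yon S).map zD) :=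
    (IsPullback.of_hasPullback fD ((yon S).map zD)).of_iso (asIso mt).symm (Iso.refl _) (Iso.refl _) (Iso.refl _)
      (by simp [mt]) (by simp [mt]) (by simp) (by simp)
  haveI : Etale zD.left := by
    have h1 : Etale (zD.left ≫ d.left) := by
      show Etale (zl ≫ d.left)
      rw [hzl]
      exact (HasRingHomProperty.Spec_iff (P := @Etale)).2 (RingHom.etale_algebraMap.2 inferInstance)
    exact Etale.of_comp _ d.left
  haveI : Surjective zD.left := ⟨fun y => by
    obtain ⟨z, hz⟩ : d.left y ∈ Set.range zT.left := by rw [hzr, ← hdr]; exact ⟨y, rfl⟩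
    refine ⟨z, d.left.isOpenEmbedding.injective ?_⟩
    rw [← hz, ← hzl]
    rfl⟩
  have hlz : LocLift ((yon S).map zD) :=
    locLift_of_atlas ((repWith_yon_map_iff _ zD).2 inferInstance) ((repWith_yon_map_iff _ zD).2 inferInstance)
  haveI : IsAffineHom m.left :=
    inferInstanceAs (IsAffineHom (Spec.map (CommRingCat.ofHom φ.toRingHom)))
  have hfDr : RepWith @IsAffineHom fD := repWith_isAffineHom_of_cover hlz sqP
  obtain ⟨V', s', l', sq'⟩ := hfDr.rep (𝟙 _)
  haveI : IsIso l' := sq'.isIso_fst_of_isIso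
  refine ⟨V', l' ≫ ι, MorphismProperty.comp_mem (W := RepWith (@IsOpenImmersion : MorphismProperty Scheme.{u})) _ _
    ?_ (repWith_restrictι hWo), ?_⟩
  · refine ⟨Functor.relativelyRepresentable.of_isIso (yon S) l', fun T' B' g' fst snd sq'' => ?_⟩
    haveI : IsIso ((yon S).map snd) := sq''.isIso_snd_of_isIso
    haveI : IsIso snd := isIso_of_fully_faithful (yon S) snd
    haveI : IsIso snd.left := inferInstanceAs (IsIso ((Over.forget S).map snd))
    change IsOpenImmersion snd.left
    infer_instance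
  · have hu' : u ∈ Set.range c.left :=
      (PrimeSpectrum.localization_away_comap_range D (algebraMap A Bc g)).ge hgu
    have hx : Points.ofPt p₀ t₀ ∈ Set.range (Points.ofPt aV) := by
      obtain ⟨v, hv⟩ := hu'
      exact ⟨v, by rw [ofPt_comp, hv, ofPt_comp, hu]⟩
    obtain ⟨w, hw⟩ := (range_map_restrictι hWo).ge hx
    obtain ⟨z, rfl⟩ := surjective_map_of_isIso l' w
    obtain ⟨v, rfl⟩ := (Points.schemeHomeo V').surjective z
    exact ⟨v, by rw [← hw, Points.ofPt_eq_map_ofScheme, Points.map_comp]; rfl⟩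

theorem representable_of_flat_mono {F G : Sp S} (f : F ⟶ G) [Mono f] (hF : IsAlgSpace F) (hG : IsAlgSpace G)
    (hfl : LocP @Flat f) : Representable f := by
  refine representable_of_affine fun T hT g => ?_
  haveI := hT
  let T' : Over S := Over.mk (T.left.isoSpec.inv ≫ T.hom)
  let e : T' ≅ T := Over.isoMk T.left.isoSpec.symm rfl
  let g' : (yon S).obj T' ⟶ G := (yon S).map e.hom ≫ g
  let P := pullback f g'
  have hP : IsAlgSpace P := isAlgSpace_pullback f g' hF (IsAlgSpace.yon_obj T') hG
  have sq := IsPullback.of_hasPullback f g'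
  haveI : Mono (pullback.snd f g') := inferInstance
  have hflP : LocP @Flat (pullback.snd f g') := locP_baseChange sq hF hG (IsAlgSpace.yon_obj T') hfl
  choose V j hj hx using exists_affine_nbhd_of_flat_mono (T.left.isoSpec.inv ≫ T.hom) hP (pullback.snd f g') hflP
  obtain ⟨U₁, p₁, -, hp₁⟩ := hP.atlas
  obtain ⟨U, ⟨i⟩⟩ := exists_iso_of_open_cover (ι := ↥U₁.left) (fun t => V (Points.ofPt p₁ t))
    (fun t => j (Points.ofPt p₁ t)) (fun t => hj _) fun x => by
      obtain ⟨t, rfl⟩ := surjective_ofPt hp₁ x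
      exact ⟨t, hx _⟩
  obtain ⟨s, hs⟩ := (yon S).map_surjective (i.hom ≫ pullback.snd f g' ≫ (yon S).map e.hom)
  refine ⟨U, s, i.hom ≫ pullback.fst f g', ?_⟩
  exact sq.of_iso i.symm (Iso.refl _) ((yon S).mapIso e) (Iso.refl _)
    (by simp) (by simp [hs]) (by simp) (by simp [g'])

end Groth.Agent.SpFP87
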