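import Groth.Agent.SpFP87.ThickSep
import Groth.Agent.SpFP87.FOBase
import Groth.Agent.SpFP87.LocPRep
import Groth.Agent.SpPts86.LqfSep
import Groth.Agent.SpPts86.PieceChart
import Groth.Agent.SpFP87.FlatMono
import Groth.Agent.SpPts86.Separation
import Groth.Agent.SpPts86.HasAtMorBC
import Groth.Agent.SpPts86.FiniteCrit
import Groth.Agent.S1305
import Groth.Agent.S1312
import Groth.Agent.S1313
import Groth.Agent.S1314
import Groth.Agent.S1316
/-!
Cartesian morphisms of thickenings of algebraic spaces.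
-/

set_option autoImplicit false
set_option linter.style.haveILetI false
set_option backward.isDefEq.respectTransparency false
universe u
open CategoryTheory CategoryTheory.Limits AlgebraicGeometry TensorProduct
open AlgSp
open Groth.Agent.SpPts86

namespace Groth.Agent.SpFP87

/-- Finite type lifts along nilpotent thickenings induced from the base. -/
theorem finiteType_of_nilpotent_baseChange {A B C : Type u} [CommRing A] [CommRing B] [CommRing C]
    [Algebra A B] [Algebra A C] [Algebra.FiniteType A C] (π : B →ₐ[A] C) (hπ : Function.Surjective π)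
    (hnil : IsNilpotent (RingHom.ker π.toRingHom)) (K : Ideal A)
    (hK : RingHom.ker π.toRingHom = K.map (algebraMap A B)) : Algebra.FiniteType A B := by
  classical
  obtain ⟨s, hs⟩ := Algebra.FiniteType.out (R := A) (A := C)
  choose b hb using fun c : C => hπ c
  let M : Subalgebra A B := Algebra.adjoin A (b '' (s : Set C))
  have hM : M.map π = ⊤ := by
    rw [AlgHom.map_adjoin, ← Set.image_comp, show (π : B → C) ∘ b = id from funext hb, Set.image_id, hs]
  have step : ∀ m x, ∃ y ∈ M, x - y ∈ (K.map (algebraMap A B)) ^ m := by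
    intro m
    induction m with
    | zero => exact fun x => ⟨0, zero_mem M, by simp⟩
    | succ m ih =>
      intro x
      obtain ⟨y, hy, hxy⟩ := ih x
      have key : ∀ z ∈ (K.map (algebraMap A B)) ^ m, ∃ w ∈ M, z - w ∈ (K.map (algebraMap A B)) ^ (m + 1) := by
        intro z hz
        rw [← Ideal.map_pow] at hz
        induction hz using Submodule.span_induction with
        | mem z hz =>
          obtain ⟨a, -, rfl⟩ := hz
          exact ⟨algebraMap A B a, Subalgebra.algebraMap_mem M a, by simp⟩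
        | zero => exact ⟨0, zero_mem M, by simp⟩
        | add x y _ _ hx hy =>
          obtain ⟨v, hv, hv'⟩ := hx
          obtain ⟨w, hw, hw'⟩ := hy
          exact ⟨v + w, add_mem hv hw, by rw [add_sub_add_comm]; exact add_mem hv' hw'⟩
        | smul r z hz hih =>
          obtain ⟨w, hw, hw'⟩ := hih
          obtain ⟨r₀, hr₀, hr⟩ : π r ∈ M.map π := hM ▸ trivial
          refine ⟨r₀ * w, mul_mem hr₀ hw, ?_⟩
          have h1 : r - r₀ ∈ K.map (algebraMap A B) := by
            rw [← hK, RingHom.mem_ker, map_sub, sub_eq_zero]; exact hr.symm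
          have h2 : (r - r₀) * z ∈ (K.map (algebraMap A B)) ^ (m + 1) := by
            rw [pow_succ']
            exact Ideal.mul_mem_mul h1 (by rw [← Ideal.map_pow]; exact hz)
          have e : r • z - r₀ * w = (r - r₀) * z + r₀ * (z - w) := by rw [smul_eq_mul]; ring
          rw [e]
          exact add_mem h2 (Ideal.mul_mem_left _ _ hw')
      obtain ⟨w, hw, hzw⟩ := key _ hxy
      exact ⟨y + w, add_mem hy hw, by rwa [← sub_sub]⟩
  obtain ⟨m, hm⟩ := hnil
  rw [hK] at hm
  refine ⟨s.image b, ?_⟩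
  rw [Finset.coe_image, eq_top_iff]
  rintro x -
  obtain ⟨y, hy, hxy⟩ := step m x
  rw [hm, Submodule.zero_eq_bot, Ideal.mem_bot, sub_eq_zero] at hxy
  exact hxy ▸ hy

theorem powZero_ker_appTop {V W : Scheme.{u}} [IsAffine V] (i : W ⟶ V) [QuasiCompact i] {n : ℕ}
    (h : powZero n i) : RingHom.ker i.appTop.hom ^ (n + 1) = ⊥ := by
  have h1 := congrArg (fun J : V.IdealSheafData => J.ideal ⟨⊤, isAffineOpen_top _⟩) h
  simpa [Scheme.IdealSheafData.ideal_pow, Scheme.Hom.ker_apply, Pi.pow_apply, Scheme.Hom.appTop] using h1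

theorem ker_le_of_powZero {A B : CommRingCat.{u}} (φ : A ⟶ B) [QuasiCompact (Spec.map φ)] {n : ℕ}
    (h : powZero n (Spec.map φ)) : IsNilpotent (RingHom.ker φ.hom) := by
  refine ⟨n + 1, ?_⟩
  have h1 := powZero_ker_appTop _ h
  let e := (Scheme.ΓSpecIso A).commRingCatIsoToRingEquiv
  have e1 : RingHom.ker φ.hom = (RingHom.ker (Spec.map φ).appTop.hom).map e.toRingHom := by
    ext a
    rw [show (RingHom.ker (Spec.map φ).appTop.hom).map e.toRingHom =
      (RingHom.ker (Spec.map φ).appTop.hom).comap e.symm.toRingHom from Ideal.map_comap_of_equiv e]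
    rw [Ideal.mem_comap, RingHom.mem_ker, RingHom.mem_ker]
    have := ConcreteCategory.congr_hom (Scheme.ΓSpecIso_inv_naturality φ) a
    constructor
    · intro ha
      refine this.symm.trans ?_
      show (Scheme.ΓSpecIso B).inv.hom (φ.hom a) = 0
      rw [ha, map_zero]
    · intro ha
      refine (ConcreteCategory.bijective_of_isIso (Scheme.ΓSpecIso B).inv).1 ((this.trans ha).trans ?_)
      exact (map_zero _).symm
  rw [e1, ← Ideal.map_pow, h1, Ideal.map_bot]
  rfl

variable {S : Scheme.{u}} {X X' Y Y' : Sp S} {i : X ⟶ X'} {j : Y ⟶ Y'} {f : X ⟶ Y} {f' : X' ⟶ Y'}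

/-- Charts of a cartesian morphism of thickenings. -/
theorem exists_cart_chart (hj : IsThickMor j) (hcart : IsPullback i f f' j) {U V : Over S}
    {a : (yon S).obj U ⟶ X'} {b : (yon S).obj V ⟶ Y'} {h : U ⟶ V} (ha : RepWith @Etale a)
    (hb : RepWith @Etale b) (w : a ≫ f' = (yon S).map h ≫ b) :
    ∃ (W V₀ : Over S) (iW : W ⟶ U) (g : W ⟶ V₀) (jV : V₀ ⟶ V) (a₀ : (yon S).obj W ⟶ X)
      (b₀ : (yon S).obj V₀ ⟶ Y), MoreMor.IsThickening jV.left ∧ IsPullback iW.left g.left h.left jV.left ∧
      IsPullback ((yon S).map iW) ((yon S).map g) ((yon S).map h) ((yon S).map jV) ∧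
      RepWith @Etale a₀ ∧ RepWith @Etale b₀ ∧ a₀ ≫ f = (yon S).map g ≫ b₀ ∧
      IsPullback a₀ ((yon S).map iW) i a := by
  let V₀ := hj.rep.pullback b
  let jV : V₀ ⟶ V := hj.rep.snd b
  let b₀ : (yon S).obj V₀ ⟶ Y := hj.rep.fst b
  have sqb : IsPullback b₀ ((yon S).map jV) j b := hj.rep.isPullback b
  obtain ⟨W, iW, g, sqW⟩ := exists_isPullback_yon (IsAlgSpace.yon_obj V).diag ((yon S).map h) ((yon S).map jV)
  have wW : ((yon S).map iW ≫ a) ≫ f' = ((yon S).map g ≫ b₀) ≫ j := by
    rw [Category.assoc, w, ← Category.assoc, sqW.w, Category.assoc, Category.assoc, sqb.w]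
  let a₀ : (yon S).obj W ⟶ X := hcart.lift ((yon S).map iW ≫ a) ((yon S).map g ≫ b₀) wW
  have sqa : IsPullback a₀ ((yon S).map iW) i a := by
    have big : IsPullback ((yon S).map g ≫ b₀) ((yon S).map iW) j (a ≫ f') := by
      rw [w]
      exact sqW.flip.paste_horiz sqb
    refine IsPullback.of_right (h₁₂ := f) (v₁₃ := j) (h₂₂ := f') ?_ (hcart.lift_fst _ _ _) hcart.flip
    rw [hcart.lift_snd]
    exact big
  exact ⟨W, V₀, iW, g, jV, a₀, b₀, hj.property_snd b, isPullback_left sqW, sqW,
    (repWith_isStableUnderBaseChange _).of_isPullback sqa.flip ha,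
    (repWith_isStableUnderBaseChange _).of_isPullback sqb.flip hb, hcart.lift_snd _ _ _, sqa⟩

theorem locP_of_cart (hj : IsThickMor j) (hcart : IsPullback i f f' j) (P : MorphismProperty Scheme.{u})
    (hP : ∀ {A A' B B' : Scheme.{u}} (iA : A ⟶ A') (iB : B ⟶ B') (g : A ⟶ B) (g' : A' ⟶ B'),
      MoreMor.IsThickening iB → IsPullback iA g g' iB → LocallyOfFiniteType g → LocallyOfFiniteType g' → P g → P g')
    (hft : LocP @LocallyOfFiniteType f) (hft' : LocP @LocallyOfFiniteType f') (hf : LocP P f) : LocP P f' := by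
  intro U V a b h ha hb w
  obtain ⟨W, V₀, iW, g, jV, a₀, b₀, hjV, sq, -, ha₀, hb₀, w₀, -⟩ := exists_cart_chart hj hcart ha hb w
  exact hP _ _ _ _ hjV sq (hft a₀ b₀ g ha₀ hb₀ w₀) (hft' a b h ha hb w) (hf a₀ b₀ g ha₀ hb₀ w₀)

theorem lqf_cart_iff (hX : IsAlgSpace X) (hX' : IsAlgSpace X') (hY : IsAlgSpace Y) (hY' : IsAlgSpace Y')
    (hj : IsThickMor j) (hcart : IsPullback i f f' j)
    (hft : LocP @LocallyOfFiniteType f) (hft' : LocP @LocallyOfFiniteType f') :
    (LocP (@LocallyQuasiFinite ⊓ @LocallyOfFiniteType) f ↔ LocP (@LocallyQuasiFinite ⊓ @LocallyOfFiniteType) f') ∧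
    (LocP (@LocallyOfFiniteType ⊓ @FormallyUnramified) f ↔ LocP (@LocallyOfFiniteType ⊓ @FormallyUnramified) f') := by
  refine ⟨⟨fun hf => locP_of_cart hj hcart _ ?_ hft hft' hf, fun hf => locP_baseChange hcart hX' hY' hY hf⟩,
    ⟨fun hf => locP_of_cart hj hcart _ ?_ hft hft' hf, fun hf => locP_baseChange hcart hX' hY' hY hf⟩⟩
  · intro A A' B B' iA iB g g' hB sq _ _ hg
    exact ⟨(Groth.Agent.S1312.result iA iB g g' hB sq).1 hg.1, inferInstance⟩
  · intro A A' B B' iA iB g g' hB sq _ _ hg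
    exact ⟨inferInstance, (Groth.Agent.S1314.result iA iB g g' hB sq).1 hg.2⟩

theorem lft_cart_iff (hX' : IsAlgSpace X') (hY : IsAlgSpace Y) (hY' : IsAlgSpace Y')
    (hj : IsThickMor j) (hcart : IsPullback i f f' j) (hfo : IsFinThickMor i) :
    LocP @LocallyOfFiniteType f ↔ LocP @LocallyOfFiniteType f' := by
  refine ⟨fun hf U V a b h ha hb w => ?_, fun hf => locP_baseChange hcart hX' hY' hY hf⟩
  refine ⟨fun {Vo} hVo {Uo} hUo e => ?_⟩
  let A : CommRingCat.{u} := Γ(V.left, Vo)
  let B : CommRingCat.{u} := Γ(U.left, Uo)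
  let φ : A ⟶ B := h.left.appLE Vo Uo e
  let Va : Over S := Over.mk (hVo.fromSpec ≫ V.hom)
  let Ua : Over S := Over.mk (hUo.fromSpec ≫ U.hom)
  let ha' : Ua ⟶ Va := Over.homMk (Spec.map φ) (by
    show Spec.map φ ≫ hVo.fromSpec ≫ V.hom = hUo.fromSpec ≫ U.hom
    rw [← Over.w h, ← Category.assoc, hVo.SpecMap_appLE_fromSpec h.left hUo e, Category.assoc])
  let ιU : Ua ⟶ U := Over.homMk hUo.fromSpec rfl
  let ιV : Va ⟶ V := Over.homMk hVo.fromSpec rfl
  haveI : Etale ιU.left := inferInstanceAs (Etale hUo.fromSpec)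
  haveI : Etale ιV.left := inferInstanceAs (Etale hVo.fromSpec)
  have hsq : ha' ≫ ιV = ιU ≫ h := Over.OverMorphism.ext (hVo.SpecMap_appLE_fromSpec h.left hUo e)
  have wa : ((yon S).map ιU ≫ a) ≫ f' = (yon S).map ha' ≫ (yon S).map ιV ≫ b := by
    rw [Category.assoc, w, ← Functor.map_comp_assoc, ← hsq, Functor.map_comp_assoc]
  obtain ⟨W, V₀, iW, g, jV, a₀, b₀, hjV, sq, sqW, ha₀, hb₀, w₀, sqi⟩ :=
    exists_cart_chart hj hcart (repWith_etale_comp ιU ha) (repWith_etale_comp ιV hb) wa
  haveI : IsClosedImmersion jV.left := hjV.1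
  haveI : IsAffine Va.left := inferInstanceAs (IsAffine (Spec A))
  haveI : IsAffine V₀.left := (IsClosedImmersion.isAffine_surjective_of_isAffine jV.left).1
  let Q : CommRingCat.{u} := Γ(V₀.left, ⊤)
  obtain ⟨φQ, hQ⟩ := Spec.map_surjective (V₀.left.isoSpec.inv ≫ jV.left : Spec Q ⟶ Spec A)
  haveI : IsClosedImmersion (Spec.map φQ) := by rw [hQ]; infer_instance
  have hQs : Function.Surjective φQ.hom := by
    have h := (IsClosedImmersion.isAffine_surjective_of_isAffine (Spec.map φQ)).2
    intro c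
    obtain ⟨a', ha''⟩ := h ((Scheme.ΓSpecIso Q).inv.hom c)
    obtain ⟨a', rfl⟩ := (ConcreteCategory.bijective_of_isIso (Scheme.ΓSpecIso A).inv).2 a'
    exact ⟨a', (ConcreteCategory.bijective_of_isIso (Scheme.ΓSpecIso Q).inv).1
      ((ConcreteCategory.congr_hom (Scheme.ΓSpecIso_inv_naturality φQ) a').trans ha'')⟩
  algebraize [φ.hom, φQ.hom]
  let Vm : Over S := Over.mk (V₀.left.isoSpec.inv ≫ V₀.hom)
  let eV : Vm ≅ V₀ := Over.isoMk V₀.left.isoSpec.symm rfl
  let jm : Vm ⟶ Va := Over.homMk (Spec.map φQ) (by rw [hQ, Category.assoc, Over.w jV]; rfl)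
  have hjm : eV.hom ≫ jV = jm := Over.OverMorphism.ext hQ.symm
  obtain ⟨qR, p, r, hp, hr, sqR⟩ := isPullback_over_spec (A := A) (B := B) (C := Q) (qA := Va.hom)
    (qB := Ua.hom) (qC := Vm.hom) ha' jm rfl rfl
  let eW : Over.mk qR ⟶ W := (yon S).preimage (sqW.lift ((yon S).map p) ((yon S).map (r ≫ eV.hom))
    (by rw [sqR.w, ← Functor.map_comp, ← Functor.map_comp, Category.assoc, hjm]))
  have he₁ : eW ≫ iW = p := (yon S).map_injective (by
    rw [Functor.map_comp, Functor.map_preimage, sqW.lift_fst])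
  have he₂ : eW ≫ g = r ≫ eV.hom := (yon S).map_injective (by
    rw [Functor.map_comp, Functor.map_preimage, sqW.lift_snd])
  have sqR' : IsPullback ((yon S).map p) ((yon S).map (r ≫ eV.hom)) ((yon S).map ha') ((yon S).map jV) := by
    refine sqR.of_iso (Iso.refl _) (Iso.refl _) ((yon S).mapIso eV) (Iso.refl _) ?_ ?_ ?_ ?_
    all_goals simp [← Functor.map_comp, hjm]
  haveI : IsIso ((yon S).map eW) := by
    have : (yon S).map eW = (sqR'.isoIsPullback _ _ sqW).hom := by
      refine sqW.hom_ext ?_ ?_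
      · rw [← Functor.map_comp, he₁]; exact (IsPullback.isoIsPullback_hom_fst _ _ sqR' sqW).symm
      · rw [← Functor.map_comp, he₂]; exact (IsPullback.isoIsPullback_hom_snd _ _ sqR' sqW).symm
    rw [this]; infer_instance
  haveI : IsIso eW := isIso_of_fully_faithful (yon S) eW
  haveI : IsIso eW.left := inferInstanceAs (IsIso ((Over.forget S).map eW))
  obtain ⟨n, -, hn⟩ := hfo
  have sqi' : IsPullback ((yon S).map eW ≫ a₀) ((yon S).map p) i ((yon S).map ιU ≫ a) := by
    refine sqi.of_iso (asIso ((yon S).map eW)).symm (Iso.refl _) (Iso.refl _) (Iso.refl _) ?_ ?_ ?_ ?_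
    all_goals simp [← he₁]
  have hpow : powZero n p.left := hn _ _ p (inferInstanceAs (IsAffine (Spec B))) (repWith_etale_comp ιU ha) sqi'
  have hlft : LocallyOfFiniteType r.left := by
    have h1 : LocallyOfFiniteType g.left := hf a₀ b₀ g ha₀ hb₀ w₀
    haveI : IsIso eV.hom.left := inferInstanceAs (IsIso ((Over.forget S).map eV.hom))
    have h2 : LocallyOfFiniteType (eW.left ≫ g.left) := inferInstance
    rw [← Over.comp_left, he₂, Over.comp_left] at h2
    exact locallyOfFiniteType_of_comp r.left eV.hom.left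
  rw [hr, HasRingHomProperty.Spec_iff (P := @LocallyOfFiniteType)] at hlft
  rw [hp] at hpow
  let π : B →ₐ[A] B ⊗[A] Q := Algebra.TensorProduct.includeLeft
  have hπ : Function.Surjective π := fun z => by
    induction z using TensorProduct.induction_on with
    | zero => exact ⟨0, map_zero _⟩
    | tmul x c =>
      obtain ⟨a', rfl⟩ := hQs c
      exact ⟨a' • x, by
        show (a' • x) ⊗ₜ[A] (1 : Q) = x ⊗ₜ[A] algebraMap A Q a'
        rw [TensorProduct.smul_tmul, Algebra.algebraMap_eq_smul_one]⟩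
    | add x y hx hy =>
      obtain ⟨x', rfl⟩ := hx
      obtain ⟨y', rfl⟩ := hy
      exact ⟨x' + y', map_add _ _ _⟩
  haveI : IsClosedImmersion (Spec.map (CommRingCat.ofHom (Algebra.TensorProduct.includeLeftRingHom : B →+* B ⊗[A] Q))) :=
    IsClosedImmersion.spec_of_surjective _ hπ
  have hnil : IsNilpotent (RingHom.ker π.toRingHom) := ker_le_of_powZero _ hpow
  haveI : Algebra.FiniteType A (B ⊗[A] Q) := by
    have h1 : (algebraMap A (B ⊗[A] Q)) =
        ((Algebra.TensorProduct.includeRight : Q →ₐ[A] B ⊗[A] Q).toRingHom).comp (algebraMap A Q) :=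
      RingHom.ext fun x => ((Algebra.TensorProduct.includeRight : Q →ₐ[A] B ⊗[A] Q).commutes x).symm
    have h2 : (algebraMap A (B ⊗[A] Q)).FiniteType := by
      rw [h1]; exact RingHom.FiniteType.comp hlft (RingHom.FiniteType.of_surjective _ hQs)
    exact RingHom.finiteType_algebraMap.1 h2
  have hK : RingHom.ker π.toRingHom = (RingHom.ker (algebraMap A Q)).map (algebraMap A B) := by
    refine le_antisymm (fun x hx => ?_) (Ideal.map_le_iff_le_comap.2 fun a' ha' => ?_)
    · let K := RingHom.ker (algebraMap A Q)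
      let q : B →ₐ[A] B ⧸ K.map (algebraMap A B) := Ideal.Quotient.mkₐ A _
      let ψ : Q →ₐ[A] B ⧸ K.map (algebraMap A B) :=
        AlgHom.liftOfSurjective (Algebra.ofId A Q) hQs (Algebra.ofId A _) (fun a' ha' => by
          show algebraMap A (B ⧸ K.map (algebraMap A B)) a' = 0
          exact Ideal.Quotient.eq_zero_iff_mem.2 (Ideal.mem_map_of_mem _ ha'))
      have := congrArg (Algebra.TensorProduct.productMap q ψ) (show π x = 0 from hx)
      simp [π, q] at this
      exact Ideal.Quotient.eq_zero_iff_mem.1 this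
    · show π (algebraMap A B a') = 0
      rw [π.commutes, Algebra.TensorProduct.algebraMap_apply', show algebraMap A Q a' = 0 from ha', TensorProduct.tmul_zero]
  exact RingHom.finiteType_algebraMap.2 (finiteType_of_nilpotent_baseChange π hπ hnil _ hK)

theorem fibreDim_cart_iff (hX' : IsAlgSpace X') (hY : IsAlgSpace Y) (hY' : IsAlgSpace Y') (hi : IsThickMor i)
    (hcart : IsPullback i f f' j) (hft' : LocP @LocallyOfFiniteType f') (p : WithBot ℕ∞ → Prop) :
    (∀ x, HasAtMor (fun _ _ h u => p (FlatMor.fibreDimAt h u)) f x) ↔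
      ∀ x', HasAtMor (fun _ _ h u => p (FlatMor.fibreDimAt h u)) f' x' := by
  refine ⟨fun H x' => ?_, fun H x => (hasAtMor_fibreDim_baseChange p hcart hX' hY' hY hft' x).2 (H _)⟩
  obtain ⟨x, rfl⟩ := surjective_map_of_thick hi x'
  exact (hasAtMor_fibreDim_baseChange p hcart hX' hY' hY hft' x).1 (H x)

theorem isSeparatedMor_of_repWith_le {P : MorphismProperty Scheme.{u}} (hP : P ≤ @IsSeparated)
    (hX : IsAlgSpace X) (h : RepWith P f) : IsSeparatedMor f :=
  (repWith_diagonal_iff @IsClosedImmersion hX.diag h.rep).2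
    (Groth.Agent.SpPts86.repWith_mono (fun _ _ φ hφ => by
      haveI := hP _ hφ
      show IsClosedImmersion (pullback.diagonal φ)
      infer_instance) h)

theorem representable_of_lqf_separated (hX : IsAlgSpace X) (hY : IsAlgSpace Y) (hsep : IsSeparatedMor f)
    (hqf : LocP (@LocallyQuasiFinite ⊓ @LocallyOfFiniteType) f) : Representable f := by
  refine representable_of_affine fun T _ g => ?_
  have sq := IsPullback.of_hasPullback f g
  have hP := isAlgSpace_of_isPullback sq hX (IsAlgSpace.yon_obj T) hY.diag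
  obtain ⟨Z, ⟨e⟩⟩ := exists_iso_of_lqf_separated hP (isSeparatedMor_of_isPullback sq hsep)
    (locP_baseChange sq hX hY (IsAlgSpace.yon_obj T) hqf)
  obtain ⟨s, hs⟩ := (yon S).map_surjective (e.hom ≫ pullback.snd f g)
  exact ⟨Z, s, e.hom ≫ pullback.fst f g,
    sq.of_iso e.symm (Iso.refl _) (Iso.refl _) (Iso.refl _) (by simp) (by simp [hs]) (by simp) (by simp)⟩

/-- A representable property passes from a morphism of spaces to a cartesian thickening of it. -/
theorem repWith_of_cart (hX : IsAlgSpace X) (hX' : IsAlgSpace X') (hY : IsAlgSpace Y) (hY' : IsAlgSpace Y')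
    (hj : IsThickMor j) (hi : IsThickMor i) (hcart : IsPullback i f f' j)
    (hft : LocP @LocallyOfFiniteType f) (hft' : LocP @LocallyOfFiniteType f')
    (P : MorphismProperty Scheme.{u}) [P.IsStableUnderBaseChange] [IsZariskiLocalAtTarget P]
    (hsep : P ≤ @IsSeparated)
    (hlqf : P ≤ (@LocallyQuasiFinite ⊓ @LocallyOfFiniteType : MorphismProperty Scheme.{u}))
    (hP : ∀ {A A' B B' : Scheme.{u}} (iA : A ⟶ A') (iB : B ⟶ B') (g : A ⟶ B) (g' : A' ⟶ B'),
      MoreMor.IsThickening iB → IsPullback iA g g' iB → LocallyOfFiniteType g → LocallyOfFiniteType g' → P g → P g')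
    (hf : RepWith P f) : RepWith P f' := by
  have hs : IsSeparatedMor f' :=
    (thickening_separated_iff hX hX' hY hY' hi hj hcart.w).1.1 (isSeparatedMor_of_repWith_le hsep hX hf)
  have hq : LocP (@LocallyQuasiFinite ⊓ @LocallyOfFiniteType) f :=
    locP_of_repWith hX.diag hY (Groth.Agent.SpPts86.repWith_mono hlqf hf)
  have hrep : Representable f' :=
    representable_of_lqf_separated hX' hY' hs ((lqf_cart_iff hX hX' hY hY' hj hcart hft hft').1.1 hq)
  refine repWith_of_affine P hrep fun T V _ g fst snd sqV => ?_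
  let T₀ := hj.rep.pullback g
  let jT : T₀ ⟶ T := hj.rep.snd g
  let g₀ : (yon S).obj T₀ ⟶ Y := hj.rep.fst g
  have sqT : IsPullback g₀ ((yon S).map jT) j g := hj.rep.isPullback g
  obtain ⟨W, iW, gW, sqW⟩ := exists_isPullback_yon (IsAlgSpace.yon_obj T).diag ((yon S).map snd) ((yon S).map jT)
  have wW : ((yon S).map iW ≫ fst) ≫ f' = ((yon S).map gW ≫ g₀) ≫ j := by
    rw [Category.assoc, sqV.w, ← Category.assoc, sqW.w, Category.assoc, Category.assoc, sqT.w]
  let a₀ : (yon S).obj W ⟶ X := hcart.lift ((yon S).map iW ≫ fst) ((yon S).map gW ≫ g₀) wW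
  have sqf : IsPullback a₀ ((yon S).map gW) f g₀ := by
    refine IsPullback.of_right (h₁₂ := i) (v₁₃ := f') (h₂₂ := j) ?_ (hcart.lift_snd _ _ _) hcart
    rw [hcart.lift_fst, sqT.w]
    exact sqW.paste_horiz sqV
  have hV : LocallyOfFiniteType snd.left :=
    (locP_yon_map_iff (P := @LocallyOfFiniteType) snd).1
      (locP_baseChange sqV hX' hY' (IsAlgSpace.yon_obj T) hft')
  have hW : LocallyOfFiniteType gW.left :=
    (locP_yon_map_iff (P := @LocallyOfFiniteType) gW).1
      (locP_baseChange sqf hX hY (IsAlgSpace.yon_obj T₀) hft)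
  exact hP _ _ _ _ (hj.property_snd g) (isPullback_left sqW) hW hV (hf.property g₀ _ _ sqf)

end Groth.Agent.SpFP87

namespace Groth.Agent.SpFP87

variable {S : Scheme.{u}} {X X' Y Y' : Sp S} {i : X ⟶ X'} {j : Y ⟶ Y'} {f : X ⟶ Y} {f' : X' ⟶ Y'}

theorem cart_global_iff (hX : IsAlgSpace X) (hX' : IsAlgSpace X') (hY : IsAlgSpace Y) (hY' : IsAlgSpace Y')
    (hi : IsThickMor i) (hj : IsThickMor j) (hcart : IsPullback i f f' j)
    (hft : LocP @LocallyOfFiniteType f) (hft' : LocP @LocallyOfFiniteType f') :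
    (IsFiniteMor f ↔ IsFiniteMor f') ∧ (RepWith @IsClosedImmersion f ↔ RepWith @IsClosedImmersion f') ∧
    (RepWith @IsImmersion f ↔ RepWith @IsImmersion f') ∧ (IsProperMor f ↔ IsProperMor f') := by
  obtain ⟨-, hqc, huc, -⟩ := thickening_topological_iff hX hX' hY hY' hi hj hcart.w
  refine ⟨?_, ⟨fun h => repWith_of_cart hX hX' hY hY' hj hi hcart hft hft' _ ?_ ?_ ?_ h,
      fun h => (repWith_isStableUnderBaseChange _).of_isPullback hcart h⟩,
    ⟨fun h => repWith_of_cart hX hX' hY hY' hj hi hcart hft hft' _ ?_ ?_ ?_ h,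
      fun h => (repWith_isStableUnderBaseChange _).of_isPullback hcart h⟩,
    ⟨fun ⟨h1, ⟨_, h2⟩, h3⟩ => ⟨(thickening_separated_iff hX hX' hY hY' hi hj hcart.w).1.1 h1, ⟨hft', hqc.1 h2⟩, huc.1 h3⟩,
      fun ⟨h1, ⟨_, h2⟩, h3⟩ => ⟨(thickening_separated_iff hX hX' hY hY' hi hj hcart.w).1.2 h1, ⟨hft, hqc.2 h2⟩, huc.2 h3⟩⟩⟩
  · rw [isFiniteMor_iff, isFiniteMor_iff]
    refine ⟨fun h => repWith_of_cart hX hX' hY hY' hj hi hcart hft hft' _ ?_ ?_ ?_ h,
      fun h => (repWith_isStableUnderBaseChange _).of_isPullback hcart h⟩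
    · intro A B g hg; haveI : IsFinite g := hg; infer_instance
    · intro A B g hg; haveI : IsFinite g := hg; exact ⟨inferInstance, inferInstance⟩
    · intro A A' B B' iA iB g g' hB sq _ _ hg
      haveI : IsClosedImmersion iB := hB.1
      haveI : Surjective iB := hB.2
      have hA : MoreMor.IsThickening iA :=
        ⟨MorphismProperty.of_isPullback (P := @IsClosedImmersion) sq.flip inferInstance,
          MorphismProperty.of_isPullback (P := @Surjective) sq.flip inferInstance⟩
      haveI : IsFinite g := hg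
      haveI : IsIntegralHom g' := (Groth.Agent.S1305.result iA iB g g' hA hB sq.w).1 inferInstance
      exact (IsFinite.iff_isIntegralHom_and_locallyOfFiniteType _).2 ⟨inferInstance, inferInstance⟩
  · intro A B g hg; haveI : IsClosedImmersion g := hg; infer_instance
  · intro A B g hg; haveI : IsClosedImmersion g := hg; exact ⟨inferInstance, inferInstance⟩
  · intro A A' B B' iA iB g g' hB sq _ _ hg
    exact (Groth.Agent.S1313.result iA iB g g' hB sq).1 hg
  · intro A B g hg; haveI : IsImmersion g := hg; infer_instance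
  · intro A B g hg; haveI : IsImmersion g := hg
    exact ⟨mono_inf_lft_le_lqf _ ⟨(inferInstance : Mono g), inferInstance⟩, inferInstance⟩
  · intro A A' B B' iA iB g g' hB sq _ _ hg
    exact (Groth.Agent.S1316.result iA iB g g' hB sq).1 hg

theorem isFiniteType_of_repWith (hX : IsAlgSpace X) (hY : IsAlgSpace Y) {P : MorphismProperty Scheme.{u}}
    (hP : P ≤ @LocallyOfFiniteType) (h : RepWith P f) : LocP @LocallyOfFiniteType f :=
  locP_of_repWith hX.diag hY (Groth.Agent.SpPts86.repWith_mono hP h)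

theorem cart_finiteOrder_global_iff (hX : IsAlgSpace X) (hX' : IsAlgSpace X') (hY : IsAlgSpace Y) (hY' : IsAlgSpace Y')
    (hi : IsThickMor i) (hj : IsThickMor j) (hcart : IsPullback i f f' j) (hfo : IsFinThickMor i) :
    (RepWith @IsClosedImmersion f ↔ RepWith @IsClosedImmersion f') ∧ (IsProperMor f ↔ IsProperMor f') ∧
    (IsFiniteMor f ↔ IsFiniteMor f') ∧ (RepWith @IsImmersion f ↔ RepWith @IsImmersion f') := by
  have hl := lft_cart_iff hX' hY hY' hj hcart hfo
  have key : ∀ {Q Q' : Prop}, (Q → LocP @LocallyOfFiniteType f) → (Q' → LocP @LocallyOfFiniteType f') →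
      (LocP @LocallyOfFiniteType f → LocP @LocallyOfFiniteType f' → (Q ↔ Q')) → (Q ↔ Q') :=
    fun h h' hQ => ⟨fun q => (hQ (h q) (hl.1 (h q))).1 q, fun q => (hQ (hl.2 (h' q)) (h' q)).2 q⟩
  refine ⟨key ?_ ?_ fun a b => (cart_global_iff hX hX' hY hY' hi hj hcart a b).2.1,
    key (fun h => h.2.1.1) (fun h => h.2.1.1) fun a b => (cart_global_iff hX hX' hY hY' hi hj hcart a b).2.2.2,
    key ?_ ?_ fun a b => (cart_global_iff hX hX' hY hY' hi hj hcart a b).1,
    key ?_ ?_ fun a b => (cart_global_iff hX hX' hY hY' hi hj hcart a b).2.2.1⟩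
  · exact isFiniteType_of_repWith hX hY fun _ _ g (hg : IsClosedImmersion g) => by haveI := hg; infer_instance
  · exact isFiniteType_of_repWith hX' hY' fun _ _ g (hg : IsClosedImmersion g) => by haveI := hg; infer_instance
  · exact fun h => isFiniteType_of_repWith hX hY
      (fun _ _ g (hg : IsFinite g) => by haveI := hg; infer_instance) ((isFiniteMor_iff f).1 h)
  · exact fun h => isFiniteType_of_repWith hX' hY'
      (fun _ _ g (hg : IsFinite g) => by haveI := hg; infer_instance) ((isFiniteMor_iff f').1 h)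
  · exact isFiniteType_of_repWith hX hY fun _ _ g (hg : IsImmersion g) => by haveI := hg; infer_instance
  · exact isFiniteType_of_repWith hX' hY' fun _ _ g (hg : IsImmersion g) => by haveI := hg; infer_instance

end Groth.Agent.SpFP87
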