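import Groth.Agent.SpFP87.MonoPointFib
import Groth.Agent.SpFP87.QsDecent
/-!
Decency of a morphism is etale local on the target.
-/

set_option autoImplicit false
set_option linter.style.haveILetI false
set_option backward.isDefEq.respectTransparency false
universe u
open CategoryTheory CategoryTheory.Limits AlgebraicGeometry Opposite
open AlgSp
open Groth.Agent.SpPts86 Groth.Agent.BddFib93

namespace Groth.Agent.SpFP87

variable {S : Scheme.{u}} {X : Sp S}

/-- An affine chart of a decent space meets each point finitely often, as does its relation. -/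
theorem finite_fibres_of_isDecent (hX : IsAlgSpace X) (hd : IsDecent X) {U : Over S} [IsAffine U.left]
    {φ : (yon S).obj U ⟶ X} (hφ : RepWith @Etale φ) (x : Points X) :
    (Points.ofPt φ ⁻¹' {x}).Finite ∧
      ∀ (R : Over S) (s t : R ⟶ U), IsPullback ((yon S).map t) ((yon S).map s) φ φ →
        (Points.ofPt ((yon S).map t ≫ φ) ⁻¹' {x}).Finite := by
  by_cases hx : x ∈ Set.range (Points.ofPt φ)
  · obtain ⟨p, hp, hm, hq⟩ := hd x
    refine ((finite_fibres_iff_mono_point hX x hφ).2 ⟨p, hp, hm, fun T c snd sqT => ?_⟩).2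
    obtain ⟨g, rfl⟩ := (yon S).map_surjective snd
    haveI : Etale c.left := etale_snd_of_isPullback sqT.flip hφ
    haveI : LocallyQuasiFinite c.left := Groth.Agent.Unr55.locallyQuasiFinite_of_formallyUnramified _
    haveI : QuasiCompact g.left :=
      (repWith_yon_map_iff _ _).1 ((repWith_isStableUnderBaseChange _).of_isPullback sqT hq)
    haveI : CompactSpace ↥T.left := QuasiCompact.compactSpace_of_compactSpace g.left
    haveI : IsAffine p.pt.left := inferInstanceAs (IsAffine (Spec _))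
    haveI : IsLocallyArtinian p.pt.left := inferInstanceAs (IsLocallyArtinian (Spec (CommRingCat.of p.K)))
    haveI : QuasiCompact c.left := (quasiCompact_iff_compactSpace c.left).2 inferInstance
    refine ⟨?_, IsFinite.of_locallyQuasiFinite _⟩
    obtain ⟨u, hu⟩ := hx
    obtain ⟨z, -, -⟩ := exists_pt_of_isPullback' sqT (IsLocalRing.closedPoint p.K) u
      ((Points.ofPt_toHom p _).trans (hp.trans hu.symm))
    exact ⟨z⟩
  · refine ⟨?_, fun R s t sq => ?_⟩
    · rw [show Points.ofPt φ ⁻¹' {x} = ∅ from Set.eq_empty_iff_forall_notMem.2 fun u hu => hx ⟨u, hu⟩]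
      exact Set.finite_empty
    · rw [show Points.ofPt ((yon S).map t ≫ φ) ⁻¹' {x} = ∅ from Set.eq_empty_iff_forall_notMem.2 fun r hr =>
        hx ⟨t.left r, by rw [← ofPt_comp]; exact hr⟩]
      exact Set.finite_empty

/-- Finiteness of fibres descends along a base change by an etale surjective map of affine schemes. -/
theorem finite_fibres_descend {G G' : Sp S} (hG : IsAlgSpace G) {O O' : Over S} [IsAffine O.left] [IsAffine O'.left]
    (f : O' ⟶ O) [Etale f.left] [Surjective f.left] (π : G ⟶ (yon S).obj O) (fst : G' ⟶ G)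
    (snd : G' ⟶ (yon S).obj O') (sqG : IsPullback fst snd π ((yon S).map f)) (hd : IsDecent G')
    {V : Over S} [IsAffine V.left] (ψ : (yon S).obj V ⟶ G) (hψ : RepWith @Etale ψ) (x : Points G) :
    (Points.ofPt ψ ⁻¹' {x}).Finite ∧
      ∀ (R : Over S) (s t : R ⟶ V), IsPullback ((yon S).map t) ((yon S).map s) ψ ψ →
        (Points.ofPt ((yon S).map t ≫ ψ) ⁻¹' {x}).Finite := by
  have hG' : IsAlgSpace G' :=
    isAlgSpace_of_isPullback sqG hG (IsAlgSpace.yon_obj O') (IsAlgSpace.yon_obj O).diag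
  -- the points over `x`
  have hys : (Points.map fst ⁻¹' {x}).Finite := by
    obtain ⟨q, rfl⟩ := Points.mk_surjective x
    obtain ⟨g, hg⟩ := (yon S).map_surjective (q.toHom ≫ π)
    have sqW := (IsPullback.of_hasPullback g f).map (yon S)
    let m : (yon S).obj (pullback g f) ⟶ G' := sqG.lift ((yon S).map (pullback.fst g f) ≫ q.toHom)
      ((yon S).map (pullback.snd g f)) (by rw [Category.assoc, ← hg]; exact sqW.w)
    have sqm : IsPullback m ((yon S).map (pullback.fst g f)) fst q.toHom := by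
      refine IsPullback.of_right ?_ (sqG.lift_fst _ _ _) sqG.flip.flip.flip
      rw [sqG.lift_snd, ← hg]
      exact sqW.flip
    haveI : Etale (pullback.fst g f).left :=
      MorphismProperty.of_isPullback (isPullback_left sqW).flip inferInstance
    haveI : IsAffine q.pt.left := inferInstanceAs (IsAffine (Spec _))
    haveI : IsAffineHom f.left := inferInstance
    haveI : IsAffineHom (pullback.fst g f).left :=
      MorphismProperty.of_isPullback (isPullback_left sqW).flip inferInstance
    haveI : IsLocallyArtinian q.pt.left := inferInstanceAs (IsLocallyArtinian (Spec (CommRingCat.of q.K)))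
    haveI : LocallyQuasiFinite (pullback.fst g f).left :=
      Groth.Agent.Unr55.locallyQuasiFinite_of_formallyUnramified _
    haveI : IsLocallyArtinian (pullback g f).left := .of_locallyQuasiFinite (pullback.fst g f).left
    haveI : CompactSpace ↥(pullback g f).left :=
      QuasiCompact.compactSpace_of_compactSpace (pullback.fst g f).left
    haveI : Finite ↥(pullback g f).left := finite_of_compact_of_discrete
    refine (Set.finite_range (Points.ofPt m)).subset fun y hy => ?_
    obtain ⟨z, hz, -⟩ := exists_pt_of_isPullback sqm y (IsLocalRing.closedPoint q.K)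
      (hy.trans (Points.ofPt_toHom q _).symm)
    exact ⟨z, hz⟩
  -- the chart of `G'`
  obtain ⟨g, hg⟩ := (yon S).map_surjective (ψ ≫ π)
  have sqV := (IsPullback.of_hasPullback g f).map (yon S)
  let V' : Over S := pullback g f
  let e : V' ⟶ V := pullback.fst g f
  let ψ' : (yon S).obj V' ⟶ G' := sqG.lift ((yon S).map e ≫ ψ) ((yon S).map (pullback.snd g f))
    (by rw [Category.assoc, ← hg]; exact sqV.w)
  have hψ'1 : ψ' ≫ fst = (yon S).map e ≫ ψ := sqG.lift_fst _ _ _
  have sqψ : IsPullback ψ' ((yon S).map e) fst ψ := by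
    refine IsPullback.of_right ?_ hψ'1 sqG.flip.flip.flip
    rw [sqG.lift_snd, ← hg]
    exact sqV.flip
  have hψ' : RepWith @Etale ψ' := (repWith_isStableUnderBaseChange _).of_isPullback sqψ.flip hψ
  haveI : IsAffineHom f.left := inferInstance
  haveI : IsAffineHom e.left := MorphismProperty.of_isPullback (isPullback_left sqV).flip inferInstance
  haveI : IsAffine V'.left := isAffine_of_isAffineHom e.left
  haveI : Surjective e.left := MorphismProperty.of_isPullback (isPullback_left sqV).flip inferInstance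
  refine ⟨?_, fun R s t sq => ?_⟩
  · refine ((hys.biUnion fun y _ => (finite_fibres_of_isDecent hG' hd hψ' y).1).image e.left).subset fun v hv => ?_
    obtain ⟨v', rfl⟩ := e.left.surjective v
    refine ⟨v', Set.mem_iUnion₂.2 ⟨Points.ofPt ψ' v', ?_, rfl⟩, rfl⟩
    show Points.map fst _ = x
    rw [Points.map_ofPt, hψ'1, ofPt_comp]
    exact hv
  · obtain ⟨R', t', s', sq'⟩ := exists_isPullback_yon hG'.diag ψ' ψ'
    obtain ⟨k, hk⟩ := (yon S).map_surjective (sq.lift ((yon S).map (t' ≫ e)) ((yon S).map (s' ≫ e)) (by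
      rw [Functor.map_comp, Functor.map_comp, Category.assoc, Category.assoc, ← hψ'1, ← Category.assoc,
        sq'.w, Category.assoc]))
    have hkt : k ≫ t = t' ≫ e := (yon S).map_injective (by rw [Functor.map_comp, hk, sq.lift_fst])
    have hks : k ≫ s = s' ≫ e := (yon S).map_injective (by rw [Functor.map_comp, hk, sq.lift_snd])
    refine ((hys.biUnion fun y _ => (finite_fibres_of_isDecent hG' hd hψ' y).2 R' s' t' sq').image k.left).subset
      fun r hr => ?_
    have hgts : t ≫ g = s ≫ g := (yon S).map_injective (by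
      rw [Functor.map_comp, Functor.map_comp, hg, ← Category.assoc, ← Category.assoc, sq.w])
    let P : Over S := pullback (t ≫ g) f
    let a : P ⟶ R := pullback.fst (t ≫ g) f
    let b : P ⟶ O' := pullback.snd (t ≫ g) f
    have hw : (a ≫ t) ≫ g = b ≫ f := by rw [Category.assoc]; exact pullback.condition
    let at' : P ⟶ V' := pullback.lift (a ≫ t) b hw
    let as' : P ⟶ V' := pullback.lift (a ≫ s) b (by rw [Category.assoc, ← hgts]; exact pullback.condition)
    obtain ⟨l, hl⟩ := (yon S).map_surjective (sq'.lift ((yon S).map at') ((yon S).map as') (by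
      apply sqG.hom_ext
      · rw [Category.assoc, Category.assoc, hψ'1, ← Category.assoc, ← Category.assoc, ← Functor.map_comp,
          ← Functor.map_comp]
        show (yon S).map (pullback.lift _ _ _ ≫ pullback.fst g f) ≫ ψ =
          (yon S).map (pullback.lift _ _ _ ≫ pullback.fst g f) ≫ ψ
        rw [pullback.lift_fst, pullback.lift_fst, Functor.map_comp, Functor.map_comp, Category.assoc,
          Category.assoc, sq.w]
      · rw [Category.assoc, Category.assoc, sqG.lift_snd, ← Functor.map_comp, ← Functor.map_comp,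
          pullback.lift_snd, pullback.lift_snd]))
    have hlk : l ≫ k = a := (yon S).map_injective (sq.hom_ext
      (by
        rw [← Functor.map_comp, ← Functor.map_comp, Category.assoc, hkt, ← Category.assoc]
        congr 1
        rw [show l ≫ t' = at' from (yon S).map_injective (by rw [Functor.map_comp, hl, sq'.lift_fst])]
        exact pullback.lift_fst _ _ _)
      (by
        rw [← Functor.map_comp, ← Functor.map_comp, Category.assoc, hks, ← Category.assoc]
        congr 1
        rw [show l ≫ s' = as' from (yon S).map_injective (by rw [Functor.map_comp, hl, sq'.lift_snd])]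
        exact pullback.lift_fst _ _ _))
    haveI : Surjective a.left :=
      MorphismProperty.of_isPullback (isPullback_left ((IsPullback.of_hasPullback (t ≫ g) f).map (yon S))).flip
        inferInstance
    obtain ⟨z, rfl⟩ := a.left.surjective r
    refine ⟨l.left z, Set.mem_iUnion₂.2 ⟨Points.ofPt ((yon S).map t' ≫ ψ') (l.left z), ?_, rfl⟩, ?_⟩
    · show Points.map fst _ = x
      rw [← hlk, Over.comp_left, Scheme.Hom.comp_apply] at hr
      rw [Points.map_ofPt, Category.assoc, hψ'1, ← Category.assoc, ← Functor.map_comp, ← hkt, ofPt_comp,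
        Over.comp_left, Scheme.Hom.comp_apply, ← ofPt_comp]
      exact hr
    · rw [← hlk]; rfl

theorem isCompact_fibre_of_affine {V T : Scheme.{u}} [IsAffine V] (f : V ⟶ T) (τ : T) :
    IsCompact {v : ↥V | f v = τ} := by
  have hloc : ∀ v : ↥V, ∃ (N : V.Opens) (W : T.Opens), IsAffineOpen N ∧ IsAffineOpen W ∧ v ∈ N ∧ N ≤ f ⁻¹ᵁ W := by
    intro v
    obtain ⟨W, hW, hvW, -⟩ := exists_isAffineOpen_mem_and_subset (U := (⊤ : T.Opens)) (x := f v) trivial
    obtain ⟨N, hN, hvN, hNW⟩ := exists_isAffineOpen_mem_and_subset (U := f ⁻¹ᵁ W) (x := v) hvW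
    exact ⟨N, W, hN, hW, hvN, hNW⟩
  choose N W hN hW hvN hNW using hloc
  obtain ⟨I, hI⟩ := isCompact_univ.elim_finite_subcover (fun v => (N v : Set ↥V)) (fun v => (N v).isOpen)
    (fun v _ => Set.mem_iUnion.2 ⟨v, hvN v⟩)
  have e : {v : ↥V | f v = τ} = ⋃ i ∈ I, (N i : Set ↥V) ∩ {v | f v = τ} := by
    ext v
    simp only [Set.mem_iUnion, Set.mem_inter_iff]
    refine ⟨fun hv => ?_, fun ⟨_, _, _, hv⟩ => hv⟩
    obtain ⟨i, hi, hvi⟩ := Set.mem_iUnion₂.1 (hI (Set.mem_univ v))
    exact ⟨i, hi, hvi, hv⟩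
  rw [e]
  refine I.isCompact_biUnion fun i _ => ?_
  haveI : IsAffine (N i).toScheme := hN i
  haveI : IsAffine (W i).toScheme := hW i
  by_cases hτ : τ ∈ W i
  · have := ((f.resLE (W i) (N i) (hNW i)).isCompact_preimage_singleton ⟨τ, hτ⟩).image (N i).ι.continuous
    convert this using 1
    ext v
    constructor
    · rintro ⟨hv, hv'⟩
      refine ⟨⟨v, hv⟩, Subtype.ext ?_, rfl⟩
      exact (congrArg (fun g : (N i).toScheme ⟶ T => g ⟨v, hv⟩) (Scheme.Hom.resLE_comp_ι f (hNW i))).trans hv'
    · rintro ⟨z, hz, rfl⟩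
      refine ⟨z.2, ?_⟩
      exact (congrArg (fun g : (N i).toScheme ⟶ T => g z) (Scheme.Hom.resLE_comp_ι f (hNW i))).symm.trans
        (congrArg Subtype.val hz)
  · rw [Set.eq_empty_iff_forall_notMem.2 fun v (hv : v ∈ (N i : Set ↥V) ∩ {v | f v = τ}) => hτ (hv.2 ▸ hNW i hv.1)]
    exact isCompact_empty

/-- Decency of a space over a scheme is etale local on that scheme. -/
theorem isDecent_of_etale_base {F' F'' : Sp S} (hF : IsAlgSpace F') {T T' : Over S} (π : F' ⟶ (yon S).obj T)
    (f : T' ⟶ T) [Etale f.left] [Surjective f.left] (fst : F'' ⟶ F') (snd : F'' ⟶ (yon S).obj T')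
    (sqF : IsPullback fst snd π ((yon S).map f)) (hd : IsDecentMor snd) : IsDecent F' := by
  intro x
  obtain ⟨U₀, a, ha, has⟩ := hF.atlas
  obtain ⟨u₀, rfl⟩ := surjective_ofPt has x
  obtain ⟨g₀, hg₀⟩ := (yon S).map_surjective (a ≫ π)
  -- an affine neighbourhood of the image with an affine etale cover
  obtain ⟨t', ht'⟩ := f.left.surjective (g₀.left u₀)
  obtain ⟨W, hW, hτW, -⟩ :=
    exists_isAffineOpen_mem_and_subset (U := (⊤ : T.left.Opens)) (x := g₀.left u₀) trivial
  obtain ⟨W', hW', ht'W', hW'W⟩ :=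
    exists_isAffineOpen_mem_and_subset (U := f.left ⁻¹ᵁ W) (x := t') (show f.left t' ∈ W from ht' ▸ hτW)
  obtain ⟨h, hle, hτO⟩ := hW.exists_basicOpen_le
    (V := ⟨f.left '' W', f.left.isOpenMap _ W'.isOpen⟩) ⟨g₀.left u₀, t', ht'W', ht'⟩ hτW
  have hO : IsAffineOpen (T.left.basicOpen h) := hW.basicOpen h
  haveI : IsAffine W.toScheme := hW
  haveI : IsAffine W'.toScheme := hW'
  let O : Over S := Over.mk ((T.left.basicOpen h).ι ≫ T.hom)
  let jO : O ⟶ T := Over.homMk (T.left.basicOpen h).ι rfl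
  haveI : IsAffine O.left := hO
  let O'op : T'.left.Opens := W' ⊓ f.left ⁻¹ᵁ T.left.basicOpen h
  have hO' : IsAffineOpen O'op := by
    have e : O'op = T'.left.basicOpen (f.left.appLE W W' hW'W h) := by
      show W' ⊓ f.left ⁻¹ᵁ T.left.basicOpen h = _
      rw [Scheme.Hom.appLE, CommRingCat.comp_apply, Scheme.basicOpen_res, Scheme.preimage_basicOpen]
    rw [e]
    exact hW'.basicOpen _
  let O' : Over S := Over.mk (O'op.ι ≫ T'.hom)
  let jO' : O' ⟶ T' := Over.homMk O'op.ι rfl
  haveI : IsAffine O'.left := hO'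
  let fO : O' ⟶ O := Over.homMk (f.left.resLE (T.left.basicOpen h) O'op inf_le_right) (by
    show _ ≫ (T.left.basicOpen h).ι ≫ T.hom = O'op.ι ≫ T'.hom
    rw [Scheme.Hom.resLE_comp_ι_assoc, Over.w f])
  have hfO : fO ≫ jO = jO' ≫ f := Over.OverMorphism.ext (Scheme.Hom.resLE_comp_ι _ _)
  haveI : Etale fO.left := by
    haveI : Etale (fO.left ≫ jO.left) := by
      rw [← Over.comp_left, hfO]
      exact inferInstanceAs (Etale (O'op.ι ≫ f.left))
    haveI : IsOpenImmersion jO.left := inferInstanceAs (IsOpenImmersion (T.left.basicOpen h).ι)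
    exact Etale.of_comp fO.left jO.left
  haveI : Surjective fO.left := by
    refine ⟨fun z => ?_⟩
    obtain ⟨w, hw, hwz⟩ := hle z.2
    have hwO : w ∈ O'op := ⟨hw, by show f.left w ∈ T.left.basicOpen h; rw [hwz]; exact z.2⟩
    refine ⟨⟨w, hwO⟩, (T.left.basicOpen h).ι.isOpenEmbedding.injective ?_⟩
    show (fO ≫ jO).left _ = _
    rw [hfO]
    exact hwz
  -- restrict to it
  let G : Sp S := pullback π ((yon S).map jO)
  have sqG := IsPullback.of_hasPullback π ((yon S).map jO)
  have hG : IsAlgSpace G := isAlgSpace_of_isPullback sqG hF (IsAlgSpace.yon_obj O) (IsAlgSpace.yon_obj T).diag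
  let G' : Sp S := pullback (pullback.snd π ((yon S).map jO)) ((yon S).map fO)
  have sqG' := IsPullback.of_hasPullback (pullback.snd π ((yon S).map jO)) ((yon S).map fO)
  have hd' : IsDecent G' := by
    let m : G' ⟶ F'' := sqF.lift (pullback.fst _ _ ≫ pullback.fst _ _)
      (pullback.snd _ _ ≫ (yon S).map jO') (by
        rw [Category.assoc, sqG.w, ← Category.assoc, sqG'.w, Category.assoc, Category.assoc,
          ← Functor.map_comp, ← Functor.map_comp, hfO])
    refine hd ((yon S).map jO') m (pullback.snd _ _) (IsPullback.of_right ?_ (sqF.lift_snd _ _ _) sqF)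
    rw [sqF.lift_fst]
    have := sqG'.paste_horiz sqG
    rwa [← Functor.map_comp, hfO, Functor.map_comp] at this
  let j : G ⟶ F' := pullback.fst π ((yon S).map jO)
  haveI : Mono jO.left := inferInstanceAs (Mono (T.left.basicOpen h).ι)
  haveI : Mono jO := Over.mono_of_mono_left jO
  haveI : Mono ((yon S).map jO) := inferInstance
  haveI : Mono j := inferInstanceAs (Mono (pullback.fst π ((yon S).map jO)))
  have hjop : RepWith @Etale j := (repWith_isStableUnderBaseChange _).of_isPullback sqG.flip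
    ((repWith_yon_map_iff _ _).2 (inferInstanceAs (Etale (T.left.basicOpen h).ι)))
  -- affine charts of `F'` landing in `G`
  have hlift : ∀ (V : U₀.left.Opens), IsAffineOpen V → (∀ v ∈ V, g₀.left v ∈ T.left.basicOpen h) →
      ∃ ψ : (yon S).obj (Over.mk (V.ι ≫ U₀.hom)) ⟶ G, RepWith @Etale ψ ∧
        ψ ≫ j = (yon S).map (Over.homMk V.ι rfl : Over.mk (V.ι ≫ U₀.hom) ⟶ U₀) ≫ a := by
    intro V hV hVO
    let jV : Over.mk (V.ι ≫ U₀.hom) ⟶ U₀ := Over.homMk V.ι rfl
    have hr : Set.range (V.ι ≫ g₀.left) ⊆ Set.range (T.left.basicOpen h).ι := by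
      rintro - ⟨z, rfl⟩
      rw [Scheme.Opens.range_ι]
      exact hVO _ z.2
    let gV : Over.mk (V.ι ≫ U₀.hom) ⟶ O := Over.homMk (IsOpenImmersion.lift _ _ hr) (by
      show _ ≫ (T.left.basicOpen h).ι ≫ T.hom = V.ι ≫ U₀.hom
      rw [IsOpenImmersion.lift_fac_assoc, Category.assoc, Over.w g₀])
    have hgV : gV ≫ jO = jV ≫ g₀ := Over.OverMorphism.ext (IsOpenImmersion.lift_fac _ _ hr)
    let ψ : (yon S).obj (Over.mk (V.ι ≫ U₀.hom)) ⟶ G := sqG.lift ((yon S).map jV ≫ a) ((yon S).map gV)
      (by rw [Category.assoc, ← hg₀, ← Functor.map_comp, ← Functor.map_comp, hgV])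
    have hψ : ψ ≫ j = (yon S).map jV ≫ a := sqG.lift_fst _ _ _
    refine ⟨ψ, ?_, hψ⟩
    haveI : Etale jV.left := inferInstanceAs (Etale V.ι)
    have hc : RepWith @Etale ((yon S).map jV ≫ a) :=
      MorphismProperty.comp_mem (W := RepWith (@Etale : MorphismProperty Scheme.{u})) _ _
        ((repWith_yon_map_iff _ _).2 inferInstance) ha
    have sqψ : IsPullback (𝟙 _) ψ ((yon S).map jV ≫ a) j := by
      refine (IsPullback.of_horiz_isIso (fst := 𝟙 ((yon S).obj (Over.mk (V.ι ≫ U₀.hom)))) (snd := ψ) (f := ψ)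
        (g := 𝟙 G) ⟨by simp⟩).paste_vert (IsKernelPair.id_of_mono j) |>.of_iso (Iso.refl _) (Iso.refl _) (Iso.refl _)
        (Iso.refl _) (by simp) (by simp) (by simp [hψ]) (by simp)
    exact (repWith_isStableUnderBaseChange _).of_isPullback sqψ hc
  obtain ⟨V₀, hV₀, huV₀, hV₀O⟩ :=
    exists_isAffineOpen_mem_and_subset (U := g₀.left ⁻¹ᵁ T.left.basicOpen h) (x := u₀) hτO
  obtain ⟨ψ₀, hψ₀, hψ₀j⟩ := hlift V₀ hV₀ fun v hv => hV₀O hv
  haveI : IsAffine (Over.mk (V₀.ι ≫ U₀.hom) : Over S).left := hV₀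
  let xG := Points.ofPt ψ₀ (⟨u₀, huV₀⟩ : V₀.toScheme)
  have hxG : Points.map j xG = Points.ofPt a u₀ := by
    rw [Points.map_ofPt, hψ₀j, ofPt_comp]
    rfl
  obtain ⟨p, hp, hpm, -⟩ := (finite_fibres_iff_mono_point hG xG hψ₀).1
    ⟨⟨_, rfl⟩, finite_fibres_descend hG fO _ _ _ sqG' hd' ψ₀ hψ₀ xG⟩
  haveI := hpm
  haveI hm' : Mono (p.map j).toHom := by rw [FieldPt.toHom_map]; exact mono_comp _ _
  have hp' : Points.mk (p.map j) = Points.ofPt a u₀ := by rw [← Points.map_mk, hp, hxG]
  refine ⟨p.map j, hp', hm', ?_⟩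
  obtain ⟨P, c, d, sqT⟩ := exists_isPullback_yon hF.diag (p.map j).toHom a
  haveI : Mono d := ⟨fun {Z} α β e => (yon S).map_injective (sqT.hom_ext
    (by rw [← cancel_mono (p.map j).toHom, Category.assoc, Category.assoc, sqT.w, ← Category.assoc, ← Category.assoc,
          ← Functor.map_comp, ← Functor.map_comp, e])
    (by rw [← Functor.map_comp, ← Functor.map_comp, e]))⟩
  haveI := mono_left_of_mono d
  have := quasiCompact_descends.{u}
  have := isLocalAtTarget_fppf.{u} @QuasiCompact
  refine (repWith_iff_of_chart (P := @QuasiCompact) (Functor.relativelyRepresentable.of_diag hF.diag _) ha has sqT).2 ?_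
  rw [IsZariskiLocalAtTarget.iff_of_iSup_eq_top (P := @QuasiCompact) _ (iSup_affineOpens_eq_top U₀.left)]
  intro V
  haveI : IsAffine V.1.toScheme := V.2
  refine (quasiCompact_iff_compactSpace _).2 ?_
  have hfin : {v : ↥U₀.left | v ∈ V.1 ∧ Points.ofPt a v = Points.ofPt a u₀}.Finite := by
    have hover : ∀ v, Points.ofPt a v = Points.ofPt a u₀ → g₀.left v = g₀.left u₀ := by
      intro v hv
      have := congrArg (Points.map π) hv
      rw [Points.map_ofPt, Points.map_ofPt, ← hg₀, ofPt_yon_map, ofPt_yon_map] at this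
      exact (Points.schemeHomeo T).injective this
    have hc : IsCompact {v : ↥V.1.toScheme | (V.1.ι ≫ g₀.left) v = g₀.left u₀} :=
      isCompact_fibre_of_affine (V.1.ι ≫ g₀.left) _
    have hloc : ∀ v : {v : ↥V.1.toScheme // g₀.left v.1 = g₀.left u₀}, ∃ N : U₀.left.Opens, v.1.1 ∈ N ∧
        (Points.ofPt a ⁻¹' {Points.ofPt a u₀} ∩ N).Finite := by
      intro v
      obtain ⟨N, hN, hvN, hNO⟩ := exists_isAffineOpen_mem_and_subset (U := g₀.left ⁻¹ᵁ T.left.basicOpen h)
        (x := v.1.1) (show g₀.left v.1.1 ∈ T.left.basicOpen h by rw [v.2]; exact hτO)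
      refine ⟨N, hvN, ?_⟩
      obtain ⟨ψ, hψ, hψj⟩ := hlift N hN fun z hz => hNO hz
      haveI : IsAffine (Over.mk (N.ι ≫ U₀.hom) : Over S).left := hN
      refine ((finite_fibres_descend hG fO _ _ _ sqG' hd' ψ hψ xG).1.image N.ι).subset fun z hz => ?_
      refine ⟨⟨z, hz.2⟩, injective_map_of_mono j ?_, rfl⟩
      rw [hxG, Points.map_ofPt, hψj, ofPt_comp]
      exact hz.1
    choose N hNv hNfin using hloc
    let NV : {v : ↥V.1.toScheme // g₀.left v.1 = g₀.left u₀} → Set ↥V.1.toScheme :=
      fun v => ((V.1.ι ⁻¹ᵁ N v : V.1.toScheme.Opens) : Set _)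
    obtain ⟨I, hI⟩ := hc.elim_finite_subcover NV
      (fun v => (V.1.ι ⁻¹ᵁ N v).isOpen) (fun v hv => Set.mem_iUnion.2 ⟨⟨v, hv⟩, hNv ⟨v, hv⟩⟩)
    refine (I.finite_toSet.biUnion fun i _ => hNfin i).subset fun v hv => ?_
    obtain ⟨i, hi, hvi⟩ := Set.mem_iUnion₂.1 (hI (a := (⟨v, hv.1⟩ : ↥V.1.toScheme)) (hover v hv.2))
    exact Set.mem_iUnion₂.2 ⟨i, hi, hv.2, hvi⟩
  haveI := hfin.to_subtype
  haveI : Finite ↥(d.left ⁻¹ᵁ V.1).toScheme := by
    refine Finite.of_injective (β := {v : ↥U₀.left | v ∈ V.1 ∧ Points.ofPt a v = Points.ofPt a u₀})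
      (fun z => ⟨d.left z.1, z.2, ?_⟩) (fun z z' e => Subtype.ext (injective_of_mono d.left (congrArg Subtype.val e)))
    rw [← ofPt_eq_of_isPullback sqT z.1, ← hp']
    exact Points.ofPt_toHom _ _
  exact Finite.compactSpace

end Groth.Agent.SpFP87

namespace Groth.Agent.SpFP87
variable {S : Scheme.{u}}

/-- If the base change of `f` to an etale cover of the target is decent, so is `f`. -/
theorem isDecentMor_of_etale_cover {X Y : Sp S} (hX : IsAlgSpace X) (hY : IsAlgSpace Y) (f : X ⟶ Y) {V : Over S}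
    (p : (yon S).obj V ⟶ Y) (hp : RepWith @Etale p) (hps : RepWith @Surjective p) {X' : Sp S} {fst : X' ⟶ X}
    {snd : X' ⟶ (yon S).obj V} (hsq : IsPullback fst snd f p) (h : IsDecentMor snd) : IsDecentMor f := by
  intro T F' g fst' snd' sq
  obtain ⟨T', b, c, sqT⟩ := exists_isPullback_yon hY.diag g p
  haveI : Etale b.left := etale_snd_of_isPullback sqT.flip hp
  haveI : Surjective b.left :=
    (repWith_yon_map_iff _ _).1 ((repWith_isStableUnderBaseChange _).of_isPullback sqT.flip hps)
  have sqF := IsPullback.of_hasPullback snd' ((yon S).map b)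
  refine isDecent_of_etale_base (isAlgSpace_of_isPullback sq hX (IsAlgSpace.yon_obj T) hY.diag) snd' b _ _ sqF ?_
  have big := sqF.paste_horiz sq
  rw [sqT.w] at big
  let m : pullback snd' ((yon S).map b) ⟶ X' := hsq.lift (pullback.fst _ _ ≫ fst') (pullback.snd _ _ ≫ (yon S).map c)
    (big.w.trans (Category.assoc _ _ _).symm)
  exact isDecentMor_baseChange (IsPullback.of_right (by rw [show m ≫ fst = _ from hsq.lift_fst _ _ _]; exact big) (hsq.lift_snd _ _ _) hsq) h

end Groth.Agent.SpFP87
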