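import Groth.Agent.SpFP87.CartierDesc
import Groth.Agent.SpFP87.FppfRep
import Groth.Agent.SpFP87.Reduced
import Groth.Agent.SpPts86.Basic
import Groth.Agent.Div89.BlowUp
/-!
Effective Cartier divisors on algebraic spaces.
-/

set_option autoImplicit false
set_option linter.style.haveILetI false
set_option backward.isDefEq.respectTransparency false
universe u
open CategoryTheory CategoryTheory.Limits AlgebraicGeometry Opposite
open AlgSp
open Groth.Agent.SpPts86

namespace Groth.Agent.SpFP87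

variable {S : Scheme.{u}} {D X : Sp S} {i : D ⟶ X} (hi : RepWith @IsClosedImmersion i)

/-- The ideal of the inverse image of a closed subspace on a scheme over the space. -/
noncomputable def idealOf {V : Over S} (g : (yon S).obj V ⟶ X) : V.left.IdealSheafData :=
  (hi.rep.snd g).left.ker

theorem idealOf_eq {V W : Over S} (g : (yon S).obj V ⟶ X) {fst : (yon S).obj W ⟶ D} {w : W ⟶ V}
    (sq : IsPullback fst ((yon S).map w) i g) : idealOf hi g = w.left.ker := by
  let e := sq.isoIsPullback _ _ (hi.rep.isPullback g)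
  obtain ⟨k, hk⟩ := (yon S).map_surjective e.hom
  haveI : IsIso ((yon S).map k) := hk ▸ inferInstance
  haveI : IsIso k := isIso_of_fully_faithful (yon S) k
  haveI : IsIso k.left := inferInstanceAs (IsIso ((Over.forget S).map k))
  have hw : k ≫ hi.rep.snd g = w := (yon S).map_injective (by
    rw [Functor.map_comp, hk]
    exact sq.isoIsPullback_hom_snd _ _ (hi.rep.isPullback g))
  rw [← hw, Over.comp_left, Scheme.Hom.ker_comp_of_isIso]
  rfl

theorem idealOf_comp {V U : Over S} (g : (yon S).obj V ⟶ X) (c : U ⟶ V) :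
    idealOf hi ((yon S).map c ≫ g) = (idealOf hi g).comap c.left := by
  haveI : IsClosedImmersion (hi.rep.snd g).left := hi.property_snd g
  let R : Over S := Over.mk (pullback.fst c.left (hi.rep.snd g).left ≫ U.hom)
  let r : R ⟶ U := Over.homMk (pullback.fst c.left (hi.rep.snd g).left) rfl
  let r' : R ⟶ hi.rep.pullback g := Over.homMk (pullback.snd c.left (hi.rep.snd g).left) (by
    show pullback.snd _ _ ≫ (hi.rep.pullback g).hom = pullback.fst _ _ ≫ U.hom
    rw [← Over.w (hi.rep.snd g), ← Over.w c, pullback.condition_assoc])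
  have h1 : IsPullback r' r (hi.rep.snd g) c := by
    refine IsPullback.of_map (Over.forget S) (Over.OverMorphism.ext pullback.condition.symm) ?_
    exact (IsPullback.of_hasPullback c.left (hi.rep.snd g).left).flip
  rw [idealOf_eq hi _ ((h1.map (yon S)).paste_horiz (hi.rep.isPullback g))]
  exact Scheme.IdealSheafData.ker_fst_of_isClosedImmersion _ _

theorem exists_square_idealOf {V : Over S} (g : (yon S).obj V ⟶ X) :
    ∃ fst : (yon S).obj (Over.mk ((idealOf hi g).subschemeι ≫ V.hom)) ⟶ D,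
      IsPullback fst ((yon S).map (Over.homMk (idealOf hi g).subschemeι rfl :
        Over.mk ((idealOf hi g).subschemeι ≫ V.hom) ⟶ V)) i g := by
  haveI : IsClosedImmersion (hi.rep.snd g).left := hi.property_snd g
  let t : (hi.rep.snd g).left.image ⟶ (hi.rep.pullback g).left := inv (hi.rep.snd g).left.toImage
  have ht : t ≫ (hi.rep.snd g).left = (hi.rep.snd g).left.imageι := by
    rw [IsIso.inv_comp_eq, Scheme.Hom.toImage_imageι]
  let W : Over S := Over.mk ((idealOf hi g).subschemeι ≫ V.hom)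
  let k : W ≅ hi.rep.pullback g := Over.isoMk (asIso t) (by
    show t ≫ (hi.rep.pullback g).hom = (idealOf hi g).subschemeι ≫ V.hom
    rw [← Over.w (hi.rep.snd g), ← Category.assoc, ht]
    rfl)
  refine ⟨(yon S).map k.hom ≫ hi.rep.fst g, (hi.rep.isPullback g).of_iso ((yon S).mapIso k).symm (Iso.refl _)
    (Iso.refl _) (Iso.refl _) ?_ ?_ (by simp) (by simp)⟩
  · simp
  · rw [Iso.refl_hom, Category.comp_id, Iso.symm_hom, Functor.mapIso_inv, ← Functor.map_comp]
    congr 1
    rw [Iso.eq_inv_comp]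
    exact Over.OverMorphism.ext ht

/-- `D` is Cartier on a chart. -/
def CartierOn {V : Over S} (g : (yon S).obj V ⟶ X) : Prop :=
  BlowUp.IsEffCartierIdeal (idealOf hi g)

theorem isEffCartierSub_iff :
    IsEffCartierSub i ↔ ∃ (V : Over S) (φ : (yon S).obj V ⟶ X),
      RepWith @Etale φ ∧ RepWith @Surjective φ ∧ CartierOn hi φ := by
  constructor
  · rintro ⟨-, V, φ, I, fst, he, hs, sq, hI⟩
    refine ⟨V, φ, he, hs, ?_⟩
    show BlowUp.IsEffCartierIdeal _
    rw [idealOf_eq hi φ sq]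
    show BlowUp.IsEffCartierIdeal I.subschemeι.ker
    rw [Scheme.IdealSheafData.ker_subschemeι]
    exact hI
  · rintro ⟨V, φ, he, hs, hI⟩
    obtain ⟨fst, sq⟩ := exists_square_idealOf hi φ
    exact ⟨hi, V, φ, _, fst, he, hs, sq, hI⟩

theorem cartierOn_of_flat {V U : Over S} (g : (yon S).obj V ⟶ X) (c : U ⟶ V) [Flat c.left]
    (h : CartierOn hi g) : CartierOn hi ((yon S).map c ≫ g) := by
  show BlowUp.IsEffCartierIdeal _
  rw [idealOf_comp]
  exact Groth.Agent.Div89.isEffCartier_comap_of_flat c.left h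

/-- Being Cartier on a chart may be tested on etale charts hitting every point. -/
theorem cartierOn_of_local (hX : IsAlgSpace X) {U : Over S} (φ : (yon S).obj U ⟶ X) (hφ : RepWith @Etale φ)
    (H : ∀ u : ↥U.left, ∃ (V : Over S) (a : (yon S).obj V ⟶ X) (v : ↥V.left),
      RepWith @Etale a ∧ Points.ofPt a v = Points.ofPt φ u ∧ CartierOn hi a) : CartierOn hi φ := by
  refine isEffCartier_of_flat_nhds fun u => ?_
  obtain ⟨V, a, v, ha, hav, hc⟩ := H u
  obtain ⟨R, p, q, sq⟩ := exists_isPullback_yon hX.diag φ a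
  haveI : Etale q.left := etale_snd_of_isPullback sq hφ
  haveI : Etale p.left := etale_snd_of_isPullback sq.flip ha
  obtain ⟨r, hr, -⟩ := exists_pt_of_isPullback' sq u v hav.symm
  refine ⟨R.left, p.left, inferInstance, inferInstance, ⟨r, hr⟩, ?_⟩
  rw [← idealOf_comp, sq.w, idealOf_comp]
  exact Groth.Agent.Div89.isEffCartier_comap_of_flat q.left hc

theorem cartierOn_of_isEffCartierSub (hX : IsAlgSpace X) (h : IsEffCartierSub i) {U : Over S}
    (φ : (yon S).obj U ⟶ X) (hφ : RepWith @Etale φ) : CartierOn hi φ := by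
  obtain ⟨V, a, ha, has, hc⟩ := (isEffCartierSub_iff hi).1 h
  refine cartierOn_of_local hi hX φ hφ fun u => ?_
  obtain ⟨v, hv⟩ := surjective_ofPt has (Points.ofPt φ u)
  exact ⟨V, a, v, ha, hv, hc⟩

theorem isEffCartierSub_of_forall (hX : IsAlgSpace X)
    (h : ∀ {U : Over S} (φ : (yon S).obj U ⟶ X), RepWith @Etale φ → CartierOn hi φ) : IsEffCartierSub i := by
  obtain ⟨U, φ, he, hs⟩ := hX.atlas
  exact (isEffCartierSub_iff hi).2 ⟨U, φ, he, hs, h φ he⟩

theorem cartierOn_iff_forall {U : Over S} (φ : (yon S).obj U ⟶ X) :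
    CartierOn hi φ ↔ ∀ (I : U.left.IdealSheafData)
      (fst : (yon S).obj (Over.mk (I.subschemeι ≫ U.hom)) ⟶ D),
      IsPullback fst ((yon S).map (Over.homMk I.subschemeι rfl : Over.mk (I.subschemeι ≫ U.hom) ⟶ U)) i φ →
        BlowUp.IsEffCartierIdeal I := by
  refine ⟨fun h I fst sq => ?_, fun h => ?_⟩
  · let w : Over.mk (I.subschemeι ≫ U.hom) ⟶ U := Over.homMk I.subschemeι rfl
    have e := idealOf_eq (w := w) hi φ sq
    have h' : BlowUp.IsEffCartierIdeal (idealOf hi φ) := h
    rw [e] at h'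
    have h'' : BlowUp.IsEffCartierIdeal I.subschemeι.ker := h'
    rwa [Scheme.IdealSheafData.ker_subschemeι] at h''
  · obtain ⟨fst, sq⟩ := exists_square_idealOf hi φ
    exact h _ fst sq

theorem isEffCartierSub_baseChange_of_flat {Y P : Sp S} {j : D ⟶ Y} (hX : IsAlgSpace X) (hY : IsAlgSpace Y)
    (f : X ⟶ Y) (hf : LocP @Flat f) (hD : IsEffCartierSub j) {fst : P ⟶ D} {snd : P ⟶ X}
    (sq : IsPullback fst snd j f) : IsEffCartierSub snd := by
  have hj : RepWith @IsClosedImmersion j := hD.1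
  have hs : RepWith @IsClosedImmersion snd := (repWith_isStableUnderBaseChange _).of_isPullback sq hj
  obtain ⟨V, b, hb, hbs, hc⟩ := (isEffCartierSub_iff hj).1 hD
  obtain ⟨U, a, s, ha, has, w⟩ := exists_compatible_chart f hX hY.diag hb hbs
  haveI : Flat s.left := hf a b s ha hb w
  refine (isEffCartierSub_iff hs).2 ⟨U, a, ha, has, ?_⟩
  show BlowUp.IsEffCartierIdeal _
  have e : idealOf hs a = idealOf hj ((yon S).map s ≫ b) := by
    rw [← w]
    exact (idealOf_eq hj (a ≫ f) ((hs.rep.isPullback a).paste_horiz sq)).symm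
  rw [e]
  exact cartierOn_of_flat hj b s hc


theorem cartierOn_of_notMem {U : Over S} (φ : (yon S).obj U ⟶ X) (u : ↥U.left)
    (hu : Points.ofPt φ u ∉ Set.range (Points.map i)) :
    ∃ (V : Over S) (c : V ⟶ U) (v : ↥V.left), Etale c.left ∧ c.left v = u ∧ CartierOn hi ((yon S).map c ≫ φ) := by
  haveI : IsClosedImmersion (hi.rep.snd φ).left := hi.property_snd φ
  have hsup : ∀ z : ↥U.left, z ∈ (idealOf hi φ).support → Points.ofPt φ z ∈ Set.range (Points.map i) := fun z hz => by
    have hr : z ∈ Set.range (hi.rep.snd φ).left := by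
      have h2 : z ∈ ((hi.rep.snd φ).left.ker.support : Set ↥U.left) := hz
      rwa [Scheme.Hom.support_ker, (hi.rep.snd φ).left.isClosedEmbedding.isClosed_range.closure_eq] at h2
    rwa [← preimage_ofPt_range_map (hi.rep.isPullback φ)] at hr
  let O : U.left.Opens := (idealOf hi φ).support.compl
  refine ⟨Over.mk (O.ι ≫ U.hom), Over.homMk O.ι rfl, ⟨u, fun h => hu (hsup u h)⟩, inferInstanceAs (Etale O.ι), rfl, ?_⟩
  show BlowUp.IsEffCartierIdeal _
  rw [idealOf_comp]
  exact Groth.Agent.Div89.isEffCartier_of_support_empty fun z =>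
    Groth.Agent.Div89.notMem_support_comap _ _ z z.2

open Groth.Agent.Div89 in
theorem exists_affine_generator {U : Scheme.{u}} {I : U.IdealSheafData} (hI : BlowUp.IsEffCartierIdeal I) (u : U) :
    ∃ (V : Scheme.{u}) (c : V ⟶ U) (_ : IsAffine V) (v : V) (f : Γ(V, ⊤)), IsOpenImmersion c ∧ c v = u ∧
      f ∈ nonZeroDivisors Γ(V, ⊤) ∧ (I.comap c).ideal ⟨⊤, isAffineOpen_top V⟩ = Ideal.span {f} := by
  obtain ⟨W, hu, f, hf, hfI⟩ := hI u
  haveI : IsAffine W.1.toScheme := W.2
  have hle : (⊤ : W.1.toScheme.Opens) ≤ W.1.ι ⁻¹ᵁ W.1 := fun z _ => z.2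
  let f' : Γ(W.1.toScheme, ⊤) := (W.1.ι.appLE W.1 ⊤ hle).hom f
  have hg : ∀ z : W.1.toScheme, (W.1.toScheme.presheaf.germ ⊤ z trivial).hom f' =
      (W.1.ι.stalkMap z).hom ((U.presheaf.germ W.1 (W.1.ι z) z.2).hom f) := fun z => by
    erw [Scheme.Hom.germ_stalkMap_apply]
    exact W.1.toScheme.presheaf.germ_res_apply (homOfLE hle) z trivial (W.1.ι.app W.1 f)
  refine ⟨W.1.toScheme, W.1.ι, inferInstance, ⟨u, hu⟩, f', inferInstance, rfl,
    mem_nonZeroDivisors_of_germ ⟨⊤, isAffineOpen_top _⟩ f' fun z _ => ?_, ideal_eq_span_of_stalk fun z _ => ?_⟩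
  · rw [hg z]
    exact flat_map_nonZeroDivisors (Flat.stalkMap W.1.ι z) (germ_mem_nonZeroDivisors W hf _ z.2)
  · rw [stalkIdeal_comap, stalkIdeal_eq_span hfI (W.1.ι z) z.2, Ideal.map_span, Set.image_singleton, hg z]

theorem isEffCartierIdeal_of_global {U : Scheme.{u}} [IsAffine U] {I : U.IdealSheafData} {f : Γ(U, ⊤)}
    (hf : f ∈ nonZeroDivisors Γ(U, ⊤)) (h : I.ideal ⟨⊤, isAffineOpen_top U⟩ = Ideal.span {f}) :
    BlowUp.IsEffCartierIdeal I := fun _ => ⟨⟨⊤, isAffineOpen_top U⟩, trivial, f, hf, h⟩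

include hi in
theorem isEffCartierSub_iff_pointwise (hX : IsAlgSpace X) :
    IsEffCartierSub i ↔ ∀ x : Points D,
      ∃ (U : Over S) (_ : IsAffine U.left) (a : (yon S).obj U ⟶ X) (u : ↥U.left)
        (f : Γ(U.left, ⊤)) (I : U.left.IdealSheafData)
        (fst : (yon S).obj (Over.mk (I.subschemeι ≫ U.hom)) ⟶ D),
        RepWith @Etale a ∧ Points.ofPt a u = Points.map i x ∧
          f ∈ nonZeroDivisors Γ(U.left, ⊤) ∧
          I.ideal ⟨⊤, isAffineOpen_top U.left⟩ = Ideal.span {f} ∧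
          IsPullback fst ((yon S).map (Over.homMk I.subschemeι rfl : Over.mk (I.subschemeι ≫ U.hom) ⟶ U)) i a := by
  constructor
  · intro h x
    obtain ⟨U, φ, hφ, hφs, hc⟩ := (isEffCartierSub_iff hi).1 h
    obtain ⟨u, hu⟩ := surjective_ofPt hφs (Points.map i x)
    obtain ⟨V, c, hV, v, f, hc', hcv, hf, hfI⟩ := exists_affine_generator hc u
    let V' : Over S := Over.mk (c ≫ U.hom)
    let c' : V' ⟶ U := Over.homMk c rfl
    haveI : Etale c'.left := inferInstanceAs (Etale c)
    have ha : RepWith @Etale ((yon S).map c' ≫ φ) :=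
      MorphismProperty.comp_mem (W := RepWith (@Etale : MorphismProperty Scheme.{u})) _ _
        ((repWith_yon_map_iff _ _).2 inferInstance) hφ
    obtain ⟨fst, sq⟩ := exists_square_idealOf hi ((yon S).map c' ≫ φ)
    refine ⟨V', hV, (yon S).map c' ≫ φ, v, f, idealOf hi ((yon S).map c' ≫ φ), fst, ha, ?_, hf, ?_, sq⟩
    · rw [ofPt_comp]
      show Points.ofPt φ (c v) = _
      rw [hcv, hu]
    · rw [idealOf_comp]
      exact hfI
  · intro h
    refine isEffCartierSub_of_forall hi hX fun {U} φ hφ => cartierOn_of_local hi hX φ hφ fun u => ?_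
    by_cases hu : Points.ofPt φ u ∈ Set.range (Points.map i)
    · obtain ⟨x, hx⟩ := hu
      obtain ⟨V, hV, a, v, f, I, fst, ha, hav, hf, hfI, sq⟩ := h x
      refine ⟨V, a, v, ha, hav.trans hx, ?_⟩
      let w : Over.mk (I.subschemeι ≫ V.hom) ⟶ V := Over.homMk I.subschemeι rfl
      show BlowUp.IsEffCartierIdeal _
      rw [idealOf_eq (w := w) hi a sq]
      show BlowUp.IsEffCartierIdeal I.subschemeι.ker
      rw [Scheme.IdealSheafData.ker_subschemeι]
      haveI := hV
      exact isEffCartierIdeal_of_global hf hfI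
    · obtain ⟨V, c, v, hc, hcv, hC⟩ := cartierOn_of_notMem hi φ u hu
      refine ⟨V, _, v, MorphismProperty.comp_mem (W := RepWith (@Etale : MorphismProperty Scheme.{u})) _ _
        ((repWith_yon_map_iff _ c).2 hc) hφ, ?_, hC⟩
      rw [ofPt_comp, hcv]

end Groth.Agent.SpFP87
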