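import Groth.Agent.SpFP87.RedInduced
import Groth.Agent.SpPts86.DecentPts
/-!
Integral closed subspaces.
-/

set_option autoImplicit false
set_option linter.style.haveILetI false
set_option backward.isDefEq.respectTransparency false
universe u
open CategoryTheory CategoryTheory.Limits AlgebraicGeometry Opposite Topology
open AlgSp
open Groth.Agent.SpPts86

namespace Groth.Agent.SpFP87

variable {S : Scheme.{u}} {X Z : Sp S}

theorem isClosedEmbedding_map_of_closedImmersion (hX : IsAlgSpace X) {i : Z ⟶ X}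
    (hi : RepWith @IsClosedImmersion i) : IsClosedEmbedding (Points.map i) := by
  haveI := mono_of_repWith_le (P := @IsClosedImmersion)
    (fun _ _ f (_ : IsClosedImmersion f) => inferInstanceAs (Mono f)) hi
  refine IsClosedEmbedding.of_continuous_injective_isClosedMap (Points.continuous_map i) (injective_map_of_mono i)
    fun A hA => ?_
  obtain ⟨U, a, ha, has⟩ := hX.atlas
  rw [← (isOpenQuotientMap_ofPt ha has).isQuotientMap.isClosed_preimage,
    preimage_ofPt_image_map (hi.rep.isPullback a)]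
  haveI : IsClosedImmersion (hi.rep.snd a).left := hi.property_snd a
  exact (hi.rep.snd a).left.isClosedEmbedding.isClosedMap _ (hA.preimage (Points.continuous_ofPt _))

theorem exists_integral_closed_subspace (hX : IsAlgSpace X) (hd : IsDecent X) (T : Set (Points X))
    (hT : IsClosed T) (hTi : IsIrreducible T) :
    ∃ (Z : Sp S) (i : Z ⟶ X), IsAlgSpace Z ∧ RepWith @IsClosedImmersion i ∧ IsIntegralSp Z ∧
      Set.range (Points.map i) = T := by
  obtain ⟨Z, i, hZ, hi, hr, hred⟩ := exists_isRedInduced hX T hT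
  have he := isClosedEmbedding_map_of_closedImmersion hX hi
  have hirr : IsIrreducible (Set.univ : Set (Points Z)) := by
    refine ⟨?_, ?_⟩
    · obtain ⟨x, hx⟩ := hTi.1
      obtain ⟨z, -⟩ := hr.ge hx
      exact ⟨z, trivial⟩
    · intro O O' hO hO' ⟨z, _, hz⟩ ⟨z', _, hz'⟩
      obtain ⟨V, hV, rfl⟩ := he.isInducing.isOpen_iff.1 hO
      obtain ⟨V', hV', rfl⟩ := he.isInducing.isOpen_iff.1 hO'
      obtain ⟨x, hxT, hx⟩ := hTi.2 V V' hV hV' ⟨_, hr.le ⟨z, rfl⟩, hz⟩ ⟨_, hr.le ⟨z', rfl⟩, hz'⟩
      obtain ⟨w, rfl⟩ := hr.ge hxT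
      exact ⟨w, trivial, hx⟩
  refine ⟨Z, i, hZ, hi, ⟨hred, isDecent_of_representable i hi.1 hd, ?_⟩, hr⟩
  haveI : Nonempty (Points Z) := ⟨hirr.1.some⟩
  exact { isPreirreducible_univ := hirr.2, toNonempty := ‹_› }

end Groth.Agent.SpFP87
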