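import Groth.Agent.SpFP87.ThickCart
import Groth.Agent.SpFP87.FlatAt
import Groth.Agent.SpFP87.RepDescProps
import Groth.Agent.SpFP87.FpqcMono
import Groth.Agent.SpPts86.Props
import Groth.Agent.SpPts86.Graph
import Groth.Agent.S1309
import Groth.Agent.S1310
import Groth.Agent.S1317
import Groth.Agent.S1318
import Groth.Agent.S1319
import Groth.Agent.S1320
import Groth.Agent.S1321
import Groth.Agent.S1322
import Groth.Agent.S1323
import Groth.Agent.S1381
import Groth.Agent.S1382
import Groth.Agent.S1384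
import Groth.Agent.S1385
/-!
Deformations of morphisms of algebraic spaces along thickenings of the base.
-/

set_option autoImplicit false
set_option linter.style.haveILetI false
set_option backward.isDefEq.respectTransparency false
universe u
open CategoryTheory CategoryTheory.Limits AlgebraicGeometry
open AlgSp
open Groth.Agent.SpPts86

namespace Groth.Agent.SpFP87

variable {S : Scheme.{u}}

/-- A cartesian square of schemes over `S` is cartesian as presheaves. -/
theorem isPullback_yon_of_left {A B C D : Over S} {p : A ⟶ B} {q : A ⟶ C} {r : B ⟶ D} {s : C ⟶ D}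
    (sq : IsPullback p.left q.left r.left s.left) :
    IsPullback ((yon S).map p) ((yon S).map q) ((yon S).map r) ((yon S).map s) :=
  (IsPullback.of_map (Over.forget S) (Over.OverMorphism.ext sq.w) sq).map (yon S)

/-- A finite order thickening of spaces gives finite order thickenings of etale charts. -/
theorem isNilpotent_ker_of_affLocT {n : ℕ} {B B' : Sp S} {iB : B ⟶ B'} (hn : AffLocT (powZero n) iB)
    {V V₀ : Over S} {c : (yon S).obj V ⟶ B'} {c₀ : (yon S).obj V₀ ⟶ B} {iV : V₀ ⟶ V}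
    (hc : RepWith @Etale c) (sqc : IsPullback c₀ ((yon S).map iV) iB c) [IsClosedImmersion iV.left] :
    IsNilpotent iV.left.ker := by
  refine ⟨n + 1, Scheme.IdealSheafData.ext (funext fun Vo => ?_)⟩
  let Va : Over S := Over.mk (Vo.1.ι ≫ V.hom)
  let P : Over S := Over.mk ((iV.left ⁻¹ᵁ Vo.1).ι ≫ V₀.hom)
  let jo : P ⟶ V₀ := Over.homMk (iV.left ⁻¹ᵁ Vo.1).ι rfl
  let ιV : Va ⟶ V := Over.homMk Vo.1.ι rfl
  let r : P ⟶ Va := Over.homMk (iV.left ∣_ Vo.1) (by
    show (iV.left ∣_ Vo.1) ≫ Vo.1.ι ≫ V.hom = (iV.left ⁻¹ᵁ Vo.1).ι ≫ V₀.hom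
    rw [morphismRestrict_ι_assoc, Over.w iV])
  haveI : Etale ιV.left := inferInstanceAs (Etale Vo.1.ι)
  haveI : IsAffine Va.left := Vo.2
  have sq := (isPullback_yon_of_left (p := jo) (q := r) (r := iV) (s := ιV)
    (isPullback_morphismRestrict iV.left Vo.1).flip).paste_horiz sqc
  have h : powZero n (iV.left ∣_ Vo.1) := hn _ _ r ‹_› (repWith_etale_comp ιV hc) sq
  have h1 : ((iV.left ∣_ Vo.1).ker ^ (n + 1)).ideal ⟨⊤, @isAffineOpen_top _ Vo.2⟩ = ⊥ := by
    rw [show (iV.left ∣_ Vo.1).ker ^ (n + 1) = ⊥ from h, Scheme.IdealSheafData.ideal_bot]; rfl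
  rw [Scheme.IdealSheafData.ideal_pow, Pi.pow_apply, Scheme.ker_morphismRestrict_ideal] at h1
  rw [Scheme.IdealSheafData.ideal_pow, Pi.pow_apply, Scheme.IdealSheafData.zero_eq_bot,
    Scheme.IdealSheafData.ideal_bot, Pi.bot_apply]
  have e : ∀ p, (⟨Vo.1.ι ''ᵁ ⊤, p⟩ : V.left.affineOpens) = Vo := fun p => Subtype.ext (Scheme.Opens.ι_image_top _)
  exact (congrArg (fun U : V.left.affineOpens => iV.left.ker.ideal U ^ (n + 1) = ⊥) (e _)).mp h1

variable {X X' Y Y' B B' : Sp S} {iX : X ⟶ X'} {iY : Y ⟶ Y'} {iB : B ⟶ B'} {f : X ⟶ Y} {f' : X' ⟶ Y'}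
  {g : Y ⟶ B} {g' : Y' ⟶ B'}

/-- The base change of a chart triple along a thickening of the base. -/
theorem exists_deform_chart (hj : IsThickMor iB) (hcX : IsPullback iX (f ≫ g) (f' ≫ g') iB)
    (hcY : IsPullback iY g g' iB) (w : iX ≫ f' = f ≫ iY)
    {W U V : Over S} {a : (yon S).obj W ⟶ X'} {b : (yon S).obj U ⟶ Y'} {c : (yon S).obj V ⟶ B'}
    {h : W ⟶ U} {k : U ⟶ V} (ha : RepWith @Etale a) (hb : RepWith @Etale b)
    (wh : a ≫ f' = (yon S).map h ≫ b) (wk : b ≫ g' = (yon S).map k ≫ c) :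
    ∃ (W₀ U₀ V₀ : Over S) (iW : W₀ ⟶ W) (iU : U₀ ⟶ U) (iV : V₀ ⟶ V) (h₀ : W₀ ⟶ U₀) (k₀ : U₀ ⟶ V₀)
      (a₀ : (yon S).obj W₀ ⟶ X) (b₀ : (yon S).obj U₀ ⟶ Y) (c₀ : (yon S).obj V₀ ⟶ B),
      MoreMor.IsThickening iV.left ∧ IsPullback c₀ ((yon S).map iV) iB c ∧
      IsPullback iW.left (h₀.left ≫ k₀.left) (h.left ≫ k.left) iV.left ∧
      IsPullback iU.left k₀.left k.left iV.left ∧ iW.left ≫ h.left = h₀.left ≫ iU.left ∧
      RepWith @Etale a₀ ∧ RepWith @Etale b₀ ∧ a₀ ≫ f = (yon S).map h₀ ≫ b₀ ∧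
      IsPullback a₀ ((yon S).map iW) iX a ∧ IsPullback b₀ ((yon S).map iU) iY b := by
  let V₀ := hj.rep.pullback c
  let iV : V₀ ⟶ V := hj.rep.snd c
  let c₀ : (yon S).obj V₀ ⟶ B := hj.rep.fst c
  have sqc : IsPullback c₀ ((yon S).map iV) iB c := hj.rep.isPullback c
  obtain ⟨U₀, iU, k₀, sqU⟩ := exists_isPullback_yon (IsAlgSpace.yon_obj V).diag ((yon S).map k) ((yon S).map iV)
  obtain ⟨W₀, iW, kW, sqW⟩ :=
    exists_isPullback_yon (IsAlgSpace.yon_obj V).diag ((yon S).map (h ≫ k)) ((yon S).map iV)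
  have wU : ((yon S).map iU ≫ b) ≫ g' = ((yon S).map k₀ ≫ c₀) ≫ iB := by
    rw [Category.assoc, wk, ← Category.assoc, sqU.w, Category.assoc, Category.assoc, sqc.w]
  let b₀ : (yon S).obj U₀ ⟶ Y := hcY.lift ((yon S).map iU ≫ b) ((yon S).map k₀ ≫ c₀) wU
  have sqb : IsPullback b₀ ((yon S).map iU) iY b := by
    refine IsPullback.of_right (h₁₂ := g) (v₁₃ := iB) (h₂₂ := g') ?_ (hcY.lift_fst _ _ _) hcY.flip
    rw [hcY.lift_snd, wk]
    exact sqU.flip.paste_horiz sqc
  have wa : a ≫ f' ≫ g' = (yon S).map (h ≫ k) ≫ c := by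
    rw [reassoc_of% wh, wk, Functor.map_comp, Category.assoc]
  have wW : ((yon S).map iW ≫ a) ≫ f' ≫ g' = ((yon S).map kW ≫ c₀) ≫ iB := by
    rw [Category.assoc, wa, ← Category.assoc, sqW.w, Category.assoc, Category.assoc, sqc.w]
  let a₀ : (yon S).obj W₀ ⟶ X := hcX.lift ((yon S).map iW ≫ a) ((yon S).map kW ≫ c₀) wW
  have sqa : IsPullback a₀ ((yon S).map iW) iX a := by
    refine IsPullback.of_right (h₁₂ := f ≫ g) (v₁₃ := iB) (h₂₂ := f' ≫ g') ?_ (hcX.lift_fst _ _ _) hcX.flip
    rw [hcX.lift_snd, wa]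
    exact sqW.flip.paste_horiz sqc
  obtain ⟨h₀, hh₀⟩ := (yon S).map_surjective (sqU.lift ((yon S).map (iW ≫ h)) ((yon S).map kW)
    (by rw [← Functor.map_comp, Category.assoc, Functor.map_comp]; exact sqW.w))
  have e1 : h₀ ≫ iU = iW ≫ h := (yon S).map_injective (by rw [Functor.map_comp, hh₀, sqU.lift_fst])
  have e2 : h₀ ≫ k₀ = kW := (yon S).map_injective (by rw [Functor.map_comp, hh₀, sqU.lift_snd])
  have w₀ : a₀ ≫ f = (yon S).map h₀ ≫ b₀ := by
    refine hcY.hom_ext ?_ ?_
    · rw [Category.assoc, ← w, ← Category.assoc, hcX.lift_fst, Category.assoc, wh, Category.assoc,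
        hcY.lift_fst, ← Functor.map_comp_assoc, ← Functor.map_comp_assoc, e1]
    · rw [Category.assoc, hcX.lift_snd, Category.assoc, hcY.lift_snd, ← Functor.map_comp_assoc, e2]
  refine ⟨W₀, U₀, V₀, iW, iU, iV, h₀, k₀, a₀, b₀, c₀, hj.property_snd c, sqc, ?_, isPullback_left sqU,
    by rw [← Over.comp_left, ← Over.comp_left, e1],
    (repWith_isStableUnderBaseChange _).of_isPullback sqa.flip ha,
    (repWith_isStableUnderBaseChange _).of_isPullback sqb.flip hb, w₀, sqa, sqb⟩
  rw [← Over.comp_left, ← Over.comp_left, e2]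
  exact isPullback_left sqW

/-- A condition on scheme data `W ⟶ U ⟶ V ⟵ V₀`. -/
abbrev DefCond := ∀ {W U V V₀ : Scheme.{u}}, (W ⟶ U) → (U ⟶ V) → (V₀ ⟶ V) → Prop

/-- Finite order thickening, flat over the base. -/
def CondFO : DefCond.{u} := fun h k i => MoreMor.IsFiniteOrderThickening i ∧ Flat (h ≫ k)

/-- Thickening, flat and of finite presentation over the base, over a finite type target. -/
def CondFP : DefCond.{u} := fun h k i => MoreMor.IsThickening i ∧ Flat (h ≫ k) ∧
  LocallyOfFinitePresentation (h ≫ k) ∧ LocallyOfFiniteType k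

/-- A property of scheme morphisms deforms under the condition `K`. -/
def Deforms (K : DefCond.{u}) (P : MorphismProperty Scheme.{u}) : Prop :=
  ∀ {A A' C C' T T' : Scheme.{u}} (iA : A ⟶ A') (iC : C ⟶ C') (iT : T ⟶ T') (p : A ⟶ C) (p' : A' ⟶ C')
    (q : C ⟶ T) (q' : C' ⟶ T'), K p' q' iT → IsPullback iA (p ≫ q) (p' ≫ q') iT → IsPullback iC q q' iT →
      iA ≫ p' = p ≫ iC → P p → P p'

/-- The condition holds on all charts. -/
def CondHolds (K : DefCond.{u}) (iB : B ⟶ B') (f' : X' ⟶ Y') (g' : Y' ⟶ B') : Prop :=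
  ∀ ⦃W U V V₀ : Over S⦄ (a : (yon S).obj W ⟶ X') (b : (yon S).obj U ⟶ Y') (c : (yon S).obj V ⟶ B')
    (c₀ : (yon S).obj V₀ ⟶ B) (h : W ⟶ U) (k : U ⟶ V) (iV : V₀ ⟶ V), RepWith @Etale a → RepWith @Etale b →
    RepWith @Etale c → a ≫ f' = (yon S).map h ≫ b → b ≫ g' = (yon S).map k ≫ c →
    IsPullback c₀ ((yon S).map iV) iB c → MoreMor.IsThickening iV.left → K h.left k.left iV.left

theorem condHolds_FO (hB : IsFinThickMor iB) (hflat : LocP @Flat (f' ≫ g')) :
    CondHolds CondFO iB f' g' := by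
  intro W U V V₀ a b c c₀ h k iV ha hb hc wh wk sqc ht
  obtain ⟨n, -, hn⟩ := hB
  haveI := ht.1
  refine ⟨⟨ht, isNilpotent_ker_of_affLocT hn hc sqc⟩, ?_⟩
  rw [← Over.comp_left]
  exact hflat a c (h ≫ k) ha hc (by rw [reassoc_of% wh, wk, Functor.map_comp, Category.assoc])

theorem condHolds_FP (hg' : LocP @LocallyOfFiniteType g') (hflat : LocP @Flat (f' ≫ g'))
    (hfp : LocP @LocallyOfFinitePresentation (f' ≫ g')) : CondHolds CondFP iB f' g' := by
  intro W U V V₀ a b c c₀ h k iV ha hb hc wh wk sqc ht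
  have w : a ≫ f' ≫ g' = (yon S).map (h ≫ k) ≫ c := by
    rw [reassoc_of% wh, wk, Functor.map_comp, Category.assoc]
  exact ⟨ht, hflat a c (h ≫ k) ha hc w, hfp a c (h ≫ k) ha hc w, hg' b c k hb hc wk⟩

variable {K : DefCond.{u}}

theorem locP_deform (hX' : IsAlgSpace X') (hY' : IsAlgSpace Y') (hB' : IsAlgSpace B') (hj : IsThickMor iB)
    (hcX : IsPullback iX (f ≫ g) (f' ≫ g') iB) (hcY : IsPullback iY g g' iB) (w : iX ≫ f' = f ≫ iY)
    (hK : CondHolds K iB f' g') {P : MorphismProperty Scheme.{u}} [EtLoc P] (hP : Deforms K P)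
    (hf : LocP P f) : LocP P f' := by
  obtain ⟨V, c, hc, hcs⟩ := hB'.atlas
  obtain ⟨U, b, k, hb, hbs, wk⟩ := exists_compatible_chart g' hY' hB'.diag hc hcs
  obtain ⟨W, a, h, ha, has, wh⟩ := exists_compatible_chart f' hX' hY'.diag hb hbs
  obtain ⟨W₀, U₀, V₀, iW, iU, iV, h₀, k₀, a₀, b₀, c₀, ht, sqc, sX, sY, ws, ha₀, hb₀, w₀, -, -⟩ :=
    exists_deform_chart hj hcX hcY w ha hb wh wk
  exact locP_of_chart hX'.diag hY'.diag ha has hb wh
    (hP _ _ _ _ _ _ _ (hK a b c c₀ h k iV ha hb hc wh wk sqc ht) sX sY ws (hf a₀ b₀ h₀ ha₀ hb₀ w₀))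

theorem repWith_deform_of_representable (hY' : IsAlgSpace Y') (hB' : IsAlgSpace B')
    (hj : IsThickMor iB) (hcX : IsPullback iX (f ≫ g) (f' ≫ g') iB) (hcY : IsPullback iY g g' iB)
    (w : iX ≫ f' = f ≫ iY) (hK : CondHolds K iB f' g') {P : MorphismProperty Scheme.{u}}
    (hP : Deforms K P) (hrep : Representable f') (hf : RepWith P f) :
    ∃ (W U : Over S) (a : (yon S).obj W ⟶ X') (b : (yon S).obj U ⟶ Y') (h : W ⟶ U),
      RepWith @Etale b ∧ RepWith @Surjective b ∧ IsPullback a ((yon S).map h) f' b ∧ P h.left := by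
  obtain ⟨V, c, hc, hcs⟩ := hB'.atlas
  obtain ⟨U, b, k, hb, hbs, wk⟩ := exists_compatible_chart g' hY' hB'.diag hc hcs
  obtain ⟨W, h, a, sq⟩ := hrep b
  have ha : RepWith @Etale a := (repWith_isStableUnderBaseChange _).of_isPullback sq.flip hb
  obtain ⟨W₀, U₀, V₀, iW, iU, iV, h₀, k₀, a₀, b₀, c₀, ht, sqc, sX, sY, ws, ha₀, hb₀, w₀, sqa, sqb⟩ :=
    exists_deform_chart hj hcX hcY w ha hb sq.w wk
  have sqh : IsPullback iW.left h₀.left h.left iU.left := IsPullback.of_bot sX ws sY
  have hcart : IsPullback iX f f' iY := IsPullback.of_bot hcX w hcY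
  have sq₀ : IsPullback a₀ ((yon S).map h₀) f b₀ := by
    refine IsPullback.of_right (h₁₂ := iX) (v₁₃ := f') (h₂₂ := iY) ?_ w₀ hcart
    rw [sqa.w, sqb.w]
    exact (isPullback_yon_of_left sqh).paste_horiz sq
  exact ⟨W, U, a, b, h, hb, hbs, sq,
    hP _ _ _ _ _ _ _ (hK a b c c₀ h k iV ha hb hc sq.w wk sqc ht) sX sY ws (hf.property b₀ a₀ h₀ sq₀)⟩

instance isomorphisms_descendsAlong_fppfSurj :
    MorphismProperty.DescendsAlong (MorphismProperty.isomorphisms Scheme.{u}) fppfSurj :=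
  inferInstanceAs (MorphismProperty.DescendsAlong (MorphismProperty.isomorphisms Scheme.{u})
    (@Surjective ⊓ @Flat ⊓ @LocallyOfFinitePresentation))

theorem isomorphisms_of_isIso {F G : Sp S} (e : F ⟶ G) [IsIso e] :
    RepWith (MorphismProperty.isomorphisms Scheme.{u}) e := by
  refine ⟨fun T t => ⟨T, 𝟙 T, t ≫ inv e, by simpa using IsPullback.of_vert_isIso ⟨by simp⟩⟩, fun T A t fst snd sq => ?_⟩
  haveI : IsIso ((yon S).map snd) := MorphismProperty.of_isPullback
    (P := MorphismProperty.isomorphisms (Sp S)) sq (inferInstance : IsIso e)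
  haveI : IsIso snd := isIso_of_fully_faithful (yon S) snd
  exact inferInstanceAs (IsIso ((Over.forget S).map snd))

theorem isIso_deform_of_representable (hY' : IsAlgSpace Y') (hB' : IsAlgSpace B') (hj : IsThickMor iB)
    (hcX : IsPullback iX (f ≫ g) (f' ≫ g') iB) (hcY : IsPullback iY g g' iB) (w : iX ≫ f' = f ≫ iY)
    (hK : CondHolds K iB f' g') (hP : Deforms K (MorphismProperty.isomorphisms Scheme.{u}))
    (hrep : Representable f') (hf : IsIso f) : IsIso f' := by
  obtain ⟨W, U, a, b, h, hb, hbs, sq, hh⟩ :=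
    repWith_deform_of_representable hY' hB' hj hcX hcY w hK hP hrep (isomorphisms_of_isIso f)
  exact isIso_of_repWith_isomorphisms
    (repWith_of_baseChange sq (locLift_of_atlas hb hbs) hrep ((repWith_yon_map_iff _ h).2 hh))

theorem mono_deform (hX' : IsAlgSpace X') (hY' : IsAlgSpace Y')
    (hB' : IsAlgSpace B') (hj : IsThickMor iB) (hcX : IsPullback iX (f ≫ g) (f' ≫ g') iB)
    (hcY : IsPullback iY g g' iB) (w : iX ≫ f' = f ≫ iY)
    (hK : CondHolds K iB (pullback.diagonal f') (pullback.fst f' f' ≫ f' ≫ g'))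
    (hP : Deforms K (MorphismProperty.isomorphisms Scheme.{u})) (hf : Mono f) : Mono f' := by
  have hcart : IsPullback iX f f' iY := IsPullback.of_bot hcX w hcY
  let m : pullback f f ⟶ pullback f' f' := pullback.map f f f' f' iX iX iY w.symm w.symm
  have sqm : IsPullback m (pullback.fst f f) (pullback.fst f' f') iX := by
    refine IsPullback.of_right (h₁₂ := pullback.snd f' f') (v₁₃ := f') (h₂₂ := f') ?_ ?_
      (IsPullback.of_hasPullback f' f').flip
    · rw [pullback.lift_snd, w]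
      exact (IsPullback.of_hasPullback f f).flip.paste_horiz hcart
    · exact pullback.lift_fst _ _ _
  have sqP : IsPullback m (pullback.fst f f ≫ f ≫ g) (pullback.fst f' f' ≫ f' ≫ g') iB := sqm.paste_vert hcX
  refine (pullback.isIso_diagonal_iff f').1 ?_
  refine isIso_deform_of_representable (iX := iX) (iY := m) (f := pullback.diagonal f)
    (g := pullback.fst f f ≫ f ≫ g) (g' := pullback.fst f' f' ≫ f' ≫ g') (isAlgSpace_pullback f' f' hX' hX' hY') hB' hj ?_ sqP ?_ hK hP
    (representable_diagonal hX'.diag f') inferInstance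
  · rw [pullback.diagonal_fst_assoc, pullback.diagonal_fst_assoc]; exact hcX
  · refine pullback.hom_ext ?_ ?_ <;> simp [m]

theorem surjective_map_of_cart (hY : IsThickMor iY) (w : iX ≫ f' = f ≫ iY) [IsIso f] :
    Function.Surjective (Points.map f') := fun y => by
  obtain ⟨y₀, rfl⟩ := surjective_map_of_thick hY y
  obtain ⟨x, rfl⟩ := surjective_map_of_isIso f y₀
  exact ⟨Points.map iX x, by rw [← Function.comp_apply (f := Points.map f'), ← map_comp_eq, w, map_comp_eq]; rfl⟩

section SchemeCases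

theorem isThickening_of_isPullback {A B C D : Scheme.{u}} {p : A ⟶ B} {q : A ⟶ C} {r : B ⟶ D} {s : C ⟶ D}
    (sq : IsPullback p q r s) (hs : MoreMor.IsThickening s) : MoreMor.IsThickening p :=
  ⟨MorphismProperty.of_isPullback (P := @IsClosedImmersion) sq.flip hs.1,
    MorphismProperty.of_isPullback (P := @Surjective) sq.flip hs.2⟩

theorem deformsFO_lft : Deforms CondFO (@LocallyOfFiniteType.{u}) :=
  fun iA iC iT p p' q q' hK hA hC w hp =>
    (Groth.Agent.S1309.result iA iC p p' (Groth.Agent.FlatMor66.deform_thickening hK.1 hC)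
      (IsPullback.of_bot hA w hC)).1 hp

theorem deformsFO_unramified :
    Deforms CondFO (@LocallyOfFiniteType ⊓ @FormallyUnramified : MorphismProperty Scheme.{u}) :=
  fun iA iC iT p p' q q' hK hA hC w hp =>
    ⟨deformsFO_lft iA iC iT p p' q q' hK hA hC w hp.1,
      (Groth.Agent.S1310.result iA iC p p' (Groth.Agent.FlatMor66.deform_thickening hK.1 hC)
        (IsPullback.of_bot hA w hC)).1 hp.2⟩

theorem deformsFO_lqf :
    Deforms CondFO (@LocallyQuasiFinite ⊓ @LocallyOfFiniteType : MorphismProperty Scheme.{u}) :=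
  fun iA iC iT p p' q q' hK hA hC w hp => by
    haveI : LocallyOfFiniteType p := hp.2
    haveI : LocallyOfFiniteType p' := deformsFO_lft iA iC iT p p' q q' hK hA hC w hp.2
    exact ⟨(Groth.Agent.S1312.result iA iC p p' (isThickening_of_isPullback hC hK.1.1)
      (IsPullback.of_bot hA w hC)).1 hp.1, inferInstance⟩

theorem deformsFO_flat : Deforms CondFO (@Flat.{u}) :=
  fun iA iC iT p p' q q' hK hA hC w hp => by
    haveI := hK.2
    exact (Groth.Agent.S1317.result iA iC iT p p' q q' hK.1 hA hC w).1 hp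

theorem deformsFO_isomorphisms : Deforms CondFO (MorphismProperty.isomorphisms Scheme.{u}) :=
  fun iA iC iT p p' q q' hK hA hC w hp => by
    haveI := hK.2
    exact (Groth.Agent.S1318.result iA iC iT p p' q q' hK.1 hA hC w).1 hp

theorem deformsFO_lfp : Deforms CondFO (@LocallyOfFinitePresentation.{u}) :=
  fun iA iC iT p p' q q' hK hA hC w hp => by
    haveI := hK.2
    exact (Groth.Agent.S1320.result iA iC iT p p' q q' hK.1 hA hC w).1 hp

theorem deformsFO_smooth : Deforms CondFO (@Smooth.{u}) :=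
  fun iA iC iT p p' q q' hK hA hC w hp => by
    haveI := hK.2
    exact (Groth.Agent.S1321.result iA iC iT p p' q q' hK.1 hA hC w).1 hp

theorem deformsFO_etale : Deforms CondFO (@Etale.{u}) :=
  fun iA iC iT p p' q q' hK hA hC w hp => by
    haveI := hK.2
    exact (Groth.Agent.S1322.result iA iC iT p p' q q' hK.1 hA hC w).1 hp

theorem deformsFO_finLocFreeOfDeg (d : ℕ) : Deforms CondFO (finLocFreeOfDeg.{u} d) :=
  fun iA iC iT p p' q q' hK hA hC w hp => by
    haveI := hK.2
    exact (Groth.Agent.S1323.result d iA iC iT p p' q q' hK.1 hA hC w).1 hp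

theorem CondFP.lfp_fst {A C T T₀ : Scheme.{u}} {p : A ⟶ C} {q : C ⟶ T} {i : T₀ ⟶ T} (hK : CondFP p q i) :
    LocallyOfFinitePresentation p := by
  haveI := hK.2.2.1
  haveI := hK.2.2.2
  exact Groth.Agent.SpPts86.lfp_of_comp p q

theorem deformsFP_unramified :
    Deforms CondFP (@LocallyOfFiniteType ⊓ @FormallyUnramified : MorphismProperty Scheme.{u}) :=
  fun iA iC iT p p' q q' hK hA hC w hp => by
    haveI : LocallyOfFiniteType p := hp.1
    haveI := CondFP.lfp_fst hK
    exact ⟨inferInstance, (Groth.Agent.S1314.result iA iC p p' (isThickening_of_isPullback hC hK.1)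
      (IsPullback.of_bot hA w hC)).1 hp.2⟩

theorem deformsFP_lqf :
    Deforms CondFP (@LocallyQuasiFinite ⊓ @LocallyOfFiniteType : MorphismProperty Scheme.{u}) :=
  fun iA iC iT p p' q q' hK hA hC w hp => by
    haveI : LocallyOfFiniteType p := hp.2
    haveI := CondFP.lfp_fst hK
    exact ⟨(Groth.Agent.S1312.result iA iC p p' (isThickening_of_isPullback hC hK.1)
      (IsPullback.of_bot hA w hC)).1 hp.1, inferInstance⟩

theorem deformsFP_flat : Deforms CondFP (@Flat.{u}) :=
  fun iA iC iT p p' q q' hK hA hC w hp => by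
    haveI := hK.2.1; haveI := hK.2.2.1; haveI := hK.2.2.2
    exact (Groth.Agent.S1381.result iA iC iT p p' q q' hK.1 hA hC w).1 hp

theorem deformsFP_isomorphisms : Deforms CondFP (MorphismProperty.isomorphisms Scheme.{u}) :=
  fun iA iC iT p p' q q' hK hA hC w hp => by
    haveI := hK.2.1; haveI := hK.2.2.1; haveI := hK.2.2.2
    exact (Groth.Agent.S1382.result iA iC iT p p' q q' hK.1 hA hC w).1 hp

theorem deformsFP_smooth : Deforms CondFP (@Smooth.{u}) :=
  fun iA iC iT p p' q q' hK hA hC w hp => by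
    haveI := hK.2.1; haveI := hK.2.2.1; haveI := hK.2.2.2
    exact (Groth.Agent.S1384.result iA iC iT p p' q q' hK.1 hA hC w).1 hp

theorem deformsFP_etale : Deforms CondFP (@Etale.{u}) :=
  fun iA iC iT p p' q q' hK hA hC w hp => by
    haveI := hK.2.1; haveI := hK.2.2.1; haveI := hK.2.2.2
    exact (Groth.Agent.S1385.result iA iC iT p p' q q' hK.1 hA hC w).1 hp

end SchemeCases

theorem finrank_descends {d : ℕ} {A T A₂ T₂ : Scheme.{u}} {p : A ⟶ T} {c : T₂ ⟶ T} {p₂ : A₂ ⟶ T₂} {q : A₂ ⟶ A}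
    (sq : IsPullback q p₂ p c) [Surjective c] [IsFinite p] [Flat p] [LocallyOfFinitePresentation p]
    (h : Mor2.IsFinLocFreeOfDeg d p₂) (t : ↥T) : p.finrank t = d := by
  obtain ⟨t₂, rfl⟩ := c.surjective t
  have := Scheme.Hom.finrank_of_isPullback _ _ _ _ sq t₂
  rw [← this]
  exact h.2 t₂

theorem finLocFreeOfDeg_of_cart {d : ℕ} (hi : IsThickMor iY) (hcart : IsPullback iX f f' iY)
    (hflf : IsFinLocFreeMor f') (hf : IsFinLocFreeOfDegMor d f) : IsFinLocFreeOfDegMor d f' := by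
  refine ⟨hflf.rep, fun T A t fst snd sqA => ⟨hflf.property t fst snd sqA, fun y => ?_⟩⟩
  have sqT := hi.rep.isPullback t
  obtain ⟨A₂, sA, fA, sq₂⟩ := hf.rep (hi.rep.fst t)
  let jT : hi.rep.pullback t ⟶ T := hi.rep.snd t
  have sq₃ : IsPullback (fA ≫ iX) ((yon S).map sA) f' ((yon S).map jT ≫ t) := by
    rw [← sqT.w]
    exact sq₂.paste_horiz hcart
  obtain ⟨m, hm⟩ := (yon S).map_surjective (sqA.lift (fA ≫ iX) ((yon S).map (sA ≫ jT))
    (by rw [sq₃.w, Functor.map_comp, Category.assoc]))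
  have sq4 : IsPullback ((yon S).map m) ((yon S).map sA) ((yon S).map snd) ((yon S).map jT) := by
    refine IsPullback.of_right (h₁₂ := fst) (v₁₃ := f') (h₂₂ := t) ?_ ?_ sqA
    · rw [hm, sqA.lift_fst]; exact sq₃
    · rw [hm, sqA.lift_snd, Functor.map_comp]
  haveI : Surjective jT.left := (hi.property_snd t).2
  obtain ⟨h1, h2, h3⟩ := hflf.property t fst snd sqA
  haveI : IsFinite snd.left := h1
  haveI : Flat snd.left := h2
  haveI : LocallyOfFinitePresentation snd.left := h3
  exact finrank_descends (isPullback_left sq4) (hf.property _ _ _ sq₂) y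

section Global

variable (hX : IsAlgSpace X) (hX' : IsAlgSpace X') (hY : IsAlgSpace Y) (hY' : IsAlgSpace Y')
  (hB' : IsAlgSpace B') (hj : IsThickMor iB) (hcX : IsPullback iX (f ≫ g) (f' ≫ g') iB)
  (hcY : IsPullback iY g g' iB) (w : iX ≫ f' = f ≫ iY) (hK : CondHolds K iB f' g')
  (hKd : CondHolds K iB (pullback.diagonal f') (pullback.fst f' f' ≫ f' ≫ g'))
  (hiso : Deforms K (MorphismProperty.isomorphisms Scheme.{u})) (het : Deforms K (@Etale.{u}))
include hX' hY hY' hB' hj hcX hcY w hK hiso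

include hX hKd het in
theorem openImmersion_deform (hf : RepWith @IsOpenImmersion f) : RepWith @IsOpenImmersion f' := by
  haveI : Mono f := mono_of_repWith_le (fun _ _ φ hφ => by
    haveI : IsOpenImmersion φ := hφ
    show Mono φ
    infer_instance) hf
  haveI : Mono f' := mono_deform hX' hY' hB' hj hcX hcY w hKd hiso inferInstance
  refine repWith_isOpenImmersion_of_mono_of_etale f' hX' hY' ?_
  refine locP_deform hX' hY' hB' hj hcX hcY w hK het (locP_of_repWith hX.diag hY ?_)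
  exact Groth.Agent.SpPts86.repWith_mono (fun _ _ φ hφ => by haveI : IsOpenImmersion φ := hφ; infer_instance) hf

include hX hKd het in
theorem isIso_deform (hf : IsIso f) : IsIso f' := by
  haveI : Mono f' := mono_deform hX' hY' hB' hj hcX hcY w hKd hiso inferInstance
  exact isIso_of_mono_of_etale_of_surjective f' hX' hY'
    (locP_deform hX' hY' hB' hj hcX hcY w hK het (locP_of_isIso f hX hY))
    (surjective_map_of_cart (thick_baseChange hj hcY.flip) w)

omit hiso in
include hX in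
theorem finLocFree_deform (hflat : Deforms K (@Flat.{u}))
    (hfp : LocP @LocallyOfFinitePresentation f → LocP @LocallyOfFinitePresentation f')
    (hfin : IsFiniteMor f → IsFiniteMor f') (hf : IsFinLocFreeMor f) : IsFinLocFreeMor f' := by
  haveI := etale_descendsAlong_fppfSurj.{u}
  haveI : MorphismProperty.DescendsAlong (@Flat.{u} : MorphismProperty Scheme.{u}) fppfSurj :=
    Groth.Agent.SpPts86.flat_descends
  haveI : MorphismProperty.DescendsAlong (@LocallyOfFinitePresentation.{u} : MorphismProperty Scheme.{u}) fppfSurj :=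
    inferInstanceAs (MorphismProperty.DescendsAlong (@LocallyOfFinitePresentation.{u} : MorphismProperty Scheme.{u})
      (@Surjective ⊓ @Flat ⊓ @LocallyOfFinitePresentation))
  have h1 : IsFiniteMor f' := hfin ((isFiniteMor_iff f).2
    (Groth.Agent.SpPts86.repWith_mono (fun _ _ _ hφ => hφ.1) hf))
  have hrep : Representable f' := ((isFiniteMor_iff f').1 h1).rep
  have h2 : LocP @Flat f' := locP_deform hX' hY' hB' hj hcX hcY w hK hflat
    (locP_of_repWith hX.diag hY (Groth.Agent.SpPts86.repWith_mono (fun _ _ _ hφ => hφ.2.1) hf))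
  have h3 : LocP @LocallyOfFinitePresentation f' := hfp
    (locP_of_repWith hX.diag hY (Groth.Agent.SpPts86.repWith_mono (fun _ _ _ hφ => hφ.2.2) hf))
  show RepWith finLocFree f'
  rw [finLocFree_eq, repWith_inf_iff, repWith_inf_iff]
  exact ⟨⟨(isFiniteMor_iff f').1 h1, repWith_of_locP hY' hrep h2⟩, repWith_of_locP hY' hrep h3⟩

omit hK hiso hY hj hcX hcY w in
theorem flat_deform_isFlatAtMor (hflat : LocP @Flat (f' ≫ g')) (hf' : LocP @Flat f') (x' : Points X') :
    IsFlatAtMor g' (Points.map f' x') := by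
  obtain ⟨V, c, hc, hcs⟩ := hB'.atlas
  obtain ⟨U, b, k, hb, hbs, wk⟩ := exists_compatible_chart g' hY' hB'.diag hc hcs
  obtain ⟨W, a, h, ha, has, wh⟩ := exists_compatible_chart f' hX' hY'.diag hb hbs
  obtain ⟨x, rfl⟩ := (isOpenQuotientMap_ofPt ha has).surjective x'
  have e : Points.map f' (Points.ofPt a x) = Points.ofPt b (h.left x) := by
    rw [← ofPt_comp, ← wh]; rfl
  rw [e]
  refine (isFlatAtMor_iff_chart hY' hB' hb hc wk _).2 ?_
  haveI : Flat h.left := hf' a b h ha hb wh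
  haveI : Flat (h.left ≫ k.left) := by
    rw [← Over.comp_left]
    exact hflat a c (h ≫ k) ha hc (by rw [reassoc_of% wh, wk, Functor.map_comp, Category.assoc])
  exact flat_stalkMap_of_comp h.left k.left (Flat.stalkMap _ x) (Flat.stalkMap _ x)

end Global

theorem lfp_deform_FP (hX' : IsAlgSpace X') (hY' : IsAlgSpace Y') (hB' : IsAlgSpace B')
    (hg' : LocP @LocallyOfFiniteType g') (hfp : LocP @LocallyOfFinitePresentation (f' ≫ g')) :
    LocP @LocallyOfFinitePresentation f' := by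
  obtain ⟨V, c, hc, hcs⟩ := hB'.atlas
  obtain ⟨U, b, k, hb, hbs, wk⟩ := exists_compatible_chart g' hY' hB'.diag hc hcs
  obtain ⟨W, a, h, ha, has, wh⟩ := exists_compatible_chart f' hX' hY'.diag hb hbs
  refine locP_of_chart hX'.diag hY'.diag ha has hb wh ?_
  haveI : LocallyOfFinitePresentation (h.left ≫ k.left) := by
    rw [← Over.comp_left]
    exact hfp a c (h ≫ k) ha hc (by rw [reassoc_of% wh, wk, Functor.map_comp, Category.assoc])
  haveI : LocallyOfFiniteType k.left := hg' b c k hb hc wk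
  exact Groth.Agent.SpPts86.lfp_of_comp h.left k.left

theorem condHolds_FO_diag (hB : IsFinThickMor iB) (hflat : LocP @Flat (f' ≫ g')) :
    CondHolds CondFO iB (pullback.diagonal f') (pullback.fst f' f' ≫ f' ≫ g') :=
  condHolds_FO hB (by rw [pullback.diagonal_fst_assoc]; exact hflat)

theorem condHolds_FP_diag (hX' : IsAlgSpace X') (hY' : IsAlgSpace Y') (hB' : IsAlgSpace B')
    (hg' : LocP @LocallyOfFiniteType g') (hflat : LocP @Flat (f' ≫ g'))
    (hfp : LocP @LocallyOfFinitePresentation (f' ≫ g')) :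
    CondHolds CondFP iB (pullback.diagonal f') (pullback.fst f' f' ≫ f' ≫ g') := by
  have h1 : LocP @LocallyOfFiniteType f' :=
    LocP.of_le (fun _ _ φ hφ => by haveI : LocallyOfFinitePresentation φ := hφ; infer_instance)
      (lfp_deform_FP hX' hY' hB' hg' hfp)
  have h2 : LocP @LocallyOfFiniteType (f' ≫ g') :=
    LocP.of_le (fun _ _ φ hφ => by haveI : LocallyOfFinitePresentation φ := hφ; infer_instance) hfp
  intro W U V V₀ a b c c₀ h k iV
  exact condHolds_FP
    (locP_comp (isAlgSpace_pullback f' f' hX' hX' hY') hX' hB'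
      (locP_baseChange (IsPullback.of_hasPullback f' f').flip hX' hY' hX' h1) h2)
    (by rw [pullback.diagonal_fst_assoc]; exact hflat) (by rw [pullback.diagonal_fst_assoc]; exact hfp)
    a b c c₀ h k iV

end Groth.Agent.SpFP87
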