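import Groth.Agent.SpFP87.ThickOpen
import Groth.Agent.SpFP87.LocalST
import Groth.Agent.SpFP87.FpqcMono
import Groth.Agent.SpFP87.RepDescProps
import Groth.Agent.SpFP87.LocPRep
import Groth.Agent.SpPts86.UnivInj
import Groth.Agent.SpPts86.QuotSpace
import Groth.Agent.SpPts86.Quot
import Groth.Agent.SpPts86.DenseDesc
import Groth.Agent.SpPts86.QCMor
import Groth.Agent.Unr55.Et.UHEquiv
/-!
Topological invariance of spaces etale over an algebraic space.
-/

set_option autoImplicit false
set_option linter.style.haveILetI false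
set_option backward.isDefEq.respectTransparency false
universe u
open CategoryTheory CategoryTheory.Limits AlgebraicGeometry
open AlgSp
open Groth.Agent.SpPts86

namespace Groth.Agent.SpFP87

variable {S : Scheme.{u}}

/-- Integral, universally injective and surjective. -/
abbrev uhHom : MorphismProperty Scheme.{u} := @IsIntegralHom ⊓ @UniversallyInjective ⊓ @Surjective

variable {X Y X' Y' : Sp S} {f : X ⟶ Y}

theorem repWith_uhHom (hX : IsAlgSpace X) (hY : IsAlgSpace Y) (h1 : IsIntegralMor f) (h2 : IsUnivInjectiveMor f)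
    (h3 : IsSurjectiveMor f) : RepWith uhHom f := by
  have hi := (repWith_isIntegralHom_iff f hX hY).2 h1
  exact (repWith_inf_iff f).2 ⟨(repWith_inf_iff f).2 ⟨hi, (repWith_universallyInjective_iff hi.rep).2 h2⟩,
    (repWith_surjective_iff hi.rep).2 h3⟩

theorem uh_baseChange {fst : X' ⟶ X} {snd : X' ⟶ Y'} {g : Y' ⟶ Y} (sq : IsPullback fst snd f g)
    (hf : RepWith uhHom f) : RepWith uhHom snd :=
  (repWith_isStableUnderBaseChange _).of_isPullback sq hf

theorem surjective_map_of_uh (hf : RepWith uhHom f) : Function.Surjective (Points.map f) :=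
  isSurjectiveMor_of_repWith (Groth.Agent.SpPts86.repWith_mono (fun _ _ _ h => h.2) hf)

theorem injective_map_of_uh (hf : RepWith uhHom f) : Function.Injective (Points.map f) :=
  injective_map_of_repWith (Groth.Agent.SpPts86.repWith_mono (fun _ _ _ h => h.1.2) hf)

theorem isHomeomorph_of_uhHom {A B : Scheme.{u}} (s : A ⟶ B) (h : uhHom s) : IsHomeomorph s := by
  haveI : IsIntegralHom s := h.1.1
  haveI : UniversallyInjective s := h.1.2
  haveI : Surjective s := h.2
  exact isHomeomorph_iff_continuous_isClosedMap_bijective.2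
    ⟨s.continuous, s.isClosedMap, s.injective, s.surjective⟩

theorem isOpen_image_of_uh (hf : RepWith uhHom f) {W : Set (Points X)} (hW : IsOpen W) :
    IsOpen (Points.map f '' W) :=
  Points.isOpen_iff.2 fun T g => by
    obtain ⟨V, s, fst, sq⟩ := hf.rep g
    rw [preimage_ofPt_image_map sq]
    exact (isHomeomorph_of_uhHom _ (hf.property g fst s sq)).isOpenMap _ (hW.preimage (Points.continuous_ofPt fst))

theorem exists_open_of_uh (hf : RepWith uhHom f) (hY : IsAlgSpace Y) {U : Sp S} {u : U ⟶ X}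
    (hu : RepWith @IsOpenImmersion u) :
    ∃ (U' : Sp S) (u' : U' ⟶ Y) (k : U ⟶ U'), IsAlgSpace U' ∧
      RepWith @IsOpenImmersion u' ∧ IsPullback u k f u' := by
  let A := Points.map f '' Set.range (Points.map u)
  have hA : IsOpen A := isOpen_image_of_uh hf (isOpen_range_map hu)
  have hu' : RepWith @IsOpenImmersion (restrictι Y A) := repWith_restrictι hA
  have hP : RepWith @IsOpenImmersion (pullback.fst f (restrictι Y A)) :=
    (repWith_isStableUnderBaseChange _).of_isPullback (IsPullback.of_hasPullback f (restrictι Y A)).flip hu'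
  have hr : Set.range (Points.map u) = Set.range (Points.map (pullback.fst f (restrictι Y A))) := by
    ext x
    constructor
    · intro hx
      obtain ⟨w, hw⟩ := (range_map_restrictι (F := Y) hA).ge (Set.mem_image_of_mem (Points.map f) hx)
      obtain ⟨z, hz, -⟩ := exists_of_isPullback (IsPullback.of_hasPullback f (restrictι Y A)) x w hw.symm
      exact ⟨z, hz⟩
    · rintro ⟨z, rfl⟩
      have h1 : Points.map f (Points.map (pullback.fst f (restrictι Y A)) z) =
          Points.map (restrictι Y A) (Points.map (pullback.snd f (restrictι Y A)) z) := by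
        rw [← Points.map_comp, ← Points.map_comp, pullback.condition]
      obtain ⟨y, hy, hyx⟩ : Points.map f (Points.map (pullback.fst f (restrictι Y A)) z) ∈ A := by
        rw [h1]; exact (range_map_restrictι (F := Y) hA).subset ⟨_, rfl⟩
      exact injective_map_of_uh hf hyx ▸ hy
  obtain ⟨e, he⟩ := exists_iso_of_range_eq hu hP hr
  refine ⟨restrictSheaf Y A, restrictι Y A, e.hom ≫ pullback.snd _ _,
    isAlgSpace_restrictSheaf (F := Y) (W := A) hY hA, hu', ?_⟩
  exact (IsPullback.of_hasPullback f (restrictι Y A)).of_iso e.symm (Iso.refl _) (Iso.refl _) (Iso.refl _)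
    (by simp [← he]) (by simp) (by simp) (by simp)

/-- The diagonal of an etale morphism of spaces is an open immersion. -/
theorem openImm_diagonal_of_etale {g : X ⟶ Y} (hX : IsAlgSpace X) (hY : IsAlgSpace Y) (hg : IsEtaleMor g) :
    RepWith @IsOpenImmersion (pullback.diagonal g) := by
  have hP := isAlgSpace_pullback g g hX hX hY
  have h1 : IsEtaleMor (pullback.fst g g) := (isEtaleMor_iff_locP _ hP hX).2
    (locP_baseChange (IsPullback.of_hasPullback g g).flip hX hY hX ((isEtaleMor_iff_locP g hX hY).1 hg))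
  refine repWith_isOpenImmersion_of_mono_of_etale _ hX hP ((isEtaleMor_iff_locP _ hX hP).1 ?_)
  exact isEtaleMor_of_comp hX hP hX h1 (by rw [pullback.diagonal_fst]; exact isEtaleMor_id X)

theorem isIso_of_openImm_surjective {g : X ⟶ Y} (hg : RepWith @IsOpenImmersion g)
    (hs : Function.Surjective (Points.map g)) : IsIso g := by
  haveI := mono_of_repWith_le isOpenImmersion_le_monomorphisms hg
  obtain ⟨k, hk⟩ := exists_factor_of_range_subset hg (𝟙 Y) (by rw [hs.range_eq]; exact Set.subset_univ _)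
  exact ⟨⟨k, (cancel_mono g).1 (by rw [Category.assoc, hk, Category.comp_id, Category.id_comp]), hk⟩⟩

/-- An etale morphism of spaces is an isomorphism if it becomes one after a surjective base change. -/
theorem isIso_of_etale_of_baseChange {A B : Sp S} {g : A ⟶ B} (hA : IsAlgSpace A) (hB : IsAlgSpace B)
    (hg : IsEtaleMor g) {fst : X ⟶ A} {snd : X ⟶ Y} {c : Y ⟶ B} (sq : IsPullback fst snd g c)
    (hc : RepWith uhHom c) [IsIso snd] : IsIso g := by
  have hs : Function.Surjective (Points.map g) := fun b => by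
    obtain ⟨y, rfl⟩ := surjective_map_of_uh hc b
    obtain ⟨x, rfl⟩ := surjective_map_of_isIso snd y
    exact ⟨Points.map fst x, by rw [← Points.map_comp, ← Points.map_comp, sq.w]⟩
  have hd : IsIso (pullback.diagonal g) := by
    refine isIso_of_openImm_surjective (openImm_diagonal_of_etale hA hB hg) fun z => ?_
    let π := pullback.fst g g ≫ g
    obtain ⟨y, hy⟩ := surjective_map_of_uh hc (Points.map π z)
    obtain ⟨q, hq, -⟩ := exists_of_isPullback (IsPullback.of_hasPullback π c) z y hy.symm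
    let k := pullback.fst π c
    have hk : k ≫ pullback.fst g g = k ≫ pullback.snd g g := by
      let l1 : pullback π c ⟶ X := sq.lift (k ≫ pullback.fst g g) (pullback.snd π c)
        (by rw [Category.assoc]; exact pullback.condition)
      let l2 : pullback π c ⟶ X := sq.lift (k ≫ pullback.snd g g) (pullback.snd π c)
        (by rw [Category.assoc, ← pullback.condition (f := g)]; exact pullback.condition)
      have : l1 = l2 := (cancel_mono snd).1 (by rw [sq.lift_snd, sq.lift_snd])
      calc k ≫ pullback.fst g g = l1 ≫ fst := (sq.lift_fst _ _ _).symm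
        _ = l2 ≫ fst := by rw [this]
        _ = k ≫ pullback.snd g g := sq.lift_fst _ _ _
    refine ⟨Points.map (k ≫ pullback.fst g g) q, ?_⟩
    rw [← Points.map_comp]
    have : (k ≫ pullback.fst g g) ≫ pullback.diagonal g = k := by
      refine pullback.hom_ext ?_ ?_
      · simp
      · simp [hk]
    rw [this]
    exact hq
  haveI : Mono g := (pullback.isIso_diagonal_iff g).1 hd
  exact isIso_of_mono_of_etale_of_surjective g hA hB ((isEtaleMor_iff_locP g hA hB).1 hg) hs

variable {V₁' V₂' V₁ V₂ : Sp S} {a₁ : V₁' ⟶ Y} {a₂ : V₂' ⟶ Y} {b₁ : V₁ ⟶ X} {b₂ : V₂ ⟶ X}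
  {c₁ : V₁ ⟶ V₁'} {c₂ : V₂ ⟶ V₂'}

/-- Full faithfulness of base change of spaces etale over the target of a universal homeomorphism. -/
theorem existsUnique_map_of_uh (hf : RepWith uhHom f) (hX : IsAlgSpace X) (hY : IsAlgSpace Y)
    (hV₁' : IsAlgSpace V₁') (hV₂' : IsAlgSpace V₂')
    (ha₁ : IsEtaleMor a₁) (ha₂ : IsEtaleMor a₂)
    (sq₁ : IsPullback b₁ c₁ f a₁) (sq₂ : IsPullback b₂ c₂ f a₂) (φ : V₁ ⟶ V₂) (hφ : φ ≫ b₂ = b₁) :
    ∃! φ' : V₁' ⟶ V₂', φ' ≫ a₂ = a₁ ∧ c₁ ≫ φ' = φ ≫ c₂ := by
  have hc₁ : RepWith uhHom c₁ := uh_baseChange sq₁ hf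
  have hV₁ : IsAlgSpace V₁ := isAlgSpace_of_isPullback sq₁ hX hV₁' hY.diag
  have hP' : IsAlgSpace (pullback a₁ a₂) := isAlgSpace_pullback _ _ hV₁' hV₂' hY
  let π' := pullback.fst a₁ a₂ ≫ a₁
  have hP : IsAlgSpace (pullback π' f) := isAlgSpace_pullback _ _ hP' hX hY
  let q : pullback π' f ⟶ V₁ := sq₁.lift (pullback.snd π' f) (pullback.fst π' f ≫ pullback.fst a₁ a₂)
    (by rw [Category.assoc]; exact pullback.condition.symm)
  have sqq : IsPullback (pullback.fst π' f) q (pullback.fst a₁ a₂) c₁ := by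
    refine IsPullback.of_bot ?_ (sq₁.lift_snd _ _ _).symm sq₁.flip
    rw [sq₁.lift_fst]
    exact IsPullback.of_hasPullback π' f
  have hw : c₁ ≫ a₁ = (φ ≫ c₂) ≫ a₂ := by
    rw [Category.assoc, ← sq₂.w, ← Category.assoc, hφ, sq₁.w]
  let σ : V₁ ⟶ pullback π' f := pullback.lift (pullback.lift c₁ (φ ≫ c₂) hw) b₁
    (by rw [pullback.lift_fst_assoc]; exact sq₁.w.symm)
  have hσ : σ ≫ q = 𝟙 V₁ := sq₁.hom_ext
    (by rw [Category.assoc, sq₁.lift_fst, pullback.lift_snd, Category.id_comp])
    (by rw [Category.assoc, sq₁.lift_snd, pullback.lift_fst_assoc, pullback.lift_fst, Category.id_comp])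
  have hq : IsEtaleMor q := (isEtaleMor_iff_locP q hP hV₁).2
    (locP_baseChange sqq hP' hV₁' hV₁ (locP_baseChange (IsPullback.of_hasPullback a₁ a₂).flip hV₂' hY hV₁'
      ((isEtaleMor_iff_locP a₂ hV₂' hY).1 ha₂)))
  haveI : Mono σ := mono_of_mono_fac hσ
  have hσo : RepWith @IsOpenImmersion σ := repWith_isOpenImmersion_of_mono_of_etale σ hV₁ hP
    ((isEtaleMor_iff_locP σ hV₁ hP).1 (isEtaleMor_of_comp hV₁ hP hV₁ hq (by rw [hσ]; exact isEtaleMor_id V₁)))
  obtain ⟨W, w, k, hW, hwo, sqw⟩ :=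
    exists_open_of_uh (uh_baseChange (IsPullback.of_hasPullback π' f).flip hf) hP' hσo
  let g := w ≫ pullback.fst a₁ a₂
  have sqg : IsPullback k (𝟙 V₁) g c₁ := by
    have := sqw.flip.paste_vert sqq
    rwa [hσ] at this
  have hg : IsEtaleMor g := (isEtaleMor_iff_locP g hW hV₁').2 (locP_comp hW hP' hV₁'
    (locP_of_repWith hW.diag hP' (Groth.Agent.SpPts86.repWith_mono
      (fun _ _ i hi => by haveI : IsOpenImmersion i := hi; infer_instance) hwo))
    (locP_baseChange (IsPullback.of_hasPullback a₁ a₂).flip hV₂' hY hV₁' ((isEtaleMor_iff_locP a₂ hV₂' hY).1 ha₂)))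
  haveI : IsIso g := isIso_of_etale_of_baseChange hW hV₁' hg sqg hc₁
  refine ⟨inv g ≫ w ≫ pullback.snd a₁ a₂, ⟨?_, ?_⟩, ?_⟩
  · rw [Category.assoc, Category.assoc, ← pullback.condition, IsIso.inv_comp_eq, Category.assoc]
  · have hk : c₁ ≫ inv g = k := by
      rw [IsIso.comp_inv_eq, sqg.w, Category.id_comp]
    rw [← Category.assoc, hk, ← Category.assoc, ← sqw.w, Category.assoc, pullback.lift_fst_assoc,
      pullback.lift_snd]
  · intro ψ hψ
    let φ' := inv g ≫ w ≫ pullback.snd a₁ a₂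
    have hφ' : φ' ≫ a₂ = a₁ := by
      rw [Category.assoc, Category.assoc, ← pullback.condition, IsIso.inv_comp_eq, Category.assoc]
    have hφc : c₁ ≫ φ' = φ ≫ c₂ := by
      have hk : c₁ ≫ inv g = k := by rw [IsIso.comp_inv_eq, sqg.w, Category.id_comp]
      show c₁ ≫ inv g ≫ _ = _
      rw [← Category.assoc, hk, ← Category.assoc, ← sqw.w, Category.assoc, pullback.lift_fst_assoc,
        pullback.lift_snd]
    let pr : V₁' ⟶ pullback a₂ a₂ := pullback.lift ψ φ' (hψ.1.trans hφ'.symm)
    let E := pullback pr (pullback.diagonal a₂)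
    have hE : RepWith @IsOpenImmersion (pullback.fst pr (pullback.diagonal a₂)) :=
      (repWith_isStableUnderBaseChange _).of_isPullback (IsPullback.of_hasPullback _ _).flip
        (openImm_diagonal_of_etale hV₂' hY ha₂)
    let l : V₁ ⟶ E := pullback.lift c₁ (φ ≫ c₂) (by
      refine pullback.hom_ext ?_ ?_
      · simp [pr, hψ.2]
      · simp [pr, hφc])
    haveI : IsIso (pullback.fst pr (pullback.diagonal a₂)) := isIso_of_openImm_surjective hE fun x => by
      obtain ⟨y, rfl⟩ := surjective_map_of_uh hc₁ x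
      exact ⟨Points.map l y, by rw [← Points.map_comp, pullback.lift_fst]⟩
    have h1 := congrArg (· ≫ pullback.fst a₂ a₂) (pullback.condition (f := pr) (g := pullback.diagonal a₂))
    have h2 := congrArg (· ≫ pullback.snd a₂ a₂) (pullback.condition (f := pr) (g := pullback.diagonal a₂))
    simp [pr] at h1 h2
    rw [← cancel_epi (pullback.fst pr (pullback.diagonal a₂))]
    exact h1.trans h2.symm

theorem mono_of_locLift {E V P : Sp S} {e : E ⟶ V} (he : LocLift e) (l : V ⟶ P)
    (h : ∀ (W : Over S) (u u' : (yon S).obj W ⟶ E), u ≫ e ≫ l = u' ≫ e ≫ l → u ≫ e = u' ≫ e) : Mono l :=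
  ⟨fun {G} a a' w => by
    refine sp_hom_ext fun T x => ?_
    obtain ⟨W₁, c₁, u₁, hc₁, hu₁⟩ := he T (x ≫ a)
    obtain ⟨W₂, c₂, u₂, hc₂, hu₂⟩ := he W₁ ((yon S).map c₁ ≫ x ≫ a')
    refine cover_hom_ext c₁ hc₁ (cover_hom_ext c₂ hc₂ ?_)
    rw [← hu₁, ← hu₂, ← Category.assoc]
    refine h W₂ _ _ ?_
    rw [Category.assoc, reassoc_of% hu₁, reassoc_of% hu₂, w]⟩

theorem comp_lift_eq_of_isPullback {A B C D T : Sp S} {p : A ⟶ B} {q : A ⟶ C} {r : B ⟶ D} {s : C ⟶ D}
    (sq : IsPullback p q r s) {x y : T ⟶ A} (h1 : x ≫ p = y ≫ p) (h2 : x ≫ q = y ≫ q) : x = y :=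
  sq.hom_ext h1 h2

/-- Descent of an etale presentation along a universal homeomorphism. -/
theorem exists_descent_of_chart (hf : RepWith uhHom f) (hY : IsAlgSpace Y) (hX : IsAlgSpace X)
    {V : Sp S} (hV : IsAlgSpace V) {b : V ⟶ X}
    {E E' : Over S} {π : E ⟶ E'} {e : (yon S).obj E ⟶ V} {e' : (yon S).obj E' ⟶ Y}
    (he : RepWith @Etale e) (hes : RepWith @Surjective e) (he' : RepWith @Etale e')
    (sqE : IsPullback ((yon S).map π) (e ≫ b) e' f) :
    ∃ (V' : Sp S) (a : V' ⟶ Y) (c : V ⟶ V') (q' : (yon S).obj E' ⟶ V'), IsAlgSpace V' ∧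
      RepWith @Etale q' ∧ RepWith @Surjective q' ∧ q' ≫ a = e' ∧ IsPullback b c f a := by
  have hlift := locLift_of_atlas he hes
  obtain ⟨R, r₁, r₂, sqR⟩ := exists_isPullback_yon hV.diag e e
  obtain ⟨PP, p₁, p₂, sqPP⟩ := exists_isPullback_yon hY.diag e' e'
  obtain ⟨Q, q₁, q₂, sqQ⟩ := exists_isPullback_yon hX.diag (e ≫ b) (e ≫ b)
  have sqQE : IsPullback ((yon S).map q₂ ≫ (yon S).map π) ((yon S).map q₁) e' ((yon S).map π ≫ e') := by
    rw [sqE.w]
    exact sqQ.flip.paste_horiz sqE
  obtain ⟨m, hm⟩ := (yon S).map_surjective (sqPP.lift ((yon S).map q₁ ≫ (yon S).map π)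
    ((yon S).map q₂ ≫ (yon S).map π) (by rw [Category.assoc, sqQE.w]))
  have sqm : IsPullback ((yon S).map m) ((yon S).map q₁) ((yon S).map p₁) ((yon S).map π) := by
    refine IsPullback.of_right (h₁₂ := (yon S).map p₂) (v₁₃ := e') (h₂₂ := e') ?_ ?_ sqPP.flip
    · rw [hm, sqPP.lift_snd]; exact sqQE
    · rw [hm, sqPP.lift_fst]
  have sqQf : IsPullback ((yon S).map m) ((yon S).map q₁ ≫ e ≫ b) ((yon S).map p₁ ≫ e') f :=
    sqm.paste_vert sqE
  have hmu : uhHom m.left := hf.property ((yon S).map p₁ ≫ e') ((yon S).map q₁ ≫ e ≫ b) m sqQf.flip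
  obtain ⟨σ, hσ⟩ := (yon S).map_surjective (sqQ.lift ((yon S).map r₁) ((yon S).map r₂)
    (by rw [← Category.assoc, sqR.w, Category.assoc]))
  have hσ₁ : σ ≫ q₁ = r₁ := (yon S).map_injective (by rw [Functor.map_comp, hσ, sqQ.lift_fst])
  have hσ₂ : σ ≫ q₂ = r₂ := (yon S).map_injective (by rw [Functor.map_comp, hσ, sqQ.lift_snd])
  haveI : Mono σ := ⟨fun x y w => (yon S).map_injective (sqR.hom_ext
    (by rw [← Functor.map_comp, ← Functor.map_comp, ← hσ₁, ← Category.assoc, w, Category.assoc])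
    (by rw [← Functor.map_comp, ← Functor.map_comp, ← hσ₂, ← Category.assoc, w, Category.assoc]))⟩
  have hp₁ : Etale p₁.left := he'.property e' _ p₁ sqPP.flip
  haveI : IsOpenImmersion σ.left := by
    have hq₁ : Etale q₁.left := MorphismProperty.of_isPullback (P := @Etale) (isPullback_left sqm) hp₁
    have hr₁ : Etale r₁.left := he.property e _ r₁ sqR.flip
    have hσe : Etale σ.left := EtLoc.of_comp_etale (P := (@Etale.{u} : MorphismProperty Scheme.{u})) σ.left q₁.left hq₁
      (by rw [← Over.comp_left, hσ₁]; exact hr₁)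
    haveI : Mono ((yon S).map σ) := inferInstance
    exact (repWith_yon_map_iff @IsOpenImmersion σ).1 (repWith_isOpenImmersion_of_mono_of_etale _
      (IsAlgSpace.yon_obj R) (IsAlgSpace.yon_obj Q) ((locP_yon_map_iff σ).2 hσe))
  let hh := isHomeomorph_of_uhHom _ hmu
  let A : PP.left.Opens := ⟨m.left '' Set.range σ.left, hh.isOpenMap _ σ.left.isOpenEmbedding.isOpen_range⟩
  let W : Over S := Over.mk (A.ι ≫ PP.hom)
  let w : W ⟶ PP := Over.homMk A.ι rfl
  let w₁ := w ≫ p₁
  let w₂ := w ≫ p₂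
  have hwU : (yon S).map w₁ ≫ e' = (yon S).map w₂ ≫ e' := by
    rw [Functor.map_comp_assoc, Functor.map_comp_assoc, sqPP.w]
  have hle : Set.range (σ.left ≫ m.left) ⊆ Set.range A.ι := by
    rw [Scheme.Opens.range_ι]
    rintro _ ⟨x, rfl⟩
    exact ⟨σ.left x, ⟨x, rfl⟩, rfl⟩
  let ρ : R ⟶ W := Over.homMk (IsOpenImmersion.lift A.ι (σ.left ≫ m.left) hle) (by
    show IsOpenImmersion.lift A.ι (σ.left ≫ m.left) hle ≫ A.ι ≫ PP.hom = R.hom
    rw [IsOpenImmersion.lift_fac_assoc, Category.assoc, Over.w m, Over.w σ])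
  have hρ : ρ ≫ w = σ ≫ m := Over.OverMorphism.ext (IsOpenImmersion.lift_fac _ _ _)
  have hm₁ : m ≫ p₁ = q₁ ≫ π := (yon S).map_injective (by
    rw [Functor.map_comp, Functor.map_comp, hm, sqPP.lift_fst])
  have hm₂ : m ≫ p₂ = q₂ ≫ π := (yon S).map_injective (by
    rw [Functor.map_comp, Functor.map_comp, hm, sqPP.lift_snd])
  -- the criterion for factoring through the descended relation
  have key : ∀ (T : Over S) (a b' : T ⟶ E'), (∃ r : T ⟶ W, r ≫ w₁ = a ∧ r ≫ w₂ = b') ↔
      ((yon S).map a ≫ e' = (yon S).map b' ≫ e' ∧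
        ∀ (T₂ : Over S) (k : T₂ ⟶ T) (la lb : T₂ ⟶ E), la ≫ π = k ≫ a → lb ≫ π = k ≫ b' →
          (yon S).map la ≫ e ≫ b = (yon S).map lb ≫ e ≫ b → (yon S).map la ≫ e = (yon S).map lb ≫ e) := by
    intro T a b'
    constructor
    · rintro ⟨r, rfl, rfl⟩
      refine ⟨(Functor.map_comp_assoc _ r w₁ e').trans
        ((congrArg ((yon S).map r ≫ ·) hwU).trans (Functor.map_comp_assoc _ r w₂ e').symm), fun T₂ k la lb hla hlb hlab => ?_⟩
      obtain ⟨t, ht⟩ := (yon S).map_surjective (sqQ.lift ((yon S).map la) ((yon S).map lb) hlab)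
      have ht₁ : t ≫ q₁ = la := (yon S).map_injective (by rw [Functor.map_comp, ht, sqQ.lift_fst])
      have ht₂ : t ≫ q₂ = lb := (yon S).map_injective (by rw [Functor.map_comp, ht, sqQ.lift_snd])
      have htm : t ≫ m = (k ≫ r) ≫ w := by
        refine (yon S).map_injective (sqPP.hom_ext ?_ ?_)
        · rw [← Functor.map_comp, ← Functor.map_comp]; congr 1
          rw [Category.assoc, hm₁, ← Category.assoc, ht₁, hla]; simp [w₁]
        · rw [← Functor.map_comp, ← Functor.map_comp]; congr 1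
          rw [Category.assoc, hm₂, ← Category.assoc, ht₂, hlb]; simp [w₂]
      have hrange : Set.range t.left ⊆ Set.range σ.left := by
        rintro _ ⟨x, rfl⟩
        have h1 : m.left (t.left x) ∈ A := by
          rw [← Scheme.Hom.comp_apply, ← Over.comp_left, htm, Over.comp_left, Scheme.Hom.comp_apply]
          exact ((k ≫ r).left x).2
        obtain ⟨y, hy, hye⟩ := h1
        exact hh.injective hye ▸ hy
      have hts := IsOpenImmersion.lift_fac σ.left t.left hrange
      let t' : T₂ ⟶ R := Over.homMk (IsOpenImmersion.lift σ.left t.left hrange) (by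
        rw [← Over.w σ, ← Category.assoc, hts, Over.w t])
      have ht' : t' ≫ σ = t := Over.OverMorphism.ext hts
      rw [← ht₁, ← ht₂, ← ht', Category.assoc, Category.assoc, hσ₁, hσ₂, Functor.map_comp_assoc,
        Functor.map_comp_assoc, sqR.w]
    · rintro ⟨hab, hk⟩
      obtain ⟨u, hu⟩ := (yon S).map_surjective (sqPP.lift ((yon S).map a) ((yon S).map b') hab)
      have hu₁ : u ≫ p₁ = a := (yon S).map_injective (by rw [Functor.map_comp, hu, sqPP.lift_fst])
      have hu₂ : u ≫ p₂ = b' := (yon S).map_injective (by rw [Functor.map_comp, hu, sqPP.lift_snd])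
      obtain ⟨T₂, k, x, sqT⟩ := hf.rep ((yon S).map a ≫ e')
      haveI : Surjective k.left := (hf.property _ x k sqT).2
      obtain ⟨la, hla⟩ := (yon S).map_surjective (sqE.lift ((yon S).map (k ≫ a)) x
        (by rw [Functor.map_comp, Category.assoc]; exact sqT.w.symm))
      obtain ⟨lb, hlb⟩ := (yon S).map_surjective (sqE.lift ((yon S).map (k ≫ b')) x
        (by rw [Functor.map_comp, Category.assoc, ← hab]; exact sqT.w.symm))
      have h1 : la ≫ π = k ≫ a := (yon S).map_injective (by rw [Functor.map_comp, hla, sqE.lift_fst])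
      have h2 : lb ≫ π = k ≫ b' := (yon S).map_injective (by rw [Functor.map_comp, hlb, sqE.lift_fst])
      obtain ⟨t, ht⟩ := (yon S).map_surjective (sqR.lift ((yon S).map la) ((yon S).map lb)
        (hk T₂ k la lb h1 h2 (by rw [hla, hlb, sqE.lift_snd, sqE.lift_snd])))
      have ht₁ : t ≫ r₁ = la := (yon S).map_injective (by rw [Functor.map_comp, ht, sqR.lift_fst])
      have ht₂ : t ≫ r₂ = lb := (yon S).map_injective (by rw [Functor.map_comp, ht, sqR.lift_snd])
      have htu : (t ≫ σ) ≫ m = k ≫ u := by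
        refine (yon S).map_injective (sqPP.hom_ext ?_ ?_)
        · simp only [← Functor.map_comp, Category.assoc]; congr 1
          rw [hm₁, hu₁, reassoc_of% hσ₁, reassoc_of% ht₁, h1]
        · simp only [← Functor.map_comp, Category.assoc]; congr 1
          rw [hm₂, hu₂, reassoc_of% hσ₂, reassoc_of% ht₂, h2]
      have hrange : Set.range u.left ⊆ Set.range A.ι := by
        rw [Scheme.Opens.range_ι]
        rintro _ ⟨y, rfl⟩
        obtain ⟨z, rfl⟩ := k.left.surjective y
        refine ⟨σ.left (t.left z), ⟨_, rfl⟩, ?_⟩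
        rw [← Scheme.Hom.comp_apply, ← Scheme.Hom.comp_apply, ← Scheme.Hom.comp_apply, ← Category.assoc,
          ← Over.comp_left, ← Over.comp_left, ← Over.comp_left, htu]
      have hus := IsOpenImmersion.lift_fac A.ι u.left hrange
      let r : T ⟶ W := Over.homMk (IsOpenImmersion.lift A.ι u.left hrange) (by
        show IsOpenImmersion.lift A.ι u.left hrange ≫ A.ι ≫ PP.hom = T.hom
        rw [← Category.assoc, hus, Over.w u])
      have hr : r ≫ w = u := Over.OverMorphism.ext hus
      exact ⟨r, by rw [← Category.assoc, hr, hu₁], by rw [← Category.assoc, hr, hu₂]⟩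
  have heqv : IsEtaleEqvRel w₂ w₁ := by
    refine ⟨⟨fun T r r' h1 h2 => ?_, fun T => ?_⟩, ?_, ?_⟩
    · haveI : IsOpenImmersion w.left := inferInstanceAs (IsOpenImmersion A.ι)
      haveI : Mono w := (Over.forget S).mono_of_mono_map (inferInstanceAs (Mono w.left))
      refine (cancel_mono w).1 ((yon S).map_injective (sqPP.hom_ext ?_ ?_))
      · simp only [← Functor.map_comp, Category.assoc]; exact congrArg _ h1
      · simp only [← Functor.map_comp, Category.assoc]; exact congrArg _ h2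
    · simp only [key]
      refine ⟨fun x => ⟨rfl, fun T₂ k la lb h1 h2 h3 => ?_⟩, fun {x y} ⟨h, hk⟩ => ⟨h.symm, fun T₂ k la lb h1 h2 h3 =>
        (hk T₂ k lb la h2 h1 h3.symm).symm⟩, fun {x y z} ⟨h, hk⟩ ⟨h', hk'⟩ => ⟨h.trans h', fun T₂ k la lc h1 h2 h3 => ?_⟩⟩
      · rw [show la = lb from (yon S).map_injective
          (sqE.hom_ext (by rw [← Functor.map_comp, ← Functor.map_comp, h1, h2]) h3)]
      · obtain ⟨lb, hlb⟩ := (yon S).map_surjective (sqE.lift ((yon S).map (k ≫ y)) ((yon S).map la ≫ e ≫ b) (by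
          rw [Functor.map_comp, Category.assoc, ← h, ← Functor.map_comp_assoc, ← h1, Functor.map_comp_assoc,
            sqE.w]; simp only [Category.assoc]))
        have e1 : lb ≫ π = k ≫ y := (yon S).map_injective (by rw [Functor.map_comp, hlb, sqE.lift_fst])
        have e2 : (yon S).map lb ≫ e ≫ b = (yon S).map la ≫ e ≫ b := by rw [hlb, sqE.lift_snd]
        exact (hk T₂ k la lb h1 e1 e2.symm).trans (hk' T₂ k lb lc e1 h2 (e2.trans h3))
    · have hp₂ : Etale p₂.left := he'.property e' _ p₂ sqPP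
      show Etale (A.ι ≫ p₂.left)
      infer_instance
    · show Etale (A.ι ≫ p₁.left)
      infer_instance
  obtain ⟨hV', hq', hq's⟩ := quotMap_atlas heqv
  have hker := quotMap_kernelPair heqv.toIsEqvRel
  let q' := quotMap w₂ w₁
  have hfac : ∀ (T : Over S) (l l' : T ⟶ E'), (yon S).map l ≫ q' = (yon S).map l' ≫ q' →
      ∃ r : T ⟶ W, r ≫ w₁ = l ∧ r ≫ w₂ = l' := fun T l l' h => by
    obtain ⟨r, hr⟩ := (yon S).map_surjective (hker.lift _ _ h)
    exact ⟨r, (yon S).map_injective (by rw [Functor.map_comp, hr, hker.lift_fst]),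
      (yon S).map_injective (by rw [Functor.map_comp, hr, hker.lift_snd])⟩
  have hq'l := locLift_of_atlas hq' hq's
  obtain ⟨a, ha⟩ := exists_desc hq'l e' (fun T l l' h => ((key T l l').1 (hfac T l l' h)).1)
  obtain ⟨c, hc⟩ := exists_desc hlift ((yon S).map π ≫ q') (fun T l l' h => by
    obtain ⟨t, ht⟩ := (yon S).map_surjective (sqR.lift _ _ h)
    have h1 : t ≫ r₁ = l := (yon S).map_injective (by rw [Functor.map_comp, ht, sqR.lift_fst])
    have h2 : t ≫ r₂ = l' := (yon S).map_injective (by rw [Functor.map_comp, ht, sqR.lift_snd])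
    have e1 : r₁ ≫ π = ρ ≫ w₁ := by
      show _ = ρ ≫ w ≫ p₁
      rw [← Category.assoc, hρ, Category.assoc, hm₁, ← Category.assoc, hσ₁]
    have e2 : r₂ ≫ π = ρ ≫ w₂ := by
      show _ = ρ ≫ w ≫ p₂
      rw [← Category.assoc, hρ, Category.assoc, hm₂, ← Category.assoc, hσ₂]
    rw [← h1, ← h2, ← Functor.map_comp_assoc, ← Functor.map_comp_assoc, Category.assoc, Category.assoc, e1, e2,
      ← Category.assoc, ← Category.assoc]
    exact (Functor.map_comp_assoc _ (t ≫ ρ) w₁ q').trans
      ((congrArg ((yon S).map (t ≫ ρ) ≫ ·) hker.w).trans (Functor.map_comp_assoc _ (t ≫ ρ) w₂ q').symm))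
  have hba : b ≫ f = c ≫ a := hom_ext_of_locLift hlift (by
    rw [← Category.assoc e c, hc, Category.assoc, ha, ← Category.assoc]; exact sqE.w.symm)
  let l : V ⟶ pullback f a := pullback.lift b c hba
  have sq₁ : IsPullback ((yon S).map π) (e ≫ l) q' (pullback.snd f a) := by
    refine IsPullback.of_bot (v₂₁ := pullback.fst f a) (v₂₂ := a) ?_ ?_ (IsPullback.of_hasPullback f a).flip
    · rw [Category.assoc, pullback.lift_fst, ha]; exact sqE
    · rw [Category.assoc, pullback.lift_snd, hc]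
  have hel : LocLift (e ≫ l) := locLift_of_atlas
    ((repWith_isStableUnderBaseChange _).of_isPullback sq₁ hq')
    ((repWith_isStableUnderBaseChange _).of_isPullback sq₁ hq's)
  haveI : Mono l := mono_of_locLift hlift l fun T x x' h => by
    obtain ⟨u, rfl⟩ := (yon S).map_surjective x
    obtain ⟨u', rfl⟩ := (yon S).map_surjective x'
    have h1 := congrArg (· ≫ pullback.snd f a) h
    have h2 := congrArg (· ≫ pullback.fst f a) h
    simp only [Category.assoc, l, pullback.lift_snd, pullback.lift_fst] at h1 h2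
    rw [hc, ← Functor.map_comp_assoc, ← Functor.map_comp_assoc] at h1
    exact ((key T _ _).1 (hfac T _ _ h1)).2 T (𝟙 T) u u' (Category.id_comp _).symm (Category.id_comp _).symm h2
  haveI : IsIso l := isIso_of_mono_of_locLift l fun T g => by
    obtain ⟨W₀, c₀, u₀, hc₀, hu₀⟩ := hel T g
    exact ⟨W₀, c₀, u₀ ≫ e, hc₀, by rw [Category.assoc]; exact hu₀⟩
  exact ⟨_, a, c, q', hV', hq', hq's, ha,
    IsPullback.of_iso_pullback ⟨hba⟩ (asIso l) (pullback.lift_fst _ _ _) (pullback.lift_snd _ _ _)⟩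

/-- Essential surjectivity of base change of spaces etale over the target of a universal homeomorphism. -/
theorem exists_descent_of_etale (hf : RepWith uhHom f) (hY : IsAlgSpace Y) (hX : IsAlgSpace X)
    {V : Sp S} (hV : IsAlgSpace V) {b : V ⟶ X} (hb : IsEtaleMor b) :
    ∃ (V' : Sp S) (a : V' ⟶ Y) (c : V ⟶ V'), IsAlgSpace V' ∧ IsEtaleMor a ∧ IsPullback b c f a := by
  obtain ⟨U, y, hy, hys⟩ := hY.atlas
  obtain ⟨UX, sU, ux, sqU⟩ := hf.rep y
  have hux : RepWith @Etale ux := (repWith_isStableUnderBaseChange _).of_isPullback sqU.flip hy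
  have huxs : RepWith @Surjective ux := (repWith_isStableUnderBaseChange _).of_isPullback sqU.flip hys
  obtain ⟨E, h, e, hev⟩ : ∃ (E : Over S) (h : E ⟶ UX) (e : (yon S).obj E ⟶ V),
      RepWith @Etale e ∧ RepWith @Surjective e ∧ e ≫ b = (yon S).map h ≫ ux := by
    obtain ⟨E, e, h, h1, h2, h3⟩ := exists_compatible_chart b hV hX.diag hux huxs
    exact ⟨E, h, e, h1, h2, h3⟩
  obtain ⟨he, hes, hw⟩ := hev
  haveI : Etale h.left := (isEtaleMor_iff_locP b hV hX).1 hb e ux h he hux hw
  have hsU : uhHom sU.left := hf.property y ux sU sqU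
  haveI : IsIntegralHom sU.left := hsU.1.1
  haveI : UniversallyInjective sU.left := hsU.1.2
  haveI : Surjective sU.left := hsU.2
  haveI := Groth.Agent.Unr55.EtGlue.bc_isEquivalence_of_isIntegralHom sU.left
  let F := (EtCoh.bc sU.left).objPreimage (Scheme.Etale.mk h.left)
  let j := (EtCoh.bc sU.left).objObjPreimageIso (Scheme.Etale.mk h.left)
  let j' : E.left ≅ pullback F.hom sU.left :=
    ((MorphismProperty.Over.forget _ _ _ ⋙ Over.forget _).mapIso j).symm
  have hj : j'.hom ≫ pullback.snd F.hom sU.left = h.left := MorphismProperty.Over.w j.inv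
  haveI : Etale F.hom := F.prop
  let E' : Over S := Over.mk (F.hom ≫ U.hom)
  let h' : E' ⟶ U := Over.homMk F.hom rfl
  let π : E ⟶ E' := Over.homMk (j'.hom ≫ pullback.fst F.hom sU.left) (by
    show (j'.hom ≫ pullback.fst F.hom sU.left) ≫ F.hom ≫ U.hom = E.hom
    rw [Category.assoc, pullback.condition_assoc, reassoc_of% hj, Over.w sU, Over.w h])
  have sqh : IsPullback π.left h.left h'.left sU.left :=
    (IsPullback.of_hasPullback F.hom sU.left).of_iso j'.symm (Iso.refl _) (Iso.refl _) (Iso.refl _)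
      (by simp [π]) (by simp [← hj]) (by simp [h']) (by simp)
  haveI : Etale h'.left := inferInstanceAs (Etale F.hom)
  have sqh' : IsPullback ((yon S).map π) ((yon S).map h) ((yon S).map h') ((yon S).map sU) :=
    (IsPullback.of_map (Over.forget S) (Over.OverMorphism.ext sqh.w) sqh).map (yon S)
  have sqE : IsPullback ((yon S).map π) (e ≫ b) ((yon S).map h' ≫ y) f := by
    rw [hw]; exact sqh'.paste_vert sqU.flip
  obtain ⟨V', a, c, q', hV', hq', hq's, ha, sq⟩ :=
    exists_descent_of_chart hf hY hX hV he hes (repWith_etale_comp h' hy) sqE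
  refine ⟨V', a, c, hV', (isEtaleMor_iff_locP a hV' hY).2 ?_, sq⟩
  exact locP_of_chart hV'.diag hY.diag hq' hq's hy ha (inferInstanceAs (Etale h'.left))

end Groth.Agent.SpFP87
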