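import Groth.Agent.SpFP87.FOBase
/-!
The target map of a universal first order thickening is formally unramified.
-/

set_option autoImplicit false
set_option linter.style.haveILetI false
universe u
open CategoryTheory CategoryTheory.Limits AlgebraicGeometry
open AlgSp

namespace Groth.Agent.SpFP87

variable {S : Scheme.{u}}

theorem mono_of_repWith_closed {P : MorphismProperty Scheme.{u}}
    (hP : ∀ {X Y : Scheme.{u}} (f : X ⟶ Y), P f → Mono f) {F G : Sp S} (i : F ⟶ G) (hi : RepWith P i) :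
    Mono i :=
  mono_of_probe fun T a b hab => by
    have hpb := hi.rep.isPullback (a ≫ i)
    obtain ⟨ka, hka⟩ := (yon S).map_surjective (hpb.lift a (𝟙 _) (Category.id_comp _).symm)
    obtain ⟨kb, hkb⟩ := (yon S).map_surjective
      (hpb.lift b (𝟙 _) (by rw [Category.id_comp]; exact hab.symm))
    haveI : Mono (hi.rep.snd (a ≫ i)).left := hP _ (hi.property_snd (a ≫ i))
    have e : ka ≫ hi.rep.snd (a ≫ i) = kb ≫ hi.rep.snd (a ≫ i) := (yon S).map_injective (by
      rw [Functor.map_comp, Functor.map_comp, hka, hkb, hpb.lift_snd, hpb.lift_snd])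
    have : ka = kb := Over.OverMorphism.ext
      ((cancel_mono (hi.rep.snd (a ≫ i)).left).1 (congrArg CommaMorphism.left e))
    rw [← hpb.lift_fst a (𝟙 _) (Category.id_comp _).symm, ← hka, this, hkb, hpb.lift_fst]

/-- The ideal of the preimage of a first order thickening under a point with values in a ring. -/
theorem exists_preimage_ideal {T T' : Sp S} {j : T ⟶ T'} (hj : IsFOThickMor j) (hT' : IsAlgSpace T')
    {A : Type u} [CommRing A] (str : Spec (.of A) ⟶ S) (g : (yon S).obj (Over.mk str) ⟶ T') :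
    ∃ J : Ideal A, J * J = ⊥ ∧ ∀ (C : Type u) [CommRing C] (ψ : A →+* C),
      (∃ m, m ≫ j = (yon S).map (specChg ψ str) ≫ g) ↔ J ≤ RingHom.ker ψ := by
  haveI : IsAffine (Over.mk str : Over S).left := inferInstanceAs (IsAffine (Spec (.of A)))
  haveI : IsClosedImmersion (hj.1.rep.snd g).left := (hj.1.property_snd g).1
  have hsq := (sqZero_iff_ker_appTop (hj.1.rep.snd g).left).1
    (sqZero_of_isPullback hj hT' g (hj.1.rep.isPullback g))
  let e : Γ((Over.mk str : Over S).left, ⊤) ≃+* A := (Scheme.ΓSpecIso (.of A)).commRingCatIsoToRingEquiv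
  let J := (RingHom.ker (hj.1.rep.snd g).left.appTop.hom).map e.toRingHom
  refine ⟨J, by rw [← Ideal.map_mul, hsq, Ideal.map_bot], fun C _ ψ => ?_⟩
  rw [Ideal.map_le_iff_le_comap, RingHom.comap_ker,
    ← factor_iff_of_isPullback (hj.1.rep.isPullback g) (ψ.comp e.toRingHom)]
  have k : Spec.map (CommRingCat.ofHom (ψ.comp e.toRingHom)) ≫ (Spec (.of A)).isoSpec.inv =
      Spec.map (CommRingCat.ofHom ψ) := by
    rw [Scheme.isoSpec_Spec_inv, ← Spec.map_comp]
    congr 1
    ext x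
    exact congrArg ψ (Iso.inv_hom_id_apply (Scheme.ΓSpecIso (.of A)) x)
  let u : (Over.mk (Spec.map (CommRingCat.ofHom ψ) ≫ str) : Over S) ≅
      Over.mk ((Spec.map (CommRingCat.ofHom (ψ.comp e.toRingHom)) ≫ (Spec (.of A)).isoSpec.inv) ≫ str) :=
    Over.isoMk (Iso.refl _) ((Category.id_comp _).trans (congrArg (· ≫ str) k))
  have hu : u.hom ≫ specPt (Over.mk str) (ψ.comp e.toRingHom) = specChg ψ str :=
    Over.OverMorphism.ext ((Category.id_comp _).trans k)
  constructor
  · rintro ⟨m, hm⟩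
    refine ⟨(yon S).map u.inv ≫ m, ?_⟩
    refine (Category.assoc _ _ _).trans ((congrArg (_ ≫ ·) hm).trans ?_)
    refine (Category.assoc _ _ _).symm.trans (congrArg (· ≫ g) ?_)
    exact ((yon S).map_comp _ _).symm.trans (congrArg (yon S).map ((Iso.inv_comp_eq u).2 hu.symm))
  · rintro ⟨m, hm⟩
    refine ⟨(yon S).map u.hom ≫ m, ?_⟩
    refine (Category.assoc _ _ _).trans ((congrArg (_ ≫ ·) hm).trans ?_)
    refine (Category.assoc _ _ _).symm.trans (congrArg (· ≫ g) ?_)
    exact ((yon S).map_comp _ _).symm.trans (congrArg (yon S).map hu)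

/-- A quotient by an ideal of square zero is a first order thickening. -/
theorem isFOThickMor_spec {P P' : Over S} (k : P ⟶ P') [IsAffine P'.left] (hk : MoreMor.IsThickening k.left)
    (h2 : RingHom.ker k.left.appTop.hom * RingHom.ker k.left.appTop.hom = ⊥) :
    IsFOThickMor ((yon S).map k) := by
  refine ⟨(isThickMor_yon_map_iff k).2 hk, fun V W b t x hV _ sq => ?_⟩
  haveI := hV
  haveI : IsClosedImmersion k.left := ((thick_iff _).2 hk).1
  obtain ⟨t', rfl⟩ := (yon S).map_surjective t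
  obtain ⟨b', rfl⟩ := (yon S).map_surjective b
  have sq₀ : IsPullback t' x k b' :=
    IsPullback.of_map (yon S) ((yon S).map_injective (by rw [Functor.map_comp, Functor.map_comp]; exact sq.w)) sq
  haveI : IsClosedImmersion x.left := MorphismProperty.of_isPullback (sq₀.map (Over.forget S)) ‹IsClosedImmersion k.left›
  rw [sqZero_iff_ker_appTop, eq_bot_iff]
  set K := (RingHom.ker k.left.appTop.hom).map b'.left.appTop.hom
  have hle : RingHom.ker x.left.appTop.hom ≤ RingHom.ker (Ideal.Quotient.mk K) := by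
    rw [← exists_factor_iff x (Ideal.Quotient.mk K)]
    obtain ⟨m, hm⟩ : ∃ m, m ≫ k = specPt V (Ideal.Quotient.mk K) ≫ b' := by
      have hq : RingHom.ker k.left.appTop.hom ≤ RingHom.ker ((Ideal.Quotient.mk K).comp b'.left.appTop.hom) :=
        fun y hy => Ideal.Quotient.eq_zero_iff_mem.2 (Ideal.mem_map_of_mem _ hy)
      obtain ⟨m, hm⟩ := (exists_factor_iff k _).2 hq
      have e : Spec.map (CommRingCat.ofHom ((Ideal.Quotient.mk K).comp b'.left.appTop.hom)) ≫ P'.left.isoSpec.inv =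
          (Spec.map (CommRingCat.ofHom (Ideal.Quotient.mk K)) ≫ V.left.isoSpec.inv) ≫ b'.left := by
        rw [show CommRingCat.ofHom ((Ideal.Quotient.mk K).comp b'.left.appTop.hom) =
          b'.left.appTop ≫ CommRingCat.ofHom (Ideal.Quotient.mk K) from rfl, Spec.map_comp, Category.assoc,
          Category.assoc, Scheme.isoSpec_inv_naturality]
      refine ⟨Over.homMk m.left ((Over.w m).trans ?_), Over.OverMorphism.ext ((congrArg CommaMorphism.left hm).trans e)⟩
      exact (congrArg (· ≫ P'.hom) e).trans ((Category.assoc _ _ _).trans (congrArg (_ ≫ ·) (Over.w b')))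
    exact ⟨sq₀.lift m _ hm, sq₀.lift_snd _ _ _⟩
  rw [Ideal.mk_ker] at hle
  refine (Ideal.mul_mono hle hle).trans ?_
  rw [← Ideal.map_mul, h2, Ideal.map_bot]

theorem isFormallyUnramifiedMor_of_isUnivFOThick {Z Z' X : Sp S} {h : Z ⟶ X} {i : Z ⟶ Z'}
    {h' : Z' ⟶ X} (hh : IsFormallyUnramifiedMor h) (HU : IsUnivFOThick h i h') (hZ' : IsAlgSpace Z') :
    IsFormallyUnramifiedMor h' := by
  intro sq l₁ l₂ a₁ b₁ a₂ b₂
  haveI : Mono i := mono_of_repWith_closed (P := thick)
    (fun _ hf => by haveI := hf.1; infer_instance) i HU.1.1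
  obtain ⟨J₁, hJ₁, c₁⟩ := exists_preimage_ideal HU.1 hZ' sq.str l₁
  obtain ⟨J₂, hJ₂, c₂⟩ := exists_preimage_ideal HU.1 hZ' sq.str l₂
  have hl : l₁ ≫ h' = l₂ ≫ h' := b₁.trans b₂.symm
  set J := J₁ ⊔ J₂
  let π := Ideal.Quotient.mk J
  obtain ⟨m₁, hm₁⟩ := (c₁ _ π).2 (by rw [Ideal.mk_ker]; exact le_sup_left)
  obtain ⟨m₂, hm₂⟩ := (c₂ _ π).2 (by rw [Ideal.mk_ker]; exact le_sup_right)
  -- both points lie in `Z` on `A / J`, and there they agree
  have hmh : m₁ ≫ h = m₂ ≫ h := by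
    rw [← HU.2.1, ← Category.assoc, ← Category.assoc]
    refine (congrArg (· ≫ h') hm₁).trans (Eq.trans ?_ (congrArg (· ≫ h') hm₂).symm)
    exact (Category.assoc _ _ _).trans ((congrArg (_ ≫ ·) hl).trans (Category.assoc _ _ _).symm)
  let sqJ : InfSq h :=
    { A := sq.A ⧸ J, I := sq.I.map π,
      sq_zero := (infSqPull sq π).sq_zero, str := Spec.map (CommRingCat.ofHom π) ≫ sq.str,
      top := (yon S).map (infSqPull sq π).j ≫ m₁, bot := m₁ ≫ h, comm := Category.assoc _ _ _ }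
  have hmj : (yon S).map (infSqPull sq π).j ≫ m₂ = (yon S).map (infSqPull sq π).j ≫ m₁ := by
    refine (cancel_mono i).1 ((Category.assoc _ _ _).trans (Eq.trans ?_ (Category.assoc _ _ _).symm))
    exact (congrArg (_ ≫ ·) hm₂).trans ((infSqPull_lift sq π a₂).trans
      ((infSqPull_lift sq π a₁).symm.trans (congrArg (_ ≫ ·) hm₁.symm)))
  have hm : m₁ = m₂ := hh sqJ m₁ m₂ rfl rfl hmj hmh.symm
  subst hm
  -- hence they agree on `A / J²`
  let ρ := Ideal.Quotient.mk (J * J)
  let τ : sq.A ⧸ J * J →+* sq.A ⧸ J := Ideal.Quotient.factor Ideal.mul_le_left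
  have hτ : τ.comp ρ = π := Ideal.Quotient.factor_comp_mk _
  let k : (Over.mk (Spec.map (CommRingCat.ofHom π) ≫ sq.str) : Over S) ⟶
      Over.mk (Spec.map (CommRingCat.ofHom ρ) ≫ sq.str) :=
    Over.homMk (Spec.map (CommRingCat.ofHom τ))
      ((Category.assoc _ _ _).symm.trans (congrArg (· ≫ sq.str) (specMap_comp' hτ)))
  have hk : k ≫ specChg ρ sq.str = specChg π sq.str := Over.OverMorphism.ext (specMap_comp' hτ)
  have hτ2 : RingHom.ker τ * RingHom.ker τ = ⊥ := by
    have hker : RingHom.ker τ ≤ J.map ρ := fun y hy => by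
      obtain ⟨y, rfl⟩ := Ideal.Quotient.mk_surjective y
      exact Ideal.mem_map_of_mem _ (Ideal.Quotient.eq_zero_iff_mem.1 hy)
    rw [eq_bot_iff]
    refine (Ideal.mul_mono hker hker).trans ?_
    rw [← Ideal.map_mul, Ideal.map_quotient_self]
  haveI : IsAffine (Over.mk (Spec.map (CommRingCat.ofHom ρ) ≫ sq.str) : Over S).left :=
    inferInstanceAs (IsAffine (Spec (.of (sq.A ⧸ J * J))))
  have hτs : Function.Surjective τ := fun y => by
    obtain ⟨y, rfl⟩ := Ideal.Quotient.mk_surjective y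
    exact ⟨ρ y, rfl⟩
  haveI : IsClosedImmersion (Spec.map (CommRingCat.ofHom τ)) := IsClosedImmersion.spec_of_surjective _ hτs
  have hkfo : IsFOThickMor ((yon S).map k) := by
    have hsurj : ∀ p : PrimeSpectrum (sq.A ⧸ J * J), p ∈ Set.range (PrimeSpectrum.comap τ) := fun p => by
      rw [range_comap_of_surjective _ _ hτs, PrimeSpectrum.mem_zeroLocus]
      intro x hx
      have h0 : x * x = 0 := (Submodule.eq_bot_iff _).1 hτ2 _ (Ideal.mul_mem_mul hx hx)
      exact (p.isPrime.mem_or_mem (show x * x ∈ p.asIdeal by rw [h0]; exact zero_mem _)).elim id id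
    refine isFOThickMor_spec k ((thick_iff _).1 ⟨‹_›, ⟨fun p => hsurj p⟩⟩) ?_
    · change RingHom.ker (Spec.map (CommRingCat.ofHom τ)).appTop.hom *
        RingHom.ker (Spec.map (CommRingCat.ofHom τ)).appTop.hom = ⊥
      set φ := (Spec.map (CommRingCat.ofHom τ)).appTop
      have hn : ∀ y, φ y = 0 → (Scheme.ΓSpecIso (.of (sq.A ⧸ J * J))).hom y ∈ RingHom.ker τ := fun y hy => by
        have h0 := congr($(Scheme.ΓSpecIso_naturality (CommRingCat.ofHom τ)) y)
        simp only [CommRingCat.comp_apply] at h0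
        change τ _ = 0
        refine h0.symm.trans ?_
        change (Scheme.ΓSpecIso _).hom (φ y) = 0
        rw [hy, map_zero]
      rw [eq_bot_iff, Ideal.mul_le]
      intro x hx y hy
      rw [Ideal.mem_bot]
      apply (ConcreteCategory.bijective_of_isIso (Scheme.ΓSpecIso (.of (sq.A ⧸ J * J))).hom).1
      rw [map_mul, map_zero]
      exact (Submodule.eq_bot_iff _).1 hτ2 _ (Ideal.mul_mem_mul (hn x hx) (hn y hy))
  have hres : ∀ {G : Sp S} (l : (yon S).obj sq.ptT' ⟶ G), (yon S).map k ≫ (yon S).map (specChg ρ sq.str) ≫ l = (yon S).map (specChg π sq.str) ≫ l :=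
    fun {_} l => (Category.assoc _ _ _).symm.trans (congrArg (· ≫ l)
      (((yon S).map_comp _ _).symm.trans (congrArg (yon S).map hk)))
  have E : (yon S).map (specChg ρ sq.str) ≫ l₁ = (yon S).map (specChg ρ sq.str) ≫ l₂ := by
    refine (HU.2.2 (IsAlgSpace.yon_obj _) (IsAlgSpace.yon_obj _) _ m₁
      ((yon S).map (specChg ρ sq.str) ≫ l₁ ≫ h') hkfo ?_).unique
      ⟨(hres l₁).trans hm₁.symm, Category.assoc _ _ _⟩
      ⟨(hres l₂).trans hm₂.symm, (Category.assoc _ _ _).trans (congrArg (_ ≫ ·) hl.symm)⟩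
    rw [← HU.2.1]
    refine (hres _).trans ((Category.assoc _ _ _).symm.trans ?_)
    exact (congrArg (· ≫ h') hm₁.symm).trans (Category.assoc _ _ _)
  have hJ2 : J₂ ≤ J₁ ⊔ J * J := by
    set K := J₁ ⊔ J * J
    let κ : sq.A ⧸ J * J →+* sq.A ⧸ K := Ideal.Quotient.factor le_sup_right
    have hκ : κ.comp ρ = Ideal.Quotient.mk K := Ideal.Quotient.factor_comp_mk _
    obtain ⟨m, hm⟩ := (c₁ _ (Ideal.Quotient.mk K)).2 (by rw [Ideal.mk_ker]; exact le_sup_left)
    let kK : (Over.mk (Spec.map (CommRingCat.ofHom (Ideal.Quotient.mk K)) ≫ sq.str) : Over S) ⟶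
        Over.mk (Spec.map (CommRingCat.ofHom ρ) ≫ sq.str) :=
      Over.homMk (Spec.map (CommRingCat.ofHom κ))
        ((Category.assoc _ _ _).symm.trans (congrArg (· ≫ sq.str) (specMap_comp' hκ)))
    have hkK : ∀ (l : (yon S).obj sq.ptT' ⟶ Z'), (yon S).map kK ≫ (yon S).map (specChg ρ sq.str) ≫ l =
        (yon S).map (specChg (Ideal.Quotient.mk K) sq.str) ≫ l := fun l =>
      (Category.assoc _ _ _).symm.trans (congrArg (· ≫ l)
        (((yon S).map_comp _ _).symm.trans (congrArg (yon S).map (Over.OverMorphism.ext (specMap_comp' hκ)))))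
    have := (c₂ _ (Ideal.Quotient.mk K)).1
      ⟨m, hm.trans ((hkK l₁).symm.trans ((congrArg (_ ≫ ·) E).trans (hkK l₂)))⟩
    rwa [Ideal.mk_ker] at this
  have hJJ : J * J = ⊥ := by
    have h1 : J ≤ J₁ ⊔ J * J := sup_le le_sup_left hJ2
    have gen : ∀ N ≤ J, (J₁ ⊔ N) * (J₁ ⊔ N) ≤ J * N := fun N hN => by
      rw [Ideal.sup_mul, Ideal.mul_sup, Ideal.mul_sup, hJ₁]
      refine sup_le (sup_le bot_le (Ideal.mul_mono_left le_sup_left)) (sup_le ?_ (Ideal.mul_mono_left hN))
      rw [mul_comm N J₁]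
      exact Ideal.mul_mono_left le_sup_left
    have h2 : J * J ≤ J * (J * J) := (Ideal.mul_mono h1 h1).trans (gen _ Ideal.mul_le_left)
    have h3 : J * (J * J) = ⊥ := by
      show (J₁ ⊔ J₂) * ((J₁ ⊔ J₂) * (J₁ ⊔ J₂)) = ⊥
      simp only [← Ideal.add_eq_sup, mul_add, add_mul]
      have e1 : ∀ K, J₁ * (J₁ * K) = ⊥ := fun K => by rw [← mul_assoc, hJ₁, Ideal.bot_mul]
      have e2 : ∀ K, J₂ * (J₂ * K) = ⊥ := fun K => by rw [← mul_assoc, hJ₂, Ideal.bot_mul]
      have e3 : J₂ * (J₁ * J₁) = ⊥ := by rw [hJ₁, Ideal.mul_bot]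
      have e4 : J₁ * (J₂ * J₂) = ⊥ := by rw [hJ₂, Ideal.mul_bot]
      have e5 : J₁ * (J₂ * J₁) = ⊥ := by rw [mul_comm J₂ J₁, e1]
      have e6 : J₂ * (J₁ * J₂) = ⊥ := by rw [mul_comm J₁ J₂, e2]
      simp [e1, e2, e3, e4, e5, e6]
    exact le_bot_iff.1 (h2.trans h3.le)
  have hρ : Function.Bijective ρ := by
    refine ⟨(RingHom.injective_iff_ker_eq_bot ρ).2 ?_, Ideal.Quotient.mk_surjective⟩
    rw [Ideal.mk_ker, hJJ]
  haveI : IsIso (CommRingCat.ofHom ρ) := (ConcreteCategory.isIso_iff_bijective _).2 hρ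
  haveI : IsIso ((Over.forget S).map (specChg ρ sq.str)) :=
    inferInstanceAs (IsIso (Spec.map (CommRingCat.ofHom ρ)))
  haveI : IsIso (specChg ρ sq.str) := isIso_of_reflects_iso _ (Over.forget S)
  exact (cancel_epi ((yon S).map (specChg ρ sq.str))).1 E

end Groth.Agent.SpFP87
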