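import Groth.Agent.SpFP87.InfLocal
import Groth.Agent.SpFP87.UnivThickUnram
import Groth.Agent.SpPts86.Basic
/-!
Universal first order thickenings descend along surjective etale morphisms of thickenings.
-/

set_option autoImplicit false
set_option linter.style.haveILetI false
universe u
open CategoryTheory CategoryTheory.Limits AlgebraicGeometry
open AlgSp

namespace Groth.Agent.SpFP87

variable {S : Scheme.{u}}

theorem isFOThickMor_infSq {F G : Sp S} {f : F ⟶ G} (sq : InfSq f) :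
    IsFOThickMor ((yon S).map sq.j) := by
  haveI : IsAffine sq.ptT'.left := inferInstanceAs (IsAffine (Spec (.of sq.A)))
  haveI : IsClosedImmersion (Spec.map (CommRingCat.ofHom (Ideal.Quotient.mk sq.I))) :=
    IsClosedImmersion.spec_of_surjective _ Ideal.Quotient.mk_surjective
  refine isFOThickMor_spec sq.j ((thick_iff _).1
    ⟨‹_›, Groth.Agent.FlatMor67.specMk_surjective (I := sq.I) ⟨2, sq.sq_zero⟩⟩) ?_
  change RingHom.ker (Spec.map (CommRingCat.ofHom (Ideal.Quotient.mk sq.I))).appTop.hom *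
    RingHom.ker (Spec.map (CommRingCat.ofHom (Ideal.Quotient.mk sq.I))).appTop.hom = ⊥
  set φ := (Spec.map (CommRingCat.ofHom (Ideal.Quotient.mk sq.I))).appTop
  have hn : ∀ y, φ y = 0 → (Scheme.ΓSpecIso (.of sq.A)).hom y ∈ sq.I := fun y hy => by
    have h0 := congr($(Scheme.ΓSpecIso_naturality (CommRingCat.ofHom (Ideal.Quotient.mk sq.I))) y)
    simp only [CommRingCat.comp_apply] at h0
    refine Ideal.Quotient.eq_zero_iff_mem.1 (h0.symm.trans ?_)
    change (Scheme.ΓSpecIso _).hom (φ y) = 0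
    rw [hy, map_zero]
  rw [eq_bot_iff, Ideal.mul_le]
  intro x hx y hy
  rw [Ideal.mem_bot]
  apply (ConcreteCategory.bijective_of_isIso (Scheme.ΓSpecIso (.of sq.A)).hom).1
  rw [map_mul, map_zero]
  exact (Submodule.eq_bot_iff _).1 ((pow_two sq.I).symm.trans sq.sq_zero) _
    (Ideal.mul_mem_mul (hn x hx) (hn y hy))

/-- Etale algebras over the quotient of a lifting square lift to the ring. -/
theorem exists_etale_lift_square {G H : Sp S} {b : G ⟶ H} (sq : InfSq b) {B : Type u} [CommRing B]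
    (φ₀ : sq.A ⧸ sq.I →+* B) (hφ₀ : φ₀.Etale) (hs₀ : Function.Surjective (PrimeSpectrum.comap φ₀)) :
    ∃ (C : Type u) (_ : CommRing C) (φ : sq.A →+* C)
      (r : (infSqPull sq φ).ptT ⟶ (Over.mk (Spec.map (CommRingCat.ofHom φ₀) ≫ sq.ptT.hom) : Over S)),
      φ.Etale ∧ Function.Surjective (PrimeSpectrum.comap φ) ∧
        r ≫ specChg φ₀ sq.ptT.hom = specQuotChg φ sq.I sq.str := by
  letI : Algebra (sq.A ⧸ sq.I) B := φ₀.toAlgebra
  letI : Algebra sq.A B := (φ₀.comp (Ideal.Quotient.mk sq.I)).toAlgebra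
  haveI : IsScalarTower sq.A (sq.A ⧸ sq.I) B := IsScalarTower.of_algebraMap_eq fun _ => rfl
  haveI : Algebra.Etale (sq.A ⧸ sq.I) B := hφ₀
  haveI : Algebra.IsStandardSmoothOfRelativeDimension 0 (sq.A ⧸ sq.I) B :=
    Algebra.Etale.iff_isStandardSmoothOfRelativeDimension_zero.1 inferInstance
  obtain ⟨C, _, _, g, hC, hg, hker⟩ := exists_lift_standardSmooth (P := sq.A) (A := sq.A ⧸ sq.I) (B := B)
    Ideal.Quotient.mk_surjective
  let φ := algebraMap sq.A C
  have hker' : RingHom.ker g.toRingHom = sq.I.map φ := by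
    rw [hker]
    exact congrArg (Ideal.map φ) Ideal.mk_ker
  have hφ : φ.Etale := RingHom.etale_algebraMap.2 hC
  have hs : Function.Surjective (PrimeSpectrum.comap φ) := fun p => by
    have hIp : sq.I ≤ p.asIdeal := fun x hx =>
      p.2.mem_of_pow_mem 2 (by
        have : x ^ 2 ∈ sq.I ^ 2 := Ideal.pow_mem_pow hx 2
        rw [sq.sq_zero, Ideal.mem_bot] at this
        rw [this]; exact zero_mem _)
    obtain ⟨p₀, hp₀⟩ : p ∈ Set.range (PrimeSpectrum.comap (Ideal.Quotient.mk sq.I)) := by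
      rw [range_comap_of_surjective _ _ Ideal.Quotient.mk_surjective, Ideal.mk_ker]
      exact hIp
    obtain ⟨q, hq⟩ := hs₀ p₀
    refine ⟨PrimeSpectrum.comap g.toRingHom q, ?_⟩
    rw [← hp₀, ← hq, ← PrimeSpectrum.comap_comp_apply, ← PrimeSpectrum.comap_comp_apply]
    exact congrArg (fun r => PrimeSpectrum.comap r q) (g.comp_algebraMap)
  let sqC := infSqPull sq φ
  let ρ : B →+* C ⧸ sq.I.map φ :=
    (((Ideal.quotEquivOfEq hker'.symm).trans
      (RingHom.quotientKerEquivOfSurjective (f := g.toRingHom) hg)).symm).toRingHom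
  have hρ : ρ.comp φ₀ = Ideal.quotientMap (sq.I.map φ) φ Ideal.le_comap_map := by
    apply Ideal.Quotient.ringHom_ext
    ext x
    change ((Ideal.quotEquivOfEq hker'.symm).trans
      (RingHom.quotientKerEquivOfSurjective (f := g.toRingHom) hg)).symm
      (φ₀ (Ideal.Quotient.mk sq.I x)) = Ideal.Quotient.mk _ (φ x)
    rw [RingEquiv.symm_apply_eq]
    exact (g.commutes x).symm
  let r : sqC.ptT ⟶ (Over.mk (Spec.map (CommRingCat.ofHom φ₀) ≫ sq.ptT.hom) : Over S) :=
    Over.homMk (Spec.map (CommRingCat.ofHom ρ))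
      ((congrArg (_ ≫ ·) ((Category.assoc _ _ _).symm.trans
        (congrArg (· ≫ sq.str) (specMap_comp' rfl)))).trans (specMap_square
          (show (ρ.comp (φ₀.comp (Ideal.Quotient.mk sq.I))) = (Ideal.Quotient.mk (sq.I.map φ)).comp φ by
            rw [← RingHom.comp_assoc, hρ]; exact Ideal.quotientMap_comp_mk _) sq.str))
  have hr : r ≫ specChg φ₀ sq.ptT.hom = specQuotChg φ sq.I sq.str := by
    ext : 1
    exact specMap_comp' hρ
  exact ⟨C, _, φ, r, hφ, hs, hr⟩

theorem isUnivFOThick_descend {Z Y Z' Y' X : Sp S} {e : Z ⟶ Y} (hZ : IsAlgSpace Z)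
    (he : IsEtaleMor e) (hes : IsSurjectiveMor e) (hYd : Representable (Limits.diag Y)) {hY : Y ⟶ X}
    {iZ : Z ⟶ Z'} {iY : Y ⟶ Y'} (hiY : IsFOThickMor iY) {f' : Z' ⟶ Y'}
    (hf' : IsFormallyEtaleMor f') (w : iZ ≫ f' = e ≫ iY) {hY' : Y' ⟶ X} (w' : iY ≫ hY' = hY)
    (HU : IsUnivFOThick (e ≫ hY) iZ (f' ≫ hY')) (hrep : ∀ {U : Over S} (q : (yon S).obj U ⟶ Y), Representable q) :
    IsUnivFOThick hY iY hY' := by
  obtain ⟨U, p, hp, hps⟩ := hZ.atlas
  have hq : RepWith @Etale (p ≫ e) := he p hp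
  have hqs : RepWith @Surjective (p ≫ e) := by
    refine (Groth.Agent.SpPts86.repWith_surjective_iff (hrep _)).2 fun y => ?_
    obtain ⟨z, rfl⟩ := hes y
    obtain ⟨u, rfl⟩ := Groth.Agent.SpPts86.isSurjectiveMor_of_repWith hps z
    exact ⟨u, Points.map_comp p e u⟩
  -- the universal property on thickened affines with values in rings
  have hfact : ∀ (sq : InfSq hY') (k : (yon S).obj sq.ptT ⟶ Y), sq.top = k ≫ iY →
      ∃ (B : Type u) (_ : CommRing B) (φ₀ : sq.A ⧸ sq.I →+* B)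
        (m : (yon S).obj (Over.mk (Spec.map (CommRingCat.ofHom φ₀) ≫ sq.ptT.hom)) ⟶ Z),
        φ₀.Etale ∧ Function.Surjective (PrimeSpectrum.comap φ₀) ∧
          (m ≫ iZ) ≫ f' = (yon S).map (specChg φ₀ sq.ptT.hom) ≫ sq.top := by
    intro sq k hk
    obtain ⟨B, _, φ₀, m₀, h1, h2, hm₀⟩ := exists_spec_lift (p ≫ e) hq hqs sq.ptT.hom k
    refine ⟨B, _, φ₀, m₀ ≫ p, h1, h2, ?_⟩
    exact (Category.assoc _ _ _).trans ((congrArg (_ ≫ ·) w).trans ((Category.assoc _ _ _).symm.trans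
      ((congrArg (· ≫ iY) ((Category.assoc m₀ p e).trans hm₀)).trans
        ((Category.assoc _ _ _).trans (congrArg (_ ≫ ·) hk.symm)))))
  -- solutions over `Z` are unique
  have hZu : ∀ (sq : InfSq hY') (z : (yon S).obj sq.ptT ⟶ Z), (z ≫ iZ) ≫ f' = sq.top →
      ∃! l : (yon S).obj sq.ptT' ⟶ Z', (yon S).map sq.j ≫ l = z ≫ iZ ∧ l ≫ f' ≫ hY' = sq.bot := by
    intro sq z hz
    haveI : IsAffine sq.ptT'.left := inferInstanceAs (IsAffine (Spec (.of sq.A)))
    refine HU.2.2 (IsAlgSpace.yon_obj _) (IsAlgSpace.yon_obj _) _ z sq.bot (isFOThickMor_infSq sq) ?_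
    rw [← HU.2.1, ← sq.comm, ← hz]
    simp only [Category.assoc]
  have huniq : ∀ (sq : InfSq hY') (k : (yon S).obj sq.ptT ⟶ Y), sq.top = k ≫ iY → sq.HasUniq := by
    intro sq k hk l l' h1 h2 h3 h4
    obtain ⟨B, _, φ₀, m, hφ₀, hs₀, hm⟩ := hfact sq k hk
    obtain ⟨C, _, φ, r, hφ, hs, hr⟩ := exists_etale_lift_square sq φ₀ hφ₀ hs₀
    let sqC := infSqPull sq φ
    have hz : (((yon S).map r ≫ m) ≫ iZ) ≫ f' = sqC.top :=
      (congrArg (· ≫ f') (Category.assoc _ _ _)).trans ((Category.assoc _ _ _).trans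
        ((congrArg (_ ≫ ·) hm).trans ((Category.assoc _ _ _).symm.trans
          (congrArg (· ≫ sq.top) (((yon S).map_comp _ _).symm.trans (congrArg (yon S).map hr))))))
    refine cover_hom_ext (specChg φ sq.str) (fppfSurj_specMap φ hφ hs) ?_
    have side : ∀ x : (yon S).obj sq.ptT' ⟶ Y', (yon S).map sq.j ≫ x = sq.top → x ≫ hY' = sq.bot →
        ∃ L, L ≫ f' = (yon S).map (specChg φ sq.str) ≫ x ∧
          (yon S).map sqC.j ≫ L = ((yon S).map r ≫ m) ≫ iZ ∧ L ≫ f' ≫ hY' = sqC.bot := by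
      intro x hx1 hx2
      obtain ⟨L, hL1, hL2⟩ := ((isFormallyEtaleMor_iff f').1 hf').1
        { A := C, I := sqC.I, sq_zero := sqC.sq_zero, str := sqC.str,
          top := ((yon S).map r ≫ m) ≫ iZ, bot := (yon S).map (specChg φ sq.str) ≫ x,
          comm := hz.trans (infSqPull_lift sq φ hx1).symm }
      exact ⟨L, hL2, hL1, (Category.assoc _ _ _).symm.trans ((congrArg (· ≫ hY') hL2).trans
        ((Category.assoc _ _ _).trans (congrArg (_ ≫ ·) hx2)))⟩
    obtain ⟨L, e1, e2, e3⟩ := side l h1 h2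
    obtain ⟨L', e1', e2', e3'⟩ := side l' h3 h4
    rw [← e1, ← e1', (hZu sqC _ hz).unique ⟨e2, e3⟩ ⟨e2', e3'⟩]
  have hex : ∀ (sq : InfSq hY') (k : (yon S).obj sq.ptT ⟶ Y), sq.top = k ≫ iY → sq.HasLift := by
    intro sq k hk
    obtain ⟨B, _, φ₀, m, hφ₀, hs₀, hm⟩ := hfact sq k hk
    refine hasLift_of_local f' hY' sq φ₀ (m ≫ iZ) hφ₀ hs₀ hm (fun C _ φ r hc => ?_)
      (fun C _ φ => huniq _ ((yon S).map (specQuotChg φ sq.I sq.str) ≫ k)
        ((congrArg ((yon S).map (specQuotChg φ sq.I sq.str) ≫ ·) hk).trans (Category.assoc _ _ _).symm))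
    have hab : (yon S).map (infSqPull sq φ).j ≫ (infSqPull sq φ).bot = ((yon S).map r ≫ m) ≫ e ≫ hY := by
      rw [← HU.2.1]
      exact hc.symm.trans (by simp only [Category.assoc])
    obtain ⟨L, ⟨hL1, hL2⟩, -⟩ := HU.2.2 (IsAlgSpace.yon_obj _) (IsAlgSpace.yon_obj _) _
      ((yon S).map r ≫ m) (infSqPull sq φ).bot (isFOThickMor_infSq (infSqPull sq φ)) hab
    exact ⟨L, hL1.trans (Category.assoc _ _ _), hL2⟩
  refine isUnivFOThick_of_affine_test hY iY hY' hiY w' fun T T' j hT' hj a b hab => ?_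
  haveI := hT'
  obtain ⟨hth, hsz⟩ := isFirstOrderThickening_of_isFOThickMor_yon_map hT' hj
  haveI : IsClosedImmersion j.left := ((thick_iff _).2 hth).1
  obtain ⟨A, _, I, hI, str, eV, eW, hev⟩ := exists_spec_model j hsz
  let sq : InfSq hY' :=
    { A := A, I := I, sq_zero := hI, str := str, top := ((yon S).map eW.hom ≫ a) ≫ iY,
      bot := (yon S).map eV.hom ≫ b,
      comm := by
        rw [Category.assoc, w', Category.assoc, ← hab, ← Functor.map_comp_assoc, hev,
          Functor.map_comp, Category.assoc] }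
  obtain ⟨l, hl1, hl2⟩ := hex sq _ rfl
  have hsj : ∀ x : (yon S).obj T' ⟶ Y', (yon S).map sq.j ≫ (yon S).map eV.hom ≫ x =
      (yon S).map eW.hom ≫ (yon S).map j ≫ x := fun x =>
    (Category.assoc _ _ _).symm.trans ((congrArg (· ≫ x) (((yon S).map_comp _ _).symm.trans
      ((congrArg (yon S).map hev.symm).trans ((yon S).map_comp _ _)))).trans (Category.assoc _ _ _))
  have hl0 : (yon S).map eV.hom ≫ (yon S).map eV.inv ≫ l = l := by
    rw [← Functor.map_comp_assoc, Iso.hom_inv_id, CategoryTheory.Functor.map_id, Category.id_comp]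
  refine ⟨(yon S).map eV.inv ≫ l, ⟨?_, ?_⟩, fun y hy => ?_⟩
  · apply (cancel_epi ((yon S).map eW.hom)).1
    exact (hsj _).symm.trans ((congrArg (_ ≫ ·) hl0).trans (hl1.trans (Category.assoc _ _ _)))
  · apply (cancel_epi ((yon S).map eV.hom)).1
    rw [← Category.assoc, hl0]
    exact hl2
  · apply (cancel_epi ((yon S).map eV.hom)).1
    rw [hl0]
    exact huniq sq _ rfl _ _ ((hsj y).trans ((congrArg (_ ≫ ·) hy.1).trans (Category.assoc _ _ _).symm))
      ((Category.assoc _ _ _).trans (congrArg (_ ≫ ·) hy.2)) hl1 hl2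

end Groth.Agent.SpFP87
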