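import Groth.Agent.SpFP87.UnivThickScheme
import Groth.Agent.SpFP87.UnivThickDesc
import Groth.Agent.SpFP87.EtTop
import Groth.Agent.SpFP87.InfCharts
import Groth.Agent.SpFP87.RepDescProps
import Groth.Agent.SpFP87.Covers
import Groth.Agent.SpPts86.EtaleMor
/-!
Existence of universal first order thickenings of formally unramified morphisms of algebraic spaces.
-/

set_option autoImplicit false
set_option linter.style.haveILetI false
set_option backward.isDefEq.respectTransparency false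
universe u
open CategoryTheory CategoryTheory.Limits AlgebraicGeometry Opposite
open AlgSp
open Groth.Agent.SpPts86

namespace Groth.Agent.SpFP87

variable {S : Scheme.{u}}

/-- The map of universal thickenings over a morphism, at the level of schemes over `S`. -/
theorem univ_map {U U' T T' : Over S} {X : Sp S} {g : (yon S).obj U ⟶ X} {i : U ⟶ U'}
    {h' : (yon S).obj U' ⟶ X} (HU : IsUnivFOThick g ((yon S).map i) h') {j : T ⟶ T'}
    (hj : IsFOThickMor ((yon S).map j)) (a : T ⟶ U) (b : (yon S).obj T' ⟶ X)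
    (w : (yon S).map j ≫ b = (yon S).map a ≫ g) :
    ∃! m : T' ⟶ U', j ≫ m = a ≫ i ∧ (yon S).map m ≫ h' = b := by
  obtain ⟨m, ⟨h1, h2⟩, hu⟩ := HU.2.2 (IsAlgSpace.yon_obj _) (IsAlgSpace.yon_obj _) _ ((yon S).map a) b hj w
  obtain ⟨m, rfl⟩ := (yon S).map_surjective m
  refine ⟨m, ⟨(yon S).map_injective (by simpa only [Functor.map_comp] using h1), h2⟩, fun y hy =>
    (yon S).map_injective (hu _ ⟨?_, hy.2⟩)⟩
  rw [← Functor.map_comp, hy.1, Functor.map_comp]

variable {Z X : Sp S}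

set_option maxHeartbeats 2000000 in
/-- Gluing universal thickenings along a chart of the source. -/
theorem exists_univFOThick_of_chart (hZ : IsAlgSpace Z) (hX : IsAlgSpace X) {U : Over S}
    {e : (yon S).obj U ⟶ Z} (he : RepWith @Etale e) (hes : RepWith @Surjective e) {h : Z ⟶ X}
    {U' : Over S} {i : U ⟶ U'} (hit : MoreMor.IsThickening i.left) {h' : (yon S).obj U' ⟶ X}
    (HU : IsUnivFOThick (e ≫ h) ((yon S).map i) h') :
    ∃ (Z' : Sp S) (iZ : Z ⟶ Z') (hZ' : Z' ⟶ X), IsAlgSpace Z' ∧ IsUnivFOThick h iZ hZ' := by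
  haveI : IsClosedImmersion i.left := ((thick_iff _).2 hit).1
  haveI : Surjective i.left := ((thick_iff _).2 hit).2
  haveI : Mono i := (Over.forget S).mono_of_mono_map (inferInstanceAs (Mono i.left))
  haveI : UniversallyInjective i.left := inferInstance
  haveI := Groth.Agent.Unr55.EtGlue.bc_isEquivalence_of_isIntegralHom i.left
  obtain ⟨R, r₁, r₂, sqR⟩ := exists_isPullback_yon hZ.diag e e
  have hr₁ : Etale r₁.left := he.property e _ r₁ sqR.flip
  have hr₂ : Etale r₂.left := he.property e _ r₂ sqR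
  -- etale lifts of the two projections
  have hlift : ∀ (r : R ⟶ U), Etale r.left → ∃ (R' : Over S) (s : R' ⟶ U') (iR : R ⟶ R'),
      Etale s.left ∧ IsPullback ((yon S).map r) ((yon S).map iR) ((yon S).map i) ((yon S).map s) ∧
      IsUnivFOThick ((yon S).map r ≫ e ≫ h) ((yon S).map iR) ((yon S).map s ≫ h') := by
    intro r hr
    let F := (EtCoh.bc i.left).objPreimage (Scheme.Etale.mk r.left)
    let j := (EtCoh.bc i.left).objObjPreimageIso (Scheme.Etale.mk r.left)
    let j' : R.left ≅ pullback F.hom i.left :=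
      ((MorphismProperty.Over.forget _ _ _ ⋙ Over.forget _).mapIso j).symm
    have hj : j'.hom ≫ pullback.snd F.hom i.left = r.left := MorphismProperty.Over.w j.inv
    haveI : Etale F.hom := F.prop
    let R' : Over S := Over.mk (F.hom ≫ U'.hom)
    let s : R' ⟶ U' := Over.homMk F.hom rfl
    let iR : R ⟶ R' := Over.homMk (j'.hom ≫ pullback.fst F.hom i.left) (by
      show (j'.hom ≫ pullback.fst F.hom i.left) ≫ F.hom ≫ U'.hom = R.hom
      rw [Category.assoc, pullback.condition_assoc, reassoc_of% hj, Over.w i, Over.w r])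
    have sq₀ : IsPullback iR.left r.left s.left i.left :=
      (IsPullback.of_hasPullback F.hom i.left).of_iso j'.symm (Iso.refl _) (Iso.refl _) (Iso.refl _)
        (by simp [iR]) (by simp [← hj]) (by simp [s]) (by simp)
    haveI hs : Etale s.left := inferInstanceAs (Etale F.hom)
    have sq : IsPullback ((yon S).map r) ((yon S).map iR) ((yon S).map i) ((yon S).map s) :=
      ((IsPullback.of_map (Over.forget S) (Over.OverMorphism.ext sq₀.w) sq₀).map (yon S)).flip
    have hse : RepWith @Etale ((yon S).map s) := (repWith_yon_map_iff _ _).2 hs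
    exact ⟨R', s, iR, hs, sq, isUnivFOThick_etale_baseChange HU ((isEtaleMor_yon_map_iff s).2 hs)
      (isFormallyEtaleMor_of_repWith_etale _ hse) sq⟩
  obtain ⟨R', s₁, iR, hs₁, sq₁, HR⟩ := hlift r₁ hr₁
  obtain ⟨R'', t₂, iR'', ht₂, sq₂', HR''⟩ := hlift r₂ hr₂
  have hRe : (yon S).map r₁ ≫ e ≫ h = (yon S).map r₂ ≫ e ≫ h := by rw [sqR.w_assoc]
  obtain ⟨θ, ⟨hθ1, hθ2⟩, -⟩ := univ_map HR'' HR.1 (𝟙 R) ((yon S).map s₁ ≫ h')
    (by rw [HR.2.1, CategoryTheory.Functor.map_id, Category.id_comp, hRe])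
  obtain ⟨θ', ⟨hθ'1, hθ'2⟩, -⟩ := univ_map HR HR''.1 (𝟙 R) ((yon S).map t₂ ≫ h')
    (by rw [HR''.2.1, CategoryTheory.Functor.map_id, Category.id_comp, hRe])
  rw [Category.id_comp] at hθ1 hθ'1
  haveI : IsIso θ := ⟨θ', (univ_map HR HR.1 (𝟙 R) _ (by rw [HR.2.1, CategoryTheory.Functor.map_id, Category.id_comp])).unique
      ⟨by rw [← Category.assoc, hθ1, hθ'1, Category.id_comp], by
        rw [Functor.map_comp, Category.assoc, hθ'2, hθ2]⟩ ⟨by simp, by simp⟩,
    (univ_map HR'' HR''.1 (𝟙 R) _ (by rw [HR''.2.1, CategoryTheory.Functor.map_id, Category.id_comp])).unique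
      ⟨by rw [← Category.assoc, hθ'1, hθ1, Category.id_comp], by
        rw [Functor.map_comp, Category.assoc, hθ2, hθ'2]⟩ ⟨by simp, by simp⟩⟩
  obtain ⟨s₂, hs₂eq⟩ : ∃ s : R' ⟶ U', s = θ ≫ t₂ := ⟨_, rfl⟩
  have hs₂ : Etale s₂.left := by rw [hs₂eq]; show Etale (θ.left ≫ t₂.left); infer_instance
  have hb : (yon S).map s₂ ≫ h' = (yon S).map s₁ ≫ h' := by rw [hs₂eq, Functor.map_comp, Category.assoc, hθ2]
  have sq₂ : IsPullback ((yon S).map r₂) ((yon S).map iR) ((yon S).map i) ((yon S).map s₂) :=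
    sq₂'.of_iso (Iso.refl _) (Iso.refl _) (asIso ((yon S).map θ)).symm (Iso.refl _) (by simp)
      (by simp [← hθ1]) (by simp) (by simp [hs₂eq])
  have hi₁ : iR ≫ s₁ = r₁ ≫ i := (yon S).map_injective (by simp only [Functor.map_comp, sq₁.w])
  have hi₂ : iR ≫ s₂ = r₂ ≫ i := (yon S).map_injective (by simp only [Functor.map_comp, sq₂.w])
  have hiR : MoreMor.IsThickening iR.left := (isThickMor_yon_map_iff iR).1 HR.1.1
  -- the pair is injective
  have hinj : ∀ (T : Over S) (a b : T ⟶ R'), a ≫ s₂ = b ≫ s₂ → a ≫ s₁ = b ≫ s₁ → a = b := by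
    intro T a b h2 h1
    let Δ := pullback.diagonal s₁.left
    haveI : IsOpenImmersion Δ := inferInstance
    let pr : T.left ⟶ pullback s₁.left s₁.left := pullback.lift a.left b.left (congrArg CommaMorphism.left h1)
    have hall : Set.range pr ⊆ Set.range Δ := by
      rintro _ ⟨t, rfl⟩
      let k := pullback.fst (a ≫ s₁) i
      haveI : Surjective k.left := MorphismProperty.of_isPullback (P := @Surjective)
        ((IsPullback.of_hasPullback (a ≫ s₁) i).map (Over.forget S)).flip ‹Surjective i.left›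
      obtain ⟨t₀, rfl⟩ := k.left.surjective t
      have hk : (k ≫ a) ≫ s₁ = pullback.snd (a ≫ s₁) i ≫ i := by rw [Category.assoc]; exact pullback.condition
      have hk' : (k ≫ b) ≫ s₁ = pullback.snd (a ≫ s₁) i ≫ i := by rw [Category.assoc, ← h1, ← Category.assoc]; exact hk
      obtain ⟨α, hα⟩ := (yon S).map_surjective (sq₁.lift ((yon S).map (pullback.snd (a ≫ s₁) i))
        ((yon S).map (k ≫ a)) (by rw [← Functor.map_comp, ← Functor.map_comp, hk]))
      obtain ⟨β, hβ⟩ := (yon S).map_surjective (sq₁.lift ((yon S).map (pullback.snd (a ≫ s₁) i))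
        ((yon S).map (k ≫ b)) (by rw [← Functor.map_comp, ← Functor.map_comp, hk']))
      have hα1 : α ≫ r₁ = pullback.snd (a ≫ s₁) i := (yon S).map_injective (by rw [Functor.map_comp, hα, sq₁.lift_fst])
      have hβ1 : β ≫ r₁ = pullback.snd (a ≫ s₁) i := (yon S).map_injective (by rw [Functor.map_comp, hβ, sq₁.lift_fst])
      have hα2 : α ≫ iR = k ≫ a := (yon S).map_injective (by rw [Functor.map_comp, hα, sq₁.lift_snd])
      have hβ2 : β ≫ iR = k ≫ b := (yon S).map_injective (by rw [Functor.map_comp, hβ, sq₁.lift_snd])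
      have hr : α ≫ r₂ = β ≫ r₂ := by
        rw [← cancel_mono i, Category.assoc, Category.assoc, ← hi₂, ← Category.assoc, ← Category.assoc,
          hα2, hβ2, Category.assoc, Category.assoc, h2]
      have hαβ : α = β := (yon S).map_injective (sqR.hom_ext
        (by rw [← Functor.map_comp, ← Functor.map_comp, hα1, hβ1]) (by rw [← Functor.map_comp, ← Functor.map_comp, hr]))
      refine ⟨(α ≫ iR).left t₀, ?_⟩
      have e1 : (α ≫ iR).left ≫ Δ = k.left ≫ pr := by
        refine pullback.hom_ext ?_ ?_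
        · simp only [Category.assoc, Δ, pr, pullback.diagonal_fst, Category.comp_id, pullback.lift_fst]
          exact congrArg CommaMorphism.left hα2
        · simp only [Category.assoc, Δ, pr, pullback.diagonal_snd, Category.comp_id, pullback.lift_snd]
          rw [hαβ]
          exact congrArg CommaMorphism.left hβ2
      rw [← Scheme.Hom.comp_apply, e1, Scheme.Hom.comp_apply]
    have h3 := IsOpenImmersion.lift_fac Δ pr hall
    ext : 1
    have h4 := congrArg (· ≫ pullback.fst _ _) h3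
    have h5 := congrArg (· ≫ pullback.snd _ _) h3
    simp only [Category.assoc, Δ, pr, pullback.diagonal_fst, pullback.diagonal_snd, Category.comp_id,
      pullback.lift_fst, pullback.lift_snd] at h4 h5
    exact h4.symm.trans h5
  -- reflexivity, symmetry and transitivity
  obtain ⟨δ, hδ⟩ := (yon S).map_surjective (sqR.lift (𝟙 _) (𝟙 _) rfl)
  have hδ1 : δ ≫ r₁ = 𝟙 U := (yon S).map_injective (by rw [Functor.map_comp, hδ, sqR.lift_fst, CategoryTheory.Functor.map_id])
  have hδ2 : δ ≫ r₂ = 𝟙 U := (yon S).map_injective (by rw [Functor.map_comp, hδ, sqR.lift_snd, CategoryTheory.Functor.map_id])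
  obtain ⟨d, ⟨hd1, hd2⟩, -⟩ := univ_map HR HU.1 δ h'
    (by rw [HU.2.1, ← Category.assoc ((yon S).map δ), ← Functor.map_comp, hδ1, CategoryTheory.Functor.map_id, Category.id_comp])
  have huU : ∀ m : U' ⟶ U', i ≫ m = 𝟙 U ≫ i → (yon S).map m ≫ h' = h' → m = 𝟙 U' := fun m h1 h2 =>
    (univ_map HU HU.1 (𝟙 U) h' (by rw [HU.2.1, CategoryTheory.Functor.map_id, Category.id_comp])).unique ⟨h1, h2⟩ ⟨by simp, by simp⟩
  have hd₁ : d ≫ s₁ = 𝟙 U' := huU _ (by rw [← Category.assoc, hd1, Category.assoc, hi₁, ← Category.assoc, hδ1])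
    (by rw [Functor.map_comp, Category.assoc]; exact hd2)
  have hd₂ : d ≫ s₂ = 𝟙 U' := huU _ (by rw [← Category.assoc, hd1, Category.assoc, hi₂, ← Category.assoc, hδ2])
    (by rw [Functor.map_comp, Category.assoc, hb]; exact hd2)
  obtain ⟨σ₀, hσ₀⟩ := (yon S).map_surjective (sqR.lift ((yon S).map r₂) ((yon S).map r₁) sqR.w.symm)
  have hσ₀1 : σ₀ ≫ r₁ = r₂ := (yon S).map_injective (by rw [Functor.map_comp, hσ₀, sqR.lift_fst])
  have hσ₀2 : σ₀ ≫ r₂ = r₁ := (yon S).map_injective (by rw [Functor.map_comp, hσ₀, sqR.lift_snd])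
  obtain ⟨σ, ⟨hσ1, hσ2⟩, -⟩ := univ_map HR HR.1 σ₀ ((yon S).map s₁ ≫ h')
    (by rw [HR.2.1, ← Functor.map_comp_assoc, hσ₀1]; exact hRe)
  have huR : ∀ (a : R ⟶ U) (m m' : R' ⟶ U'), iR ≫ m = a ≫ i → (yon S).map m ≫ h' = (yon S).map s₁ ≫ h' →
      iR ≫ m' = a ≫ i → (yon S).map m' ≫ h' = (yon S).map s₁ ≫ h' →
      (yon S).map a ≫ e ≫ h = (yon S).map r₁ ≫ e ≫ h → m = m' := fun a m m' h1 h2 h3 h4 ha =>
    (univ_map HU HR.1 a _ (by rw [HR.2.1, ha])).unique ⟨h1, h2⟩ ⟨h3, h4⟩
  have hσs₁ : σ ≫ s₁ = s₂ := huR r₂ _ _ (by rw [← Category.assoc, hσ1, Category.assoc, hi₁, ← Category.assoc, hσ₀1])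
    (by rw [Functor.map_comp, Category.assoc]; exact hσ2) hi₂ hb hRe.symm
  have hσs₂ : σ ≫ s₂ = s₁ := huR r₁ _ _ (by rw [← Category.assoc, hσ1, Category.assoc, hi₂, ← Category.assoc, hσ₀2])
    (by rw [Functor.map_comp, Category.assoc, hb]; exact hσ2) hi₁ rfl rfl
  -- composable pairs: `p₁` then `p₂` with `p₁ ≫ s₁ = p₂ ≫ s₂`
  have hcomp : ∃ c : pullback s₁ s₂ ⟶ R', c ≫ s₂ = pullback.fst s₁ s₂ ≫ s₂ ∧ c ≫ s₁ = pullback.snd s₁ s₂ ≫ s₁ := by
    have sq₂₂ : IsPullback ((yon S).map (pullback.fst r₁ r₂)) ((yon S).map (pullback.snd r₁ r₂))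
        ((yon S).map r₁) ((yon S).map r₂) := (IsPullback.of_hasPullback r₁ r₂).map (yon S)
    let ι₂ : pullback r₁ r₂ ⟶ pullback s₁ s₂ := pullback.lift (pullback.fst r₁ r₂ ≫ iR) (pullback.snd r₁ r₂ ≫ iR)
      (by rw [Category.assoc, Category.assoc, hi₁, hi₂, pullback.condition_assoc])
    have hι₂f : ι₂ ≫ pullback.fst s₁ s₂ = pullback.fst r₁ r₂ ≫ iR := pullback.lift_fst _ _ _
    have hι₂s : ι₂ ≫ pullback.snd s₁ s₂ = pullback.snd r₁ r₂ ≫ iR := pullback.lift_snd _ _ _
    have sqp : IsPullback (pullback.fst r₁ r₂) ι₂ iR (pullback.fst s₁ s₂) := by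
      have A : IsPullback r₂ iR i s₂ :=
        IsPullback.of_map (yon S) ((yon S).map_injective (by simpa only [Functor.map_comp] using sq₂.w)) sq₂
      have big : IsPullback (pullback.fst r₁ r₂) (ι₂ ≫ pullback.snd s₁ s₂) (iR ≫ s₁) s₂ := by
        rw [hι₂s, hi₁]
        exact (IsPullback.of_hasPullback r₁ r₂).paste_vert A
      exact IsPullback.of_bot big hι₂f.symm (IsPullback.of_hasPullback s₁ s₂)
    have hfe : Etale (pullback.fst s₁ s₂).left :=
      MorphismProperty.of_isPullback (P := @Etale) ((IsPullback.of_hasPullback s₁ s₂).map (Over.forget S)).flip hs₂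
    have H2 := isUnivFOThick_etale_baseChange HR ((isEtaleMor_yon_map_iff _).2 hfe)
      (isFormallyEtaleMor_of_repWith_etale _ ((repWith_yon_map_iff _ _).2 hfe)) (sqp.map (yon S))
    obtain ⟨c₀, hc₀⟩ := (yon S).map_surjective (sqR.lift ((yon S).map (pullback.snd r₁ r₂ ≫ r₁))
      ((yon S).map (pullback.fst r₁ r₂ ≫ r₂)) (by
        simp only [Functor.map_comp, Category.assoc]
        rw [sqR.w, ← sq₂₂.w_assoc, sqR.w]))
    have hc₀1 : c₀ ≫ r₁ = pullback.snd r₁ r₂ ≫ r₁ := (yon S).map_injective (by rw [Functor.map_comp, hc₀, sqR.lift_fst])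
    have hc₀2 : c₀ ≫ r₂ = pullback.fst r₁ r₂ ≫ r₂ := (yon S).map_injective (by rw [Functor.map_comp, hc₀, sqR.lift_snd])
    let b₂ := (yon S).map (pullback.fst s₁ s₂) ≫ (yon S).map s₁ ≫ h'
    have hb2 : (yon S).map (pullback.fst r₁ r₂) ≫ (yon S).map r₁ ≫ e ≫ h = (yon S).map c₀ ≫ (yon S).map r₁ ≫ e ≫ h := by
      conv_rhs => rw [hRe, ← Functor.map_comp_assoc, hc₀2, Functor.map_comp_assoc, ← hRe]
    obtain ⟨c, ⟨hc1, hc2⟩, -⟩ := univ_map HR H2.1 c₀ b₂ (by rw [H2.2.1]; exact hb2)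
    have hu2 : ∀ (a : pullback r₁ r₂ ⟶ U) (m m' : pullback s₁ s₂ ⟶ U'), ι₂ ≫ m = a ≫ i →
        (yon S).map m ≫ h' = b₂ → ι₂ ≫ m' = a ≫ i → (yon S).map m' ≫ h' = b₂ →
        (yon S).map a ≫ e ≫ h = (yon S).map (pullback.fst r₁ r₂) ≫ (yon S).map r₁ ≫ e ≫ h → m = m' :=
      fun a m m' h1 h2 h3 h4 ha => (univ_map HU H2.1 a _ (by rw [H2.2.1, ha])).unique ⟨h1, h2⟩ ⟨h3, h4⟩
    refine ⟨c, hu2 (c₀ ≫ r₂) _ _ ?_ ?_ ?_ ?_ ?_, hu2 (c₀ ≫ r₁) _ _ ?_ ?_ ?_ ?_ ?_⟩
    · rw [← Category.assoc, hc1, Category.assoc, hi₂, Category.assoc]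
    · rw [Functor.map_comp, Category.assoc, hb, hc2]
    · rw [← Category.assoc, hι₂f, Category.assoc, hi₂, ← Category.assoc, hc₀2]
    · rw [Functor.map_comp, Category.assoc, hb]
    · rw [Functor.map_comp_assoc, ← hRe, hb2]
    · rw [← Category.assoc, hc1, Category.assoc, hi₁, Category.assoc]
    · rw [Functor.map_comp, Category.assoc, hc2]
    · rw [← Category.assoc, hι₂s, Category.assoc, hi₁, ← Category.assoc, hc₀1]
    · show _ = (yon S).map (pullback.fst s₁ s₂) ≫ (yon S).map s₁ ≫ h'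
      rw [← Functor.map_comp_assoc _ (pullback.fst s₁ s₂), pullback.condition, Functor.map_comp_assoc _ _ s₂, hb,
        Functor.map_comp_assoc]
    · rw [Functor.map_comp_assoc, hb2]
  obtain ⟨c, hc₂', hc₁'⟩ := hcomp
  have heqv : IsEtaleEqvRel s₁ s₂ := by
    refine ⟨⟨fun T a b h2 h1 => hinj T a b h2 h1, fun T =>
      ⟨fun x => ⟨x ≫ d, by rw [Category.assoc, hd₂, Category.comp_id], by rw [Category.assoc, hd₁, Category.comp_id]⟩,
       fun {x y} ⟨r, ha, hb'⟩ => ⟨r ≫ σ, by rw [Category.assoc, hσs₂, hb'], by rw [Category.assoc, hσs₁, ha]⟩,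
       fun {x y z} ⟨r, ha, hb'⟩ ⟨r', ha', hb''⟩ => ⟨pullback.lift r r' (hb'.trans ha'.symm) ≫ c,
         by rw [Category.assoc, hc₂', ← Category.assoc, pullback.lift_fst, ha],
         by rw [Category.assoc, hc₁', ← Category.assoc, pullback.lift_snd, hb'']⟩⟩⟩, hs₁, hs₂⟩
  -- the quotient
  obtain ⟨hZ', hq, hqs⟩ := quotMap_atlas heqv
  let q := quotMap s₁ s₂
  have hker : IsPullback ((yon S).map s₂) ((yon S).map s₁) q q := quotMap_kernelPair heqv.toIsEqvRel
  have hql := locLift_of_atlas hq hqs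
  have hel := locLift_of_atlas he hes
  obtain ⟨iZ, hiZ⟩ := exists_desc hel ((yon S).map i ≫ q) (fun W l l' hl => by
    obtain ⟨r, hr⟩ := (yon S).map_surjective (sqR.lift _ _ hl)
    have e1 : r ≫ r₁ = l := (yon S).map_injective (by rw [Functor.map_comp, hr, sqR.lift_fst])
    have e2 : r ≫ r₂ = l' := (yon S).map_injective (by rw [Functor.map_comp, hr, sqR.lift_snd])
    rw [← Functor.map_comp_assoc, ← Functor.map_comp_assoc, ← e1, ← e2, Category.assoc, Category.assoc,
      ← hi₁, ← hi₂]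
    simp only [Functor.map_comp, Category.assoc, hker.w])
  obtain ⟨hZ', hhZ'⟩ := exists_desc hql h' (fun W l l' hl => by
    obtain ⟨r, hr⟩ := (yon S).map_surjective (hker.lift _ _ hl)
    have e1 : r ≫ s₂ = l := (yon S).map_injective (by rw [Functor.map_comp, hr, hker.lift_fst])
    have e2 : r ≫ s₁ = l' := (yon S).map_injective (by rw [Functor.map_comp, hr, hker.lift_snd])
    rw [← e1, ← e2, Functor.map_comp_assoc, Functor.map_comp_assoc, hb])
  rename' hZ' => hZ'map
  obtain ⟨hZ'a, -, -⟩ := quotMap_atlas heqv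
  let l : (yon S).obj U ⟶ pullback iZ q := pullback.lift e ((yon S).map i) hiZ
  haveI : Mono l := by
    have : Mono (l ≫ pullback.snd iZ q) := by rw [pullback.lift_snd]; infer_instance
    exact mono_of_mono l (pullback.snd iZ q)
  haveI : IsIso l := isIso_of_mono_of_locLift l fun T g => by
    obtain ⟨W, c₁, v, hc₁, hv⟩ := hel T (g ≫ pullback.fst iZ q)
    obtain ⟨v, rfl⟩ := (yon S).map_surjective v
    obtain ⟨u', hu'⟩ := (yon S).map_surjective (g ≫ pullback.snd iZ q)
    have hrel : (yon S).map (v ≫ i) ≫ q = (yon S).map (c₁ ≫ u') ≫ q := by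
      rw [Functor.map_comp_assoc, ← hiZ, reassoc_of% hv, Functor.map_comp_assoc, hu']
      simp only [Category.assoc, pullback.condition]
    obtain ⟨r, hr⟩ := (yon S).map_surjective (hker.lift _ _ hrel)
    have e1 : r ≫ s₂ = v ≫ i := (yon S).map_injective (by rw [Functor.map_comp, hr, hker.lift_fst])
    have e2 : r ≫ s₁ = c₁ ≫ u' := (yon S).map_injective (by rw [Functor.map_comp, hr, hker.lift_snd])
    obtain ⟨r₀, hr₀⟩ := (yon S).map_surjective (sq₂.lift ((yon S).map v) ((yon S).map r)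
      (by rw [← Functor.map_comp, ← Functor.map_comp, e1]))
    have f1 : r₀ ≫ r₂ = v := (yon S).map_injective (by rw [Functor.map_comp, hr₀, sq₂.lift_fst])
    have f2 : r₀ ≫ iR = r := (yon S).map_injective (by rw [Functor.map_comp, hr₀, sq₂.lift_snd])
    refine ⟨W, c₁, (yon S).map (r₀ ≫ r₁), hc₁, pullback.hom_ext ?_ ?_⟩
    · simp only [Category.assoc, l, pullback.lift_fst]
      rw [Functor.map_comp_assoc, sqR.w, ← Functor.map_comp_assoc, f1, hv]
    · simp only [Category.assoc, l, pullback.lift_snd]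
      rw [← Functor.map_comp, Category.assoc, ← hi₁, ← Category.assoc, f2, e2, Functor.map_comp, hu']
  have sqU : IsPullback e ((yon S).map i) iZ q :=
    IsPullback.of_iso_pullback ⟨hiZ⟩ (asIso l) (pullback.lift_fst _ _ _) (pullback.lift_snd _ _ _)
  have hqe : IsEtaleMor q := Groth.Agent.SpPts86.isEtaleMor_of_repWith_etale hq
  have hcov : IsFppfCover (fun _ : PUnit.{u + 1} => (yon S).obj U') (fun _ => q) :=
    ⟨fun _ => ⟨LocP.of_le (P := @Etale) (fun _ _ k hk => by haveI : Etale k := hk; exact inferInstanceAs (Flat k))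
        (Groth.Agent.SpPts86.locP_etale_of_isEtaleMor hqe),
      LocP.of_le (P := @Etale) (fun _ _ k hk => by
        haveI : Etale k := hk; exact inferInstanceAs (LocallyOfFinitePresentation k))
        (Groth.Agent.SpPts86.locP_etale_of_isEtaleMor hqe)⟩,
      fun x => ⟨⟨⟩, isSurjectiveMor_of_repWith hqs x⟩⟩
  have hthick : RepWith thick iZ :=
    (isLocalOnBase_fpqc_thick (fun _ : PUnit.{u + 1} => (yon S).obj U') (fun _ => q) hZ'a
      (fun _ => IsAlgSpace.yon_obj _) (isFpqcCover_of_isFppfCover _ _ hZ'a (fun _ => IsAlgSpace.yon_obj _) hcov)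
      iZ hZ (fun _ => (yon S).obj U) (fun _ => (yon S).map i) (fun _ => e)
      (fun _ => IsAlgSpace.yon_obj _) (fun _ => sqU)).2 fun _ => (repWith_yon_map_iff _ _).2 ((thick_iff _).2 hit)
  have hFO : IsFOThickMor iZ := by
    refine isFOThickMor_of_atlas hthick hq hqs fun U₀ hU₀ => ?_
    haveI : IsAffine (Over.mk (U₀.ι ≫ U'.hom)).left := hU₀
    exact sqZero_of_isPullback HU.1 (IsAlgSpace.yon_obj U')
      ((yon S).map (Over.homMk U₀.ι rfl : Over.mk (U₀.ι ≫ U'.hom) ⟶ U'))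
      (IsPullback.of_right (h₁₂ := e) (v₁₃ := iZ) (h₂₂ := q)
        (by rw [sqU.lift_fst]; exact hthick.rep.isPullback _) (sqU.lift_snd _ _ (by rw [(hthick.rep.isPullback _).w, Category.assoc])) sqU)
  have hiZh : iZ ≫ hZ'map = h := hom_ext_of_locLift hel (by
    rw [← Category.assoc, hiZ, Category.assoc, hhZ', ← HU.2.1])
  refine ⟨_, iZ, hZ'map, hZ'a, isUnivFOThick_descend (IsAlgSpace.yon_obj U) (Groth.Agent.SpPts86.isEtaleMor_of_repWith_etale he)
    (isSurjectiveMor_of_repWith hes) hZ.diag hFO (isFormallyEtaleMor_of_repWith_etale _ hq) hiZ.symm hiZh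
    (by rw [hhZ']; exact HU) (fun p => hZ.representable_from_yon p)⟩

end Groth.Agent.SpFP87

namespace Groth.Agent.SpFP87

variable {S : Scheme.{u}} {Z X : Sp S}

/-- Universal first order thickenings of formally unramified morphisms exist. -/
theorem exists_univFOThick (hZ : IsAlgSpace Z) (hX : IsAlgSpace X) (h : Z ⟶ X) (hh : IsFormallyUnramifiedMor h) :
    ∃ (Z' : Sp S) (iZ : Z ⟶ Z') (hZ' : Z' ⟶ X), IsAlgSpace Z' ∧ IsUnivFOThick h iZ hZ' := by
  obtain ⟨V, b, hb, hbs⟩ := hX.atlas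
  obtain ⟨U, e, k, he, hes, w⟩ := exists_compatible_chart h hZ hX.diag hb hbs
  have hk : FormallyUnramified k.left := chart_unramified hh he w
  obtain ⟨U', i, h', hit, HU⟩ := exists_univ_scheme k hk
  have HU' : IsUnivFOThick (e ≫ h) ((yon S).map i) ((yon S).map h' ≫ b) := by
    rw [w]
    exact isUnivFOThick_comp_formallyEtale HU (isFormallyEtaleMor_of_repWith_etale b hb)
  exact exists_univFOThick_of_chart hZ hX he hes hit HU'

end Groth.Agent.SpFP87
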