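import Groth.Agent.SpFP87.NormAtlas
import Groth.Agent.SpFP87.UnivThickExists
import Groth.Agent.SpFP87.RepDescProps
/-!
Existence of relative normalizations of algebraic spaces, universal after smooth base change.
-/

set_option autoImplicit false
set_option linter.style.haveILetI false
set_option backward.isDefEq.respectTransparency false
universe u
open CategoryTheory CategoryTheory.Limits AlgebraicGeometry
open AlgSp
open Groth.Agent.SpPts86

namespace Groth.Agent.SpFP87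

variable {S : Scheme.{u}} {X Y : Sp S}

theorem smooth_projection {X₂ : Sp S} (hX : IsAlgSpace X) (hX₂ : IsAlgSpace X₂) {φ : X₂ ⟶ X}
    (hφ : LocP @Smooth φ) {V₀ : Over S}
    {v : (yon S).obj V₀ ⟶ X₂} (hv : RepWith @Etale v) {U : Over S} {u : (yon S).obj U ⟶ X}
    {V : Over S} {eV : V ⟶ V₀} {pr : V ⟶ U}
    (sq : IsPullback ((yon S).map eV) ((yon S).map pr) (v ≫ φ) u) : Smooth pr.left :=
  (locP_yon_map_iff pr).1 (locP_baseChange sq (IsAlgSpace.yon_obj V₀) hX (IsAlgSpace.yon_obj U)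
    (locP_comp (IsAlgSpace.yon_obj V₀) hX₂ hX (LocP.of_le (P := @Etale) (fun _ _ k (hk : Etale k) => (inferInstance : Smooth k))
      (locP_of_repWith (IsAlgSpace.yon_obj V₀).diag hX₂ hv)) hφ))

set_option maxHeartbeats 1000000 in
/-- Existence of relative normalizations, universal after smooth base change. -/
theorem exists_normalization_smoothUniv (hX : IsAlgSpace X) (hY : IsAlgSpace Y) (f : Y ⟶ X)
    (hqc : IsQuasiCompactMor f) (hqs : IsQuasiSeparatedMor f) :
    ∃ (X' : Sp S) (ν : X' ⟶ X) (f' : Y ⟶ X'), IsAlgSpace X' ∧ IsRelNormalization f ν f' ∧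
      ∀ ⦃X₂ : Sp S⦄, IsAlgSpace X₂ → ∀ φ : X₂ ⟶ X, LocP @Smooth φ → UnivBC f ν f' φ := by
  obtain ⟨U, u, N, νU, f'U, hu, hus, hν, hfν, huniv⟩ := exists_atlas_normalization hX hY hqc hqs
  set fU := pullback.snd f u with hfU
  have hint : IsIntegralMor ((yon S).map νU) := (isIntegralMor_iff _).2 ((repWith_yon_map_iff _ _).2 hν)
  obtain ⟨R, r₁, r₂, sqR⟩ := exists_isPullback_yon hX.diag u u
  have hr₁ : Etale r₁.left := hu.property u _ r₁ sqR.flip
  have hnorm : ∀ (V : Over S) (a : V ⟶ U), Smooth a.left →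
      IsRelNormalization (pullback.snd fU ((yon S).map a)) ((yon S).map (pullback.snd νU a))
        (bcMap f'U hfν a) := fun V a ha =>
    huniv V a ha (pullback.fst _ _) _ ((yon S).map (pullback.fst νU a)) _ (IsPullback.of_hasPullback _ _)
      ((IsPullback.of_hasPullback νU a).map (yon S)) _ (bcMap_snd hfν a) (bcMap_fst hfν a)
  have huniq : ∀ {V : Over S} (a : V ⟶ U), Smooth a.left → ∀ (b : V ⟶ U) (m m' : pullback νU a ⟶ N),
      m ≫ νU = pullback.snd νU a ≫ b → m' ≫ νU = pullback.snd νU a ≫ b →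
      bcMap f'U hfν a ≫ (yon S).map m = bcMap f'U hfν a ≫ (yon S).map m' → m = m' :=
    fun {V} a ha b m m' h1 h2 h3 => (yon S).map_injective (hom_ext₂ (hnorm V a ha) (IsAlgSpace.yon_obj _)
      (IsAlgSpace.yon_obj _) (IsAlgSpace.yon_obj _) hint ((yon S).map b)
      (by rw [← Functor.map_comp, ← Functor.map_comp, h1]) (by rw [← Functor.map_comp, ← Functor.map_comp, h2]) h3)
  -- the two maps of the relation
  obtain ⟨κ, hκ1, hκ2⟩ : ∃ κ : pullback fU ((yon S).map r₁) ⟶ pullback f u,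
      κ ≫ pullback.fst f u = pullback.fst fU ((yon S).map r₁) ≫ pullback.fst f u ∧
      κ ≫ fU = pullback.snd fU ((yon S).map r₁) ≫ (yon S).map r₂ :=
    ⟨pullback.lift (pullback.fst _ _ ≫ pullback.fst f u) (pullback.snd _ _ ≫ (yon S).map r₂) (by
      rw [Category.assoc, pullback.condition, ← hfU, pullback.condition_assoc, Category.assoc, sqR.w]),
      pullback.lift_fst _ _ _, pullback.lift_snd _ _ _⟩
  obtain ⟨s₂', ⟨hs₂'1, hs₂'2⟩, -⟩ := lift₂ (hnorm R r₁ (by haveI := hr₁; infer_instance)) (IsAlgSpace.yon_obj _)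
    (IsAlgSpace.yon_obj N) (IsAlgSpace.yon_obj U) hint ((yon S).map r₂) (κ ≫ f'U)
    (by rw [Category.assoc, hfν, hκ2])
  obtain ⟨s₂, rfl⟩ := (yon S).map_surjective s₂'
  have hs₂ν : s₂ ≫ νU = pullback.snd νU r₁ ≫ r₂ := (yon S).map_injective (by rw [Functor.map_comp, hs₂'2, Functor.map_comp])
  let s₁ := pullback.fst νU r₁
  -- symmetry
  obtain ⟨σ₀, hσ₀⟩ := (yon S).map_surjective (sqR.lift ((yon S).map r₂) ((yon S).map r₁) sqR.w.symm)
  have hσ₀1 : σ₀ ≫ r₁ = r₂ := (yon S).map_injective (by rw [Functor.map_comp, hσ₀, sqR.lift_fst])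
  have hσ₀2 : σ₀ ≫ r₂ = r₁ := (yon S).map_injective (by rw [Functor.map_comp, hσ₀, sqR.lift_snd])
  obtain ⟨σ, hσf, hσs⟩ : ∃ σ : pullback νU r₁ ⟶ pullback νU r₁, σ ≫ s₁ = s₂ ∧
      σ ≫ pullback.snd νU r₁ = pullback.snd νU r₁ ≫ σ₀ :=
    ⟨pullback.lift s₂ (pullback.snd νU r₁ ≫ σ₀) (by rw [hs₂ν, Category.assoc, hσ₀1]),
      pullback.lift_fst _ _ _, pullback.lift_snd _ _ _⟩
  have hσ2 : σ ≫ s₂ = s₁ := by
    obtain ⟨τ, hτ1, hτ2⟩ : ∃ τ : pullback fU ((yon S).map r₁) ⟶ pullback fU ((yon S).map r₁),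
        τ ≫ pullback.fst _ _ = κ ∧ τ ≫ pullback.snd _ _ = pullback.snd _ _ ≫ (yon S).map σ₀ :=
      ⟨pullback.lift κ (pullback.snd _ _ ≫ (yon S).map σ₀)
        (by rw [hκ2, Category.assoc, ← Functor.map_comp, hσ₀1]), pullback.lift_fst _ _ _, pullback.lift_snd _ _ _⟩
    have hτ : bcMap f'U hfν r₁ ≫ (yon S).map σ = τ ≫ bcMap f'U hfν r₁ := by
      refine ((IsPullback.of_hasPullback νU r₁).map (yon S)).hom_ext ?_ ?_
      · rw [Category.assoc, ← Functor.map_comp, hσf, hs₂'1, Category.assoc, bcMap_fst, reassoc_of% hτ1]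
      · rw [Category.assoc, ← Functor.map_comp, hσs, Functor.map_comp, reassoc_of% bcMap_snd hfν r₁,
          Category.assoc, bcMap_snd, hτ2]
    have hτκ : τ ≫ κ = pullback.fst _ _ := by
      refine pullback.hom_ext ?_ ?_
      · rw [Category.assoc, hκ1, reassoc_of% hτ1, hκ1]
      · rw [Category.assoc, ← hfU, hκ2, reassoc_of% hτ2, ← Functor.map_comp, hσ₀2, pullback.condition]
    refine huniq r₁ (by haveI := hr₁; infer_instance) r₁ _ _ ?_ pullback.condition ?_
    · rw [Category.assoc, hs₂ν, reassoc_of% hσs, hσ₀2]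
    · rw [Functor.map_comp, reassoc_of% hτ, hs₂'1, reassoc_of% hτκ, bcMap_fst]
  have hinj : ∀ (T : Over S) (a b : T ⟶ pullback νU r₁), a ≫ s₂ = b ≫ s₂ → a ≫ s₁ = b ≫ s₁ → a = b := by
    intro T a b h2 h1
    refine pullback.hom_ext h1 ((yon S).map_injective (sqR.hom_ext ?_ ?_))
    · rw [← Functor.map_comp, ← Functor.map_comp, Category.assoc, Category.assoc, ← pullback.condition,
        reassoc_of% h1]
    · rw [← Functor.map_comp, ← Functor.map_comp, Category.assoc, Category.assoc, ← hs₂ν, reassoc_of% h2]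
  have hσσ : σ ≫ σ = 𝟙 _ := hinj _ _ _ (by rw [Category.assoc, hσ2, hσf, Category.id_comp])
    (by rw [Category.assoc, hσf, hσ2, Category.id_comp])
  haveI : IsIso σ := ⟨σ, hσσ, hσσ⟩
  have hs₁ : Etale s₁.left :=
    MorphismProperty.of_isPullback (P := @Etale) ((IsPullback.of_hasPullback νU r₁).map (Over.forget S)).flip hr₁
  have hs₂ : Etale s₂.left := by rw [← hσf]; show Etale (σ.left ≫ s₁.left); infer_instance
  -- reflexivity
  obtain ⟨δ, hδ⟩ := (yon S).map_surjective (sqR.lift (𝟙 _) (𝟙 _) rfl)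
  have hδ1 : δ ≫ r₁ = 𝟙 U := (yon S).map_injective (by rw [Functor.map_comp, hδ, sqR.lift_fst, CategoryTheory.Functor.map_id])
  have hδ2 : δ ≫ r₂ = 𝟙 U := (yon S).map_injective (by rw [Functor.map_comp, hδ, sqR.lift_snd, CategoryTheory.Functor.map_id])
  obtain ⟨d, hd₁, hdρ⟩ : ∃ d : N ⟶ pullback νU r₁, d ≫ s₁ = 𝟙 N ∧ d ≫ pullback.snd νU r₁ = νU ≫ δ :=
    ⟨pullback.lift (𝟙 N) (νU ≫ δ) (by rw [Category.assoc, hδ1, Category.id_comp, Category.comp_id]),
      pullback.lift_fst _ _ _, pullback.lift_snd _ _ _⟩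
  have hd₂ : d ≫ s₂ = 𝟙 N := by
    obtain ⟨δY, hδY1, hδY2⟩ : ∃ δY : pullback f u ⟶ pullback fU ((yon S).map r₁),
        δY ≫ pullback.fst _ _ = 𝟙 _ ∧ δY ≫ pullback.snd _ _ = fU ≫ (yon S).map δ :=
      ⟨pullback.lift (𝟙 _) (fU ≫ (yon S).map δ) (by
        rw [Category.assoc, ← Functor.map_comp, hδ1, CategoryTheory.Functor.map_id, Category.id_comp, Category.comp_id]),
        pullback.lift_fst _ _ _, pullback.lift_snd _ _ _⟩
    have hdY : f'U ≫ (yon S).map d = δY ≫ bcMap f'U hfν r₁ := by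
      refine ((IsPullback.of_hasPullback νU r₁).map (yon S)).hom_ext ?_ ?_
      · rw [Category.assoc, ← Functor.map_comp, hd₁, CategoryTheory.Functor.map_id, Category.comp_id, Category.assoc,
          bcMap_fst, reassoc_of% hδY1]
      · rw [Category.assoc, ← Functor.map_comp, hdρ, Functor.map_comp, reassoc_of% hfν, Category.assoc, bcMap_snd, hδY2]
    have hδκ : δY ≫ κ = 𝟙 _ := by
      refine pullback.hom_ext ?_ ?_
      · rw [Category.assoc, hκ1, reassoc_of% hδY1, Category.id_comp]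
      · rw [Category.assoc, ← hfU, hκ2, reassoc_of% hδY2, ← Functor.map_comp, hδ2, CategoryTheory.Functor.map_id,
          Category.comp_id, Category.id_comp]
    have hn0 : IsRelNormalization fU ((yon S).map νU) f'U :=
      huniv U (𝟙 U) (inferInstanceAs (Smooth (𝟙 U.left))) (𝟙 _) fU (𝟙 _) _
        (IsPullback.of_horiz_isIso ⟨by rw [CategoryTheory.Functor.map_id, Category.id_comp, Category.comp_id]⟩)
        (IsPullback.of_horiz_isIso ⟨by rw [CategoryTheory.Functor.map_id, Category.id_comp, Category.comp_id]⟩)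
        f'U hfν (by rw [Category.id_comp, Category.comp_id])
    refine (yon S).map_injective (hom_ext₂ hn0 (IsAlgSpace.yon_obj _) (IsAlgSpace.yon_obj _) (IsAlgSpace.yon_obj _)
      hint (𝟙 _) ?_ ?_ ?_)
    · rw [← Functor.map_comp, Category.assoc, hs₂ν, reassoc_of% hdρ, hδ2, Category.comp_id, Category.comp_id]
    · rw [CategoryTheory.Functor.map_id, Category.id_comp, Category.comp_id]
    · rw [Functor.map_comp, reassoc_of% hdY, hs₂'1, reassoc_of% hδκ, CategoryTheory.Functor.map_id, Category.comp_id]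
  -- transitivity
  have htrans : ∀ (T : Over S) (a b : T ⟶ pullback νU r₁), a ≫ s₂ = b ≫ s₁ →
      ∃ c : T ⟶ pullback νU r₁, c ≫ s₁ = a ≫ s₁ ∧ c ≫ s₂ = b ≫ s₂ := by
    let x₀ := pullback.fst r₂ r₁
    let y₀ := pullback.snd r₂ r₁
    have hxy : x₀ ≫ r₂ = y₀ ≫ r₁ := pullback.condition
    obtain ⟨a₀, ha₀def⟩ : ∃ a₀, a₀ = x₀ ≫ r₁ := ⟨_, rfl⟩
    have ha₀ : Smooth a₀.left := by
      rw [ha₀def]
      haveI : Etale x₀.left := MorphismProperty.of_isPullback (P := @Etale)
        ((IsPullback.of_hasPullback r₂ r₁).map (Over.forget S)).flip hr₁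
      haveI := hr₁
      show Smooth (x₀.left ≫ r₁.left)
      infer_instance
    obtain ⟨c₀, hc₀⟩ := (yon S).map_surjective (sqR.lift ((yon S).map (x₀ ≫ r₁)) ((yon S).map (y₀ ≫ r₂)) (by
      rw [Functor.map_comp_assoc, sqR.w, ← Functor.map_comp_assoc, hxy]
      simp only [Functor.map_comp, Category.assoc, sqR.w]))
    have hc₀1 : c₀ ≫ r₁ = x₀ ≫ r₁ := (yon S).map_injective (by rw [Functor.map_comp, hc₀, sqR.lift_fst])
    have hc₀2 : c₀ ≫ r₂ = y₀ ≫ r₂ := (yon S).map_injective (by rw [Functor.map_comp, hc₀, sqR.lift_snd])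
    let p := pullback.fst νU a₀
    let ω := pullback.snd νU a₀
    have hp : p ≫ νU = ω ≫ x₀ ≫ r₁ := pullback.condition.trans (congrArg (ω ≫ ·) ha₀def)
    obtain ⟨A, hA1, hA2⟩ : ∃ A : pullback νU a₀ ⟶ pullback νU r₁, A ≫ s₁ = p ∧ A ≫ pullback.snd νU r₁ = ω ≫ x₀ :=
      ⟨pullback.lift p (ω ≫ x₀) (by rw [hp, Category.assoc]), pullback.lift_fst _ _ _, pullback.lift_snd _ _ _⟩
    obtain ⟨B, hB1, hB2⟩ : ∃ B : pullback νU a₀ ⟶ pullback νU r₁, B ≫ s₁ = A ≫ s₂ ∧
        B ≫ pullback.snd νU r₁ = ω ≫ y₀ :=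
      ⟨pullback.lift (A ≫ s₂) (ω ≫ y₀) (by rw [Category.assoc, hs₂ν, reassoc_of% hA2, hxy, Category.assoc]),
        pullback.lift_fst _ _ _, pullback.lift_snd _ _ _⟩
    obtain ⟨C, hC1, hC2⟩ : ∃ C : pullback νU a₀ ⟶ pullback νU r₁, C ≫ s₁ = p ∧ C ≫ pullback.snd νU r₁ = ω ≫ c₀ :=
      ⟨pullback.lift p (ω ≫ c₀) (by rw [hp, Category.assoc, hc₀1]), pullback.lift_fst _ _ _, pullback.lift_snd _ _ _⟩
    have hCB : C ≫ s₂ = B ≫ s₂ := by
      obtain ⟨KA, hKA1, hKA2⟩ : ∃ K : pullback fU ((yon S).map a₀) ⟶ pullback fU ((yon S).map r₁),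
          K ≫ pullback.fst _ _ = pullback.fst _ _ ∧ K ≫ pullback.snd _ _ = pullback.snd _ _ ≫ (yon S).map x₀ :=
        ⟨pullback.lift (pullback.fst _ _) (pullback.snd _ _ ≫ (yon S).map x₀)
          (by rw [pullback.condition, Category.assoc, ← Functor.map_comp, ← ha₀def]),
          pullback.lift_fst _ _ _, pullback.lift_snd _ _ _⟩
      obtain ⟨KC, hKC1, hKC2⟩ : ∃ K : pullback fU ((yon S).map a₀) ⟶ pullback fU ((yon S).map r₁),
          K ≫ pullback.fst _ _ = pullback.fst _ _ ∧ K ≫ pullback.snd _ _ = pullback.snd _ _ ≫ (yon S).map c₀ :=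
        ⟨pullback.lift (pullback.fst _ _) (pullback.snd _ _ ≫ (yon S).map c₀)
          (by rw [pullback.condition, Category.assoc, ← Functor.map_comp, hc₀1, ← ha₀def]),
          pullback.lift_fst _ _ _, pullback.lift_snd _ _ _⟩
      obtain ⟨KB, hKB1, hKB2⟩ : ∃ K : pullback fU ((yon S).map a₀) ⟶ pullback fU ((yon S).map r₁),
          K ≫ pullback.fst _ _ = KA ≫ κ ∧ K ≫ pullback.snd _ _ = pullback.snd _ _ ≫ (yon S).map y₀ :=
        ⟨pullback.lift (KA ≫ κ) (pullback.snd _ _ ≫ (yon S).map y₀)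
          (by rw [Category.assoc, hκ2, reassoc_of% hKA2, ← Functor.map_comp, hxy, Category.assoc, Functor.map_comp]),
          pullback.lift_fst _ _ _, pullback.lift_snd _ _ _⟩
      have hA : bcMap f'U hfν a₀ ≫ (yon S).map A = KA ≫ bcMap f'U hfν r₁ := by
        refine ((IsPullback.of_hasPullback νU r₁).map (yon S)).hom_ext ?_ ?_
        · rw [Category.assoc, ← Functor.map_comp, hA1, bcMap_fst, Category.assoc, bcMap_fst, reassoc_of% hKA1]
        · rw [Category.assoc, ← Functor.map_comp, hA2, Functor.map_comp, reassoc_of% bcMap_snd hfν a₀,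
            Category.assoc, bcMap_snd, hKA2]
      have hC : bcMap f'U hfν a₀ ≫ (yon S).map C = KC ≫ bcMap f'U hfν r₁ := by
        refine ((IsPullback.of_hasPullback νU r₁).map (yon S)).hom_ext ?_ ?_
        · rw [Category.assoc, ← Functor.map_comp, hC1, bcMap_fst, Category.assoc, bcMap_fst, reassoc_of% hKC1]
        · rw [Category.assoc, ← Functor.map_comp, hC2, Functor.map_comp, reassoc_of% bcMap_snd hfν a₀,
            Category.assoc, bcMap_snd, hKC2]
      have hB : bcMap f'U hfν a₀ ≫ (yon S).map B = KB ≫ bcMap f'U hfν r₁ := by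
        refine ((IsPullback.of_hasPullback νU r₁).map (yon S)).hom_ext ?_ ?_
        · rw [Category.assoc, ← Functor.map_comp, hB1, Functor.map_comp, reassoc_of% hA, hs₂'1, Category.assoc,
            bcMap_fst, reassoc_of% hKB1]
        · rw [Category.assoc, ← Functor.map_comp, hB2, Functor.map_comp, reassoc_of% bcMap_snd hfν a₀,
            Category.assoc, bcMap_snd, hKB2]
      have hK : KC ≫ κ = KB ≫ κ := by
        refine pullback.hom_ext ?_ ?_
        · rw [Category.assoc, hκ1, reassoc_of% hKC1, Category.assoc, hκ1, reassoc_of% hKB1, hκ1,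
            reassoc_of% hKA1]
        · rw [Category.assoc, ← hfU, hκ2, reassoc_of% hKC2, ← Functor.map_comp, hc₀2, Category.assoc, hκ2,
            reassoc_of% hKB2, Functor.map_comp]
      refine huniq a₀ ha₀ (y₀ ≫ r₂) _ _ ?_ ?_ ?_
      · rw [Category.assoc, hs₂ν, reassoc_of% hC2, hc₀2]
      · rw [Category.assoc, hs₂ν, reassoc_of% hB2]
      · rw [Functor.map_comp, Functor.map_comp, reassoc_of% hC, reassoc_of% hB, hs₂'1, reassoc_of% hK]
    intro T a b hab
    have e1 : (a ≫ pullback.snd νU r₁) ≫ r₂ = (b ≫ pullback.snd νU r₁) ≫ r₁ := by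
      rw [Category.assoc, Category.assoc, ← hs₂ν, ← pullback.condition, reassoc_of% hab]
    have e2 : (a ≫ s₁) ≫ νU = pullback.lift _ _ e1 ≫ a₀ := by
      rw [Category.assoc, pullback.condition, ha₀def]
      simp only [x₀, pullback.lift_fst_assoc, Category.assoc]
    obtain ⟨z, hz1, hz2⟩ : ∃ z : T ⟶ pullback νU a₀, z ≫ p = a ≫ s₁ ∧ z ≫ ω = pullback.lift _ _ e1 :=
      ⟨pullback.lift (a ≫ s₁) _ e2, pullback.lift_fst _ _ _, pullback.lift_snd _ _ _⟩
    have hzA : z ≫ A = a := pullback.hom_ext (by rw [Category.assoc, hA1, hz1])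
      (by rw [Category.assoc, hA2, reassoc_of% hz2]; simp only [x₀, pullback.lift_fst])
    have hzB : z ≫ B = b := pullback.hom_ext (by rw [Category.assoc, hB1, reassoc_of% hzA, hab])
      (by rw [Category.assoc, hB2, reassoc_of% hz2]; simp only [y₀, pullback.lift_snd])
    exact ⟨z ≫ C, by rw [Category.assoc, hC1, hz1], by rw [Category.assoc, hCB, reassoc_of% hzB]⟩
  have heqv : IsEtaleEqvRel s₁ s₂ := by
    refine ⟨⟨fun T a b h2 h1 => hinj T a b h2 h1, fun T =>
      ⟨fun x => ⟨x ≫ d, by rw [Category.assoc, hd₂, Category.comp_id], by rw [Category.assoc, hd₁, Category.comp_id]⟩,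
       fun {x y} ⟨r, ha, hb⟩ => ⟨r ≫ σ, by rw [Category.assoc, hσ2, hb], by rw [Category.assoc, hσf, ha]⟩,
       fun {x y z} ⟨r, ha, hb⟩ ⟨r', ha', hb'⟩ => ?_⟩⟩, hs₁, hs₂⟩
    obtain ⟨c, hc1, hc2⟩ := htrans T r' r (ha'.trans hb.symm)
    exact ⟨c, hc2.trans ha, hc1.trans hb'⟩
  -- the quotient
  obtain ⟨hX', hq, hqsur⟩ := quotMap_atlas heqv
  have hker : IsPullback ((yon S).map s₂) ((yon S).map s₁) (quotMap s₁ s₂) (quotMap s₁ s₂) :=
    quotMap_kernelPair heqv.toIsEqvRel
  let q := quotMap s₁ s₂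
  have hql := locLift_of_atlas hq hqsur
  have hrel : ∀ {W : Over S} (l l' : W ⟶ N), (yon S).map l ≫ q = (yon S).map l' ≫ q →
      ∃ r : W ⟶ pullback νU r₁, r ≫ s₂ = l ∧ r ≫ s₁ = l' := fun {W} l l' hl => by
    obtain ⟨r, hr⟩ := (yon S).map_surjective (hker.lift _ _ hl)
    exact ⟨r, (yon S).map_injective (by rw [Functor.map_comp, hr, hker.lift_fst]),
      (yon S).map_injective (by rw [Functor.map_comp, hr, hker.lift_snd])⟩
  obtain ⟨ν, hνq⟩ := exists_desc hql ((yon S).map νU ≫ u) (fun W l l' hl => by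
    obtain ⟨r, e1, e2⟩ := hrel l l' hl
    rw [← e1, ← e2, ← Functor.map_comp_assoc, ← Functor.map_comp_assoc, Category.assoc, hs₂ν, Category.assoc,
      pullback.condition, Functor.map_comp, Functor.map_comp, Functor.map_comp, Functor.map_comp]
    simp only [Category.assoc, sqR.w])
  -- the square
  have sqN : IsPullback q ((yon S).map νU) ν u := by
    let l : (yon S).obj N ⟶ pullback ν u := pullback.lift q ((yon S).map νU) hνq
    haveI : Mono l := mono_of_probe fun T a b hab => by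
      obtain ⟨a, rfl⟩ := (yon S).map_surjective a
      obtain ⟨b, rfl⟩ := (yon S).map_surjective b
      have h1 := congrArg (· ≫ pullback.fst ν u) hab
      have h2 := congrArg (· ≫ pullback.snd ν u) hab
      simp only [Category.assoc, l, pullback.lift_fst, pullback.lift_snd, ← Functor.map_comp] at h1 h2
      obtain ⟨r, e1, e2⟩ := hrel a b h1
      have h3 := (yon S).map_injective h2
      have hr : r ≫ pullback.snd νU r₁ = b ≫ νU ≫ δ := (yon S).map_injective (sqR.hom_ext (by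
        rw [← Functor.map_comp, ← Functor.map_comp, Category.assoc, ← pullback.condition, reassoc_of% e2,
          Category.assoc, Category.assoc, hδ1, Category.comp_id]) (by
        rw [← Functor.map_comp, ← Functor.map_comp, Category.assoc, ← hs₂ν, reassoc_of% e1,
          Category.assoc, Category.assoc, hδ2, Category.comp_id, h3]))
      have hrd : r = b ≫ d := pullback.hom_ext (e2.trans (by rw [Category.assoc]; exact ((congrArg (b ≫ ·) hd₁).trans (Category.comp_id _)).symm))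
        (by rw [hr, Category.assoc, hdρ])
      rw [← e1, hrd, Category.assoc, hd₂, Category.comp_id]
    haveI : IsIso l := isIso_of_mono_of_locLift l fun T g => by
      obtain ⟨W, c, n, hc, hn⟩ := hql T (g ≫ pullback.fst ν u)
      obtain ⟨n, rfl⟩ := (yon S).map_surjective n
      obtain ⟨a, ha⟩ := (yon S).map_surjective (g ≫ pullback.snd ν u)
      have hw : ((yon S).map n ≫ (yon S).map νU) ≫ u = ((yon S).map c ≫ (yon S).map a) ≫ u := by
        rw [Category.assoc, ← hνq, ← Category.assoc, hn, ha]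
        simp only [Category.assoc, pullback.condition]
      obtain ⟨ρ, hρ⟩ := (yon S).map_surjective (sqR.lift _ _ hw)
      have hρ1 : n ≫ νU = ρ ≫ r₁ := (yon S).map_injective (by rw [Functor.map_comp, Functor.map_comp, hρ, sqR.lift_fst])
      have hρ2 : ρ ≫ r₂ = c ≫ a := (yon S).map_injective (by rw [Functor.map_comp, hρ, sqR.lift_snd, Functor.map_comp])
      refine ⟨W, c, (yon S).map (pullback.lift n ρ hρ1 ≫ s₂), hc, pullback.hom_ext ?_ ?_⟩
      · simp only [Category.assoc, l, pullback.lift_fst, Functor.map_comp]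
        rw [show (yon S).map s₂ ≫ q = (yon S).map s₁ ≫ q from hker.w, ← Functor.map_comp_assoc, pullback.lift_fst]
        exact hn
      · simp only [Category.assoc, l, pullback.lift_snd, ← Functor.map_comp, hs₂ν, pullback.lift_snd_assoc, hρ2]
        rw [Functor.map_comp, ha]
    exact IsPullback.of_iso_pullback ⟨hνq⟩ (asIso l) (pullback.lift_fst _ _ _) (pullback.lift_snd _ _ _)
  -- the map from the source
  obtain ⟨P, p, hp, hps⟩ := (isAlgSpace_pullback f u hY (IsAlgSpace.yon_obj U) hX).atlas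
  have hpl := locLift_of_atlas hp hps
  haveI := hpl.epi
  have hal : LocLift (pullback.fst f u) :=
    (locLift_of_atlas hu hus).baseChange (IsPullback.of_hasPullback f u).flip
  obtain ⟨e, he⟩ := (yon S).map_surjective (p ≫ f'U)
  obtain ⟨f', hf'⟩ := exists_desc (p := p ≫ pullback.fst f u) (fun T g => by
      obtain ⟨W, c, m, hc, hm⟩ := hal T g
      obtain ⟨W', c', m', hc', hm'⟩ := hpl W m
      refine ⟨W', c' ≫ c, m', (fppfSurj_iff _).2 ?_, ?_⟩
      · obtain ⟨a1, a2, a3⟩ := (fppfSurj_iff _).1 hc'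
        obtain ⟨b1, b2, b3⟩ := (fppfSurj_iff _).1 hc
        exact ⟨inferInstanceAs (Surjective (c'.left ≫ c.left)), inferInstanceAs (Flat (c'.left ≫ c.left)),
          inferInstanceAs (LocallyOfFinitePresentation (c'.left ≫ c.left))⟩
      rw [reassoc_of% hm', hm, Functor.map_comp, Category.assoc]) ((yon S).map e ≫ q) (by
    intro W l l' hll
    obtain ⟨a, ha⟩ := (yon S).map_surjective ((yon S).map l ≫ p ≫ fU)
    obtain ⟨a', ha'⟩ := (yon S).map_surjective ((yon S).map l' ≫ p ≫ fU)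
    have hw : (yon S).map a ≫ u = (yon S).map a' ≫ u := by
      simp only [ha, ha', hfU, Category.assoc, ← pullback.condition]
      rw [reassoc_of% hll]
    obtain ⟨ρ, hρ⟩ := (yon S).map_surjective (sqR.lift _ _ hw)
    let z := pullback.lift (f := fU) (g := (yon S).map r₁) ((yon S).map l ≫ p) ((yon S).map ρ)
      (by rw [Category.assoc, ← ha, hρ, sqR.lift_fst])
    have hzκ : z ≫ κ = (yon S).map l' ≫ p := by
      refine pullback.hom_ext ?_ ?_
      · rw [Category.assoc, hκ1]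
        simp only [z, pullback.lift_fst_assoc, Category.assoc, hll]
      · rw [Category.assoc, ← hfU, hκ2]
        simp only [z, pullback.lift_snd_assoc]
        rw [hρ, sqR.lift_snd, ha', Category.assoc]
    calc (yon S).map l ≫ (yon S).map e ≫ q
        = (z ≫ bcMap f'U hfν r₁) ≫ (yon S).map s₁ ≫ q := by
          rw [he, Category.assoc, Category.assoc, reassoc_of% bcMap_fst hfν r₁]
          simp only [z, pullback.lift_fst_assoc, Category.assoc]
      _ = (z ≫ bcMap f'U hfν r₁) ≫ (yon S).map s₂ ≫ q := by rw [hker.w]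
      _ = (yon S).map l' ≫ (yon S).map e ≫ q := by
          rw [Category.assoc, reassoc_of% hs₂'1, reassoc_of% hzκ, he, Category.assoc])
  have hf'1 : pullback.fst f u ≫ f' = f'U ≫ q := by
    rw [← cancel_epi p, ← Category.assoc, hf', he, Category.assoc]
  haveI := hal.epi
  have hfν' : f' ≫ ν = f := by
    rw [← cancel_epi (pullback.fst f u), ← Category.assoc, hf'1, Category.assoc, hνq, reassoc_of% hfν,
      pullback.condition]
  have hue : IsEtaleMor u := Groth.Agent.SpPts86.isEtaleMor_of_repWith_etale hu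
  have hcov : IsFppfCover (fun _ : PUnit.{u + 1} => (yon S).obj U) (fun _ => u) :=
    ⟨fun _ => ⟨LocP.of_le (P := @Etale) (fun _ _ k hk => by haveI : Etale k := hk; exact inferInstanceAs (Flat k))
        (Groth.Agent.SpPts86.locP_etale_of_isEtaleMor hue),
      LocP.of_le (P := @Etale) (fun _ _ k hk => by
        haveI : Etale k := hk; exact inferInstanceAs (LocallyOfFinitePresentation k))
        (Groth.Agent.SpPts86.locP_etale_of_isEtaleMor hue)⟩,
      fun x => ⟨⟨⟩, isSurjectiveMor_of_repWith hus x⟩⟩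
  have hνint : IsIntegralMor ν :=
    (isLocalOnBase_fpqc_integral (fun _ : PUnit.{u + 1} => (yon S).obj U) (fun _ => u) hX
      (fun _ => IsAlgSpace.yon_obj _) (isFpqcCover_of_isFppfCover _ _ hX (fun _ => IsAlgSpace.yon_obj _) hcov)
      ν hX' (fun _ => (yon S).obj N) (fun _ => (yon S).map νU) (fun _ => q)
      (fun _ => IsAlgSpace.yon_obj _) (fun _ => sqN)).2 fun _ => hint
  have sqY : IsPullback (pullback.fst f u) fU f u := IsPullback.of_hasPullback f u
  have hU : ∀ (V : Over S) (g : V ⟶ U), Smooth g.left → UnivBC f ν f' ((yon S).map g ≫ u) := fun V g hg =>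
    UnivBC.of_comp sqY sqN hfν hf'1.symm (huniv V g hg)
  have huniv₂ : ∀ ⦃X₂ : Sp S⦄, IsAlgSpace X₂ → ∀ φ : X₂ ⟶ X, LocP @Smooth φ → UnivBC f ν f' φ := by
    intro X₂ hX₂ φ hφ YT NT a fT b νT s₁' s₂' f'T e₁ e₂
    obtain ⟨V₀, v, hv, hvs⟩ := hX₂.atlas
    obtain ⟨V, eV, pr, sqV⟩ := exists_isPullback_yon hX.diag (v ≫ φ) u
    have hsm : Smooth pr.left := smooth_projection hX hX₂ hφ hv sqV
    obtain ⟨he, hes⟩ := etale_surj_of_isPullback sqV hu hus
    refine isRelNormalization_of_goodAt hX₂ (isIntegralMor_of_isPullback s₂' hνint) e₁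
      (c := (yon S).map eV ≫ v) ((repWith_isMultiplicative (S := S) @Etale).comp_mem _ _ he hv)
      ((repWith_isMultiplicative (S := S) @Surjective).comp_mem _ _ hes hvs) fun x => ?_
    refine ⟨⊤, trivial, fun Q q hQ hq _ => UnivBC.comp ?_ s₁' s₂' e₂⟩
    have : ((yon S).map q ≫ (yon S).map eV ≫ v) ≫ φ = (yon S).map (q ≫ pr) ≫ u := by
      simp only [Category.assoc, Functor.map_comp, ← sqV.w]
    rw [this]
    exact hU Q (q ≫ pr) (by haveI := hq; haveI := hsm; show Smooth (q.left ≫ pr.left); infer_instance)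
  refine ⟨_, ν, f', hX', ?_, huniv₂⟩
  exact huniv₂ hX (𝟙 X) (LocP.of_le (P := @Etale) (fun _ _ k (hk : Etale k) => (inferInstance : Smooth k))
    (locP_of_isIso (𝟙 X) hX hX)) (𝟙 Y) f (𝟙 _) ν
    (IsPullback.of_horiz_isIso ⟨by simp⟩) (IsPullback.of_horiz_isIso ⟨by simp⟩) f' hfν' (by simp)

/-- Two relative normalizations of the same morphism are isomorphic. -/
theorem exists_iso_of_isRelNormalization {f : Y ⟶ X} {X₁ X₂ : Sp S} (h₁ : IsAlgSpace X₁) (h₂ : IsAlgSpace X₂)
    {ν₁ : X₁ ⟶ X} {f₁ : Y ⟶ X₁} (n₁ : IsRelNormalization f ν₁ f₁) {ν₂ : X₂ ⟶ X} {f₂ : Y ⟶ X₂}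
    (n₂ : IsRelNormalization f ν₂ f₂) : ∃ e : X₁ ≅ X₂, e.hom ≫ ν₂ = ν₁ ∧ f₁ ≫ e.hom = f₂ := by
  obtain ⟨a, ⟨a1, a2⟩, -⟩ := n₁.2.2 h₂ ν₂ f₂ n₂.2.1 n₂.1
  obtain ⟨b, ⟨b1, b2⟩, -⟩ := n₂.2.2 h₁ ν₁ f₁ n₁.2.1 n₁.1
  refine ⟨⟨a, b, ?_, ?_⟩, a2, a1⟩
  · exact (n₁.2.2 h₁ ν₁ f₁ n₁.2.1 n₁.1).unique ⟨by rw [← Category.assoc, a1, b1], by rw [Category.assoc, b2, a2]⟩
      ⟨Category.comp_id _, Category.id_comp _⟩
  · exact (n₂.2.2 h₂ ν₂ f₂ n₂.2.1 n₂.1).unique ⟨by rw [← Category.assoc, b1, a1], by rw [Category.assoc, a2, b2]⟩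
      ⟨Category.comp_id _, Category.id_comp _⟩

/-- A relative normalization is universal after any smooth base change. -/
theorem univBC_of_isRelNormalization (hX : IsAlgSpace X) (hY : IsAlgSpace Y) {f : Y ⟶ X}
    (hqc : IsQuasiCompactMor f) (hqs : IsQuasiSeparatedMor f) {X' : Sp S} (hX' : IsAlgSpace X') {ν : X' ⟶ X}
    {f' : Y ⟶ X'} (hn : IsRelNormalization f ν f') {X₂ : Sp S} (hX₂ : IsAlgSpace X₂) {φ : X₂ ⟶ X}
    (hφ : LocP @Smooth φ) : UnivBC f ν f' φ := by
  obtain ⟨X₀, ν₀, f₀, hX₀, hn₀, hu⟩ := exists_normalization_smoothUniv hX hY f hqc hqs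
  obtain ⟨e, e1, e2⟩ := exists_iso_of_isRelNormalization hX₀ hX' hn₀ hn
  exact (hu hX₂ φ hφ).of_iso e e1 e2

end Groth.Agent.SpFP87
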