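import Groth.Agent.SpFP87.Residual
import Groth.Agent.SpFP87.FibreNoeth
import Groth.Agent.SpFP87.Decent
import Groth.Agent.SpPts86.QuotFinite
/-!
Monomorphic points and finiteness of fibres of the relation of a chart.
-/

set_option autoImplicit false
set_option linter.style.haveILetI false
set_option backward.isDefEq.respectTransparency false
universe u
open CategoryTheory CategoryTheory.Limits AlgebraicGeometry Opposite
open AlgSp
open Groth.Agent.SpPts86

namespace Groth.Agent.SpFP87

variable {S : Scheme.{u}} {X : Sp S}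

theorem injective_of_mono {A B : Scheme.{u}} (f : A ⟶ B) [Mono f] : Function.Injective f :=
  f.injective

theorem mono_left_of_mono {A B : Over S} (f : A ⟶ B) [Mono f] : Mono f.left :=
  inferInstanceAs (Mono ((Over.forget S).map f))

theorem mono_resIncl {U : Over S} (u : ↥U.left) : Mono (resIncl u) :=
  haveI : Mono (resIncl u).left := inferInstanceAs (Mono (U.left.fromSpecResidueField u))
  Over.mono_of_mono_left (resIncl u)

/-- The fibre of the relation over two points is the set of points of the fibre product of their residue points. -/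
theorem exists_rel_map {U R₀ R : Over S} {t₀ s₀ : R₀ ⟶ U} {φ : (yon S).obj U ⟶ X} (u v : ↥U.left)
    (sq₀ : IsPullback ((yon S).map t₀) ((yon S).map s₀) φ φ) {t : R ⟶ resPt u} {s : R ⟶ resPt v}
    (sq : IsPullback ((yon S).map t) ((yon S).map s) ((yon S).map (resIncl u) ≫ φ) ((yon S).map (resIncl v) ≫ φ)) :
    ∃ L : R ⟶ R₀, Function.Injective L.left ∧
      Set.range L.left = {r : ↥R₀.left | s₀.left r = v ∧ t₀.left r = u} := by
  obtain ⟨L, hL⟩ := (yon S).map_surjective (sq₀.lift ((yon S).map (t ≫ resIncl u)) ((yon S).map (s ≫ resIncl v))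
    (by rw [Functor.map_comp, Functor.map_comp, Category.assoc, Category.assoc, sq.w]))
  have h1 : L ≫ t₀ = t ≫ resIncl u := (yon S).map_injective (by rw [Functor.map_comp, hL, sq₀.lift_fst])
  have h2 : L ≫ s₀ = s ≫ resIncl v := (yon S).map_injective (by rw [Functor.map_comp, hL, sq₀.lift_snd])
  haveI := mono_resIncl (S := S) u
  haveI := mono_resIncl (S := S) v
  haveI : Mono L := ⟨fun {Z} a b e => (yon S).map_injective (sq.hom_ext
    (by
      rw [← Functor.map_comp, ← Functor.map_comp]
      congr 1
      rw [← cancel_mono (resIncl u), Category.assoc, Category.assoc, ← h1, reassoc_of% e])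
    (by
      rw [← Functor.map_comp, ← Functor.map_comp]
      congr 1
      rw [← cancel_mono (resIncl v), Category.assoc, Category.assoc, ← h2, reassoc_of% e]))⟩
  haveI := mono_left_of_mono L
  refine ⟨L, injective_of_mono L.left, Set.ext fun r => ⟨?_, ?_⟩⟩
  · rintro ⟨z, rfl⟩
    constructor
    · rw [← Scheme.Hom.comp_apply, ← Over.comp_left, h2, Over.comp_left, Scheme.Hom.comp_apply, resIncl_apply]
    · rw [← Scheme.Hom.comp_apply, ← Over.comp_left, h1, Over.comp_left, Scheme.Hom.comp_apply, resIncl_apply]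
  · rintro ⟨hv, hu⟩
    subst hv hu
    let a : resPt r ⟶ resPt (t₀.left r) := Over.homMk (Spec.map (t₀.left.residueFieldMap r)) (by
      show Spec.map _ ≫ U.left.fromSpecResidueField (t₀.left r) ≫ U.hom = R₀.left.fromSpecResidueField r ≫ R₀.hom
      rw [Scheme.Hom.SpecMap_residueFieldMap_fromSpecResidueField_assoc, Over.w t₀])
    let b : resPt r ⟶ resPt (s₀.left r) := Over.homMk (Spec.map (s₀.left.residueFieldMap r)) (by
      show Spec.map _ ≫ U.left.fromSpecResidueField (s₀.left r) ≫ U.hom = R₀.left.fromSpecResidueField r ≫ R₀.hom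
      rw [Scheme.Hom.SpecMap_residueFieldMap_fromSpecResidueField_assoc, Over.w s₀])
    have ha : a ≫ resIncl (t₀.left r) = resIncl r ≫ t₀ :=
      Over.OverMorphism.ext (Scheme.Hom.SpecMap_residueFieldMap_fromSpecResidueField _ _)
    have hb : b ≫ resIncl (s₀.left r) = resIncl r ≫ s₀ :=
      Over.OverMorphism.ext (Scheme.Hom.SpecMap_residueFieldMap_fromSpecResidueField _ _)
    obtain ⟨l, hl⟩ := (yon S).map_surjective (sq.lift ((yon S).map a) ((yon S).map b) (by
      rw [← Category.assoc, ← Category.assoc, ← Functor.map_comp, ← Functor.map_comp, ha, hb,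
        Functor.map_comp, Functor.map_comp, Category.assoc, Category.assoc, sq₀.w]))
    have hlt : l ≫ t = a := (yon S).map_injective (by rw [Functor.map_comp, hl, sq.lift_fst])
    have hls : l ≫ s = b := (yon S).map_injective (by rw [Functor.map_comp, hl, sq.lift_snd])
    have e : l ≫ L = resIncl r := (yon S).map_injective (sq₀.hom_ext
      (by
        rw [← Functor.map_comp, ← Functor.map_comp]
        congr 1
        rw [Category.assoc, h1, reassoc_of% hlt, ha])
      (by
        rw [← Functor.map_comp, ← Functor.map_comp]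
        congr 1
        rw [Category.assoc, h2, reassoc_of% hls, hb]))
    let z : ↥(resPt r).left := IsLocalRing.closedPoint (R₀.left.residueField r)
    refine ⟨l.left z, ?_⟩
    rw [← Scheme.Hom.comp_apply, ← Over.comp_left, e, resIncl_apply]

theorem finite_rel_of_mono {U : Over S} {φ : (yon S).obj U ⟶ X} (hX : IsAlgSpace X) (hφ : RepWith @Etale φ)
    (u v : ↥U.left) (p : FieldPt X) [Mono p.toHom] (hu : Points.ofPt φ u = Points.mk p)
    (hv : Points.ofPt φ v = Points.mk p) {R : Over S} {t : R ⟶ resPt u} {s : R ⟶ resPt v}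
    (sq : IsPullback ((yon S).map t) ((yon S).map s) ((yon S).map (resIncl u) ≫ φ) ((yon S).map (resIncl v) ≫ φ)) :
    Finite ↥R.left := by
  have key : ∀ (w : ↥U.left), Points.ofPt φ w = Points.mk p → ∃ c : resPt w ⟶ p.pt,
      (yon S).map c ≫ p.toHom = (yon S).map (resIncl w) ≫ φ ∧ IsFinite c.left := by
    intro w hw
    obtain ⟨c, hc⟩ := exists_factor_of_mono hX (FieldPt.ofPt φ w) p hw
    rw [FieldPt.toHom_ofPt] at hc
    refine ⟨c, hc, ?_⟩
    obtain ⟨T, a, b, sqT⟩ := exists_isPullback_yon hX.diag φ p.toHom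
    haveI : Etale b.left := etale_snd_of_isPullback sqT hφ
    haveI : Etale (show T.left ⟶ Spec (CommRingCat.of p.K) from b.left) := ‹Etale b.left›
    obtain ⟨_, _⟩ := isLocallyArtinian_of_etale (show T.left ⟶ Spec (CommRingCat.of p.K) from b.left)
    obtain ⟨g, hg⟩ := (yon S).map_surjective (sqT.lift ((yon S).map (resIncl w)) ((yon S).map c) hc.symm)
    have hga : g ≫ a = resIncl w := (yon S).map_injective (by rw [Functor.map_comp, hg, sqT.lift_fst])
    have hgb : g ≫ b = c := (yon S).map_injective (by rw [Functor.map_comp, hg, sqT.lift_snd])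
    have haim : IsPreimmersion (g.left ≫ a.left) := by
      rw [← Over.comp_left, hga]
      exact inferInstanceAs (IsPreimmersion (U.left.fromSpecResidueField w))
    haveI : IsPreimmersion g.left := by
      haveI : SurjectiveOnStalks g.left := SurjectiveOnStalks.of_comp g.left a.left
      haveI := subsingleton_resPt w
      exact { isEmbedding := .of_subsingleton _ }
    haveI := isOpenImmersion_of_isPreimmersion g.left
    rw [← hgb, Over.comp_left]
    haveI : Etale (g.left ≫ b.left) := inferInstance
    haveI : IsAffine (resPt w).left := inferInstanceAs (IsAffine (Spec _))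
    haveI : IsAffine p.pt.left := inferInstanceAs (IsAffine (Spec _))
    haveI : IsLocallyArtinian p.pt.left := inferInstanceAs (IsLocallyArtinian (Spec (CommRingCat.of p.K)))
    haveI := Groth.Agent.Unr55.locallyQuasiFinite_of_formallyUnramified (g.left ≫ b.left)
    exact IsFinite.of_locallyQuasiFinite _
  obtain ⟨c, hc, _⟩ := key u hu
  obtain ⟨d, hd, _⟩ := key v hv
  rw [← hc, ← hd] at sq
  have sq' := isPullback_left (isPullback_of_mono_comp p.toHom sq)
  haveI : IsFinite s.left := MorphismProperty.of_isPullback sq' inferInstance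
  haveI : IsAffine (resPt v).left := inferInstanceAs (IsAffine (Spec _))
  haveI : IsLocallyArtinian (resPt v).left := inferInstanceAs (IsLocallyArtinian (Spec (CommRingCat.of _)))
  haveI : IsLocallyArtinian R.left := .of_locallyQuasiFinite s.left
  haveI : CompactSpace ↥R.left := QuasiCompact.compactSpace_of_compactSpace s.left
  exact finite_of_compact_of_discrete

/-- A monomorphic point has finite fibres in the relation of every etale chart. -/
theorem finite_fibre_rel_of_mono {U R₀ : Over S} {t₀ s₀ : R₀ ⟶ U} {φ : (yon S).obj U ⟶ X} (hX : IsAlgSpace X)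
    (hφ : RepWith @Etale φ) (u v : ↥U.left) (p : FieldPt X) [Mono p.toHom]
    (hu : Points.ofPt φ u = Points.mk p) (hv : Points.ofPt φ v = Points.mk p)
    (sq₀ : IsPullback ((yon S).map t₀) ((yon S).map s₀) φ φ) :
    {r : ↥R₀.left | s₀.left r = v ∧ t₀.left r = u}.Finite := by
  obtain ⟨R, t, s, sq⟩ := exists_isPullback_yon hX.diag ((yon S).map (resIncl u) ≫ φ) ((yon S).map (resIncl v) ≫ φ)
  haveI := finite_rel_of_mono hX hφ u v p hu hv sq
  obtain ⟨L, -, hL⟩ := exists_rel_map u v sq₀ sq
  rw [← hL]
  exact Set.finite_range _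

theorem finite_self_rel {U : Over S} {φ : (yon S).obj U ⟶ X} (hX : IsAlgSpace X) (hφ : RepWith @Etale φ)
    (u v : ↥U.left) (he : Points.ofPt φ u = Points.ofPt φ v) {R₁ : Over S} {t₁ : R₁ ⟶ resPt u} {s₁ : R₁ ⟶ resPt v}
    (sq₁ : IsPullback ((yon S).map t₁) ((yon S).map s₁) ((yon S).map (resIncl u) ≫ φ) ((yon S).map (resIncl v) ≫ φ))
    [Finite ↥R₁.left] {R : Over S} {t s : R ⟶ resPt u}
    (sq : IsPullback ((yon S).map t) ((yon S).map s) ((yon S).map (resIncl u) ≫ φ) ((yon S).map (resIncl u) ≫ φ)) :
    Finite ↥R.left := by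
  obtain ⟨P, a, b, sqP⟩ := exists_isPullback_yon hX.diag ((yon S).map t ≫ (yon S).map (resIncl u) ≫ φ)
    ((yon S).map (resIncl v) ≫ φ)
  have hsur : Function.Surjective a.left := fun r => by
    obtain ⟨z, hz, -⟩ := exists_pt_of_isPullback' sqP r (IsLocalRing.closedPoint (U.left.residueField v))
      (by rw [ofPt_comp, ofPt_comp, ofPt_comp, resIncl_apply, resIncl_apply, he])
    exact ⟨z, hz⟩
  obtain ⟨A, hA⟩ := (yon S).map_surjective (sq₁.lift ((yon S).map (a ≫ t)) ((yon S).map b)
    (by rw [Functor.map_comp, Category.assoc]; exact sqP.w))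
  obtain ⟨B, hB⟩ := (yon S).map_surjective (sq₁.lift ((yon S).map (a ≫ s)) ((yon S).map b)
    (by rw [Functor.map_comp, Category.assoc, ← sq.w]; exact sqP.w))
  have hA1 : A ≫ t₁ = a ≫ t := (yon S).map_injective (by rw [Functor.map_comp, hA, sq₁.lift_fst])
  have hA2 : A ≫ s₁ = b := (yon S).map_injective (by rw [Functor.map_comp, hA, sq₁.lift_snd])
  have hB1 : B ≫ t₁ = a ≫ s := (yon S).map_injective (by rw [Functor.map_comp, hB, sq₁.lift_fst])
  have hB2 : B ≫ s₁ = b := (yon S).map_injective (by rw [Functor.map_comp, hB, sq₁.lift_snd])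
  obtain ⟨Q, x, y, sqQ⟩ := exists_isPullback_yon (IsAlgSpace.yon_obj (resPt v)).diag ((yon S).map s₁) ((yon S).map s₁)
  obtain ⟨C, hC⟩ := (yon S).map_surjective (sqQ.lift ((yon S).map A) ((yon S).map B)
    (by rw [← Functor.map_comp, ← Functor.map_comp, hA2, hB2]))
  have hC1 : C ≫ x = A := (yon S).map_injective (by rw [Functor.map_comp, hC, sqQ.lift_fst])
  have hC2 : C ≫ y = B := (yon S).map_injective (by rw [Functor.map_comp, hC, sqQ.lift_snd])
  haveI : Mono C := ⟨fun {Z} g g' e => by
    have eA : g ≫ A = g' ≫ A := by rw [← hC1, reassoc_of% e]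
    have eB : g ≫ B = g' ≫ B := by rw [← hC2, reassoc_of% e]
    refine (yon S).map_injective (sqP.hom_ext ?_ ?_)
    · refine sq.hom_ext ?_ ?_
      · simp only [Category.assoc]
        rw [← Functor.map_comp, ← Functor.map_comp, ← Functor.map_comp]
        congr 1
        rw [← hA1, reassoc_of% eA]
      · simp only [Category.assoc]
        rw [← Functor.map_comp, ← Functor.map_comp, ← Functor.map_comp]
        congr 1
        rw [← hB1, reassoc_of% eB]
    · rw [← Functor.map_comp, ← Functor.map_comp]
      congr 1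
      rw [← hA2, reassoc_of% eA]⟩
  haveI := mono_left_of_mono C
  -- the double relation is finite
  obtain ⟨M, m₁, m₂, sqM⟩ := exists_isPullback_yon hX.diag φ ((yon S).map (resIncl v) ≫ φ)
  haveI : Etale s₁.left := by
    haveI : Etale (show M.left ⟶ Spec (CommRingCat.of (U.left.residueField v)) from m₂.left) :=
      etale_snd_of_isPullback sqM hφ
    obtain ⟨_, _⟩ := isLocallyArtinian_of_etale (show M.left ⟶ Spec (CommRingCat.of (U.left.residueField v)) from m₂.left)
    obtain ⟨c, hc⟩ := (yon S).map_surjective (sqM.lift ((yon S).map t₁ ≫ (yon S).map (resIncl u)) ((yon S).map s₁)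
      (by rw [Category.assoc]; exact sq₁.w))
    have hcb : c ≫ m₂ = s₁ := (yon S).map_injective (by rw [Functor.map_comp, hc, sqM.lift_snd])
    have sq2 : IsPullback ((yon S).map t₁) ((yon S).map c) ((yon S).map (resIncl u)) ((yon S).map m₁) := by
      refine IsPullback.of_bot ?_ (by rw [hc, sqM.lift_fst]) sqM
      rw [← Functor.map_comp, hcb]
      exact sq₁
    haveI : IsPreimmersion (resIncl u).left := inferInstanceAs (IsPreimmersion (U.left.fromSpecResidueField u))
    haveI : IsPreimmersion c.left := MorphismProperty.of_isPullback (isPullback_left sq2) inferInstance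
    haveI := isOpenImmersion_of_isPreimmersion c.left
    haveI : Etale m₂.left := etale_snd_of_isPullback sqM hφ
    rw [← hcb, Over.comp_left]
    infer_instance
  haveI : IsAffine (resPt v).left := inferInstanceAs (IsAffine (Spec _))
  haveI : IsLocallyArtinian (resPt v).left := inferInstanceAs (IsLocallyArtinian (Spec (CommRingCat.of _)))
  haveI : LocallyQuasiFinite s₁.left := Groth.Agent.Unr55.locallyQuasiFinite_of_formallyUnramified _
  haveI : QuasiCompact s₁.left :=
    (quasiCompact_iff_compactSpace s₁.left).2 Finite.compactSpace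
  haveI : IsFinite s₁.left := IsFinite.of_locallyQuasiFinite _
  haveI : IsFinite x.left := MorphismProperty.of_isPullback (isPullback_left sqQ).flip inferInstance
  haveI : IsFinite (x.left ≫ s₁.left) := inferInstance
  haveI : IsLocallyArtinian Q.left := .of_locallyQuasiFinite (x.left ≫ s₁.left)
  haveI : CompactSpace ↥Q.left := QuasiCompact.compactSpace_of_compactSpace (x.left ≫ s₁.left)
  haveI : Finite ↥Q.left := finite_of_compact_of_discrete
  haveI : Finite ↥P.left := Finite.of_injective _ (injective_of_mono C.left)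
  exact Finite.of_surjective _ hsur

/-- Finiteness of a fibre of the relation gives a monomorphic point. -/
theorem exists_mono_point_of_finite {U : Over S} {φ : (yon S).obj U ⟶ X} (hX : IsAlgSpace X)
    (hφ : RepWith @Etale φ) (u v : ↥U.left) (he : Points.ofPt φ u = Points.ofPt φ v) {R₀ : Over S}
    {t₀ s₀ : R₀ ⟶ U} (sq₀ : IsPullback ((yon S).map t₀) ((yon S).map s₀) φ φ)
    (hfin : {r : ↥R₀.left | s₀.left r = v ∧ t₀.left r = u}.Finite) :
    ∃ p : FieldPt X, Points.mk p = Points.ofPt φ u ∧ Mono p.toHom := by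
  obtain ⟨R₁, t₁, s₁, sq₁⟩ := exists_isPullback_yon hX.diag ((yon S).map (resIncl u) ≫ φ)
    ((yon S).map (resIncl v) ≫ φ)
  obtain ⟨L, hLi, hLr⟩ := exists_rel_map u v sq₀ sq₁
  haveI : Finite ↥R₁.left := by
    haveI := hfin.to_subtype
    exact Finite.of_injective (β := {r : ↥R₀.left | s₀.left r = v ∧ t₀.left r = u})
      (fun z => ⟨L.left z, hLr.le ⟨z, rfl⟩⟩) fun a b h => hLi (congrArg Subtype.val h)
  let p := (yon S).map (resIncl u) ≫ φ
  obtain ⟨Q, i, q, hQ, hm, hl, hqe, hqs, hi⟩ := exists_residual hX hφ u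
  haveI := hm
  obtain ⟨R, t, s, sq⟩ := exists_isPullback_yon hX.diag p p
  haveI := finite_self_rel hX hφ u v he sq₁ sq
  have sqq : IsPullback ((yon S).map t) ((yon S).map s) q q :=
    isPullback_of_mono_comp i (by rw [hi]; exact sq)
  haveI : IsAffine (resPt u).left := inferInstanceAs (IsAffine (Spec _))
  haveI : IsLocallyArtinian (resPt u).left := inferInstanceAs (IsLocallyArtinian (Spec (CommRingCat.of _)))
  haveI : Etale s.left := etale_resPt_rel hX hφ u sq
  haveI : LocallyQuasiFinite s.left := Groth.Agent.Unr55.locallyQuasiFinite_of_formallyUnramified _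
  haveI : QuasiCompact s.left := (quasiCompact_iff_compactSpace s.left).2 Finite.compactSpace
  haveI : IsFinite s.left := IsFinite.of_locallyQuasiFinite _
  obtain ⟨M, ⟨e⟩⟩ := exists_iso_of_finLocFree_cover hl sqq
    fun A _ => ⟨⊤, isAffineOpen_top _, fun z _ => trivial⟩
  let w0 : ↥(resPt u).left := IsLocalRing.closedPoint (U.left.residueField u)
  obtain ⟨g, hg⟩ := (yon S).map_surjective (q ≫ e.inv)
  obtain ⟨r, hr, hrm, -⟩ := exists_point_of_ofPt (e.hom ≫ i) (g.left w0)
  refine ⟨r, ?_, hrm⟩
  rw [hr, ← ofPt_comp, hg, Category.assoc, Iso.inv_hom_id_assoc, hi, ofPt_comp, resIncl_apply]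

end Groth.Agent.SpFP87
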