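import Groth.Agent.SpFP87.ModZMT
import Groth.Agent.S10375
/-!
A quasi-compact quasi-separated space receives a finite surjective morphism from a scheme.
-/

set_option autoImplicit false
set_option linter.style.haveILetI false
set_option backward.isDefEq.respectTransparency false
universe u
open CategoryTheory CategoryTheory.Limits AlgebraicGeometry
open AlgSp Groth.Agent.SpPts86

namespace Groth.Agent.SpFP87.ModSys

variable {S : Scheme.{u}} {Y N : Sp S} {ν : N ⟶ Y} {hν : IsIntegralMor ν} {A : Fun hν} {U : Ch Y}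

theorem Model.isFinite (hA : IsSys hν Set.univ A) (D : Model hν A U) : IsFinite D.m.left := by
  haveI : IsAffine U.obj.left := U.aff
  haveI : IsAffine D.obj.left := D.aff
  have hfin : (D.φ.left.appTop.hom.comp D.m.left.appTop.hom) = algebraMap Γ(U.obj.left, ⊤) (C hν U) := by
    have := congrArg (fun f : NN hν U ⟶ U.obj => f.left.appTop.hom) D.fac
    simp only [Over.comp_left, Scheme.Hom.comp_appTop, CommRingCat.hom_comp] at this
    exact this
  haveI := alg_finite hA U
  refine (HasAffineProperty.iff_of_isAffine (P := @IsFinite)).2 ⟨inferInstance, ?_⟩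
  let ψ : Γ(D.obj.left, ⊤) →+* alg hν A U :=
    RingHom.codRestrict (D.φ.left.appTop.hom : Γ(D.obj.left, ⊤) →+* C hν U) (alg hν A U).toSubring
      fun b => (D.range _).2 ⟨b, rfl⟩
  have hψ : Function.Bijective ψ := ⟨fun b b' h => D.inj (congrArg Subtype.val h),
    fun y => by obtain ⟨b, hb⟩ := (D.range _).1 y.2; exact ⟨b, Subtype.ext hb⟩⟩
  let e := RingEquiv.ofBijective ψ hψ
  have : D.m.left.appTop.hom = e.symm.toRingHom.comp (algebraMap Γ(U.obj.left, ⊤) (alg hν A U)) := by
    ext r
    apply e.injective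
    change ψ _ = e (e.symm _)
    rw [RingEquiv.apply_symm_apply]
    exact Subtype.ext (congr($hfin r))
  rw [this]
  exact RingHom.Finite.comp (RingHom.Finite.of_surjective _ e.symm.surjective)
    (RingHom.finite_algebraMap.2 inferInstance)

theorem Model.surjective_φ (D : Model hν A U) : Surjective D.φ.left := by
  haveI : IsAffine U.obj.left := U.aff
  haveI : IsAffine D.obj.left := D.aff
  haveI : IsIntegralHom (D.φ.left ≫ D.m.left) := by rw [← Over.comp_left, D.fac]; exact nι_integral hν U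
  haveI : IsIntegralHom D.φ.left := IsIntegralHom.of_comp D.φ.left D.m.left
  have hi : D.φ.left.appTop.hom.IsIntegral := IsIntegralHom.isIntegral_app D.φ.left ⊤ (isAffineOpen_top _)
  refine ⟨fun x => ?_⟩
  obtain ⟨q, hq⟩ := hi.comap_surjective D.inj (D.obj.left.isoSpec.hom x)
  refine ⟨(NN hν U).left.isoSpec.inv q, ?_⟩
  have h1 := ThickAffine.comap_isoSpec D.φ.left ((NN hν U).left.isoSpec.inv q)
  rw [show (NN hν U).left.isoSpec.hom ((NN hν U).left.isoSpec.inv q) = q from
    congr($((NN hν U).left.isoSpec.inv_hom_id) q), hq] at h1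
  have h2 := congrArg D.obj.left.isoSpec.inv h1
  rwa [show D.obj.left.isoSpec.inv (D.obj.left.isoSpec.hom x) = x from congr($(D.obj.left.isoSpec.hom_inv_id) x),
    show ∀ y, D.obj.left.isoSpec.inv (D.obj.left.isoSpec.hom y) = y from
      fun y => congr($(D.obj.left.isoSpec.hom_inv_id) y), eq_comm] at h2

set_option maxHeartbeats 1000000 in
/-- A finite surjective cover by a scheme. -/
theorem exists_scheme_finite_surjective [QuasiSeparatedSpace ↥S] (Y : Space S) (hqc : IsQuasiCompactSp Y.obj)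
    (hqs : IsQuasiSeparatedSp Y.obj) :
    ∃ (W : Over S) (g : (yon S).obj W ⟶ Y.obj), IsFiniteMor g ∧ IsSurjectiveMor g := by
  classical
  haveI := compactSpace_points_of_isQuasiCompactSp hqc
  obtain ⟨U₀, u, hU, hu₀, hus₀⟩ := exists_affine_chart_of_compactSpace Y.property
  obtain ⟨Z, g, hg, hgs, hloc⟩ := Groth.Agent.S10375.result Y hqc hqs u hu₀ hus₀
  obtain ⟨U, c₀, hUm, hus⟩ : ∃ (U : Ch Y.obj) (c₀ : U₀ ⟶ U.obj), (yon S).map c₀ ≫ U.map = u ∧
      RepWith @Surjective U.map :=
    ⟨⟨U₀, hU, u, hu₀⟩, 𝟙 _, by rw [CategoryTheory.Functor.map_id, Category.id_comp], hus₀⟩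
  have hν : IsIntegralMor g := (isIntegralMor_iff g).2 hg
  -- the map from the chart onto the cover
  obtain ⟨p, hp⟩ := (yon S).map_surjective (nfst hν U)
  obtain ⟨hpe, hps⟩ := etale_surj_of_isPullback (nsq hν U) U.et hus
  haveI : Etale p.left := (repWith_yon_map_iff _ p).1 (hp.symm ▸ hpe)
  haveI : Surjective p.left := (repWith_yon_map_iff _ p).1 (hp.symm ▸ hps)
  haveI : IsAffine U.obj.left := U.aff
  haveI : CompactSpace Z.left := p.left.surjective.compactSpace p.left.continuous
  -- affine opens of the cover over the chart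
  have hex : ∀ z : Z.left, ∃ (O : Z.left.Opens) (c : Over.mk (O.ι ≫ Z.hom) ⟶ U.obj), IsAffineOpen O ∧ z ∈ O ∧
      (yon S).map c ≫ U.map = (yon S).map (Over.homMk O.ι rfl : Over.mk (O.ι ≫ Z.hom) ⟶ Z) ≫ g := fun z => by
    obtain ⟨W, c, hz, hc⟩ := hloc z
    obtain ⟨O, hO, hzO, hOW⟩ := exists_isAffineOpen_mem_and_subset (x := z) (U := W) hz
    let r : Over.mk (O.ι ≫ Z.hom) ⟶ Over.mk (W.ι ≫ Z.hom) := Over.homMk (Z.left.homOfLE hOW) (by simp)
    refine ⟨O, r ≫ c ≫ c₀, hO, hzO, ?_⟩
    rw [Functor.map_comp, Functor.map_comp, Category.assoc, Category.assoc, hUm, hc, ← Functor.map_comp_assoc]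
    congr 2
    exact Over.OverMorphism.ext (by simp [r])
  choose O c hO hzO hc using hex
  obtain ⟨G, hG⟩ := isCompact_univ.elim_finite_subcover (fun z => (O z : Set Z.left)) (fun z => (O z).isOpen)
    fun z _ => Set.mem_iUnion.2 ⟨z, hzO z⟩
  let incl : ∀ z, Over.mk ((O z).ι ≫ Z.hom) ⟶ Z := fun z => Over.homMk (O z).ι rfl
  -- their sections in the chart
  choose ξ hξ using fun z => (yon S).map_surjective
    ((nsq hν U).lift ((yon S).map (incl z)) ((yon S).map (c z)) (hc z).symm)
  have hξp : ∀ z, ξ z ≫ p = incl z := fun z => (yon S).map_injective (by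
    rw [Functor.map_comp, hξ, hp, IsPullback.lift_fst])
  have hξo : ∀ z, IsOpenImmersion (ξ z).left := fun z => by
    have e : (ξ z).left ≫ p.left = (O z).ι := congrArg CommaMorphism.left (hξp z)
    haveI : Etale ((ξ z).left ≫ p.left) := by rw [e]; infer_instance
    haveI : Mono ((ξ z).left ≫ p.left) := by rw [e]; infer_instance
    haveI : Etale (ξ z).left := Etale.of_comp (ξ z).left p.left
    haveI : Mono (ξ z).left := mono_of_mono (ξ z).left p.left
    exact IsOpenImmersion.of_flat_of_mono (ξ z).left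
  have hcpt : ∀ z, IsCompact (Set.range (ξ z).left) := fun z => by
    haveI : IsAffine (Over.mk ((O z).ι ≫ Z.hom)).left := hO z
    exact isCompact_range (ξ z).left.continuous
  -- functions defining them
  have hF : ∀ z, ∃ F : Finset Γ((NN hν U).left, ⊤),
      Set.range (ξ z).left = ⋃ f ∈ F, ((NN hν U).left.basicOpen f : Set (NN hν U).left) := fun z => by
    haveI := hξo z
    obtain ⟨s, hs⟩ := (hcpt z).elim_finite_subcover
      (fun f : {f : Γ((NN hν U).left, ⊤) // ((NN hν U).left.basicOpen f : Set (NN hν U).left) ⊆ Set.range (ξ z).left} =>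
        ((NN hν U).left.basicOpen f.1 : Set (NN hν U).left)) (fun f => ((NN hν U).left.basicOpen f.1).isOpen)
      fun x hx => by
        obtain ⟨f, hf, hxf⟩ := (isAffineOpen_top (NN hν U).left).exists_basicOpen_le
          (V := (ξ z).left.opensRange) ⟨x, hx⟩ trivial
        exact Set.mem_iUnion.2 ⟨⟨f, hf⟩, hxf⟩
    refine ⟨s.image Subtype.val, Set.Subset.antisymm (fun x hx => ?_) (Set.iUnion₂_subset fun f hf => ?_)⟩
    · obtain ⟨f, hf, hxf⟩ := Set.mem_iUnion₂.1 (hs hx)
      exact Set.mem_iUnion₂.2 ⟨f.1, Finset.mem_image_of_mem _ hf, hxf⟩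
    · obtain ⟨f', hf', rfl⟩ := Finset.mem_image.1 hf
      exact f'.2
  choose F hF using hF
  let Fs : Finset (C hν U) := (G.biUnion F : Finset Γ((NN hν U).left, ⊤))
  obtain ⟨A, hA, hMA⟩ := exists_sys hν Y.property hqc hqs U
    (Submodule.span Γ(U.obj.left, ⊤) (Fs : Set (C hν U))) ⟨Fs, rfl⟩
  obtain ⟨D⟩ := exists_model (hν := hν) A U
  obtain ⟨T, π, jN, q, hT, sqT, hπ, hq⟩ := exists_descent Y.property hA D hus
  obtain ⟨hqe, hqs'⟩ := etale_surj_of_isPullback sqT U.et hus
  have sqφ : IsPullback (nfst hν U) ((yon S).map D.φ) jN q :=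
    IsPullback.of_bot (by rw [← Functor.map_comp, D.fac, hπ]; exact nsq hν U) hq.symm sqT
  haveI := D.surjective_φ
  -- the open pieces
  have hpiece : ∀ z ∈ G, ∃ (V : Over S) (e : (yon S).obj V ⟶ T) (φk : Over.mk ((O z).ι ≫ Z.hom) ⟶ V),
      RepWith @IsOpenImmersion e ∧ (yon S).map φk ≫ e = (yon S).map (incl z) ≫ jN := by
    intro z hz
    choose b hb using fun f : {f // f ∈ F z} => (D.range f.1).1
      (Algebra.subset_adjoin (hMA (Submodule.subset_span (Finset.mem_biUnion.2 ⟨z, hz, f.2⟩))))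
    let Oz : D.obj.left.Opens := ⨆ f, D.obj.left.basicOpen (b f)
    let V : Over S := openOver D.obj Oz
    let o : V ⟶ D.obj := openIncl D.obj Oz
    have hpre : D.φ.left ⁻¹' (Oz : Set D.obj.left) = Set.range (ξ z).left := by
      rw [hF z]
      ext x
      simp only [Oz, TopologicalSpace.Opens.coe_iSup, Set.mem_preimage, Set.mem_iUnion, SetLike.mem_coe]
      have hbo : ∀ f, D.φ.left x ∈ D.obj.left.basicOpen (b f) ↔ x ∈ (NN hν U).left.basicOpen f.1 := fun f => by
        have := SetLike.ext_iff.1 (Scheme.preimage_basicOpen_top D.φ.left (b f)) x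
        rwa [show D.φ.left.appTop (b f) = f.1 from hb f] at this
      exact ⟨fun ⟨f, hf⟩ => ⟨f.1, f.2, (hbo f).1 hf⟩, fun ⟨f, hf, hxf⟩ => ⟨⟨f, hf⟩, (hbo ⟨f, hf⟩).2 hxf⟩⟩
    haveI := hξo z
    haveI : IsOpenImmersion o.left := inferInstanceAs (IsOpenImmersion Oz.ι)
    have hr : Set.range ((ξ z).left ≫ D.φ.left) ⊆ Set.range o.left := by
      rintro _ ⟨w, rfl⟩
      rw [show Set.range o.left = (Oz : Set D.obj.left) from Oz.range_ι]
      exact hpre.ge ⟨w, rfl⟩
    let φk : Over.mk ((O z).ι ≫ Z.hom) ⟶ V := Over.homMk (IsOpenImmersion.lift o.left ((ξ z).left ≫ D.φ.left) hr) (by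
      rw [← Over.w o, IsOpenImmersion.lift_fac_assoc]; exact Over.w (ξ z ≫ D.φ))
    have hφk : φk ≫ o = ξ z ≫ D.φ := Over.OverMorphism.ext (IsOpenImmersion.lift_fac _ _ hr)
    have sq₀ : IsPullback (ξ z) φk D.φ o := by
      refine IsPullback.of_map (Over.forget S) hφk.symm ?_
      exact (IsOpenImmersion.isPullback φk.left (ξ z).left o.left D.φ.left (congrArg CommaMorphism.left hφk.symm)
        (TopologicalSpace.Opens.ext (by
          change D.φ.left ⁻¹' Set.range o.left = Set.range (ξ z).left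
          rw [show Set.range o.left = (Oz : Set D.obj.left) from Oz.range_ι]; exact hpre))).flip
    let e : (yon S).obj V ⟶ T := (yon S).map o ≫ q
    have sqk : IsPullback ((yon S).map (incl z)) ((yon S).map φk) jN e := by
      have h := (sq₀.map (yon S)).paste_horiz sqφ
      rwa [hξ, IsPullback.lift_fst] at h
    haveI : Etale o.left := inferInstance
    have he : RepWith @Etale e := repWith_etale_comp o hqe
    -- it is a monomorphism
    obtain ⟨E, p₁, p₂, sqE⟩ := exists_isPullback_yon hT.diag e e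
    haveI : Etale p₁.left := etale_snd_of_isPullback sqE.flip he
    haveI : Surjective φk.left := MorphismProperty.of_isPullback (P := @Surjective) (sq₀.map (Over.forget S))
      ‹Surjective D.φ.left›
    obtain ⟨δ, hδ⟩ := (yon S).map_surjective (sqE.lift (𝟙 _) (𝟙 _) rfl)
    have hδ₁ : δ ≫ p₁ = 𝟙 V := (yon S).map_injective (by
      rw [Functor.map_comp, hδ, IsPullback.lift_fst, CategoryTheory.Functor.map_id])
    have hδ₂ : δ ≫ p₂ = 𝟙 V := (yon S).map_injective (by
      rw [Functor.map_comp, hδ, IsPullback.lift_snd, CategoryTheory.Functor.map_id])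
    have hw : (yon S).map (pullback.fst φk p₁ ≫ incl z) ≫ jN = (yon S).map (pullback.snd φk p₁ ≫ p₂) ≫ e := by
      rw [Functor.map_comp, Category.assoc, ← sqk.w.symm, ← Functor.map_comp_assoc, pullback.condition]
      exact ThickAffine.map_comp_sq sqE.w
    obtain ⟨η, hη⟩ := (yon S).map_surjective (sqk.lift _ _ hw)
    haveI : Mono (incl z) := (Over.forget S).mono_of_mono_map (inferInstanceAs (Mono (O z).ι))
    have hη₁ : η = pullback.fst φk p₁ := by
      rw [← cancel_mono (incl z)]
      exact (yon S).map_injective (by rw [Functor.map_comp, hη, IsPullback.lift_fst])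
    have hη₂ : pullback.fst φk p₁ ≫ φk = pullback.snd φk p₁ ≫ p₂ := by
      rw [← hη₁]
      exact (yon S).map_injective (by rw [Functor.map_comp, hη, IsPullback.lift_snd])
    have hsnd : pullback.snd φk p₁ = (pullback.fst φk p₁ ≫ φk) ≫ δ := (yon S).map_injective (sqE.hom_ext
      (by rw [← Functor.map_comp, ← Functor.map_comp]; congr 1; simp [Category.assoc, hδ₁, pullback.condition])
      (by rw [← Functor.map_comp, ← Functor.map_comp]; congr 1; simp [Category.assoc, hδ₂, hη₂]))
    haveI : Surjective (pullback.snd φk p₁).left := MorphismProperty.of_isPullback (P := @Surjective)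
      ((IsPullback.of_hasPullback φk p₁).map (Over.forget S)) ‹Surjective φk.left›
    haveI : Surjective δ.left := by
      haveI : Surjective ((pullback.fst φk p₁ ≫ φk).left ≫ δ.left) := by
        rw [← Over.comp_left, ← hsnd]; infer_instance
      exact Surjective.of_comp (pullback.fst φk p₁ ≫ φk).left δ.left
    have hδl : δ.left ≫ p₁.left = 𝟙 V.left := by rw [← Over.comp_left, hδ₁]; rfl
    haveI : Etale (δ.left ≫ p₁.left) := by rw [hδl]; infer_instance
    haveI : Etale δ.left := Etale.of_comp δ.left p₁.left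
    haveI : Mono (δ.left ≫ p₁.left) := by rw [hδl]; infer_instance
    haveI : Mono δ.left := mono_of_mono δ.left p₁.left
    haveI : IsOpenImmersion δ.left := IsOpenImmersion.of_flat_of_mono δ.left
    haveI : IsIso δ.left := (isIso_iff_isOpenImmersion_and_surjective _).2 ⟨inferInstance, inferInstance⟩
    haveI : IsIso ((Over.forget S).map δ) := ‹IsIso δ.left›
    haveI : IsIso δ := isIso_of_reflects_iso δ (Over.forget S)
    have hpp : p₁ = p₂ := by rw [← cancel_epi δ, hδ₁, hδ₂]
    haveI : Mono e := mono_of_probe fun T' a b hab => by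
      obtain ⟨r, hr'⟩ := (yon S).map_surjective (sqE.lift a b hab)
      rw [← sqE.lift_fst a b hab, ← hr', hpp, hr', sqE.lift_snd]
    exact ⟨V, e, φk, repWith_isOpenImmersion_of_mono_of_etale e (IsAlgSpace.yon_obj _) hT
      (locP_of_repWith (IsAlgSpace.yon_obj _).diag hT he), sqk.w.symm⟩
  choose V e φk he hek using hpiece
  -- they cover
  have hcov : ∀ x : Points T, ∃ i : {z // z ∈ G}, x ∈ Set.range (Points.ofPt (e i.1 i.2)) := fun x => by
    obtain ⟨d, rfl⟩ := surjective_ofPt hqs' x
    obtain ⟨n, rfl⟩ := D.φ.left.surjective d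
    obtain ⟨z, hz, hn⟩ := Set.mem_iUnion₂.1 (hG (Set.mem_univ (p.left n)))
    obtain ⟨w, hw⟩ : p.left n ∈ Set.range (O z).ι := (O z).range_ι.ge hn
    refine ⟨⟨z, hz⟩, (φk z hz).left w, ?_⟩
    rw [← ofPt_comp, hek z hz, ← Points.map_ofPt, ← ofPt_comp D.φ q, hq, ← Points.map_ofPt, ← hp]
    refine congrArg _ ?_
    have key : ∀ {A' B : Over S} (f : A' ⟶ B) (x : A'.left),
        Points.ofPt ((yon S).map f) x = Points.ofScheme B (f.left x) := fun f x =>
      ((congrArg (fun h => Points.ofPt h x) (Category.comp_id ((yon S).map f))).symm.trans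
        (ofPt_comp f (𝟙 _) x)).trans (by rw [Points.ofPt_eq_map_ofScheme]; simp)
    rw [key, key]
    exact congrArg _ hw
  obtain ⟨W, ⟨eT⟩⟩ := exists_iso_of_open_cover (fun i : {z // z ∈ G} => V i.1 i.2) (fun i => e i.1 i.2)
    (fun i => he i.1 i.2) hcov
  have hfin : IsFiniteMor π :=
    (Groth.Agent.S10268.result (X := ⟨T, hT⟩) (Y := Y) (ObjectProperty.homMk π) U.obj U.map U.et hus q
      ((yon S).map D.m) sqT).2 ((isFiniteMor_iff _).2 ((repWith_yon_map_iff _ _).2 (D.isFinite hA)))
  refine ⟨W, eT.hom ≫ π, (isFiniteMor_iff _).2 ?_, fun y => ?_⟩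
  · exact (repWith_isStableUnderBaseChange _).of_isPullback
      (IsPullback.of_horiz_isIso ⟨(Category.comp_id _).symm⟩ : IsPullback eT.hom (eT.hom ≫ π) π (𝟙 Y.obj))
      ((isFiniteMor_iff π).1 hfin)
  · obtain ⟨x, hx⟩ := isSurjectiveMor_of_repWith hgs y
    refine ⟨Points.map eT.inv (Points.map jN x), ?_⟩
    rw [← hx, ← Points.map_comp, ← Points.map_comp]
    congr 1
    rw [← hπ]
    simp

end Groth.Agent.SpFP87.ModSys
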