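import Groth.Agent.SpFP87.NormZMT
import Groth.Agent.SpFP87.IntegralSub
import Groth.Agent.SpFP87.ThickOpen
import Groth.Agent.SpFP87.ThickCart
import Groth.Agent.SpPts86.Proper
import Groth.Agent.SpPts86.ProperCrit
import Groth.Agent.SpPts86.FiniteCrit
import Groth.Agent.SpProper61.FiniteFibreCodimZero
import Groth.Agent.S9922
/-!
Properness, universal closedness and quasi-separatedness for maps out of and between schemes.
-/

set_option autoImplicit false
set_option linter.style.haveILetI false
set_option backward.isDefEq.respectTransparency false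
universe u
open CategoryTheory CategoryTheory.Limits AlgebraicGeometry
open AlgSp Groth.Agent.SpPts86

namespace Groth.Agent.SpFP87

variable {S : Scheme.{u}}

theorem isUnivClosedMor_of_repWith {X Y : Sp S} (hX : IsAlgSpace X) (hY : IsAlgSpace Y) {f : X ⟶ Y}
    (h : RepWith @UniversallyClosed f) : IsUnivClosedMor f :=
  (Groth.Agent.S9922.result (X := ⟨X, hX⟩) (Y := ⟨Y, hY⟩) (ObjectProperty.homMk f) h.rep).1 h

theorem isUnivClosedMor_yon_map_iff {X Y : Over S} (f : X ⟶ Y) :
    IsUnivClosedMor ((yon S).map f) ↔ UniversallyClosed f.left :=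
  ((Groth.Agent.S9922.result (X := ⟨_, IsAlgSpace.yon_obj X⟩) (Y := ⟨_, IsAlgSpace.yon_obj Y⟩)
    (ObjectProperty.homMk ((yon S).map f)) ((IsAlgSpace.yon_obj Y).representable_from_yon _)).symm).trans
    (repWith_yon_map_iff _ f)

theorem isProperMor_yon_map_iff {X Y : Over S} (f : X ⟶ Y) :
    IsProperMor ((yon S).map f) ↔ IsProper f.left := by
  constructor
  · intro h
    haveI := (isSeparatedMor_yon_map_iff f).1 h.1
    haveI := (locP_yon_map_iff f).1 h.2.1.1
    haveI := quasiCompact_of_isQuasiCompactMor_yon h.2.1.2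
    haveI := (isUnivClosedMor_yon_map_iff f).1 h.2.2
    exact {}
  · intro h
    exact ⟨(isSeparatedMor_yon_map_iff f).2 inferInstance, ⟨(locP_yon_map_iff f).2 inferInstance,
      isQuasiCompactMor_of_repWith (IsAlgSpace.yon_obj Y) ((repWith_yon_map_iff _ f).2 inferInstance)⟩,
      (isUnivClosedMor_yon_map_iff f).2 inferInstance⟩

theorem isProperMor_of_isFiniteMor {X Y : Sp S} (hX : IsAlgSpace X) (hY : IsAlgSpace Y) {f : X ⟶ Y}
    (hf : IsFiniteMor f) : IsProperMor f := by
  have h := (isFiniteMor_iff f).1 hf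
  refine ⟨?_, ⟨locP_of_repWith hX.diag hY (repWith_mono (fun _ _ g (hg : IsFinite g) => inferInstance) h),
    isQuasiCompactMor_of_repWith hY (repWith_mono (fun _ _ g (hg : IsFinite g) => inferInstance) h)⟩,
    isUnivClosedMor_of_repWith hX hY (repWith_mono (fun _ _ g (hg : IsFinite g) => inferInstance) h)⟩
  exact isSeparatedMor_of_repWith_le (P := @IsFinite) (fun _ _ g (hg : IsFinite g) => inferInstance) hX h

/-- A space with a quasi-separated map to the base scheme is quasi-separated. -/
theorem isQuasiSeparatedSp_of_toBase {X : Sp S} (π : X ⟶ (yon S).obj (Over.mk (𝟙 S)))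
    (hπ : IsQuasiSeparatedMor π) : IsQuasiSeparatedSp X := by
  refine Groth.Agent.SpProper61.qsSp_of_mor π hπ ?_
  have hT : IsTerminal ((yon S).obj (Over.mk (𝟙 S))) := IsTerminal.isTerminalObj (yon S) _ Over.mkIdTerminal
  haveI : IsIso (Limits.diag ((yon S).obj (Over.mk (𝟙 S)))) :=
    ⟨prod.fst, prod.lift_fst _ _, Limits.prod.hom_ext (hT.hom_ext _ _) (hT.hom_ext _ _)⟩
  exact repWith_mono (fun _ _ g (hg : IsIso g) => inferInstance) (repWith_isomorphisms_of_isIso _)

end Groth.Agent.SpFP87
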