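import Groth.Agent.SpFP87.ThickAffine
import Groth.Agent.SpFP87.ThickOpen
import Groth.Agent.SpPts86.ZarGlue
/-!
A thickening of a scheme in algebraic spaces is a scheme.
-/

set_option autoImplicit false
set_option linter.style.haveILetI false
set_option backward.isDefEq.respectTransparency false
universe u
open CategoryTheory CategoryTheory.Limits AlgebraicGeometry
open AlgSp Groth.Agent.SpPts86

namespace Groth.Agent.SpFP87

variable {S : Scheme.{u}}

theorem thick_iso_comp {X X' W : Sp S} {i : X ⟶ X'} (hi : IsThickMor i) (e : W ≅ X) : IsThickMor (e.hom ≫ i) :=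
  thick_baseChange hi (IsPullback.of_horiz_isIso ⟨by simp⟩ :
    IsPullback e.hom (e.hom ≫ i) i (𝟙 X'))

/-- A thickening of a scheme is a scheme. -/
theorem exists_scheme_of_thick {X X' : Sp S} {i : X ⟶ X'} (hi : IsThickMor i) (hX' : IsAlgSpace X') {T : Over S}
    (e : (yon S).obj T ≅ X) : ∃ T' : Over S, Nonempty ((yon S).obj T' ≅ X') := by
  let i₁ := e.hom ≫ i
  have hi₁ : IsThickMor i₁ := thick_iso_comp hi e
  have key : ∀ A : T.left.affineOpens, ∃ (D : Over S) (d : (yon S).obj D ⟶ X'),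
      RepWith @IsOpenImmersion d ∧
        Points.map i₁ '' Set.range (Points.map ((yon S).map (openIncl T A.1))) ⊆ Set.range (Points.ofPt d) := by
    intro A
    haveI : IsAffine (openOver T A.1).left := A.2
    have hu : RepWith @IsOpenImmersion ((yon S).map (openIncl T A.1)) :=
      (repWith_yon_map_iff (@IsOpenImmersion) (openIncl T A.1)).2 (inferInstanceAs (IsOpenImmersion A.1.ι))
    obtain ⟨U', u', k, hU', hu', sq⟩ := exists_thick_open hi₁ hX' hu
    obtain ⟨D, -, ⟨φ⟩⟩ := ThickAffine.exists_affine_of_thick (X₀ := openOver T A.1) (thick_baseChange hi₁ sq) hU'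
    refine ⟨D, φ.hom ≫ u', ?_, ?_⟩
    · exact (repWith_isStableUnderBaseChange _).of_isPullback
        (IsPullback.of_horiz_isIso ⟨by simp⟩ :
          IsPullback φ.hom (φ.hom ≫ u') u' (𝟙 X')) hu'
    · rw [← range_of_thick_open hi₁ sq]
      rintro _ ⟨z, rfl⟩
      obtain ⟨x, hx⟩ := (Points.schemeHomeo D).surjective (Points.map φ.inv z)
      refine ⟨x, ?_⟩
      have hz : Points.map φ.hom (Points.map φ.inv z) = z := by
        rw [← Points.map_comp, φ.inv_hom_id, Points.map_id]
      rw [← hz, ← Points.map_comp, ← hx]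
      exact Points.ofPt_eq_map_ofScheme _ _
  choose D d hd hr using key
  refine exists_iso_of_open_cover (F := X') D d hd fun x => ?_
  obtain ⟨y, rfl⟩ := surjective_map_of_thick hi₁ x
  obtain ⟨t, rfl⟩ := (Points.schemeHomeo T).surjective y
  obtain ⟨A, hA, htA, -⟩ := exists_isAffineOpen_mem_and_subset (x := t) (U := (⊤ : T.left.Opens)) trivial
  refine ⟨⟨A, hA⟩, hr ⟨A, hA⟩ ⟨_, ⟨Points.ofScheme _ ⟨t, htA⟩, rfl⟩, ?_⟩⟩
  rw [← Points.ofPt_eq_map_ofScheme, ofPt_yon_map]
  rfl

end Groth.Agent.SpFP87
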