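import Groth.Agent.SpFP87.OpenMor
import Groth.Agent.SpFP87.EtaleMor
import Groth.Agent.SpFP87.ThickOpen
import Groth.Agent.SpPts86.EtaleMor
/-!
The largest open over which a property local on the base holds.
-/

set_option autoImplicit false
set_option linter.style.haveILetI false
set_option backward.isDefEq.respectTransparency false
universe u
open CategoryTheory CategoryTheory.Limits AlgebraicGeometry Opposite TopologicalSpace
open AlgSp Groth.Agent.SpPts86

namespace Groth.Agent.SpFP87

variable {S : Scheme.{u}}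

/-- What is used of the class of covering morphisms. -/
structure CoverClass (M : MorphismProperty (Sp S)) : Prop where
  of_openImmersion : ∀ {A B : Sp S} (j : A ⟶ B), IsAlgSpace A → IsAlgSpace B →
    RepWith @IsOpenImmersion j → M j
  comp : ∀ {A B C : Sp S} (a : A ⟶ B) (b : B ⟶ C), IsAlgSpace A → IsAlgSpace B → IsAlgSpace C →
    M a → M b → M (a ≫ b)
  baseChange : ∀ {A B A' B' : Sp S} {fst : A' ⟶ A} {snd : A' ⟶ B'} {a : A ⟶ B} {b : B' ⟶ B},
    IsPullback fst snd a b → IsAlgSpace A → IsAlgSpace B → IsAlgSpace B' → IsAlgSpace A' → M a → M snd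
  isOpenMap : ∀ {A B : Sp S} (a : A ⟶ B), IsAlgSpace A → IsAlgSpace B → M a → IsOpenMap (Points.map a)

variable {M : MorphismProperty (Sp S)} {P : MorphismProperty (Sp S)}

/-- A property local on the base is stable under base change by covering morphisms. -/
theorem CoverClass.of_baseChange (hM : CoverClass M)
    (hP : IsLocalOnBase (fun _ _ Y g => IsCover M Y g) P) {X Y X' Y' : Sp S}
    (hX : IsAlgSpace X) (hY : IsAlgSpace Y) (hX' : IsAlgSpace X') (hY' : IsAlgSpace Y') {f : X ⟶ Y}
    {g : Y' ⟶ Y} {f' : X' ⟶ Y'} {g' : X' ⟶ X} (hg : M g) (sq : IsPullback g' f' f g) (hf : P f) : P f' := by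
  let A : ULift.{u} Bool → Sp S := fun b => cond b.down Y' Y
  let gA : ∀ b, A b ⟶ Y := fun b => match b with | ⟨true⟩ => g | ⟨false⟩ => 𝟙 Y
  let B : ULift.{u} Bool → Sp S := fun b => cond b.down X' X
  let pB : ∀ b, B b ⟶ A b := fun b => match b with | ⟨true⟩ => f' | ⟨false⟩ => f
  let qB : ∀ b, B b ⟶ X := fun b => match b with | ⟨true⟩ => g' | ⟨false⟩ => 𝟙 X
  have hcov : IsCover M A gA := by
    refine ⟨?_, fun x => ⟨⟨false⟩, x, Points.map_id x⟩⟩
    rintro ⟨_ | _⟩
    · exact hM.of_openImmersion (𝟙 Y) hY hY ((repWith_isMultiplicative _).id_mem Y)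
    · exact hg
  have hA : ∀ b, IsAlgSpace (A b) := by rintro ⟨_ | _⟩ <;> assumption
  have hB : ∀ b, IsAlgSpace (B b) := by rintro ⟨_ | _⟩ <;> assumption
  have hsq : ∀ b, IsPullback (qB b) (pB b) f (gA b) := by
    rintro ⟨_ | _⟩
    · exact (IsPullback.of_horiz_isIso ⟨by simp⟩ : IsPullback (𝟙 X) f f (𝟙 Y))
    · exact sq
  exact (hP A gA hY hA hcov f hX B pB qB hB hsq).1 hf ⟨true⟩

/-- `P` holds over every open subspace with the given underlying set. -/
def HoldsOn (P : MorphismProperty (Sp S)) {X Y : Space S} (f : X ⟶ Y) (V : Set (Points Y.obj)) : Prop :=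
  ∀ (W₁ X₁ : Space S) (j₁ : W₁ ⟶ Y) (j₁' : X₁ ⟶ X) (f₁ : X₁ ⟶ W₁),
    RepWith @IsOpenImmersion j₁.hom → Set.range (Points.map j₁.hom) = V →
    IsPullback j₁'.hom f₁.hom f.hom j₁.hom → P f₁.hom

variable (M P) in
/-- The points over which `P` holds after a covering morphism. -/
def goodSet {X Y : Space S} (f : X ⟶ Y) : Set (Points Y.obj) :=
  {y | ∃ (Y' X' : Space S) (g : Y' ⟶ Y) (g' : X' ⟶ X) (f' : X' ⟶ Y'),
    M g.hom ∧ IsPullback g'.hom f'.hom f.hom g.hom ∧ P f'.hom ∧ y ∈ Set.range (Points.map g.hom)}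

theorem isOpen_goodSet (hM : CoverClass M) {X Y : Space S} (f : X ⟶ Y) : IsOpen (goodSet M P f) := by
  refine isOpen_iff_forall_mem_open.2 ?_
  rintro y ⟨Y', X', g, g', f', hg, sq, hf', hy⟩
  exact ⟨Set.range (Points.map g.hom), fun z hz => ⟨Y', X', g, g', f', hg, sq, hf', hz⟩,
    (hM.isOpenMap g.hom Y'.property Y.property hg).isOpen_range, hy⟩

theorem holdsOn_goodSet (hM : CoverClass M) (hP : IsLocalOnBase (fun _ _ Y g => IsCover M Y g) P)
    {X Y : Space S} (f : X ⟶ Y) : HoldsOn P f (goodSet M P f) := by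
  intro W₁ X₁ j₁ j₁' f₁ hj hr sq₁
  obtain ⟨U, a, ha, has⟩ := W₁.property.atlas
  have hmem : ∀ u : ↥U.left, Points.map j₁.hom (Points.ofPt a u) ∈ goodSet M P f :=
    fun u => hr ▸ ⟨_, rfl⟩
  choose Y' X' g g' f' hg sq hf' hy using hmem
  let A : ↥U.left → Sp S := fun u => pullback j₁.hom (g u).hom
  have hA : ∀ u, IsAlgSpace (A u) := fun u =>
    isAlgSpace_pullback _ _ W₁.property (Y' u).property Y.property
  have hcov : IsCover M A fun u => pullback.fst j₁.hom (g u).hom := by
    refine ⟨fun u => hM.baseChange (IsPullback.of_hasPullback j₁.hom (g u).hom).flip (Y' u).property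
      Y.property W₁.property (hA u) (hg u), fun w => ?_⟩
    obtain ⟨u, rfl⟩ := surjective_ofPt has w
    obtain ⟨y', hy'⟩ := hy u
    obtain ⟨z, hz, -⟩ := exists_of_isPullback (IsPullback.of_hasPullback j₁.hom (g u).hom)
      (Points.ofPt a u) y' hy'.symm
    exact ⟨u, z, hz⟩
  let B : ↥U.left → Sp S := fun u => pullback f₁.hom (pullback.fst j₁.hom (g u).hom)
  have hB : ∀ u, IsAlgSpace (B u) := fun u => isAlgSpace_pullback _ _ X₁.property (hA u) W₁.property
  refine (hP A _ W₁.property hA hcov f₁.hom X₁.property B (fun u => pullback.snd _ _) (fun u => pullback.fst _ _)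
    hB fun u => IsPullback.of_hasPullback _ _).2 fun u => ?_
  have big : IsPullback (pullback.fst f₁.hom (pullback.fst j₁.hom (g u).hom) ≫ j₁'.hom)
      (pullback.snd f₁.hom (pullback.fst j₁.hom (g u).hom)) f.hom
      (pullback.snd j₁.hom (g u).hom ≫ (g u).hom) := by
    rw [← pullback.condition]
    exact (IsPullback.of_hasPullback f₁.hom (pullback.fst j₁.hom (g u).hom)).paste_horiz sq₁
  have hoi : RepWith @IsOpenImmersion (pullback.snd j₁.hom (g u).hom) :=
    (repWith_isStableUnderBaseChange _).of_isPullback (IsPullback.of_hasPullback j₁.hom (g u).hom) hj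
  refine hM.of_baseChange hP (X' u).property (Y' u).property (hB u) (hA u)
    (hM.of_openImmersion _ (hA u) (Y' u).property hoi)
    (IsPullback.of_right (h₁₁ := (sq u).lift
      (pullback.fst f₁.hom (pullback.fst j₁.hom (g u).hom) ≫ j₁'.hom)
      (pullback.snd f₁.hom (pullback.fst j₁.hom (g u).hom) ≫ pullback.snd j₁.hom (g u).hom)
      (big.w.trans (Category.assoc _ _ _).symm))
      (by rw [(sq u).lift_fst]; exact big) ((sq u).lift_snd _ _ _) (sq u)) (hf' u)

theorem exists_largest_open (hM : CoverClass M) (hP : IsLocalOnBase (fun _ _ Y g => IsCover M Y g) P)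
    {X Y : Space S} (f : X ⟶ Y) :
    ∃ W : Opens (Points Y.obj),
      HoldsOn P f (W : Set (Points Y.obj)) ∧
      (∀ V : Opens (Points Y.obj), HoldsOn P f (V : Set (Points Y.obj)) → V ≤ W) ∧
      (∀ (Y' X' : Space S) (g : Y' ⟶ Y) (g' : X' ⟶ X) (f' : X' ⟶ Y'),
        M g.hom → IsPullback g'.hom f'.hom f.hom g.hom → P f'.hom →
        Set.range (Points.map g.hom) ⊆ (W : Set (Points Y.obj))) ∧
      (∀ (Y' X' : Space S) (g : Y' ⟶ Y) (g' : X' ⟶ X) (f' : X' ⟶ Y'),
        M g.hom → IsPullback g'.hom f'.hom f.hom g.hom →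
        ∀ W' : Opens (Points Y'.obj), HoldsOn P f' (W' : Set (Points Y'.obj)) →
          (∀ V' : Opens (Points Y'.obj), HoldsOn P f' (V' : Set (Points Y'.obj)) → V' ≤ W') →
          (W' : Set (Points Y'.obj)) = Points.map g.hom ⁻¹' (W : Set (Points Y.obj))) := by
  have hsub : ∀ (Y' X' : Space S) (g : Y' ⟶ Y) (g' : X' ⟶ X) (f' : X' ⟶ Y'),
      M g.hom → IsPullback g'.hom f'.hom f.hom g.hom → P f'.hom →
      Set.range (Points.map g.hom) ⊆ goodSet M P f :=
    fun Y' X' g g' f' hg sq hf' y hy => ⟨Y', X', g, g', f', hg, sq, hf', hy⟩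
  have hWo := isOpen_goodSet (P := P) hM f
  refine ⟨⟨_, hWo⟩, holdsOn_goodSet hM hP f, fun V hV => ?_, hsub, ?_⟩
  · let V₀ : Space S := ⟨restrictSheaf Y.obj (V : Set (Points Y.obj)), isAlgSpace_restrictSheaf (F := Y.obj) (W := (V : Set (Points Y.obj))) Y.property V.2⟩
    let j : V₀ ⟶ Y := ObjectProperty.homMk (restrictι Y.obj (V : Set (Points Y.obj)))
    have hj : RepWith @IsOpenImmersion j.hom := repWith_restrictι V.2
    let X₀ : Space S := ⟨pullback f.hom j.hom, isAlgSpace_pullback _ _ X.property V₀.property Y.property⟩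
    have := hV V₀ X₀ j (ObjectProperty.homMk (pullback.fst f.hom j.hom))
      (ObjectProperty.homMk (pullback.snd f.hom j.hom)) hj (range_map_restrictι V.2) (IsPullback.of_hasPullback _ _)
    intro y hy
    refine hsub V₀ X₀ j (ObjectProperty.homMk (pullback.fst f.hom j.hom))
      (ObjectProperty.homMk (pullback.snd f.hom j.hom)) (hM.of_openImmersion _ V₀.property Y.property hj)
      (IsPullback.of_hasPullback _ _) this ?_
    exact (range_map_restrictι (F := Y.obj) V.2).ge hy
  · intro Y' X' g g' f' hg sq W' hW' hmax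
    refine Set.Subset.antisymm ?_ ?_
    · let W₂ : Space S := ⟨restrictSheaf Y'.obj (W' : Set (Points Y'.obj)), isAlgSpace_restrictSheaf (F := Y'.obj) (W := (W' : Set (Points Y'.obj))) Y'.property W'.2⟩
      let j : W₂ ⟶ Y' := ObjectProperty.homMk (restrictι Y'.obj (W' : Set (Points Y'.obj)))
      have hj : RepWith @IsOpenImmersion j.hom := repWith_restrictι W'.2
      let X₂ : Space S := ⟨pullback f'.hom j.hom, isAlgSpace_pullback _ _ X'.property W₂.property Y'.property⟩
      have h2 := hW' W₂ X₂ j (ObjectProperty.homMk (pullback.fst f'.hom j.hom))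
        (ObjectProperty.homMk (pullback.snd f'.hom j.hom)) hj (range_map_restrictι W'.2) (IsPullback.of_hasPullback _ _)
      intro y hy
      obtain ⟨w, rfl⟩ := (range_map_restrictι (F := Y'.obj) W'.2).ge hy
      refine hsub W₂ X₂ (j ≫ g) (ObjectProperty.homMk (pullback.fst f'.hom j.hom ≫ g'.hom))
        (ObjectProperty.homMk (pullback.snd f'.hom j.hom))
        (hM.comp j.hom g.hom W₂.property Y'.property Y.property (hM.of_openImmersion _ W₂.property Y'.property hj) hg)
        ((IsPullback.of_hasPullback f'.hom j.hom).paste_horiz sq) h2 ⟨w, ?_⟩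
      exact Points.map_comp j.hom g.hom w
    · have hopen : IsOpen (Points.map g.hom ⁻¹' goodSet M P f) := hWo.preimage (Points.continuous_map g.hom)
      refine fun y hy => hmax ⟨_, hopen⟩ ?_ hy
      intro W₃ X₃ j₃ j₃' f₃ hj₃ hr₃ sq₃
      let W₀ : Space S := ⟨restrictSheaf Y.obj (goodSet M P f), isAlgSpace_restrictSheaf (F := Y.obj) (W := goodSet M P f) Y.property hWo⟩
      let j₀ : W₀ ⟶ Y := ObjectProperty.homMk (restrictι Y.obj (goodSet M P f))
      have hj₀ : RepWith @IsOpenImmersion j₀.hom := repWith_restrictι hWo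
      let X₀ : Space S := ⟨pullback f.hom j₀.hom, isAlgSpace_pullback _ _ X.property W₀.property Y.property⟩
      have h0 := holdsOn_goodSet hM hP f W₀ X₀ j₀ (ObjectProperty.homMk (pullback.fst f.hom j₀.hom))
        (ObjectProperty.homMk (pullback.snd f.hom j₀.hom)) hj₀ (range_map_restrictι hWo) (IsPullback.of_hasPullback _ _)
      obtain ⟨a, ha⟩ := exists_factor_of_range_subset hj₀ (j₃.hom ≫ g.hom) (by
        rintro _ ⟨w, rfl⟩
        rw [Points.map_comp]
        refine (range_map_restrictι (F := Y.obj) hWo).ge ?_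
        exact hr₃.le ⟨w, rfl⟩)
      haveI := mono_of_repWith_le isOpenImmersion_le_monomorphisms hj₀
      have sqa : IsPullback (𝟙 W₃.obj) a (j₃.hom ≫ g.hom) j₀.hom :=
        IsPullback.of_isLimit' ⟨by rw [Category.id_comp, ha]⟩
          (PullbackCone.IsLimit.mk _ (fun c => c.fst) (fun c => Category.comp_id _)
            (fun c => by rw [← cancel_mono j₀.hom, Category.assoc, ha, c.condition])
            (fun c m h1 _ => by simpa using h1))
      have hMa : M a := hM.baseChange sqa W₃.property Y.property W₀.property W₃.property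
        (hM.comp j₃.hom g.hom W₃.property Y'.property Y.property (hM.of_openImmersion _ W₃.property Y'.property hj₃) hg)
      have big : IsPullback (j₃'.hom ≫ g'.hom) f₃.hom f.hom (a ≫ j₀.hom) := by
        rw [ha]; exact sq₃.paste_horiz sq
      refine hM.of_baseChange hP X₀.property W₀.property X₃.property W₃.property hMa
        (IsPullback.of_right (h₁₁ := pullback.lift (j₃'.hom ≫ g'.hom) (f₃.hom ≫ a)
          (big.w.trans (Category.assoc _ _ _).symm))
          (by rw [pullback.lift_fst]; exact big) (pullback.lift_snd _ _ _) (IsPullback.of_hasPullback f.hom j₀.hom)) h0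

theorem coverClass_fppf :
    CoverClass (S := S) fun _ _ f => LocP @Flat f ∧ LocP @LocallyOfFinitePresentation f where
  of_openImmersion j hA hB h :=
    ⟨locP_of_repWith hA.diag hB (repWith_mono (fun _ _ k (hk : IsOpenImmersion k) => (inferInstance : Flat k)) h),
      locP_of_repWith hA.diag hB
        (repWith_mono (fun _ _ k (hk : IsOpenImmersion k) => (inferInstance : LocallyOfFinitePresentation k)) h)⟩
  comp _ _ hA hB hC ha hb := ⟨locP_comp hA hB hC ha.1 hb.1, locP_comp hA hB hC ha.2 hb.2⟩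
  baseChange sq hA hB hB' _ ha := ⟨locP_baseChange sq hA hB hB' ha.1, locP_baseChange sq hA hB hB' ha.2⟩
  isOpenMap _ hA hB h := isOpenMap_of_locP_flat_lfp hA hB h.1 h.2

theorem coverClass_smooth : CoverClass (S := S) (LocP @Smooth) where
  of_openImmersion j hA hB h :=
    locP_of_repWith hA.diag hB (repWith_mono (fun _ _ k (hk : IsOpenImmersion k) => (inferInstance : Smooth k)) h)
  comp _ _ hA hB hC ha hb := locP_comp hA hB hC ha hb
  baseChange sq hA hB hB' _ ha := locP_baseChange sq hA hB hB' ha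
  isOpenMap a hA hB h := isOpenMap_of_locP_flat_lfp hA hB
    (fun _ _ x y k hx hy w => by haveI : Smooth k.left := h x y k hx hy w; exact (inferInstance : Flat k.left))
    (fun _ _ x y k hx hy w => by
      haveI : Smooth k.left := h x y k hx hy w
      exact (inferInstance : LocallyOfFinitePresentation k.left))

theorem coverClass_etale : CoverClass (S := S) IsEtaleMor where
  of_openImmersion j hA hB h := (isEtaleMor_iff_locP _ hA hB).2
    (locP_of_repWith hA.diag hB (repWith_mono (fun _ _ k (hk : IsOpenImmersion k) => (inferInstance : Etale k)) h))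
  comp _ _ hA hB hC ha hb := (isEtaleMor_iff_locP _ hA hC).2
    (locP_comp hA hB hC ((isEtaleMor_iff_locP _ hA hB).1 ha) ((isEtaleMor_iff_locP _ hB hC).1 hb))
  baseChange sq hA hB hB' hA' ha := (isEtaleMor_iff_locP _ hA' hB').2
    (locP_baseChange sq hA hB hB' ((isEtaleMor_iff_locP _ hA hB).1 ha))
  isOpenMap a hA hB h := isOpenMap_of_locP_flat_lfp hA hB
    (fun _ _ x y k hx hy w => by
      haveI : Etale k.left := (isEtaleMor_iff_locP _ hA hB).1 h x y k hx hy w
      exact (inferInstance : Flat k.left))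
    (fun _ _ x y k hx hy w => by
      haveI : Etale k.left := (isEtaleMor_iff_locP _ hA hB).1 h x y k hx hy w
      exact (inferInstance : LocallyOfFinitePresentation k.left))

end Groth.Agent.SpFP87
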