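import Groth.Agent.SpFP87.ThickOpen
import Groth.Agent.SpFP87.LargestOpen
import Groth.Agent.SpPts86.QCMor
/-!
Topological properties of morphisms of thickenings.
-/

set_option autoImplicit false
set_option linter.style.haveILetI false
set_option backward.isDefEq.respectTransparency false
universe u
open CategoryTheory CategoryTheory.Limits AlgebraicGeometry Opposite
open AlgSp Groth.Agent.SpPts86

namespace Groth.Agent.SpFP87

variable {S : Scheme.{u}}

theorem isHomeomorph_of_thick {X X' : Sp S} {i : X ⟶ X'} (hi : IsThickMor i) :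
    IsHomeomorph (Points.map i) :=
  ⟨Points.continuous_map i, fun _ hW => isOpen_image_of_thick hi hW,
    ⟨injective_map_of_thick hi, surjective_map_of_thick hi⟩⟩

theorem thick_baseChange {X X' Z P : Sp S} {i : X ⟶ X'} (hi : IsThickMor i) {fst : P ⟶ X} {snd : P ⟶ Z}
    {g : Z ⟶ X'} (sq : IsPullback fst snd i g) : IsThickMor snd := by
  haveI : thick.{u}.IsStableUnderBaseChange := inferInstanceAs
    ((@IsClosedImmersion ⊓ @Surjective : MorphismProperty Scheme.{u}).IsStableUnderBaseChange)
  exact (repWith_isStableUnderBaseChange thick).of_isPullback sq hi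

variable {X X' Y Y' : Sp S} {i : X ⟶ X'} {j : Y ⟶ Y'} {f : X ⟶ Y} {f' : X' ⟶ Y'}

theorem mono_of_thick (hi : IsThickMor i) : Mono i :=
  mono_of_repWith_le isClosedImmersion_le_monomorphisms (repWith_mono (fun _ _ _ h => h.1) hi)

/-- Base changes of the two morphisms of a morphism of thickenings differ by thickenings. -/
theorem exists_thick_baseChange_left (hi : IsThickMor i) (hj : IsThickMor j) (w : i ≫ f' = f ≫ j)
    {Z P : Sp S} {g : Z ⟶ Y} {fst : P ⟶ X} {snd : P ⟶ Z} (sq : IsPullback fst snd f g) :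
    ∃ m : P ⟶ pullback f' (g ≫ j), IsThickMor m ∧ m ≫ pullback.snd f' (g ≫ j) = snd := by
  haveI := mono_of_thick hj
  have sqj : IsPullback (g) (𝟙 Z) j (g ≫ j) :=
    (IsPullback.of_isLimit' ⟨by simp⟩ (PullbackCone.IsLimit.mk _ (fun c => c.fst) (fun c => Category.comp_id _)
      (fun c => by rw [← cancel_mono j, Category.assoc, c.condition])
      (fun c m h1 _ => by simpa using h1) : IsLimit (PullbackCone.mk (𝟙 Z) g (by simp : 𝟙 Z ≫ g ≫ j = g ≫ j)))).flip
  have big : IsPullback fst snd (i ≫ f') (g ≫ j) := by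
    rw [w]
    have := sq.paste_vert sqj
    rwa [Category.comp_id] at this
  let m : P ⟶ pullback f' (g ≫ j) := pullback.lift (fst ≫ i) snd (by rw [Category.assoc]; exact big.w)
  have hm : m ≫ pullback.snd f' (g ≫ j) = snd := pullback.lift_snd _ _ _
  refine ⟨m, ?_, hm⟩
  have sqm : IsPullback fst m i (pullback.fst f' (g ≫ j)) :=
    IsPullback.of_bot (by rw [hm]; exact big) (pullback.lift_fst _ _ _).symm
      (IsPullback.of_hasPullback f' (g ≫ j))
  exact thick_baseChange hi sqm

theorem exists_thick_baseChange_right (hi : IsThickMor i) (hj : IsThickMor j) (w : i ≫ f' = f ≫ j)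
    {Z P' : Sp S} {g : Z ⟶ Y'} {fst : P' ⟶ X'} {snd : P' ⟶ Z} (sq : IsPullback fst snd f' g) :
    ∃ (m : pullback f (pullback.fst j g) ⟶ P'), IsThickMor m ∧ IsThickMor (pullback.snd j g) ∧
      m ≫ snd = pullback.snd f (pullback.fst j g) ≫ pullback.snd j g := by
  have big : IsPullback (pullback.fst f (pullback.fst j g))
      (pullback.snd f (pullback.fst j g) ≫ pullback.snd j g) (i ≫ f') g := by
    rw [w]
    exact (IsPullback.of_hasPullback f (pullback.fst j g)).paste_vert (IsPullback.of_hasPullback j g)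
  let m : pullback f (pullback.fst j g) ⟶ P' := sq.lift (pullback.fst f (pullback.fst j g) ≫ i)
    (pullback.snd f (pullback.fst j g) ≫ pullback.snd j g) (by rw [Category.assoc]; exact big.w)
  have hm : m ≫ snd = pullback.snd f (pullback.fst j g) ≫ pullback.snd j g := sq.lift_snd _ _ _
  refine ⟨m, ?_, thick_baseChange hj (IsPullback.of_hasPullback j g), hm⟩
  have sqm : IsPullback (pullback.fst f (pullback.fst j g)) m i fst :=
    IsPullback.of_bot (by rw [hm]; exact big) (sq.lift_fst _ _ _).symm sq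
  exact thick_baseChange hi sqm

/-- A universal property invariant under thickenings agrees on morphisms of thickenings. -/
theorem univSp_thick_iff (hY : IsAlgSpace Y) (hY' : IsAlgSpace Y') (hi : IsThickMor i) (hj : IsThickMor j)
    (w : i ≫ f' = f ≫ j) {Q : MorphismProperty (Sp S)}
    (hQ : ∀ {A B A' B' : Sp S} (m : A' ⟶ A) (b : B' ⟶ B) (a : A ⟶ B) (a' : A' ⟶ B'),
      IsHomeomorph (Points.map m) → IsHomeomorph (Points.map b) → m ≫ a = a' ≫ b → (Q a' ↔ Q a)) :
    UnivSp Q f ↔ UnivSp Q f' := by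
  constructor
  · intro h Z P' hZ g fst snd sq
    obtain ⟨m, hm, hz, e⟩ := exists_thick_baseChange_right hi hj w sq
    exact (hQ m _ snd _ (isHomeomorph_of_thick hm) (isHomeomorph_of_thick hz) e).1
      (h (isAlgSpace_pullback j g hY hZ hY') _ _ _ (IsPullback.of_hasPullback _ _))
  · intro h Z P hZ g fst snd sq
    obtain ⟨m, hm, e⟩ := exists_thick_baseChange_left hi hj w sq
    exact (hQ m (𝟙 Z) _ snd (isHomeomorph_of_thick hm)
      (by
        rw [show Points.map (𝟙 Z) = id from funext fun x => Points.map_id x]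
        exact (Homeomorph.refl _).isHomeomorph) (by rw [Category.comp_id, e])).2
      (h hZ (g ≫ j) _ _ (IsPullback.of_hasPullback f' (g ≫ j)))

theorem quasiCompactMor_thick_iff (hX : IsAlgSpace X) (hX' : IsAlgSpace X') (hY : IsAlgSpace Y)
    (hY' : IsAlgSpace Y') (hi : IsThickMor i) (hj : IsThickMor j) (w : i ≫ f' = f ≫ j) :
    IsQuasiCompactMor f ↔ IsQuasiCompactMor f' := by
  constructor
  · intro h Z P' hZ hZc g fst snd sq
    obtain ⟨m, hm, hz, -⟩ := exists_thick_baseChange_right hi hj w sq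
    have hZ₀ := isAlgSpace_pullback j g hY hZ hY'
    haveI : CompactSpace (Points Z) := (isQuasiCompactSp_iff_compactSpace hZ).1 hZc
    haveI : CompactSpace (Points (pullback j g)) :=
      ((isHomeomorph_of_thick hz).homeomorph).symm.compactSpace
    have hP := h hZ₀ ((isQuasiCompactSp_iff_compactSpace hZ₀).2 inferInstance) _ _ _
      (IsPullback.of_hasPullback f (pullback.fst j g))
    haveI : CompactSpace (Points (pullback f (pullback.fst j g))) :=
      (isQuasiCompactSp_iff_compactSpace (isAlgSpace_pullback _ _ hX hZ₀ hY)).1 hP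
    exact (isQuasiCompactSp_iff_compactSpace (isAlgSpace_of_isPullback sq hX' hZ hY'.diag)).2
      ((isHomeomorph_of_thick hm).homeomorph).compactSpace
  · intro h Z P hZ hZc g fst snd sq
    obtain ⟨m, hm, -⟩ := exists_thick_baseChange_left hi hj w sq
    have hP' := h hZ hZc (g ≫ j) _ _ (IsPullback.of_hasPullback f' (g ≫ j))
    haveI : CompactSpace (Points (pullback f' (g ≫ j))) :=
      (isQuasiCompactSp_iff_compactSpace (isAlgSpace_pullback _ _ hX' hZ hY')).1 hP'
    exact (isQuasiCompactSp_iff_compactSpace (isAlgSpace_of_isPullback sq hX hZ hY.diag)).2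
      ((isHomeomorph_of_thick hm).homeomorph).symm.compactSpace

theorem map_comp_eq {A B C : Sp S} (a : A ⟶ B) (b : B ⟶ C) :
    Points.map (a ≫ b) = Points.map b ∘ Points.map a := funext fun x => Points.map_comp a b x

theorem comp_eq_of_square {A B A' B' : Sp S} {m : A' ⟶ A} {b : B' ⟶ B} {a : A ⟶ B} {a' : A' ⟶ B'}
    (e : m ≫ a = a' ≫ b) : Points.map a ∘ Points.map m = Points.map b ∘ Points.map a' := by
  rw [← map_comp_eq, ← map_comp_eq, e]

theorem isOpenMap_conj {A B A' B' : Type*} [TopologicalSpace A] [TopologicalSpace B] [TopologicalSpace A']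
    [TopologicalSpace B'] {m : A' → A} {b : B' → B} {a : A → B} {a' : A' → B'} (hm : IsHomeomorph m)
    (hb : IsHomeomorph b) (e : a ∘ m = b ∘ a') :
    (IsOpenMap a' ↔ IsOpenMap a) ∧ (IsClosedMap a' ↔ IsClosedMap a) ∧
      (Function.Injective a' ↔ Function.Injective a) ∧ (Function.Surjective a' ↔ Function.Surjective a) := by
  obtain ⟨M, rfl⟩ : ∃ M : A' ≃ₜ A, (M : A' → A) = m := ⟨hm.homeomorph, rfl⟩
  obtain ⟨B₀, rfl⟩ : ∃ B₀ : B' ≃ₜ B, (B₀ : B' → B) = b := ⟨hb.homeomorph, rfl⟩
  have ha' : a' = B₀.symm ∘ a ∘ M := by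
    funext x
    have := congrFun e x
    simp only [Function.comp_apply] at this ⊢
    rw [this, Homeomorph.symm_apply_apply]
  have ha : a = B₀ ∘ a' ∘ M.symm := by
    funext x
    have := congrFun e (M.symm x)
    simp only [Function.comp_apply, Homeomorph.apply_symm_apply] at this ⊢
    exact this
  refine ⟨⟨fun h => ?_, fun h => ?_⟩, ⟨fun h => ?_, fun h => ?_⟩, ⟨fun h => ?_, fun h => ?_⟩,
    ⟨fun h => ?_, fun h => ?_⟩⟩
  all_goals first
    | (rw [ha]; exact B₀.isOpenMap.comp (h.comp M.symm.isOpenMap))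
    | (rw [ha']; exact B₀.symm.isOpenMap.comp (h.comp M.isOpenMap))
    | (rw [ha]; exact B₀.isClosedMap.comp (h.comp M.symm.isClosedMap))
    | (rw [ha']; exact B₀.symm.isClosedMap.comp (h.comp M.isClosedMap))
    | (rw [ha]; exact B₀.injective.comp (h.comp M.symm.injective))
    | (rw [ha']; exact B₀.symm.injective.comp (h.comp M.injective))
    | (rw [ha]; exact B₀.surjective.comp (h.comp M.symm.surjective))
    | (rw [ha']; exact B₀.symm.surjective.comp (h.comp M.surjective))

theorem thickening_topological_iff (hX : IsAlgSpace X) (hX' : IsAlgSpace X') (hY : IsAlgSpace Y)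
    (hY' : IsAlgSpace Y') (hi : IsThickMor i) (hj : IsThickMor j) (w : i ≫ f' = f ≫ j) :
    (IsSurjectiveMor f ↔ IsSurjectiveMor f') ∧ (IsQuasiCompactMor f ↔ IsQuasiCompactMor f') ∧
    (IsUnivClosedMor f ↔ IsUnivClosedMor f') ∧ (IsUnivInjectiveMor f ↔ IsUnivInjectiveMor f') ∧
    (IsUnivOpenMor f ↔ IsUnivOpenMor f') :=
  ⟨(isOpenMap_conj (isHomeomorph_of_thick hi) (isHomeomorph_of_thick hj) (comp_eq_of_square w)).2.2.2,
    quasiCompactMor_thick_iff hX hX' hY hY' hi hj w,
    univSp_thick_iff hY hY' hi hj w fun _ _ _ _ hm hb e => (isOpenMap_conj hm hb (comp_eq_of_square e)).2.1,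
    univSp_thick_iff hY hY' hi hj w fun _ _ _ _ hm hb e => (isOpenMap_conj hm hb (comp_eq_of_square e)).2.2.1,
    univSp_thick_iff hY hY' hi hj w fun _ _ _ _ hm hb e => (isOpenMap_conj hm hb (comp_eq_of_square e)).1⟩

end Groth.Agent.SpFP87
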