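import Groth.Agent.SpFP87.ThickScheme
import Groth.Agent.SpFP87.ThickTop
import Groth.Agent.S1305
/-!
Affine and integral morphisms of thickenings.
-/

set_option autoImplicit false
set_option linter.style.haveILetI false
set_option backward.isDefEq.respectTransparency false
universe u
open CategoryTheory CategoryTheory.Limits AlgebraicGeometry
open AlgSp Groth.Agent.SpPts86

namespace Groth.Agent.SpFP87

variable {S : Scheme.{u}} {X X' Y Y' : Sp S} {i : X ⟶ X'} {j : Y ⟶ Y'} {f : X ⟶ Y} {f' : X' ⟶ Y'}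

/-- The source of a thickening of a scheme is a scheme. -/
theorem exists_scheme_thick_source {P : Sp S} {T : Over S} {m : P ⟶ (yon S).obj T} (hm : IsThickMor m) :
    ∃ (P₀ : Over S) (m₀ : P₀ ⟶ T) (e : (yon S).obj P₀ ≅ P), e.hom ≫ m = (yon S).map m₀ ∧
      IsClosedImmersion m₀.left ∧ Surjective m₀.left := by
  obtain ⟨P₀, m₀, fst, sq⟩ := hm.1 (𝟙 ((yon S).obj T))
  haveI : IsIso fst := sq.isIso_fst_of_isIso
  exact ⟨P₀, m₀, asIso fst, by rw [asIso_hom, sq.w, Category.comp_id],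
    (hm.2 _ fst m₀ sq).1, (hm.2 _ fst m₀ sq).2⟩

/-- From the thin morphism to the thick one, on an affine chart. -/
theorem exists_affine_of_thick_left (hi : IsThickMor i) (hj : IsThickMor j) (w : i ≫ f' = f ≫ j)
    (hX' : IsAlgSpace X') (hY' : IsAlgSpace Y') (Q : MorphismProperty Scheme.{u})
    (hf : ∀ ⦃Z : Over S⦄, IsAffine Z.left → ∀ g : (yon S).obj Z ⟶ Y,
      ∃ (W : Over S) (k : W ⟶ Z) (fst : (yon S).obj W ⟶ X),
        IsPullback fst ((yon S).map k) f g ∧ IsAffine W.left ∧ Q k.left)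
    {Z : Over S} (hZ : IsAffine Z.left) (g : (yon S).obj Z ⟶ Y') :
    ∃ (W' : Over S) (k' : W' ⟶ Z) (fst : (yon S).obj W' ⟶ X'),
      IsPullback fst ((yon S).map k') f' g ∧ IsAffine W'.left ∧
        ∃ (Z₀ : Over S) (ζ : Z₀ ⟶ Z) (W : Over S) (μ : W ⟶ W') (k : W ⟶ Z₀),
          MoreMor.IsThickening ζ.left ∧ MoreMor.IsThickening μ.left ∧ Q k.left ∧ μ ≫ k' = k ≫ ζ := by
  obtain ⟨m, hm, hjg, hmw⟩ := exists_thick_baseChange_right hi hj w (IsPullback.of_hasPullback f' g)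
  obtain ⟨Z₀, ζ, e₀, he₀, hζc, hζs⟩ := exists_scheme_thick_source hjg
  haveI := hZ
  haveI : IsAffine Z₀.left := isAffine_of_isAffineHom ζ.left
  obtain ⟨W, k, fstW, sqW, hW, hk⟩ := hf (Z := Z₀) inferInstance (e₀.hom ≫ pullback.fst j g)
  have sq' : IsPullback (pullback.fst f (pullback.fst j g))
      (pullback.snd f (pullback.fst j g) ≫ e₀.inv) f (e₀.hom ≫ pullback.fst j g) :=
    (IsPullback.of_hasPullback f (pullback.fst j g)).of_iso (Iso.refl _) (Iso.refl _) e₀.symm (Iso.refl _)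
      (by simp) (by simp) (by simp) (by simp)
  obtain ⟨eW, heW⟩ : ∃ eW : (yon S).obj W ≅ pullback f (pullback.fst j g),
      eW.hom ≫ pullback.snd f (pullback.fst j g) ≫ e₀.inv = (yon S).map k :=
    ⟨sqW.isoIsPullback _ _ sq', sqW.isoIsPullback_hom_snd _ _ sq'⟩
  have hm₁ : IsThickMor (eW.hom ≫ m) := thick_iso_comp hm eW
  haveI := hW
  obtain ⟨W', hW', ⟨e'⟩⟩ := ThickAffine.exists_affine_of_thick hm₁ (isAlgSpace_pullback f' g hX' (IsAlgSpace.yon_obj Z) hY')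
  obtain ⟨k', hk'⟩ := (yon S).map_surjective (e'.hom ≫ pullback.snd f' g)
  obtain ⟨μ, hμ⟩ := (yon S).map_surjective (eW.hom ≫ m ≫ e'.inv)
  refine ⟨W', k', e'.hom ≫ pullback.fst f' g, ?_, hW', Z₀, ζ, W, μ, k, ⟨hζc, hζs⟩, ?_, hk, ?_⟩
  · rw [hk']
    exact (IsPullback.of_hasPullback f' g).of_iso e'.symm (Iso.refl _) (Iso.refl _) (Iso.refl _)
      (by simp) (by simp) (by simp) (by simp)
  · have h1 : IsThickMor ((yon S).map μ) := by
      rw [hμ]
      exact thick_baseChange hm₁ (IsPullback.of_horiz_isIso ⟨by simp⟩ :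
        IsPullback (𝟙 _) (eW.hom ≫ m ≫ e'.inv) (eW.hom ≫ m) e'.hom)
    exact (repWith_yon_map_iff thick μ).1 h1
  · refine (yon S).map_injective ?_
    rw [Functor.map_comp, Functor.map_comp, hk', ← heW, ← he₀, hμ]
    simp only [Category.assoc, Iso.inv_hom_id_assoc, hmw]

/-- From the thick morphism to the thin one, on an affine chart. -/
theorem exists_affine_of_thick_right (hi : IsThickMor i) (hj : IsThickMor j) (w : i ≫ f' = f ≫ j)
    (Q : MorphismProperty Scheme.{u})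
    (hf' : ∀ ⦃Z : Over S⦄, IsAffine Z.left → ∀ g : (yon S).obj Z ⟶ Y',
      ∃ (W : Over S) (k : W ⟶ Z) (fst : (yon S).obj W ⟶ X'),
        IsPullback fst ((yon S).map k) f' g ∧ IsAffine W.left ∧ Q k.left)
    {Z : Over S} (hZ : IsAffine Z.left) (g : (yon S).obj Z ⟶ Y) :
    ∃ (W : Over S) (k : W ⟶ Z) (fst : (yon S).obj W ⟶ X),
      IsPullback fst ((yon S).map k) f g ∧ IsAffine W.left ∧
        ∃ (W' : Over S) (μ : W ⟶ W') (k' : W' ⟶ Z), MoreMor.IsThickening μ.left ∧ Q k'.left ∧ μ ≫ k' = k := by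
  obtain ⟨W', k', fst', sq', hW', hk'⟩ := hf' hZ (g ≫ j)
  obtain ⟨m, hm, hmw⟩ := exists_thick_baseChange_left hi hj w (IsPullback.of_hasPullback f g)
  obtain ⟨e, -, he2⟩ : ∃ e : pullback f' (g ≫ j) ≅ (yon S).obj W', e.hom ≫ fst' = pullback.fst f' (g ≫ j) ∧
      e.hom ≫ (yon S).map k' = pullback.snd f' (g ≫ j) :=
    ⟨(IsPullback.of_hasPullback f' (g ≫ j)).isoIsPullback _ _ sq',
      IsPullback.isoIsPullback_hom_fst _ _ _ _, IsPullback.isoIsPullback_hom_snd _ _ _ _⟩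
  have hm₁ : IsThickMor (m ≫ e.hom) := thick_baseChange hm (IsPullback.of_horiz_isIso ⟨by simp⟩ :
    IsPullback (𝟙 _) (m ≫ e.hom) m e.inv)
  obtain ⟨W, μ, eW, heW, hμc, hμs⟩ := exists_scheme_thick_source hm₁
  haveI := hW'
  refine ⟨W, μ ≫ k', eW.hom ≫ pullback.fst f g, ?_, isAffine_of_isAffineHom μ.left, W', μ, k', ⟨hμc, hμs⟩, hk', rfl⟩
  have h2 : (yon S).map (μ ≫ k') = eW.hom ≫ pullback.snd f g := by
    rw [Functor.map_comp, ← heW, ← hmw, ← he2]
    simp only [Category.assoc]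
  rw [h2]
  exact (IsPullback.of_hasPullback f g).of_iso eW.symm (Iso.refl _) (Iso.refl _) (Iso.refl _)
    (by simp) (by simp) (by simp) (by simp)

theorem thick_affine_iff (hi : IsThickMor i) (hj : IsThickMor j) (w : i ≫ f' = f ≫ j)
    (hX' : IsAlgSpace X') (hY' : IsAlgSpace Y') :
    (IsAffineMor f ↔ IsAffineMor f') ∧ (IsIntegralMor f ↔ IsIntegralMor f') := by
  refine ⟨⟨fun h Z hZ g => ?_, fun h Z hZ g => ?_⟩, fun h Z hZ g => ?_, fun h Z hZ g => ?_⟩
  · obtain ⟨W', k', fst, sq, hW', -⟩ := exists_affine_of_thick_left hi hj w hX' hY' ⊤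
      (fun Z hZ g => by obtain ⟨W, k, fst, sq, hW⟩ := h hZ g; exact ⟨W, k, fst, sq, hW, trivial⟩) hZ g
    exact ⟨W', k', fst, sq, hW'⟩
  · obtain ⟨W, k, fst, sq, hW, -⟩ := exists_affine_of_thick_right hi hj w ⊤
      (fun Z hZ g => by obtain ⟨W, k, fst, sq, hW⟩ := h hZ g; exact ⟨W, k, fst, sq, hW, trivial⟩) hZ g
    exact ⟨W, k, fst, sq, hW⟩
  · obtain ⟨W', k', fst, sq, hW', Z₀, ζ, W, μ, k, hζ, hμ, hk, hwk⟩ :=
      exists_affine_of_thick_left hi hj w hX' hY' @IsIntegralHom (fun Z hZ g => h hZ g) hZ g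
    exact ⟨W', k', fst, sq, hW', (Groth.Agent.S1305.result μ.left ζ.left k.left k'.left hμ hζ
      (congrArg CommaMorphism.left hwk)).1 hk⟩
  · obtain ⟨W, k, fst, sq, hW, W', μ, k', hμ, hk', hwk⟩ :=
      exists_affine_of_thick_right hi hj w @IsIntegralHom (fun Z hZ g => h hZ g) hZ g
    haveI : IsClosedImmersion μ.left := hμ.1
    haveI : IsIntegralHom k'.left := hk'
    refine ⟨W, k, fst, sq, hW, ?_⟩
    rw [← hwk]
    exact inferInstanceAs (IsIntegralHom (μ.left ≫ k'.left))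

end Groth.Agent.SpFP87
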