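import Groth.Agent.SpFP87.RepLocT
import Groth.Agent.SpPts86.NormFormal
import Groth.Agent.SpPts86.ZarGlue
import Groth.Agent.SpPts86.Quot
import Groth.Prelude.Def_AlgSpMor5
/-!
Relative normalizations: functoriality, and the predicate of being universal after a base change.
-/

set_option autoImplicit false
set_option linter.style.haveILetI false
set_option backward.isDefEq.respectTransparency false
universe u
open CategoryTheory CategoryTheory.Limits AlgebraicGeometry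
open AlgSp
open Groth.Agent.SpPts86

namespace Groth.Agent.SpFP87

variable {S : Scheme.{u}}

theorem isIntegralMor_of_isPullback {P X Y Z : Sp S} {fst : P ⟶ X} {snd : P ⟶ Y} {f : X ⟶ Z} {g : Y ⟶ Z}
    (sq : IsPullback fst snd f g) (hf : IsIntegralMor f) : IsIntegralMor snd :=
  (isIntegralMor_iff _).2 ((repWith_isStableUnderBaseChange _).of_isPullback sq ((isIntegralMor_iff _).1 hf))

theorem etale_surj_of_isPullback {P X Y Z : Sp S} {fst : P ⟶ X} {snd : P ⟶ Y} {f : X ⟶ Z} {g : Y ⟶ Z}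
    (sq : IsPullback fst snd f g) (h1 : RepWith @Etale g) (h2 : RepWith @Surjective g) :
    RepWith @Etale fst ∧ RepWith @Surjective fst :=
  ⟨(repWith_isStableUnderBaseChange _).of_isPullback sq.flip h1,
    (repWith_isStableUnderBaseChange _).of_isPullback sq.flip h2⟩

section Formal

variable {F G X' : Sp S} {f : F ⟶ G} {ν : X' ⟶ G} {f' : F ⟶ X'}

/-- A relative normalization maps uniquely to integral spaces over other bases. -/
theorem lift₂ (hn : IsRelNormalization f ν f') (hG : IsAlgSpace G) {Z G₂ : Sp S} (hZ : IsAlgSpace Z)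
    (hG₂ : IsAlgSpace G₂) {π : Z ⟶ G₂} (hπ : IsIntegralMor π) (a : G ⟶ G₂) (g : F ⟶ Z)
    (w : g ≫ π = f ≫ a) : ∃! m : X' ⟶ Z, f' ≫ m = g ∧ m ≫ π = ν ≫ a := by
  have sq : IsPullback (pullback.fst π a) (pullback.snd π a) π a := IsPullback.of_hasPullback π a
  obtain ⟨h, ⟨h1, h2⟩, hu⟩ := hn.2.2 (isAlgSpace_pullback π a hZ hG hG₂) (pullback.snd π a) (pullback.lift g f w)
    (isIntegralMor_of_isPullback sq hπ) (pullback.lift_snd _ _ _)
  refine ⟨h ≫ pullback.fst π a, ⟨?_, ?_⟩, fun m ⟨m1, m2⟩ => ?_⟩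
  · rw [← Category.assoc, h1, pullback.lift_fst]
  · rw [Category.assoc, pullback.condition, reassoc_of% h2]
  · rw [← hu (pullback.lift m ν m2) ⟨?_, pullback.lift_snd _ _ _⟩, pullback.lift_fst]
    refine pullback.hom_ext ?_ ?_
    · rw [Category.assoc, pullback.lift_fst, m1, pullback.lift_fst]
    · rw [Category.assoc, pullback.lift_snd, hn.1, pullback.lift_snd]

theorem hom_ext₂ (hn : IsRelNormalization f ν f') (hG : IsAlgSpace G) {Z G₂ : Sp S} (hZ : IsAlgSpace Z)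
    (hG₂ : IsAlgSpace G₂) {π : Z ⟶ G₂} (hπ : IsIntegralMor π) (a : G ⟶ G₂) {m m' : X' ⟶ Z}
    (h1 : m ≫ π = ν ≫ a) (h2 : m' ≫ π = ν ≫ a) (h3 : f' ≫ m = f' ≫ m') : m = m' :=
  (lift₂ hn hG hZ hG₂ hπ a (f' ≫ m') (by rw [Category.assoc, h2, ← Category.assoc, hn.1])).unique
    ⟨h3, h1⟩ ⟨rfl, h2⟩

theorem isRelNormalization_of_iso (hn : IsRelNormalization f ν f') {F₁ X'₁ : Sp S} (eF : F₁ ≅ F)
    (eX : X' ≅ X'₁) {f₁ : F₁ ⟶ G} {ν₁ : X'₁ ⟶ G} {f'₁ : F₁ ⟶ X'₁} (w₁ : eF.hom ≫ f = f₁)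
    (w₂ : eX.hom ≫ ν₁ = ν) (w₃ : eF.hom ≫ f' ≫ eX.hom = f'₁) : IsRelNormalization f₁ ν₁ f'₁ := by
  refine ⟨?_, ?_, fun Z hZ π g hπ hg => ?_⟩
  · rw [← w₃, Category.assoc, Category.assoc, w₂, hn.1, w₁]
  · have sq : IsPullback eX.inv ν₁ ν (𝟙 G) :=
      IsPullback.of_horiz_isIso ⟨by rw [← w₂, Iso.inv_hom_id_assoc, Category.comp_id]⟩
    exact isIntegralMor_of_isPullback sq hn.2.1
  · obtain ⟨h, ⟨h1, h2⟩, hu⟩ := hn.2.2 hZ π (eF.inv ≫ g) hπ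
      (by rw [Category.assoc, hg, ← w₁, Iso.inv_hom_id_assoc])
    refine ⟨eX.inv ≫ h, ⟨?_, ?_⟩, fun m ⟨m1, m2⟩ => ?_⟩
    · rw [← w₃, Category.assoc, Category.assoc, Iso.hom_inv_id_assoc, h1, Iso.hom_inv_id_assoc]
    · rw [Category.assoc, h2, ← w₂, Iso.inv_hom_id_assoc]
    · rw [← hu (eX.hom ≫ m) ⟨by rw [← m1, ← w₃]; simp, by rw [Category.assoc, m2, w₂]⟩, Iso.inv_hom_id_assoc]

end Formal

variable {X Y X' : Sp S}

/-- After base change along `j`, `(ν, f')` is the relative normalization of `f`. -/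
def UnivBC (f : Y ⟶ X) (ν : X' ⟶ X) (f' : Y ⟶ X') {T : Sp S} (j : T ⟶ X) : Prop :=
  ∀ ⦃YT NT : Sp S⦄ (a : YT ⟶ Y) (fT : YT ⟶ T) (b : NT ⟶ X') (νT : NT ⟶ T),
    IsPullback a fT f j → IsPullback b νT ν j → ∀ f'T : YT ⟶ NT, f'T ≫ νT = fT → f'T ≫ b = a ≫ f' →
      IsRelNormalization fT νT f'T

variable {f : Y ⟶ X} {ν : X' ⟶ X} {f' : Y ⟶ X'}

theorem univBC_of_square {T : Sp S} {j : T ⟶ X} {YT NT : Sp S} {a : YT ⟶ Y} {fT : YT ⟶ T} {b : NT ⟶ X'}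
    {νT : NT ⟶ T} (sq₁ : IsPullback a fT f j) (sq₂ : IsPullback b νT ν j) {f'T : YT ⟶ NT}
    (e : f'T ≫ b = a ≫ f') (hn : IsRelNormalization fT νT f'T) : UnivBC f ν f' j := by
  intro YT₁ NT₁ a₁ fT₁ b₁ νT₁ sq₁' sq₂' f'T₁ e₁ e₂
  refine isRelNormalization_of_iso hn (sq₁'.isoIsPullback _ _ sq₁) (sq₂.isoIsPullback _ _ sq₂') ?_ ?_ ?_
  · simp
  · simp
  · refine sq₂'.hom_ext ?_ ?_
    · simp [e, e₂]
    · simp [hn.1, e₁]

/-- Base change squares compose. -/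
theorem UnivBC.comp {T : Sp S} {W : Sp S} {w : W ⟶ X} {q : T ⟶ W} (h : UnivBC f ν f' (q ≫ w))
    {YW NW : Sp S} {a : YW ⟶ Y} {fW : YW ⟶ W} {b : NW ⟶ X'} {νW : NW ⟶ W} (sq₁ : IsPullback a fW f w)
    (sq₂ : IsPullback b νW ν w) {f'W : YW ⟶ NW} (e : f'W ≫ b = a ≫ f') : UnivBC fW νW f'W q :=
  fun YT NT a' fT b' νT s₁ s₂ f'T e₁ e₂ =>
    h (a' ≫ a) fT (b' ≫ b) νT (s₁.paste_horiz sq₁) (s₂.paste_horiz sq₂) f'T e₁
      (by rw [reassoc_of% e₂, e, Category.assoc])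

theorem UnivBC.of_comp {T W : Sp S} {w : W ⟶ X} {q : T ⟶ W}
    {YW NW : Sp S} {a : YW ⟶ Y} {fW : YW ⟶ W} {b : NW ⟶ X'} {νW : NW ⟶ W} (sq₁ : IsPullback a fW f w)
    (sq₂ : IsPullback b νW ν w) {f'W : YW ⟶ NW} (e₀ : f'W ≫ νW = fW) (e : f'W ≫ b = a ≫ f')
    (h : UnivBC fW νW f'W q) : UnivBC f ν f' (q ≫ w) := by
  let f'T : pullback fW q ⟶ pullback νW q := pullback.lift (pullback.fst fW q ≫ f'W) (pullback.snd fW q)
    (by rw [Category.assoc, e₀, pullback.condition])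
  refine univBC_of_square ((IsPullback.of_hasPullback fW q).paste_horiz sq₁)
    ((IsPullback.of_hasPullback νW q).paste_horiz sq₂) (f'T := f'T) ?_
    (h _ _ _ _ (IsPullback.of_hasPullback fW q) (IsPullback.of_hasPullback νW q) f'T
      (pullback.lift_snd _ _ _) (pullback.lift_fst _ _ _))
  rw [← Category.assoc, pullback.lift_fst, Category.assoc, e, Category.assoc]

/-- The predicate only depends on the normalization up to isomorphism. -/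
theorem UnivBC.of_iso {T : Sp S} {j : T ⟶ X} (h : UnivBC f ν f' j) {X'₁ : Sp S} {ν₁ : X'₁ ⟶ X}
    {f'₁ : Y ⟶ X'₁} (e : X' ≅ X'₁) (w₁ : e.hom ≫ ν₁ = ν) (w₂ : f' ≫ e.hom = f'₁) : UnivBC f ν₁ f'₁ j := by
  intro YT NT a fT b νT s₁ s₂ f'T e₁ e₂
  refine h a fT (b ≫ e.inv) νT s₁ ?_ f'T e₁ (by rw [reassoc_of% e₂, ← w₂]; simp)
  exact s₂.of_iso (Iso.refl _) e.symm (Iso.refl _) (Iso.refl _) (by simp) (by simp)
    (by simp [← w₁]) (by simp)

end Groth.Agent.SpFP87
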