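import Groth.Agent.SpFP87.NormAffine
import Groth.Agent.SpFP87.NormBC
/-!
The normalization of an affine scheme in an algebraic space is stable under smooth base change.
-/

set_option autoImplicit false
set_option linter.style.haveILetI false
set_option backward.isDefEq.respectTransparency false
universe u
open CategoryTheory CategoryTheory.Limits AlgebraicGeometry TensorProduct
open AlgSp
open Groth.Agent.SpPts86

namespace Groth.Agent.SpFP87

open Torsor

variable {S : Scheme.{u}} {A : Type u} [CommRing A] (str : Spec (CommRingCat.of A) ⟶ S)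

/-- The spectrum of a tensor product is the fibre product. -/
theorem isPullback_pt_tensor (A₂ B : Type u) [CommRing A₂] [Algebra A A₂] [CommRing B] [Algebra A B] :
    IsPullback ((yon S).map (sp str (Algebra.TensorProduct.includeRight : B →ₐ[A] A₂ ⊗[A] B)))
      ((yon S).map (sp str (Algebra.TensorProduct.includeLeft : A₂ →ₐ[A] A₂ ⊗[A] B)))
      ((yon S).map (specChg (algebraMap A B) str)) ((yon S).map (specChg (algebraMap A A₂) str)) :=
  (IsPullback.of_map (Over.forget S) (f := sp str (Algebra.TensorProduct.includeRight : B →ₐ[A] A₂ ⊗[A] B))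
    (g := sp str (Algebra.TensorProduct.includeLeft : A₂ →ₐ[A] A₂ ⊗[A] B))
    (h := specChg (algebraMap A B) str) (i := specChg (algebraMap A A₂) str)
    (Over.OverMorphism.ext
      (isPullback_SpecMap_of_isPushout _ _ _ _ (CommRingCat.isPushout_tensorProduct A A₂ B)).w.symm)
    (isPullback_SpecMap_of_isPushout _ _ _ _ (CommRingCat.isPushout_tensorProduct A A₂ B)).flip).map (yon S)

/-- An integral space over an affine scheme is affine. -/
theorem exists_affine_of_integral {A₂ : Type u} [CommRing A₂] [Algebra A A₂] {Z : Sp S}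
    {π : Z ⟶ (yon S).obj (pt str A₂)} (hπ : IsIntegralMor π) :
    ∃ (D : Type u) (_ : CommRing D) (_ : Algebra A D) (ι : A₂ →ₐ[A] D) (e : (yon S).obj (pt str D) ≅ Z),
      ι.toRingHom.IsIntegral ∧ e.hom ≫ π = (yon S).map (sp str ι) := by
  haveI : IsAffine (pt str A₂).left := inferInstanceAs (IsAffine (Spec (CommRingCat.of A₂)))
  obtain ⟨W, i, fst, sq, hW, hi⟩ := hπ (Z := pt str A₂) ‹_› (𝟙 _)
  haveI := hW
  haveI : IsIso fst := sq.isIso_fst_of_isIso
  obtain ⟨ψ, hψ⟩ := Spec.map_surjective (W.left.isoSpec.inv ≫ i.left :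
    Spec Γ(W.left, ⊤) ⟶ Spec (CommRingCat.of A₂))
  letI : Algebra A Γ(W.left, ⊤) := (ψ.hom.comp (algebraMap A A₂)).toAlgebra
  let ι : A₂ →ₐ[A] Γ(W.left, ⊤) := { ψ.hom with commutes' := fun _ => rfl }
  let eW : pt str Γ(W.left, ⊤) ≅ W := Over.isoMk W.left.isoSpec.symm (by
    show W.left.isoSpec.inv ≫ W.hom = Spec.map (CommRingCat.ofHom (algebraMap A A₂) ≫ ψ) ≫ str
    rw [← Over.w i, Spec.map_comp, hψ]
    simp only [Category.assoc, Over.mk_hom])
  refine ⟨Γ(W.left, ⊤), inferInstance, inferInstance, ι, (yon S).mapIso eW ≪≫ asIso fst, ?_, ?_⟩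
  · have : IsIntegralHom (Spec.map ψ) := by
      rw [hψ]; haveI := hi; infer_instance
    exact IsIntegralHom.SpecMap_iff.1 this
  · simp only [Iso.trans_hom, Functor.mapIso_hom, asIso_hom, Category.assoc]
    rw [sq.w, Category.comp_id, ← Functor.map_comp]
    exact congrArg _ (Over.OverMorphism.ext hψ.symm)

variable {Y : Sp S} {f : Y ⟶ (yon S).obj (Over.mk str)}

/-- Existence of the normalization of an affine scheme, universal after smooth base change; its generic
points come from the chart of the source. -/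
theorem exists_normalization_affine' (P : NormPres str f) :
    ∃ (N : Over S) (νA : N ⟶ Over.mk str) (f'A : Y ⟶ (yon S).obj N),
      IsAffine N.left ∧ IsIntegralHom νA.left ∧ f'A ≫ (yon S).map νA = f ∧
      (∃ n : pt str P.B ⟶ N, (yon S).map n = P.p ≫ f'A ∧
        ∀ z : ↥N.left, (∀ w, w ⤳ z → w = z) → z ∈ Set.range n.left) ∧
      ∀ (A₂ : Type u) [CommRing A₂] [Algebra A A₂] [Algebra.Smooth A A₂],
        UnivBC f ((yon S).map νA) f'A ((yon S).map (specChg (algebraMap A A₂) str)) := by
  classical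
  have hl : LocLift P.p := locLift_of_atlas P.hp P.hps
  haveI := hl.epi
  obtain ⟨f'A, hf'⟩ := exists_desc hl ((yon S).map (sp str (normVal P.φ P.ψ))) (fun W l l' hll => by
    rw [← Functor.map_comp, ← Functor.map_comp]
    congr 1
    have hc := P.cover W l l' hll
    choose i O k ht hk1 hk2 using hc
    apply Over.OverMorphism.ext
    refine Scheme.hom_ext_of_forall _ _ fun t => ⟨O t, ht t, ?_⟩
    show (O t).ι ≫ l.left ≫ (sp str (normVal P.φ P.ψ)).left = (O t).ι ≫ l'.left ≫ (sp str (normVal P.φ P.ψ)).left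
    rw [← reassoc_of% hk1 t, ← reassoc_of% hk2 t, ← Over.comp_left, ← Over.comp_left, ← sp_comp, ← sp_comp]
    have e : (P.φ (i t)).comp (normVal P.φ P.ψ) = (P.ψ (i t)).comp (normVal P.φ P.ψ) :=
      AlgHom.ext fun x => (mem_eqSub P.φ P.ψ).1 x.1.2 (i t)
    rw [e])
  refine ⟨pt str (NormAlg P.φ P.ψ), specChg (algebraMap A (NormAlg P.φ P.ψ)) str, f'A,
    inferInstanceAs (IsAffine (Spec _)), ?_, ?_, ⟨sp str (normVal P.φ P.ψ), hf'.symm, fun z hz => ?_⟩, ?_⟩
  · exact IsIntegralHom.SpecMap_iff.2 (fun x => (Algebra.IsIntegral.isIntegral (R := A) x))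
  · rw [← cancel_epi P.p, ← Category.assoc, hf', P.hpf, ← Functor.map_comp, sp_toA]
  · have hmin : z.asIdeal ∈ minimalPrimes (NormAlg P.φ P.ψ) := by
      refine ⟨⟨z.2, bot_le⟩, fun I hI hle => ?_⟩
      have hle' : (⟨I, hI.1⟩ : PrimeSpectrum (NormAlg P.φ P.ψ)) ≤ z := hle
      have e := hz _ ((PrimeSpectrum.le_iff_specializes _ _).1 hle')
      exact (congrArg PrimeSpectrum.asIdeal e).ge
    obtain ⟨q, hq, hq'⟩ := Ideal.exists_comap_eq_of_mem_minimalPrimes_of_injective
      (f := (normVal P.φ P.ψ).toRingHom) (normVal_injective _ _) z.asIdeal hmin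
    exact ⟨⟨q, hq⟩, PrimeSpectrum.ext hq'⟩
  intro A₂ _ _ _
  have sqN := isPullback_pt_tensor str A₂ (NormAlg P.φ P.ψ)
  have sqB := isPullback_pt_tensor str A₂ P.B
  let j := (yon S).map (specChg (algebraMap A A₂) str)
  let f'T := sqN.lift (pullback.fst f j ≫ f'A) (pullback.snd f j) (by
    rw [Category.assoc, ← pullback.condition]
    congr 1
    rw [← cancel_epi P.p, ← Category.assoc, hf', P.hpf, ← Functor.map_comp, sp_toA])
  let p₂ : (yon S).obj (pt str (A₂ ⊗[A] P.B)) ⟶ pullback f j :=
    pullback.lift ((yon S).map (sp str Algebra.TensorProduct.includeRight) ≫ P.p)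
      ((yon S).map (sp str Algebra.TensorProduct.includeLeft)) (by rw [Category.assoc, P.hpf, sqB.w])
  have sqp : IsPullback ((yon S).map (sp str (Algebra.TensorProduct.includeRight : P.B →ₐ[A] A₂ ⊗[A] P.B))) p₂ P.p
      (pullback.fst f j) := by
    refine IsPullback.of_bot ?_ (pullback.lift_fst _ _ _).symm (IsPullback.of_hasPullback f j)
    rw [P.hpf, pullback.lift_snd]
    exact sqB
  haveI := (hl.baseChange sqp).epi
  let J := Algebra.TensorProduct.map (AlgHom.id A₂ A₂) (normVal P.φ P.ψ)
  have hJinj : Function.Injective J := baseChange_normVal_injective P.φ P.ψ A₂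
  have hJL : (J.restrictScalars A).comp (Algebra.TensorProduct.includeLeft : A₂ →ₐ[A] A₂ ⊗[A] NormAlg P.φ P.ψ) =
      (Algebra.TensorProduct.includeLeft : A₂ →ₐ[A] A₂ ⊗[A] P.B) := AlgHom.ext fun a => by simp [J]
  have hJR : (J.restrictScalars A).comp (Algebra.TensorProduct.includeRight : NormAlg P.φ P.ψ →ₐ[A] _) =
      (Algebra.TensorProduct.includeRight : P.B →ₐ[A] A₂ ⊗[A] P.B).comp (normVal P.φ P.ψ) :=
    AlgHom.ext fun a => by simp [J]
  have hpf' : p₂ ≫ f'T = (yon S).map (sp str (J.restrictScalars A)) := by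
    refine sqN.hom_ext ?_ ?_
    · simp only [Category.assoc, f'T, sqN.lift_fst, p₂, pullback.lift_fst_assoc, hf', ← Functor.map_comp,
        ← sp_comp, hJR]
    · simp only [Category.assoc, f'T, sqN.lift_snd, p₂, pullback.lift_snd, ← Functor.map_comp, ← sp_comp, hJL]
  refine univBC_of_square (IsPullback.of_hasPullback f j) sqN (sqN.lift_fst _ _ _ : f'T ≫ _ = _)
    ⟨sqN.lift_snd _ _ _, ?_, fun Z hZ π g hπ hgπ => ?_⟩
  · exact isIntegralMor_of_isPullback sqN ((isIntegralMor_iff _).2 ((repWith_yon_map_iff _ _).2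
      (IsIntegralHom.SpecMap_iff.2 (fun x => (Algebra.IsIntegral.isIntegral (R := A) x)))))
  obtain ⟨D, _, _, ι, e, hι, heπ⟩ := exists_affine_of_integral str hπ
  obtain ⟨γ, hγ⟩ := (yon S).map_surjective (p₂ ≫ g ≫ e.inv)
  have hγι : γ ≫ sp str ι = sp str Algebra.TensorProduct.includeLeft := (yon S).map_injective (by
    rw [Functor.map_comp, hγ, ← heπ]
    simp only [Category.assoc, Iso.inv_hom_id_assoc, hgπ, p₂, pullback.lift_snd])
  obtain ⟨δA, rfl⟩ := exists_algHom_of_over str γ (by
    rw [← sp_toA str ι, reassoc_of% hγι, sp_toA])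
  letI : Algebra A₂ D := ι.toRingHom.toAlgebra
  have hδA : δA.comp ι = (Algebra.TensorProduct.includeLeft : A₂ →ₐ[A] A₂ ⊗[A] P.B) :=
    sp_injective str (by rw [sp_comp, hγι])
  let δ₀ : D →ₐ[A₂] A₂ ⊗[A] P.B := { δA.toRingHom with commutes' := fun a => (AlgHom.congr_fun hδA a) }
  have hrange : ∀ d, δ₀ d ∈ J.range := fun d => by
    obtain ⟨y, hy⟩ := exists_eq_baseChange_normVal P.φ P.ψ A₂ (x := δ₀ d) (fun i => by
      have he : (yon S).map (sp str ((Algebra.TensorProduct.map (AlgHom.id A₂ A₂) (P.φ i)).restrictScalars A)) ≫ p₂ =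
          (yon S).map (sp str ((Algebra.TensorProduct.map (AlgHom.id A₂ A₂) (P.ψ i)).restrictScalars A)) ≫ p₂ := by
        refine pullback.hom_ext ?_ ?_
        · simp only [Category.assoc, p₂, pullback.lift_fst, ← Functor.map_comp_assoc, ← sp_comp]
          rw [show ((Algebra.TensorProduct.map (AlgHom.id A₂ A₂) (P.φ i)).restrictScalars A).comp
                Algebra.TensorProduct.includeRight = Algebra.TensorProduct.includeRight.comp (P.φ i) from
              AlgHom.ext fun b => by simp,
            show ((Algebra.TensorProduct.map (AlgHom.id A₂ A₂) (P.ψ i)).restrictScalars A).comp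
                Algebra.TensorProduct.includeRight = Algebra.TensorProduct.includeRight.comp (P.ψ i) from
              AlgHom.ext fun b => by simp,
            sp_comp, sp_comp, Functor.map_comp_assoc, Functor.map_comp_assoc, P.heq i]
        · simp only [Category.assoc, p₂, pullback.lift_snd, ← Functor.map_comp, ← sp_comp]
          exact congrArg (fun q => (yon S).map (sp str q)) (AlgHom.ext fun a => by simp)
      have h2 := congrArg (· ≫ g ≫ e.inv) he
      simp only [Category.assoc, ← hγ, ← Functor.map_comp, ← sp_comp] at h2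
      exact AlgHom.congr_fun (sp_injective str ((yon S).map_injective h2)) d)
      (IsIntegral.map δ₀ (show IsIntegral A₂ d from hι d))
    exact ⟨y, hy⟩
  let eJ := AlgEquiv.ofInjective J hJinj
  let δ : D →ₐ[A₂] A₂ ⊗[A] NormAlg P.φ P.ψ := eJ.symm.toAlgHom.comp (δ₀.codRestrict J.range hrange)
  have hJδ : ∀ d, J (δ d) = δ₀ d := fun d =>
    (congrArg Subtype.val (eJ.apply_symm_apply ⟨δ₀ d, hrange d⟩) :)
  have hδι : (δ.restrictScalars A).comp ι = Algebra.TensorProduct.includeLeft :=
    AlgHom.ext fun a => δ.commutes a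
  have hJδA : (J.restrictScalars A).comp (δ.restrictScalars A) = δA := AlgHom.ext hJδ
  refine ⟨(yon S).map (sp str (δ.restrictScalars A)) ≫ e.hom, ⟨?_, ?_⟩, fun m ⟨m1, m2⟩ => ?_⟩
  · rw [← cancel_epi p₂, reassoc_of% hpf', ← Functor.map_comp_assoc, ← sp_comp, hJδA, hγ]
    simp only [Category.assoc, Iso.inv_hom_id, Category.comp_id]
  · rw [Category.assoc, heπ, ← Functor.map_comp, ← sp_comp, hδι]
  · obtain ⟨μ, hμ⟩ := (yon S).map_surjective (m ≫ e.inv)
    have hμι : μ ≫ sp str ι = sp str Algebra.TensorProduct.includeLeft := (yon S).map_injective (by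
      rw [Functor.map_comp, hμ, ← heπ]
      simp only [Category.assoc, Iso.inv_hom_id_assoc, m2])
    obtain ⟨δ', rfl⟩ := exists_algHom_of_over str μ (by rw [← sp_toA str ι, reassoc_of% hμι, sp_toA])
    have e' : (J.restrictScalars A).comp δ' = δA := sp_injective str ((yon S).map_injective (by
      rw [sp_comp, Functor.map_comp, ← hpf', hμ, hγ, Category.assoc, reassoc_of% m1]))
    have : δ' = δ.restrictScalars A :=
      AlgHom.ext fun d => hJinj ((AlgHom.congr_fun e' d).trans (hJδ d).symm)
    rw [← this, hμ, Category.assoc, e.inv_hom_id, Category.comp_id]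

/-- Existence of the normalization of an affine scheme, universal after smooth base change. -/
theorem exists_normalization_affine (P : NormPres str f) :
    ∃ (N : Over S) (νA : N ⟶ Over.mk str) (f'A : Y ⟶ (yon S).obj N),
      IsAffine N.left ∧ IsIntegralHom νA.left ∧ f'A ≫ (yon S).map νA = f ∧
      ∀ (A₂ : Type u) [CommRing A₂] [Algebra A A₂] [Algebra.Smooth A A₂],
        UnivBC f ((yon S).map νA) f'A ((yon S).map (specChg (algebraMap A A₂) str)) := by
  obtain ⟨N, νA, f'A, h1, h2, h3, -, h4⟩ := exists_normalization_affine' str P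
  exact ⟨N, νA, f'A, h1, h2, h3, h4⟩

end Groth.Agent.SpFP87
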