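import Groth.Agent.SpFP87.QsDecent
import Groth.Agent.SpFP87.DecentDim
/-!
Quasi-separated spaces are decent.
-/

set_option autoImplicit false
set_option linter.style.haveILetI false
set_option backward.isDefEq.respectTransparency false
universe u
open CategoryTheory CategoryTheory.Limits AlgebraicGeometry Opposite
open AlgSp
open Groth.Agent.SpPts86

namespace Groth.Agent.SpFP87

variable {S : Scheme.{u}} {X : Sp S}

theorem isDecent_of_qsSp (hX : IsAlgSpace X) (h : IsQuasiSeparatedSp X) : IsDecent X := by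
  let T : Over S := Over.mk (𝟙 S)
  have hT : Limits.IsTerminal ((yon S).obj T) :=
    Limits.IsTerminal.isTerminalObj (yon S) T Over.mkIdTerminal
  refine isDecent_of_qs_over_yon hX (hT.from X) ?_
  have e : Limits.diag X = pullback.diagonal (hT.from X) ≫
      prod.lift (pullback.fst _ _) (pullback.snd _ _) := by
    apply Limits.prod.hom_ext <;> simp
  haveI : IsIso (prod.lift (pullback.fst (hT.from X) (hT.from X)) (pullback.snd (hT.from X) (hT.from X))) :=
    ⟨pullback.lift prod.fst prod.snd (hT.hom_ext _ _), pullback.hom_ext (by simp) (by simp),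
      Limits.prod.hom_ext (by simp) (by simp)⟩
  rw [IsQuasiSeparatedSp, e, MorphismProperty.cancel_right_of_respectsIso
    (RepWith (@QuasiCompact : MorphismProperty Scheme.{u}))] at h
  exact h

theorem hasAt_dim_zero_iff (hX : IsAlgSpace X) (hd : IsDecent X) (x : Points X) :
    HasAt (fun U u => ringKrullDim ↥(U.presheaf.stalk u) = 0) X x ↔
      ∃ T ∈ irreducibleComponents (Points X), IsGenericPoint x T := by
  obtain ⟨U, a, ha, has⟩ := hX.atlas
  obtain ⟨u, rfl⟩ := surjective_ofPt has x
  rw [isGeneric_iff_forall_eq hX hX hd (𝟙 X) ha has (by rw [Category.comp_id]; exact ha) u]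
  refine ⟨?_, fun h => ⟨U, a, u, ha, rfl, (dim_stalk_eq_zero_iff u).2 h⟩⟩
  rintro ⟨V, b, v, hb, hv, hv0⟩ w hw
  obtain ⟨R, p, q, _, _, sq, -, -, -⟩ := exists_common_chart hX hb ha
  obtain ⟨r, hr1, hr2⟩ := exists_pt_common_chart sq v u hv
  obtain ⟨r', hr', hr'w⟩ := Flat.generalizingMap (f := q.left) (hr2.symm ▸ hw : w ⤳ q.left r)
  have h1 := (dim_stalk_eq_zero_iff v).1 hv0 (p.left r') (hr1 ▸ hr'.map p.left.continuous)
  haveI : LocallyQuasiFinite p.left := Groth.Agent.Unr55.locallyQuasiFinite_of_formallyUnramified _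
  have h2 := eq_of_specializes_of_locallyQuasiFinite p.left hr' (h1.trans hr1.symm)
  rw [← hr'w, h2, hr2]

end Groth.Agent.SpFP87
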