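import Groth.Agent.SpFP87.MultLocus
import Groth.Agent.SpFP87.DecentPts
import Groth.Agent.SpPts86.DiagCrit
/-!
Decent algebraic spaces are sober.
-/

set_option autoImplicit false
set_option linter.style.haveILetI false
set_option backward.isDefEq.respectTransparency false
universe u
open CategoryTheory CategoryTheory.Limits AlgebraicGeometry Opposite Topology
open AlgSp
open Groth.Agent.SpPts86

namespace Groth.Agent.SpFP87

variable {S : Scheme.{u}} {X : Sp S}

theorem isSeparated_rel {U R : Over S} [IsAffine U.left] {t s : R ⟶ U} {φ : (yon S).obj U ⟶ X}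
    (sq : IsPullback ((yon S).map t) ((yon S).map s) φ φ) : IsSeparated t.left := by
  haveI := mono_lift_of_isPullback sq
  let m : R.left ⟶ pullback U.hom U.hom := pullback.lift t.left s.left ((Over.w t).trans (Over.w s).symm)
  haveI : IsSeparated m := monomorphisms_le_isSeparated _ ‹Mono m›
  haveI : IsSeparated U.hom := by
    haveI : IsSeparated (U.hom ≫ terminal.from S) := by
      rw [terminal.comp_from]
      infer_instance
    exact IsSeparated.of_comp U.hom (terminal.from S)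
  haveI : IsSeparated (m ≫ pullback.fst U.hom U.hom) := inferInstance
  rwa [pullback.lift_fst] at this

/-- Near some point of a nonempty closed subset, the relation is quasi-compact over that subset. -/
theorem exists_qc_part {R V : Scheme.{u}} [IsAffine V] (t : R ⟶ V) [IsSeparated t] [Etale t] [Surjective t]
    (Z : Set ↥V) (hZ : IsClosed Z) (hne : Z.Nonempty) (hfin : ∀ v ∈ Z, (t ⁻¹' {v}).Finite) :
    ∃ (O : V.Opens) (R' : R.Opens), IsAffineOpen O ∧ (Z ∩ O).Nonempty ∧ IsCompact (R' : Set ↥R) ∧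
      ∀ v ∈ Z ∩ O, t ⁻¹' {v} ⊆ R' := by
  classical
  obtain ⟨n₀, O₀, hO₀, hne₀, hemp₀⟩ := exists_open_subset_of_forall_exists_notMem Z hZ hne
    (fun n => multLocus n t) (fun n => isOpen_multLocus n t) (fun z hz => exists_notMem_multLocus t z (hfin z hz))
  have hex : ∃ n, ∃ O : Set ↥V, IsOpen O ∧ (Z ∩ O).Nonempty ∧ Z ∩ O ∩ multLocus n t = ∅ := ⟨n₀, O₀, hO₀, hne₀, hemp₀⟩
  obtain ⟨O, hO, ⟨z, hzZ, hzO⟩, hemp⟩ := Nat.find_spec hex
  obtain ⟨k, hk⟩ : ∃ k, Nat.find hex = k + 1 := by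
    refine Nat.exists_eq_succ_of_ne_zero fun h0 => ?_
    rw [h0] at hemp
    obtain ⟨r, hr⟩ := t.surjective z
    exact (Set.eq_empty_iff_forall_notMem.1 hemp z) ⟨⟨hzZ, hzO⟩, r, hr⟩
  rw [hk] at hemp
  obtain ⟨v, ⟨hvZ, hvO⟩, hvk⟩ := Set.nonempty_iff_ne_empty.2
    (fun h => Nat.find_min hex (show k < Nat.find hex by omega) ⟨O, hO, ⟨z, hzZ, hzO⟩, h⟩)
  have hloc : ∀ r : ↥R, ∃ W : R.Opens, r ∈ W ∧ IsCompact (W : Set ↥R) := fun r => by
    obtain ⟨W, hW, hrW, -⟩ := exists_isAffineOpen_mem_and_subset (U := (⊤ : R.Opens)) (x := r) trivial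
    exact ⟨W, hrW, hW.isCompact⟩
  choose W hW hWc using hloc
  let R' : R.Opens := ⟨⋃ r ∈ (hfin v hvZ).toFinset, (W r : Set ↥R), isOpen_biUnion fun r _ => (W r).isOpen⟩
  have hR'c : IsCompact (R' : Set ↥R) := (hfin v hvZ).toFinset.isCompact_biUnion fun r _ => hWc r
  have hsub : t ⁻¹' {v} ⊆ R' := fun r hr => Set.mem_iUnion₂.2 ⟨r, (hfin v hvZ).mem_toFinset.2 hr, hW r⟩
  have hvk' : v ∈ multLocus k (R'.ι ≫ t) := by
    let L : Type u := AlgebraicClosure (V.residueField v)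
    let g : Spec (CommRingCat.of L) ⟶ V :=
      Spec.map (CommRingCat.ofHom (algebraMap (V.residueField v) L)) ≫ V.fromSpecResidueField v
    have hg : g (IsLocalRing.closedPoint L) = v := by
      rw [Scheme.Hom.comp_apply]; exact Scheme.fromSpecResidueField_apply _ _
    rw [← hg] at hvk ⊢
    obtain ⟨σ, hσ, hσf⟩ := (mem_multLocus_iff _ _ _).1 hvk
    have hr : ∀ i, Set.range (σ i) ⊆ Set.range R'.ι := by
      rintro i - ⟨p, rfl⟩
      rw [Scheme.Opens.range_ι]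
      refine hsub ?_
      show t (σ i p) = v
      rw [← Scheme.Hom.comp_apply, hσf, Subsingleton.elim (α := PrimeSpectrum L) p (IsLocalRing.closedPoint L)]
      exact hg
    refine (mem_multLocus_iff _ _ _).2 ⟨fun i => IsOpenImmersion.lift R'.ι (σ i) (hr i), fun i j e => hσ ?_,
      fun i => by rw [IsOpenImmersion.lift_fac_assoc, hσf]⟩
    simpa [IsOpenImmersion.lift_fac] using congrArg (· ≫ R'.ι) e
  obtain ⟨W', hW', hvW', hW'le⟩ := exists_isAffineOpen_mem_and_subset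
    (U := (⟨O ∩ multLocus k (R'.ι ≫ t), hO.inter (isOpen_multLocus k _)⟩ : V.Opens)) (x := v) ⟨hvO, hvk'⟩
  refine ⟨W', R', hW', ⟨v, hvZ, hvW'⟩, hR'c, fun w ⟨hwZ, hwW⟩ r hr => ?_⟩
  by_contra hrR
  obtain ⟨hwO, hwk⟩ := hW'le hwW
  refine (Set.eq_empty_iff_forall_notMem.1 hemp w) ⟨⟨hwZ, hwO⟩, ?_⟩
  let L : Type u := AlgebraicClosure (V.residueField w)
  let g : Spec (CommRingCat.of L) ⟶ V :=
    Spec.map (CommRingCat.ofHom (algebraMap (V.residueField w) L)) ≫ V.fromSpecResidueField w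
  have hg : g (IsLocalRing.closedPoint L) = w := by
    rw [Scheme.Hom.comp_apply]; exact Scheme.fromSpecResidueField_apply _ _
  rw [← hg] at hwk ⊢
  obtain ⟨σ, hσ, hσf⟩ := (mem_multLocus_iff _ _ _).1 hwk
  obtain ⟨ρ, hρ, hρr⟩ := exists_section_at t g r (hr.trans hg.symm)
  refine (mem_multLocus_iff _ _ _).2 ⟨Fin.cons ρ (fun i => σ i ≫ R'.ι), Fin.cons_injective_iff.2 ⟨?_, ?_⟩, ?_⟩
  · rintro ⟨i, hi⟩
    refine hrR ?_
    rw [← hρr, ← hi]
    exact (σ i (IsLocalRing.closedPoint L)).2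
  · exact fun i j e => hσ ((cancel_mono R'.ι).1 e)
  · intro i
    refine Fin.cases ?_ (fun i => ?_) i
    · exact hρ
    · rw [Fin.cons_succ, Category.assoc, hσf]

/-- A compact open subset of an affine scheme pulled back along a morphism from a compact open. -/
theorem isCompact_preimage_inter {R V : Scheme.{u}} [IsAffine V] (f : R ⟶ V) {R' : R.Opens}
    (hR' : IsCompact (R' : Set ↥R)) {D : Set ↥V} (hD : IsOpen D) (hDc : IsCompact D) :
    IsCompact ((R' : Set ↥R) ∩ f ⁻¹' D) := by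
  haveI : CompactSpace ↥R'.toScheme := isCompact_iff_compactSpace.1 hR'
  haveI : QuasiCompact (R'.ι ≫ f) := (quasiCompact_iff_compactSpace _).2 inferInstance
  have h := ((R'.ι ≫ f).isCompact_preimage (U := ⟨D, hD⟩) hDc).image R'.ι.continuous
  convert h using 1
  ext r
  constructor
  · rintro ⟨hr, hrD⟩
    exact ⟨⟨r, hr⟩, hrD, rfl⟩
  · rintro ⟨z, hz, rfl⟩
    exact ⟨z.2, hz⟩

theorem quasiSober_points (hX : IsAlgSpace X) (hd : IsDecent X) : QuasiSober (Points X) := by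
  refine ⟨fun {T} hT hTc => ?_⟩
  obtain ⟨U₀, a, ha, has⟩ := hX.atlas
  obtain ⟨y, hy⟩ := hT.nonempty
  obtain ⟨u₀, rfl⟩ := surjective_ofPt has y
  obtain ⟨W, hWaff, huW, hW⟩ := exists_affine_subchart ha u₀
  haveI := hWaff
  let V : Over S := Over.mk (W.ι ≫ U₀.hom)
  let φ : (yon S).obj V ⟶ X := (yon S).map (Over.homMk W.ι rfl : V ⟶ U₀) ≫ a
  obtain ⟨R, t, s, _, _, sq, -, -, -⟩ := exists_common_chart hX hW hW
  haveI := isSeparated_rel sq
  haveI := isSeparated_rel sq.flip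
  haveI : Surjective t.left := ⟨fun v => by
    obtain ⟨r, hr, -⟩ := exists_pt_common_chart sq v v rfl
    exact ⟨r, hr⟩⟩
  let Z : Set ↥V.left := Points.ofPt φ ⁻¹' T
  have hZ : IsClosed Z := hTc.preimage (Points.continuous_ofPt φ)
  have hne : Z.Nonempty := ⟨(⟨u₀, huW⟩ : W.toScheme), by
    show Points.ofPt ((yon S).map _ ≫ a) _ ∈ T
    rw [ofPt_comp]
    exact hy⟩
  have hfin : ∀ v ∈ Z, (t.left ⁻¹' {v}).Finite := fun v _ =>
    ((finite_fibres_of_isDecent hX hd hW (Points.ofPt φ v)).2 R s t sq).subset fun r hr => by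
      show Points.ofPt ((yon S).map t ≫ φ) r = _
      rw [ofPt_comp, show t.left r = v from hr]
  obtain ⟨O, R', hO, ⟨z₀, hz₀Z, hz₀O⟩, hR', hqc⟩ := exists_qc_part t.left Z hZ hne hfin
  let ι' : Type u := {D : V.left.Opens // IsAffineOpen D ∧ D ≤ O ∧ (Z ∩ D).Nonempty}
  let E : ι' → Set ↥V.left := fun D => t.left '' ((R' : Set ↥R.left) ∩ s.left ⁻¹' D.1 ∩ t.left ⁻¹' O)
  have hEo : ∀ D, IsOpen (E D) := fun D =>
    t.left.isOpenMap _ ((R'.isOpen.inter (D.1.isOpen.preimage s.left.continuous)).inter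
      (O.isOpen.preimage t.left.continuous))
  haveI : QuasiSeparatedSpace ↥R.left := by
    rw [quasiSeparatedSpace_iff_quasiSeparated, ← terminal.comp_from t.left]
    infer_instance
  have hEc : ∀ D, IsCompact (E D) := fun D => by
    refine IsCompact.image ?_ t.left.continuous
    have h1 := isCompact_preimage_inter s.left hR' D.1.isOpen D.2.1.isCompact
    have h2 := isCompact_preimage_inter t.left hR' O.isOpen hO.isCompact
    have := h1.inter_of_isOpen h2 (R'.isOpen.inter (D.1.isOpen.preimage s.left.continuous))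
      (R'.isOpen.inter (O.isOpen.preimage t.left.continuous))
    convert this using 1
    ext r
    simp only [Set.mem_inter_iff]
    tauto
  have key : ∀ D, ∀ w ∈ Z ∩ O, (w ∈ E D ↔ Points.ofPt φ w ∈ Points.ofPt φ '' D.1) := by
    intro D w hw
    constructor
    · rintro ⟨r, ⟨⟨-, hrD⟩, -⟩, rfl⟩
      exact ⟨s.left r, hrD, (ofPt_eq_of_isPullback sq r).symm⟩
    · rintro ⟨d, hdD, hd'⟩
      obtain ⟨r, hr1, hr2⟩ := exists_pt_common_chart sq w d hd'.symm
      exact ⟨r, ⟨⟨hqc w hw hr1, by show s.left r ∈ D.1; rw [hr2]; exact hdD⟩,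
        by show t.left r ∈ O; rw [hr1]; exact hw.2⟩, hr1⟩
  obtain ⟨w, hwZ, hwE⟩ := nonempty_iInter_of_compactOpens Z hZ
    (fun o : Option ι' => o.elim (O : Set ↥V.left) E) (fun o => by cases o <;> first | exact O.isOpen | exact hEo _)
    (fun o => by cases o <;> first | exact hO.isCompact | exact hEc _) (fun s' => by
      have hp : ∀ F : Finset ι', (T ∩ (Points.ofPt φ '' O) ∩ ⋂ D ∈ F, Points.ofPt φ '' (D.1 : Set ↥V.left)).Nonempty := by
        intro F
        classical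
        induction F using Finset.induction with
        | empty => exact ⟨Points.ofPt φ z₀, ⟨hz₀Z, z₀, hz₀O, rfl⟩, by simp⟩
        | @insert D F hD ih =>
          obtain ⟨x, ⟨hxT, hxO⟩, hxF⟩ := ih
          obtain ⟨d, hdZ, hdD⟩ := D.2.2.2
          obtain ⟨x', hx'T, ⟨hx'O, hx'F⟩, hx'D⟩ := hT.2
            (Points.ofPt φ '' O ∩ ⋂ D ∈ F, Points.ofPt φ '' (D.1 : Set ↥V.left))
            (Points.ofPt φ '' (D.1 : Set ↥V.left))
            ((isOpenMap_ofPt hW _ O.isOpen).inter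
              (isOpen_biInter_finset fun D' _ => isOpenMap_ofPt hW _ D'.1.isOpen))
            (isOpenMap_ofPt hW _ D.1.isOpen) ⟨x, hxT, hxO, hxF⟩ ⟨_, hdZ, d, hdD, rfl⟩
          refine ⟨x', ⟨hx'T, hx'O⟩, ?_⟩
          rw [Finset.set_biInter_insert]
          exact ⟨hx'D, hx'F⟩
      obtain ⟨x, ⟨hxT, w, hwO, rfl⟩, hxF⟩ := hp s'.eraseNone
      refine ⟨w, hxT, Set.mem_iInter₂.2 fun o ho => ?_⟩
      cases o with
      | none => exact hwO
      | some D => exact (key D w ⟨hxT, hwO⟩).2 (Set.mem_iInter₂.1 hxF D (Finset.mem_eraseNone.2 ho)))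
  have hwO : w ∈ O := Set.mem_iInter.1 hwE none
  refine ⟨Points.ofPt φ w, isGenericPoint_iff_specializes.2 fun x => ?_⟩
  refine ⟨fun h => h.mem_closed hTc hwZ, fun hx => specializes_iff_forall_open.2 fun Ω hΩ hxΩ => ?_⟩
  obtain ⟨x', hx'T, hx'Ω, hx'O⟩ := hT.2 Ω (Points.ofPt φ '' O) hΩ (isOpenMap_ofPt hW _ O.isOpen)
    ⟨x, hx, hxΩ⟩ ⟨_, hz₀Z, z₀, hz₀O, rfl⟩
  obtain ⟨v, hvO, rfl⟩ := hx'O
  obtain ⟨D, hD, hvD, hDle⟩ := exists_isAffineOpen_mem_and_subset
    (U := (⟨Points.ofPt φ ⁻¹' Ω, hΩ.preimage (Points.continuous_ofPt φ)⟩ : V.left.Opens) ⊓ O) (x := v) ⟨hx'Ω, hvO⟩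
  obtain ⟨d, hdD, hd'⟩ := (key ⟨D, hD, fun z hz => (hDle hz).2, v, hx'T, hvD⟩ w ⟨hwZ, hwO⟩).1
    (Set.mem_iInter.1 hwE (some _))
  rw [← hd']
  exact (hDle hdD).1

end Groth.Agent.SpFP87
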