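import Groth.Agent.SpFP87.NormExists
import Groth.Agent.SpFP87.EtLocInst
import Groth.Agent.SpPts86.Codim
/-!
Points of codimension zero of a relative normalization come from points of codimension zero of the source.
-/

set_option autoImplicit false
set_option linter.style.haveILetI false
set_option backward.isDefEq.respectTransparency false
universe u
open CategoryTheory CategoryTheory.Limits AlgebraicGeometry
open AlgSp
open Groth.Agent.SpPts86

namespace Groth.Agent.SpFP87

open Torsor

variable {S : Scheme.{u}} {X Y X' : Sp S}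

theorem codimZero_lifts (hX : IsAlgSpace X) (hY : IsAlgSpace Y) (hX' : IsAlgSpace X') {f : Y ⟶ X}
    (hqc : IsQuasiCompactMor f) (hqs : IsQuasiSeparatedMor f) {ν : X' ⟶ X} {f' : Y ⟶ X'}
    (hn : IsRelNormalization f ν f') (x' : Points X')
    (hx' : HasAt (fun U u => ringKrullDim ↥(U.presheaf.stalk u) = 0) X' x') :
    ∃ y : Points Y, HasAt (fun U u => ringKrullDim ↥(U.presheaf.stalk u) = 0) Y y ∧ Points.map f' y = x' := by
  obtain ⟨U₀, u₀, hu₀, hu₀s⟩ := hX.atlas
  obtain ⟨t, ht⟩ := surjective_ofPt hu₀s (Points.map ν x')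
  obtain ⟨O, hO, htO, -⟩ := exists_isAffineOpen_mem_and_subset (x := t) (U := ⊤) trivial
  let str : Spec (CommRingCat.of Γ(U₀.left, O)) ⟶ S := hO.fromSpec ≫ U₀.hom
  let V : Over S := Over.mk str
  let c₀ : V ⟶ U₀ := Over.homMk hO.fromSpec rfl
  haveI : Etale c₀.left := inferInstanceAs (Etale hO.fromSpec)
  let v := (yon S).map c₀ ≫ u₀
  have hv : RepWith @Etale v := repWith_etale_comp c₀ hu₀
  obtain ⟨t', rfl⟩ : t ∈ Set.range c₀.left := hO.range_fromSpec.symm ▸ htO
  obtain ⟨P⟩ := exists_normPres str hX hY hqc hqs (IsPullback.of_hasPullback f v)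
  obtain ⟨N, νA, f'A, -, -, hw, ⟨n, hn1, hn2⟩, hu⟩ := exists_normalization_affine' str P
  have h0 : IsRelNormalization (pullback.snd f v) ((yon S).map νA) f'A := by
    refine univBC_of_smooth_affine hu (𝟙 V) (inferInstanceAs (IsAffine (Spec _)))
      (inferInstanceAs (Smooth (𝟙 V.left))) (𝟙 _) _ (𝟙 _) _ ?_ ?_ f'A hw (by rw [Category.id_comp, Category.comp_id])
    · exact IsPullback.of_horiz_isIso ⟨by rw [CategoryTheory.Functor.map_id, Category.id_comp, Category.comp_id]⟩
    · exact IsPullback.of_horiz_isIso ⟨by rw [CategoryTheory.Functor.map_id, Category.id_comp, Category.comp_id]⟩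
  have hνr := (isIntegralMor_iff ν).1 hn.2.1
  let b := hνr.rep.fst v
  have sqN : IsPullback b ((yon S).map (hνr.rep.snd v)) ν v := hνr.rep.isPullback v
  let k := sqN.lift (pullback.fst f v ≫ f') (pullback.snd f v) (by rw [Category.assoc, hn.1, pullback.condition])
  have hk := univBC_of_isRelNormalization hX hY hqc hqs hX' hn (IsAlgSpace.yon_obj V)
    (LocP.of_le (P := @Etale) (fun _ _ k (hk : Etale k) => (inferInstance : Smooth k))
      (locP_of_repWith (IsAlgSpace.yon_obj V).diag hX hv))
    (pullback.fst f v) (pullback.snd f v) b _ (IsPullback.of_hasPullback f v) sqN k (sqN.lift_snd _ _ _)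
    (sqN.lift_fst _ _ _)
  obtain ⟨e, -, he⟩ := exists_iso_of_isRelNormalization (IsAlgSpace.yon_obj N) (IsAlgSpace.yon_obj _) h0 hk
  obtain ⟨z₁, hz₁, -⟩ := exists_of_isPullback sqN x' (Points.ofScheme V t') (by
    rw [← Points.ofPt_eq_map_ofScheme, ofPt_comp]
    exact ht.symm)
  let b' := e.hom ≫ b
  have hb' : RepWith @Etale b' :=
    (repWith_isMultiplicative (S := S) @Etale).comp_mem _ _ (repWith_etale_of_isIso e.hom)
      ((repWith_isStableUnderBaseChange _).of_isPullback sqN.flip hv)
  obtain ⟨z, hz⟩ := (Points.schemeHomeo N).surjective (Points.map e.inv z₁)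
  have hzx : Points.ofPt b' z = x' := by
    rw [Points.ofPt_eq_map_ofScheme]
    change Points.map b' (Points.schemeHomeo N z) = x'
    rw [hz, ← Points.map_comp]
    simp only [b', Iso.inv_hom_id_assoc]
    exact hz₁
  have hzmin := (dim_stalk_eq_zero_iff z).1
    (forall_chart_of_hasAt hX' (fun g hg a => invariant_stalkDim 0 g hg a) hx' hb' hzx)
  obtain ⟨w, hw'⟩ := hn2 z hzmin
  obtain ⟨η, hη, hη0⟩ := exists_codimZero_generalization w
  have hηz : n.left η = z := hzmin _ (hw' ▸ hη.map n.left.continuous)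
  refine ⟨Points.ofPt (P.p ≫ pullback.fst f v) η, ⟨pt str P.B, P.p ≫ pullback.fst f v, η, ?_, rfl, hη0⟩, ?_⟩
  · exact (repWith_isMultiplicative (S := S) @Etale).comp_mem _ _ P.hp
      ((repWith_isStableUnderBaseChange _).of_isPullback (IsPullback.of_hasPullback f v).flip hv)
  · have e1 : (P.p ≫ pullback.fst f v) ≫ f' = (yon S).map n ≫ b' := by
      have e2 : k ≫ b = pullback.fst f v ≫ f' := sqN.lift_fst _ _ _
      simp only [b', hn1, Category.assoc]
      rw [reassoc_of% he, e2]
    rw [Points.map_ofPt, e1, ofPt_comp, hηz, hzx]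

end Groth.Agent.SpFP87
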