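import Mathlib.AlgebraicGeometry.Morphisms.Etale
import Mathlib.AlgebraicGeometry.Morphisms.Finite
import Mathlib.RingTheory.QuasiFinite.Basic
import Mathlib.RingTheory.Etale.Basic
import Mathlib.RingTheory.Unramified.LocalStructure
import Groth.Agent.SpPts86.QuotFinite
/-!
Etale algebras over zero-dimensional rings with finite spectrum are finite.
-/

set_option autoImplicit false
set_option linter.style.haveILetI false
universe u
open AlgebraicGeometry CategoryTheory
open scoped TensorProduct

namespace Groth.Agent.SpFP87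

theorem isArtinianRing_of_isReduced_of_finite (R : Type u) [CommRing R] [_root_.IsReduced R] [Ring.KrullDimLE 0 R]
    [Finite (PrimeSpectrum R)] : IsArtinianRing R := by
  haveI : Finite (MaximalSpectrum R) :=
    Finite.of_injective MaximalSpectrum.toPrimeSpectrum MaximalSpectrum.toPrimeSpectrum_injective
  let I : MaximalSpectrum R → Ideal R := fun m => m.asIdeal
  have hI : Pairwise (fun i j => IsCoprime (I i) (I j)) := fun i j hij =>
    Ideal.isCoprime_iff_sup_eq.2 (i.isMaximal.coprime_of_ne j.isMaximal fun e => hij (MaximalSpectrum.ext e))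
  have hbot : (⨅ m, I m) = ⊥ := by
    refine le_bot_iff.1 ?_
    rw [show (⊥ : Ideal R) = nilradical R from (nilradical_eq_zero R).symm, nilradical_eq_sInf]
    refine le_sInf fun p hp => ?_
    haveI : p.IsPrime := hp
    exact iInf_le I ⟨p, Ring.krullDimLE_zero_iff.1 inferInstance p inferInstance⟩
  let e := ((Ideal.quotEquivOfEq hbot).trans (RingEquiv.quotientBot R)).symm.trans
    (Ideal.quotientInfRingEquivPiQuotient I hI)
  haveI : ∀ m, IsArtinianRing (R ⧸ I m) := fun m => by
    haveI : (I m).IsMaximal := m.isMaximal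
    letI := Ideal.Quotient.field (I m)
    infer_instance
  exact e.symm.isArtinianRing

theorem finite_of_etale_dimZero (R A : Type u) [CommRing R] [CommRing A] [Algebra R A] [Algebra.Etale R A]
    [Ring.KrullDimLE 0 R] [Finite (PrimeSpectrum R)] : Module.Finite R A := by
  let R₀ := R ⧸ nilradical R
  haveI : _root_.IsReduced R₀ := (Ideal.isRadical_iff_quotient_reduced _).1 (Ideal.radical_isRadical _)
  haveI : Finite (PrimeSpectrum R₀) := Finite.of_injective _
    (PrimeSpectrum.comap_injective_of_surjective (Ideal.Quotient.mk (nilradical R)) Ideal.Quotient.mk_surjective)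
  haveI : Ring.KrullDimLE 0 R₀ := Ring.krullDimLE_zero_iff.2 fun P hP => by
    haveI : (P.comap (Ideal.Quotient.mk (nilradical R))).IsMaximal := Ring.krullDimLE_zero_iff.1 inferInstance _ inferInstance
    rw [← Ideal.map_comap_of_surjective _ Ideal.Quotient.mk_surjective P]
    refine (Ideal.map_eq_top_or_isMaximal_of_surjective _ Ideal.Quotient.mk_surjective this).resolve_left ?_
    rw [Ideal.map_comap_of_surjective _ Ideal.Quotient.mk_surjective P]
    exact hP.ne_top
  haveI : IsArtinianRing R₀ := isArtinianRing_of_isReduced_of_finite R₀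
  haveI : Algebra.Etale R₀ (R₀ ⊗[R] A) := inferInstance
  haveI : Algebra.QuasiFinite R₀ (R₀ ⊗[R] A) := inferInstance
  haveI : Module.Finite R₀ (R₀ ⊗[R] A) := Module.Finite.of_quasiFinite
  haveI : Algebra.IsIntegral R₀ (R₀ ⊗[R] A) := Algebra.IsIntegral.of_finite R₀ _
  haveI : Algebra.IsIntegral R A := ⟨fun c => by
    let q : A →ₐ[R] R₀ ⊗[R] A := Algebra.TensorProduct.includeRight
    rcases subsingleton_or_nontrivial R₀ with hsub | hnt
    · have h1 : (1 : R) ∈ nilradical R := Ideal.Quotient.eq_zero_iff_mem.1 (Subsingleton.elim _ _)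
      have h2 : (1 : A) = 0 := by
        obtain ⟨n, hn⟩ := mem_nilradical.1 h1
        simpa using congrArg (algebraMap R A) hn
      exact ⟨1, Polynomial.monic_one, by simp [h2]⟩
    obtain ⟨P₀, hP₀, hPc⟩ := Algebra.IsIntegral.isIntegral (R := R₀) (q c)
    obtain ⟨P, hP, -, hPm⟩ := Polynomial.lifts_and_degree_eq_and_monic
      ((Polynomial.lifts_iff_coeff_lifts _).2 fun n => Ideal.Quotient.mk_surjective _) hP₀
    have h0 : q (Polynomial.aeval c P) = 0 := by
      rw [← Polynomial.aeval_algHom_apply, ← Polynomial.aeval_map_algebraMap R₀]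
      rw [show P.map (algebraMap R R₀) = P₀ from hP]
      exact hPc
    have hker : RingHom.ker q ≤ nilradical A := by
      intro a ha
      let e := Algebra.TensorProduct.quotIdealMapEquivTensorQuot A (nilradical R)
      have ha' : (1 : A ⧸ (nilradical R).map (algebraMap R A)) * Ideal.Quotient.mk _ a = 0 := by
        rw [one_mul]
        apply e.injective
        rw [map_zero]
        have hc := congrArg (Algebra.TensorProduct.comm R R₀ A) (RingHom.mem_ker.1 ha)
        simpa [q, e, Algebra.TensorProduct.quotIdealMapEquivTensorQuot_mk] using hc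
      rw [one_mul, Ideal.Quotient.eq_zero_iff_mem] at ha'
      refine (Ideal.map_le_iff_le_comap.2 ?_) ha'
      exact fun r hr => IsNilpotent.map (mem_nilradical.1 hr) _
    obtain ⟨n, hn⟩ := mem_nilradical.1 (hker (RingHom.mem_ker.2 h0))
    exact ⟨P ^ n, hPm.pow n, by rw [← Polynomial.aeval_def, map_pow, hn]⟩⟩
  exact Algebra.IsIntegral.finite

/-- An etale morphism between affine schemes with finite discrete target is finite. -/
theorem isFinite_of_etale_of_finite_discrete {A B : Scheme.{u}} (f : A ⟶ B) [Etale f] [IsAffine A] [IsAffine B]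
    [Finite ↥B] [DiscreteTopology ↥B] : IsFinite f := by
  suffices ∀ {R T : CommRingCat.{u}} (φ : R ⟶ T), Etale (Spec.map φ) → Finite (PrimeSpectrum R) →
      DiscreteTopology (PrimeSpectrum R) → IsFinite (Spec.map φ) by
    obtain ⟨φ, hφ⟩ := Spec.map_surjective ((A.isoSpec.inv ≫ f) ≫ B.isoSpec.hom)
    rw [show f = A.isoSpec.hom ≫ Spec.map φ ≫ B.isoSpec.inv by simp [hφ]]
    haveI : IsFinite (Spec.map φ) := this φ (by rw [hφ]; infer_instance) (Finite.of_equiv _ B.isoSpec.hom.homeomorph.toEquiv)
      B.isoSpec.hom.homeomorph.symm.isEmbedding.discreteTopology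
    infer_instance
  intro R T φ hφ _ _
  rw [IsFinite.SpecMap_iff]
  algebraize [φ.hom]
  haveI : Algebra.Etale R T := RingHom.etale_algebraMap.1 ((HasRingHomProperty.Spec_iff (P := @Etale)).1 hφ)
  haveI : Ring.KrullDimLE 0 R := Ring.krullDimLE_zero_iff.2 fun P hP =>
    (PrimeSpectrum.isClosed_singleton_iff_isMaximal (⟨P, hP⟩ : PrimeSpectrum R)).1 (isClosed_discrete _)
  exact RingHom.finite_algebraMap.2 (finite_of_etale_dimZero R T)

end Groth.Agent.SpFP87
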