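import Groth.Agent.SpFP87.FibreEmb
import Groth.Agent.SpFP87.EtaleDimZero
import Groth.Agent.SpFP87.Reduced
import Groth.Agent.SpPts86.QuotFinite
import Groth.Agent.SpPts86.LqfSep
import Groth.Agent.SpPts86.DiagDesc
/-!
Closed points and one-point decent spaces.
-/

set_option autoImplicit false
set_option linter.style.haveILetI false
set_option backward.isDefEq.respectTransparency false
universe u
open CategoryTheory CategoryTheory.Limits AlgebraicGeometry Opposite Topology
open AlgSp
open Groth.Agent.SpPts86

namespace Groth.Agent.SpFP87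

variable {S : Scheme.{u}} {X : Sp S}

theorem exists_closedImmersion_point (hX : IsAlgSpace X) (hd : IsDecent X) (x : Points X)
    (hx : IsClosed ({x} : Set (Points X))) :
    ∃ p : FieldPt X, Points.mk p = x ∧ RepWith @IsClosedImmersion p.toHom := by
  obtain ⟨p, rfl, hm, hq⟩ := hd x
  haveI := hm
  refine ⟨p, rfl, ?_⟩
  obtain ⟨U, a, ha, has⟩ := hX.atlas
  obtain ⟨T, c, d, sqT⟩ := exists_isPullback_yon hX.diag p.toHom a
  have := isClosedImmersion_descends.{u}
  have := isLocalAtTarget_fppf.{u} @IsClosedImmersion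
  refine (repWith_iff_of_chart (P := @IsClosedImmersion)
    (Functor.relativelyRepresentable.of_diag hX.diag _) ha has sqT).2 ?_
  haveI : Mono d := ⟨fun {Z} α β e => (yon S).map_injective (sqT.hom_ext
    (by rw [← cancel_mono p.toHom, Category.assoc, Category.assoc, sqT.w, ← Category.assoc, ← Category.assoc,
          ← Functor.map_comp, ← Functor.map_comp, e])
    (by rw [← Functor.map_comp, ← Functor.map_comp, e]))⟩
  haveI := mono_left_of_mono d
  haveI : QuasiCompact d.left :=
    (repWith_yon_map_iff _ _).1 ((repWith_isStableUnderBaseChange _).of_isPullback sqT hq)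
  haveI : Etale c.left := etale_snd_of_isPullback sqT.flip ha
  haveI : Etale (show T.left ⟶ Spec (CommRingCat.of p.K) from c.left) := ‹Etale c.left›
  obtain ⟨_, _⟩ := isLocallyArtinian_of_etale (show T.left ⟶ Spec (CommRingCat.of p.K) from c.left)
  have hz : ∀ z, Points.ofPt a (d.left z) = Points.mk p := fun z => by
    rw [← ofPt_eq_of_isPullback sqT z]
    exact Points.ofPt_toHom p _
  haveI : IsPreimmersion d.left := isPreimmersion_of_discrete d.left fun z z' h =>
    eq_of_specializes_of_decent hX hd ha h ((hz z).trans (hz z').symm)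
  refine IsClosedImmersion.of_isPreimmersion _ ?_
  convert hx.preimage (Points.continuous_ofPt a)
  ext u
  refine ⟨?_, fun hu => ?_⟩
  · rintro ⟨z, rfl⟩
    exact hz z
  · obtain ⟨z, -, hz'⟩ := exists_pt_of_isPullback' sqT (IsLocalRing.closedPoint p.K) u
      ((Points.ofPt_toHom p _).trans hu.symm)
    exact ⟨z, hz'⟩

/-- A reduced decent space with one point is the spectrum of a field. -/
theorem exists_iso_field_of_singleton (hX : IsAlgSpace X) (hd : IsDecent X) (hr : IsReducedSp X)
    [Nonempty (Points X)] [Subsingleton (Points X)] :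
    ∃ (k : Type u) (_ : Field k) (str : Spec (CommRingCat.of k) ⟶ S), Nonempty ((yon S).obj (Over.mk str) ≅ X) := by
  obtain ⟨p, -, hp⟩ := exists_closedImmersion_point hX hd (Classical.arbitrary _) (Set.subsingleton_of_subsingleton.isClosed)
  obtain ⟨U, a, ha, has⟩ := hX.atlas
  obtain ⟨T, c, d, sqT⟩ := exists_isPullback_yon hX.diag p.toHom a
  haveI : IsClosedImmersion d.left :=
    (repWith_yon_map_iff _ _).1 ((repWith_isStableUnderBaseChange _).of_isPullback sqT hp)
  haveI : Surjective d.left := ⟨fun u => by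
    obtain ⟨z, -, hz⟩ := exists_pt_of_isPullback' sqT (IsLocalRing.closedPoint p.K) u (Subsingleton.elim _ _)
    exact ⟨z, hz⟩⟩
  haveI := isReduced_chart hX hr ha
  haveI : Mono p.toHom :=
    mono_of_repWith_le (P := @IsClosedImmersion) (fun _ _ f (_ : IsClosedImmersion f) => inferInstanceAs (Mono f)) hp
  haveI : IsIso d.left := isIso_of_isClosedImmersion_of_surjective d.left
  haveI : IsIso d := by
    haveI : IsIso ((Over.forget S).map d) := ‹IsIso d.left›
    exact isIso_of_reflects_iso d (Over.forget S)
  haveI : IsIso p.toHom := by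
    obtain ⟨R, t, s, sqR⟩ := exists_isPullback_yon hX.diag a a
    obtain ⟨hc⟩ := isColimit_cofork (locLift_of_atlas ha has) sqR
    haveI : Epi a := ⟨fun g h e => Cofork.IsColimit.hom_ext hc (by simpa using e)⟩
    haveI : Epi p.toHom := epi_of_epi_fac (f := (yon S).map (inv d ≫ c)) (h := a) (by
      rw [Functor.map_comp, Category.assoc, sqT.w, Functor.map_inv, IsIso.inv_hom_id_assoc])
    exact isIso_of_mono_of_epi p.toHom
  exact ⟨p.K, inferInstance, p.str, ⟨asIso p.toHom⟩⟩

/-- A decent space with one point is a scheme. -/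
theorem isRepresentable_of_singleton (hX : IsAlgSpace X) (hd : IsDecent X)
    [Nonempty (Points X)] [Subsingleton (Points X)] : X.obj.IsRepresentable := by
  obtain ⟨U₀, a₀, ha₀, has₀⟩ := hX.atlas
  obtain ⟨u₀, -⟩ := surjective_ofPt has₀ (Classical.arbitrary _)
  obtain ⟨W, hWaff, huW, hW⟩ := exists_affine_subchart ha₀ u₀
  haveI := hWaff
  let V : Over S := Over.mk (W.ι ≫ U₀.hom)
  let φ : (yon S).obj V ⟶ X := (yon S).map (Over.homMk W.ι rfl : V ⟶ U₀) ≫ a₀
  have hφs : RepWith @Surjective φ := (repWith_surjective_iff (hX.representable_from_yon φ)).2 fun x =>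
    ⟨Points.ofScheme V (⟨u₀, huW⟩ : W.toScheme), Subsingleton.elim _ _⟩
  obtain ⟨R, t, s, sq⟩ := exists_isPullback_yon hX.diag φ φ
  haveI : Etale t.left := etale_snd_of_isPullback sq.flip hW
  haveI : Etale s.left := etale_snd_of_isPullback sq hW
  obtain ⟨hfU, hfR⟩ := finite_fibres_of_isDecent hX hd hW (Classical.arbitrary _)
  haveI : Finite ↥V.left :=
    Set.finite_univ_iff.1 (hfU.subset fun u _ => Subsingleton.elim _ _)
  haveI : Finite ↥R.left :=
    Set.finite_univ_iff.1 ((hfR R s t sq).subset fun u _ => Subsingleton.elim _ _)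
  haveI : T1Space ↥V.left := t1Space_iff_specializes_imp_eq.2 fun {x y} h =>
    eq_of_specializes_of_decent hX hd hW h (Subsingleton.elim _ _)
  haveI : LocallyQuasiFinite t.left := Groth.Agent.Unr55.locallyQuasiFinite_of_formallyUnramified _
  haveI : T1Space ↥R.left := t1Space_iff_specializes_imp_eq.2 fun {x y} h =>
    eq_of_specializes_of_locallyQuasiFinite t.left h (h.map t.left.continuous).eq
  haveI : DiscreteTopology ↥V.left := inferInstance
  haveI : DiscreteTopology ↥R.left := inferInstance
  haveI : IsAffine R.left := Groth.Agent.BddFib93.isAffine_of_finite_discrete _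
  haveI : IsAffine V.left := hWaff
  haveI : IsFinite s.left := isFinite_of_etale_of_finite_discrete _
  obtain ⟨M, ⟨e⟩⟩ := exists_iso_of_finLocFree_cover (locLift_of_atlas hW hφs) sq
    fun A _ => ⟨⊤, isAffineOpen_top _, Set.subset_univ _⟩
  exact isRepresentable_of_iso e

end Groth.Agent.SpFP87
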