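import Groth.Agent.SpFP87.FibreEmb
import Groth.Agent.SpFP87.Residual
import Groth.Agent.SpFP87.Reduced
import Groth.Agent.SpPts86.Quot
/-!
Factorization of maps from reduced spaces through monomorphic points.
-/

set_option autoImplicit false
set_option linter.style.haveILetI false
set_option backward.isDefEq.respectTransparency false
universe u
open CategoryTheory CategoryTheory.Limits AlgebraicGeometry Opposite Topology
open AlgSp
open Groth.Agent.SpPts86

namespace Groth.Agent.SpFP87

/-- A surjective preimmersion onto a reduced scheme is an isomorphism. -/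
theorem isIso_of_isPreimmersion_surjective {P U : Scheme.{u}} (h : P ⟶ U) [IsPreimmersion h] [Surjective h]
    [IsReduced U] : IsIso h := by
  have hinj : ∀ x, Function.Injective (h.stalkMap x).hom := by
    intro x
    rw [injective_iff_map_eq_zero]
    intro r hr
    have hnil : r ∈ nilradical (U.presheaf.stalk (h x)) := by
      rw [nilradical_eq_sInf, Ideal.mem_sInf]
      intro q hq
      let Q : ↥(Spec (U.presheaf.stalk (h x))) := ⟨q, hq⟩
      have hQ : U.fromSpecStalk (h x) Q ⤳ h x := by
        have : U.fromSpecStalk (h x) Q ∈ Set.range (U.fromSpecStalk (h x)) := ⟨Q, rfl⟩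
        rwa [Scheme.range_fromSpecStalk] at this
      obtain ⟨p', hp'⟩ := h.surjective (U.fromSpecStalk (h x) Q)
      have hs : p' ⤳ x := h.isEmbedding.isInducing.specializes_iff.1 (hp' ▸ hQ)
      obtain ⟨Q', hQ'⟩ : p' ∈ Set.range (P.fromSpecStalk x) := by
        rw [Scheme.range_fromSpecStalk]; exact hs
      have e : Spec.map (h.stalkMap x) Q' = Q := by
        apply (U.fromSpecStalk (h x)).isEmbedding.injective
        rw [← Scheme.Hom.comp_apply, Scheme.SpecMap_stalkMap_fromSpecStalk, Scheme.Hom.comp_apply, hQ', hp']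
      have e' : q = Ideal.comap (h.stalkMap x).hom Q'.asIdeal := (congrArg PrimeSpectrum.asIdeal e).symm
      rw [e', Ideal.mem_comap, hr]
      exact Q'.asIdeal.zero_mem
    rwa [nilradical_eq_zero, Ideal.zero_eq_bot, Ideal.mem_bot] at hnil
  haveI : ∀ x, IsIso (h.stalkMap x) := fun x => by
    rw [ConcreteCategory.isIso_iff_bijective]
    exact ⟨hinj x, h.stalkMap_surjective x⟩
  haveI : IsOpenImmersion h := IsOpenImmersion.of_isIso_stalkMap h ⟨h.isEmbedding, by
    rw [Set.range_eq_univ.2 h.surjective]; exact isOpen_univ⟩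
  exact (isIso_iff_isOpenImmersion_and_epi_base h).2 ⟨‹_›, (TopCat.epi_iff_surjective _).2 h.surjective⟩

/-- A map from a reduced scheme whose image lies in that of a preimmersion factors through it. -/
theorem exists_lift_of_isPreimmersion {D C R : Scheme.{u}} (i : D ⟶ R) (j : C ⟶ R) [IsPreimmersion j]
    [IsReduced D] (h : Set.range i ⊆ Set.range j) : ∃ k : D ⟶ C, k ≫ j = i := by
  haveI : Surjective (pullback.fst i j) := ⟨fun d => by
    obtain ⟨c, hc⟩ := h ⟨d, rfl⟩
    obtain ⟨z, hz, -⟩ := Scheme.Pullback.exists_preimage_pullback (f := i) (g := j) d c hc.symm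
    exact ⟨z, hz⟩⟩
  haveI : IsPreimmersion (pullback.fst i j) := MorphismProperty.pullback_fst _ _ inferInstance
  haveI : IsIso (pullback.fst i j) := isIso_of_isPreimmersion_surjective _
  exact ⟨inv (pullback.fst i j) ≫ pullback.snd i j, by
    rw [Category.assoc, ← pullback.condition, IsIso.inv_hom_id_assoc]⟩

variable {S : Scheme.{u}} {X : Sp S}

/-- The pullback of a quasi-compact monomorphic point to a chart is a preimmersion. -/
theorem exists_preimmersion_chart_point (hX : IsAlgSpace X) (p : FieldPt X) (hm : Mono p.toHom)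
    (hq : RepWith @QuasiCompact p.toHom) {V : Over S} {b : (yon S).obj V ⟶ X} (hb : RepWith @Etale b) :
    ∃ (T : Over S) (c : T ⟶ p.pt) (d : T ⟶ V), IsPullback ((yon S).map c) ((yon S).map d) p.toHom b ∧
      IsPreimmersion d.left ∧ ∀ v : ↥V.left, Points.ofPt b v = Points.mk p → v ∈ Set.range d.left := by
  obtain ⟨T, c, d, sqT⟩ := exists_isPullback_yon hX.diag p.toHom b
  haveI : Mono d := ⟨fun {Z} α β e => (yon S).map_injective (sqT.hom_ext
    (by rw [← cancel_mono p.toHom, Category.assoc, Category.assoc, sqT.w, ← Category.assoc, ← Category.assoc,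
          ← Functor.map_comp, ← Functor.map_comp, e])
    (by rw [← Functor.map_comp, ← Functor.map_comp, e]))⟩
  haveI := mono_left_of_mono d
  haveI : QuasiCompact d.left :=
    (repWith_yon_map_iff _ _).1 ((repWith_isStableUnderBaseChange _).of_isPullback sqT hq)
  haveI : Etale c.left := etale_snd_of_isPullback sqT.flip hb
  haveI : Etale (show T.left ⟶ Spec (CommRingCat.of p.K) from c.left) := ‹Etale c.left›
  obtain ⟨_, _⟩ := isLocallyArtinian_of_etale (show T.left ⟶ Spec (CommRingCat.of p.K) from c.left)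
  have hz : ∀ z, Points.ofPt b (d.left z) = Points.mk p := fun z => by
    rw [← ofPt_eq_of_isPullback sqT z]
    exact Points.ofPt_toHom p _
  have hsur : ∀ v : ↥V.left, Points.ofPt b v = Points.mk p → v ∈ Set.range d.left := fun v hv => by
    obtain ⟨z, -, hz'⟩ := exists_pt_of_isPullback' sqT (IsLocalRing.closedPoint p.K) v
      ((Points.ofPt_toHom p _).trans hv.symm)
    exact ⟨z, hz'⟩
  refine ⟨T, c, d, sqT, isPreimmersion_of_discrete d.left fun z z' h => ?_, hsur⟩
  obtain ⟨O, hO, hzO, -⟩ := exists_isAffineOpen_mem_and_subset (U := (⊤ : V.left.Opens)) (x := d.left z') trivial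
  haveI : DiscreteTopology ↥T.left := inferInstance
  refine eq_of_specializes_of_finite hX hb (W := O) ?_ (h.mem_open O.isOpen hzO) hzO h
    ((hz z).trans (hz z').symm) (hz z')
  have hfin : (d.left ⁻¹' (O : Set ↥V.left)).Finite :=
    (d.left.isCompact_preimage hO.isCompact).finite_of_discrete
  refine (hfin.image d.left).subset ?_
  rintro v ⟨hvO, hv⟩
  obtain ⟨w, rfl⟩ := hsur v hv
  exact ⟨w, hvO, rfl⟩

/-- A morphism from a reduced space landing on a quasi-compact monomorphic point factors through it. -/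
theorem exists_factor_point {Y : Sp S} (hX : IsAlgSpace X) (hY : EtaleLocally (fun U => IsReduced U) Y)
    (f : Y ⟶ X) (p : FieldPt X) (hm : Mono p.toHom) (hq : RepWith @QuasiCompact p.toHom)
    (hf : ∀ y : Points Y, Points.map f y = Points.mk p) :
    ∃ g : Y ⟶ (yon S).obj p.pt, g ≫ p.toHom = f := by
  haveI := hm
  obtain ⟨U, a, ha, has, hU⟩ := hY
  obtain ⟨V, b, hb, hbs⟩ := hX.atlas
  obtain ⟨T, c, d, sqT, hpre, hsur⟩ := exists_preimmersion_chart_point hX p hm hq hb
  haveI := hpre
  obtain ⟨U', e, l, sq⟩ := exists_isPullback_yon hX.diag (a ≫ f) b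
  haveI : Etale e.left := etale_snd_of_isPullback sq.flip hb
  haveI : Surjective e.left := ⟨fun u => by
    obtain ⟨v, hv⟩ := surjective_ofPt hbs (Points.ofPt (a ≫ f) u)
    obtain ⟨z, hz, -⟩ := exists_pt_of_isPullback' sq u v hv.symm
    exact ⟨z, hz⟩⟩
  haveI : IsReduced U.left := hU
  haveI : IsReduced U'.left := isReduced_of_smooth e.left
  have hrange : Set.range l.left ⊆ Set.range d.left := by
    rintro _ ⟨z, rfl⟩
    refine hsur _ ?_
    rw [← ofPt_eq_of_isPullback sq z, ← Points.map_ofPt]
    exact hf _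
  obtain ⟨k, hk⟩ := exists_lift_of_isPreimmersion l.left d.left hrange
  let k' : U' ⟶ T := Over.homMk k (by rw [← Over.w d, ← Category.assoc, hk, Over.w])
  have hk' : k' ≫ d = l := Over.OverMorphism.ext hk
  have hfac : (yon S).map (k' ≫ c) ≫ p.toHom = (yon S).map e ≫ a ≫ f := by
    rw [Functor.map_comp, Category.assoc, sqT.w, ← Category.assoc, ← Functor.map_comp, hk', sq.w]
  obtain ⟨gU, hgU, -⟩ := cover_existsUnique_desc e (etale_surjective_le_fppfSurj _ ⟨‹_›, ‹_›⟩)
    ((yon S).map (k' ≫ c)) fun Z q₁ q₂ h => by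
      rw [← cancel_mono p.toHom, Category.assoc, Category.assoc, hfac, ← Functor.map_comp_assoc,
        ← Functor.map_comp_assoc, h]
  have hgU' : gU ≫ p.toHom = a ≫ f := cover_hom_ext e (etale_surjective_le_fppfSurj _ ⟨‹_›, ‹_›⟩)
    (by rw [← Category.assoc, hgU, hfac])
  obtain ⟨g, hg⟩ := exists_desc (locLift_of_atlas ha has) gU fun W q₁ q₂ h => by
    rw [← cancel_mono p.toHom, Category.assoc, Category.assoc, hgU', ← Category.assoc, h, Category.assoc]
  refine ⟨g, sp_hom_ext fun W w => ?_⟩
  obtain ⟨R, r, q, hr, hq'⟩ := locLift_of_atlas ha has W w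
  refine cover_hom_ext r hr ?_
  rw [← Category.assoc, ← Category.assoc, ← hq', Category.assoc, Category.assoc, reassoc_of% hg, hgU', reassoc_of% hq']

end Groth.Agent.SpFP87
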