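import Groth.Agent.SpFP87.MonoPointFib
import Groth.Agent.SpPts86.DiagCrit
import Groth.Agent.SpPts86.UnramDiag
import Mathlib.AlgebraicGeometry.AlgClosed.Basic
import Mathlib.AlgebraicGeometry.AffineSpace
/-!
Etale maps from affine schemes to locally separated algebraic spaces have universally bounded fibres.

If `1 = ∑ b i * b' i` is obtained from an open subset of the absolute product that meets the relation in the diagonal,
distinct geometric points `q j` of one fibre satisfy `∑ q j (b i) * q k (b' i) = δ_{jk}`, so there are at most as many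
as there are indices.
-/

set_option autoImplicit false
set_option linter.style.haveILetI false
set_option backward.isDefEq.respectTransparency false
universe u
open CategoryTheory CategoryTheory.Limits AlgebraicGeometry Opposite Topology
open AlgSp
open Groth.Agent.SpPts86 Groth.Agent.BddFib93
open scoped TensorProduct

namespace Groth.Agent.SpFP87

theorem card_le_of_biorth {K : Type*} [Field K] {ι κ : Type*} [Fintype ι] [Fintype κ] (v w : κ → ι → K)
    (h0 : ∀ j l, j ≠ l → ∑ i, v j i * w l i = 0) (h1 : ∀ j, ∑ i, v j i * w j i = 1) :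
    Fintype.card κ ≤ Fintype.card ι := by
  have hli : LinearIndependent K v := by
    rw [Fintype.linearIndependent_iff]
    intro g hg l
    have := congrArg (fun f : ι → K => ∑ i, f i * w l i) hg
    simp only [Finset.sum_apply, Pi.smul_apply, smul_eq_mul, Finset.sum_mul, Pi.zero_apply, zero_mul,
      Finset.sum_const_zero, mul_assoc] at this
    rw [Finset.sum_comm] at this
    simp only [← Finset.mul_sum] at this
    rw [Finset.sum_eq_single l (fun j _ hj => by rw [h0 j l hj, mul_zero]) (by simp), h1 l, mul_one] at this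
    exact this
  simpa using hli.fintype_card_le_finrank

section Witness

/-- The integers, in an arbitrary universe. -/
def IntU : Type u := ULift.{u} ℤ

instance : CommRing IntU.{u} := inferInstanceAs (CommRing (ULift.{u} ℤ))

/-- Rings as algebras over the lifted integers. -/
@[reducible] def intUAlgebra (A : Type u) [CommRing A] : Algebra IntU.{u} A :=
  ((Int.castRingHom A).comp (ULift.ringEquiv : ULift.{u} ℤ ≃+* ℤ).toRingHom : IntU.{u} →+* A).toAlgebra

attribute [local instance 50] intUAlgebra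

/-- Ring homomorphisms as algebra homomorphisms over the lifted integers. -/
def toZAlgHom {A B : Type u} [CommRing A] [CommRing B] (q : A →+* B) : A →ₐ[IntU.{u}] B :=
  { q with
    commutes' := fun n => by
      obtain ⟨n⟩ := n
      show q ((n : A)) = (n : B)
      exact map_intCast q n }

theorem exists_witness {A : Type u} [CommRing A] {R : Scheme.{u}}
    (m : R ⟶ Spec (CommRingCat.of (A ⊗[IntU.{u}] A))) (hm : IsEmbedding m)
    (e : Spec (CommRingCat.of A) ⟶ R) [IsOpenImmersion e]
    (he : e ≫ m = Spec.map (CommRingCat.ofHom (Algebra.TensorProduct.lmul' (IntU.{u}) (S := A)).toRingHom)) :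
    ∃ n : ℕ, ∀ (K : Type u) (_ : Field K) (κ : Type u) (_ : Fintype κ) (q : κ → (A →+* K)),
      Function.Injective q →
      (∀ j l, ∃ r : Spec (CommRingCat.of K) ⟶ R, r ≫ m = Spec.map (CommRingCat.ofHom
        (Algebra.TensorProduct.productMap (toZAlgHom (q j)) (toZAlgHom (q l))).toRingHom)) →
      Fintype.card κ ≤ n := by
  set μ := (Algebra.TensorProduct.lmul' (IntU.{u}) (S := A)).toRingHom with hμ
  obtain ⟨O, hO, hOe⟩ := hm.isInducing.isOpen_iff.1 e.isOpenEmbedding.isOpen_range
  obtain ⟨J, hJ⟩ := (PrimeSpectrum.isClosed_iff_zeroLocus_ideal _).1 hO.isClosed_compl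
  have hmem : ∀ x, m (e x) ∈ O := fun x => (Set.ext_iff.1 hOe (e x)).2 ⟨x, rfl⟩
  have hsurj : Function.Surjective μ := fun a => ⟨a ⊗ₜ 1, by simp [hμ]⟩
  have htop : J ⊔ RingHom.ker μ = ⊤ := by
    rw [← PrimeSpectrum.zeroLocus_empty_iff_eq_top, PrimeSpectrum.zeroLocus_sup, ← hJ,
      ← range_comap_of_surjective _ μ hsurj, Set.eq_empty_iff_forall_notMem]
    rintro x ⟨hx, y, rfl⟩
    refine hx ?_
    have := hmem y
    rwa [← Scheme.Hom.comp_apply, he] at this
  obtain ⟨h, hhJ, k, hk, hhk⟩ := Submodule.mem_sup.1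
    (show (1 : A ⊗[IntU.{u}] A) ∈ J ⊔ RingHom.ker μ from htop ▸ trivial)
  have h1 : μ h = 1 := by
    have := congrArg μ hhk
    rwa [map_add, map_one, RingHom.mem_ker.1 hk, add_zero] at this
  obtain ⟨T, hT⟩ := TensorProduct.exists_finset h
  refine ⟨T.card, fun K _ κ _ q hq hr => ?_⟩
  rw [← Fintype.card_coe T]
  refine card_le_of_biorth (fun j i => q j i.1.1) (fun j i => q j i.1.2) (fun j l hjl => ?_) (fun j => ?_)
  · obtain ⟨r, hr⟩ := hr j l
    set ψ := (Algebra.TensorProduct.productMap (toZAlgHom (q j)) (toZAlgHom (q l))).toRingHom with hψ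
    have hsum : ψ h = ∑ i : T, q j i.1.1 * q l i.1.2 := by
      rw [hT, map_sum, ← T.sum_coe_sort]
      refine Finset.sum_congr rfl fun i _ => ?_
      simp [hψ, toZAlgHom]
    rw [← hsum]
    by_contra hne
    refine hjl (hq ?_)
    have hx : m (r (IsLocalRing.closedPoint K)) ∈ O := by
      by_contra hx
      have hx' : m (r (IsLocalRing.closedPoint K)) ∈ PrimeSpectrum.zeroLocus (J : Set _) := hJ ▸ hx
      rw [← Scheme.Hom.comp_apply, hr] at hx'
      have : h ∈ (Ideal.comap ψ (IsLocalRing.maximalIdeal K)) := hx' hhJ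
      simp [IsLocalRing.maximalIdeal_eq_bot, hne] at this
    have hre : Set.range r ⊆ Set.range e := by
      rintro - ⟨p, rfl⟩
      rw [Subsingleton.elim (α := PrimeSpectrum K) p (IsLocalRing.closedPoint K)]
      exact (Set.ext_iff.1 hOe _).1 hx
    obtain ⟨φ, hφ⟩ := Spec.map_surjective (IsOpenImmersion.lift e r hre)
    have hφψ : φ.hom.comp μ = ψ := by
      refine congrArg CommRingCat.Hom.hom ((Spec.map_injective : Function.Injective Spec.map)
        (a₁ := CommRingCat.ofHom μ ≫ φ) (a₂ := CommRingCat.ofHom ψ) ?_)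
      rw [Spec.map_comp, hφ, ← he, IsOpenImmersion.lift_fac_assoc, hr]
    ext a
    have ha := RingHom.congr_fun hφψ (a ⊗ₜ 1)
    have hb := RingHom.congr_fun hφψ (1 ⊗ₜ a)
    simp [hμ, hψ, toZAlgHom] at ha hb
    rw [← ha, ← hb]
  · have := congrArg (q j) h1
    rw [map_one, hT, map_sum, map_sum, ← T.sum_coe_sort] at this
    refine Eq.trans (Finset.sum_congr rfl fun i _ => ?_) this
    simp [hμ]

variable {S : Scheme.{u}}

theorem exists_absMap (U : Over S) [IsAffine U.left] {R : Scheme.{u}} (j : R ⟶ pullback U.hom U.hom) [IsImmersion j] :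
    ∃ m : R ⟶ Spec (CommRingCat.of (Γ(U.left, ⊤) ⊗[IntU.{u}] Γ(U.left, ⊤))), IsEmbedding m ∧
      m ≫ Spec.map (CommRingCat.ofHom Algebra.TensorProduct.includeLeftRingHom) =
        j ≫ pullback.fst _ _ ≫ U.left.isoSpec.hom ∧
      m ≫ Spec.map (CommRingCat.ofHom (R := Γ(U.left, ⊤)) (S := Γ(U.left, ⊤) ⊗[IntU.{u}] Γ(U.left, ⊤))
          (RingHomClass.toRingHom Algebra.TensorProduct.includeRight)) =
        j ≫ pullback.snd _ _ ≫ U.left.isoSpec.hom := by
  let A : Type u := Γ(U.left, ⊤)
  let σ : Spec (CommRingCat.of A) ⟶ Spec (CommRingCat.of IntU.{u}) :=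
    Spec.map (CommRingCat.ofHom (algebraMap IntU.{u} A))
  have hZ : Limits.IsTerminal (Spec (CommRingCat.of IntU.{u})) := specULiftZIsTerminal
  let i : S ⟶ Spec (CommRingCat.of IntU.{u}) := hZ.from S
  let w : U.left ⟶ Spec (CommRingCat.of A) := U.left.isoSpec.hom
  haveI : IsIso w := inferInstanceAs (IsIso U.left.isoSpec.hom)
  let b : pullback (U.hom ≫ i) (U.hom ≫ i) ⟶ pullback σ σ :=
    pullback.map (U.hom ≫ i) (U.hom ≫ i) σ σ w w (𝟙 _) (hZ.hom_ext _ _) (hZ.hom_ext _ _)
  haveI : IsIso b := inferInstance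
  haveI : IsImmersion (j ≫ pullback.mapDesc U.hom U.hom i ≫ b ≫ (pullbackSpecIso IntU.{u} A A).hom) :=
    inferInstance
  refine ⟨_, (j ≫ pullback.mapDesc U.hom U.hom i ≫ b ≫ (pullbackSpecIso IntU.{u} A A).hom).isEmbedding, ?_, ?_⟩
  · simp only [Category.assoc]
    erw [pullbackSpecIso_hom_fst]
    simp only [b, w, pullback.map, pullback.mapDesc, A]
    congr 1
    erw [pullback.lift_fst, pullback.lift_fst_assoc]
    rw [Category.comp_id]
  · simp only [Category.assoc]
    erw [pullbackSpecIso_hom_snd]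
    simp only [b, w, pullback.map, pullback.mapDesc, A]
    congr 1
    erw [pullback.lift_snd, pullback.lift_snd_assoc]
    rw [Category.comp_id]

/-- The relation of an affine chart whose map to the product is an immersion with open diagonal has at most
boundedly many pairwise related geometric points. -/
theorem exists_bound_of_immersion {R U : Over S} [IsAffine U.left] {t s : R ⟶ U} [IsImmersion (schLift t s)]
    (e₀ : U ⟶ R) [IsOpenImmersion e₀.left] (het : e₀ ≫ t = 𝟙 U) (hes : e₀ ≫ s = 𝟙 U) :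
    ∃ n : ℕ, ∀ (K : Type u) (_ : Field K) (κ : Type u) (_ : Fintype κ) (q : κ → (Spec (CommRingCat.of K) ⟶ U.left)),
      Function.Injective q → (∀ j l, ∃ r : Spec (CommRingCat.of K) ⟶ R.left, r ≫ t.left = q j ∧ r ≫ s.left = q l) →
      Fintype.card κ ≤ n := by
  let A : Type u := Γ(U.left, ⊤)
  let w : U.left ⟶ Spec (CommRingCat.of A) := U.left.isoSpec.hom
  haveI : IsIso w := inferInstanceAs (IsIso U.left.isoSpec.hom)
  obtain ⟨m, hm, hm1', hm2'⟩ := exists_absMap U (schLift t s)
  have hm1 : m ≫ Spec.map (CommRingCat.ofHom Algebra.TensorProduct.includeLeftRingHom) = t.left ≫ w := by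
    rw [hm1', schLift_fst_assoc]
  have hm2 : m ≫ Spec.map (CommRingCat.ofHom (R := A) (S := A ⊗[IntU.{u}] A)
      (RingHomClass.toRingHom Algebra.TensorProduct.includeRight)) = s.left ≫ w := by
    rw [hm2', schLift_snd_assoc]
  have hprod : ∀ {K : Type u} [CommRing K] (r : Spec (CommRingCat.of K) ⟶ R.left) (a b : A →+* K),
      r ≫ t.left ≫ w = Spec.map (CommRingCat.ofHom a) → r ≫ s.left ≫ w = Spec.map (CommRingCat.ofHom b) →
      r ≫ m = Spec.map (CommRingCat.ofHom
        (Algebra.TensorProduct.productMap (toZAlgHom a) (toZAlgHom b)).toRingHom) := by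
    intro K _ r a b ha hb
    obtain ⟨f, hf⟩ := Spec.map_surjective (r ≫ m)
    rw [← hm1, ← Category.assoc, ← hf, ← Spec.map_comp] at ha
    rw [← hm2, ← Category.assoc, ← hf, ← Spec.map_comp] at hb
    have ha' := congrArg CommRingCat.Hom.hom (Spec.map_injective ha)
    have hb' := congrArg CommRingCat.Hom.hom (Spec.map_injective hb)
    rw [← hf]
    congr 1
    refine CommRingCat.hom_ext (RingHom.ext fun z => ?_)
    induction z using TensorProduct.induction_on with
    | zero => simp
    | tmul x y =>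
      have hx : f.hom (x ⊗ₜ 1) = a x := RingHom.congr_fun ha' x
      have hy : f.hom (1 ⊗ₜ y) = b y := RingHom.congr_fun hb' y
      have hxy : f.hom (x ⊗ₜ y) = a x * b y := by
        rw [show x ⊗ₜ[IntU.{u}] y = (x ⊗ₜ 1) * (1 ⊗ₜ y) by simp, map_mul, hx, hy]
      exact hxy.trans (Algebra.TensorProduct.productMap_apply_tmul (toZAlgHom a) (toZAlgHom b) x y).symm
    | add x y hx hy => simp [hx, hy]
  obtain ⟨n, hn⟩ := exists_witness m hm (U.left.isoSpec.inv ≫ e₀.left) (by
    obtain ⟨f, hf⟩ := Spec.map_surjective ((U.left.isoSpec.inv ≫ e₀.left) ≫ m)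
    have h1 := hprod (U.left.isoSpec.inv ≫ e₀.left) (RingHom.id A) (RingHom.id A)
      (by rw [Category.assoc, ← Category.assoc e₀.left, ← Over.comp_left, het]; simp [w]; rfl)
      (by rw [Category.assoc, ← Category.assoc e₀.left, ← Over.comp_left, hes]; simp [w]; rfl)
    rw [h1]
    rfl)
  refine ⟨n, fun K _ κ _ q hq hr => ?_⟩
  let q' : κ → (A →+* K) := fun j => (Spec.preimage (q j ≫ w)).hom
  have hq' : ∀ j, Spec.map (CommRingCat.ofHom (q' j)) = q j ≫ w := fun j => Spec.map_preimage _
  refine hn K ‹_› κ ‹_› q' (fun j l h => hq (by rw [← cancel_mono w, ← hq', ← hq', h])) fun j l => ?_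
  obtain ⟨r, h1, h2⟩ := hr j l
  exact ⟨r, hprod r _ _ (by rw [hq', ← h1, Category.assoc]) (by rw [hq', ← h2, Category.assoc])⟩

end Witness

variable {S : Scheme.{u}} {X : Sp S}

/-- An etale map from an affine scheme to a locally separated algebraic space has universally bounded fibres. -/
theorem hasUnivBddFibres_of_locSep (hX : IsAlgSpace X) (hls : IsLocallySeparatedSp X) {U : Over S}
    [IsAffine U.left] {φ : (yon S).obj U ⟶ X} (hφ : RepWith @Etale φ) : W4dec.HasUnivBddFibres φ := by
  obtain ⟨R, t, s, sq⟩ := exists_isPullback_yon hX.diag φ φ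
  haveI : Etale t.left := etale_snd_of_isPullback sq.flip hφ
  haveI : IsImmersion (schLift t s) := schLift_of_repWith_diag @IsImmersion hls sq
  obtain ⟨e₀, he₀⟩ := (yon S).map_surjective (sq.lift (𝟙 _) (𝟙 _) rfl)
  have het : e₀ ≫ t = 𝟙 U := (yon S).map_injective (by
    rw [Functor.map_comp, he₀, sq.lift_fst, CategoryTheory.Functor.map_id])
  have hes : e₀ ≫ s = 𝟙 U := (yon S).map_injective (by
    rw [Functor.map_comp, he₀, sq.lift_snd, CategoryTheory.Functor.map_id])
  haveI : IsOpenImmersion e₀.left := by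
    haveI : Mono e₀ := mono_of_mono_fac het
    haveI := mono_left_of_mono e₀
    haveI : Etale (e₀.left ≫ t.left) := by
      rw [← Over.comp_left, het]
      exact inferInstanceAs (Etale (𝟙 U.left))
    haveI : Etale e₀.left := Etale.of_comp e₀.left t.left
    exact mono_inf_etale_le_openImmersion _ ⟨‹_›, ‹_›⟩
  obtain ⟨n, hn⟩ := exists_bound_of_immersion e₀ het hes
  refine ⟨n, (degFibresLE_iff φ n).2 fun q T c g sqT => ?_⟩
  obtain ⟨g, rfl⟩ := (yon S).map_surjective g
  let L := AlgebraicClosure q.K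
  let σL : Spec (CommRingCat.of L) ⟶ Spec (CommRingCat.of q.K) :=
    Spec.map (CommRingCat.ofHom (algebraMap q.K L))
  let c₀ : T.left ⟶ Spec (CommRingCat.of q.K) := c.left
  have sqL := IsPullback.of_hasPullback c₀ σL
  refine (fdle_baseChange_iff (algebraMap q.K L) sqL n).1 ?_
  haveI : Etale c.left := etale_snd_of_isPullback sqT.flip hφ
  haveI : Etale c₀ := ‹Etale c.left›
  obtain ⟨hart, -⟩ := isLocallyArtinian_of_etale (pullback.snd c₀ σL)
  haveI := hart
  let P : Over S := Over.mk (σL ≫ q.str)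
  let pL : P ⟶ q.pt := Over.homMk σL rfl
  let ζ : ∀ z : ↥(pullback c₀ σL), Spec (CommRingCat.of L) ⟶ pullback c₀ σL := fun z =>
    pointOfClosedPoint (pullback.snd c₀ σL) z (isClosed_discrete _)
  have hζ : ∀ z, ζ z ≫ pullback.snd c₀ σL = 𝟙 _ := fun z => pointOfClosedPoint_comp _ _ _
  let tz : ∀ z : ↥(pullback c₀ σL), P ⟶ T := fun z => Over.homMk (ζ z ≫ pullback.fst c₀ σL) (by
    show (ζ z ≫ pullback.fst c₀ σL) ≫ T.hom = σL ≫ q.str
    rw [← Over.w c]
    show (ζ z ≫ pullback.fst c₀ σL) ≫ c₀ ≫ q.str = σL ≫ q.str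
    rw [Category.assoc, pullback.condition_assoc, reassoc_of% hζ z])
  have htc : ∀ z, tz z ≫ c = pL := fun z => Over.OverMorphism.ext (by
    show (ζ z ≫ pullback.fst c₀ σL) ≫ c₀ = σL
    rw [Category.assoc, pullback.condition, reassoc_of% hζ z])
  let qz : ↥(pullback c₀ σL) → (Spec (CommRingCat.of L) ⟶ U.left) := fun z => (tz z ≫ g).left
  have hinj : Function.Injective qz := by
    intro z z' hzz
    have e : tz z ≫ g = tz z' ≫ g := Over.OverMorphism.ext hzz
    have e' : tz z = tz z' := (yon S).map_injective (sqT.hom_ext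
      (by rw [← Functor.map_comp, ← Functor.map_comp, htc, htc])
      (by rw [← Functor.map_comp, ← Functor.map_comp, e]))
    have e'' : ζ z = ζ z' := pullback.hom_ext (congrArg CommaMorphism.left e') (by rw [hζ, hζ])
    have := congrArg (fun f : Spec (CommRingCat.of L) ⟶ pullback c₀ σL => f (IsLocalRing.closedPoint L)) e''
    simpa [ζ] using this
  have hrel : ∀ z z', ∃ r : Spec (CommRingCat.of L) ⟶ R.left, r ≫ t.left = qz z ∧ r ≫ s.left = qz z' := by
    intro z z'
    obtain ⟨r, hr⟩ := (yon S).map_surjective (sq.lift ((yon S).map (tz z ≫ g)) ((yon S).map (tz z' ≫ g)) (by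
      rw [Functor.map_comp, Functor.map_comp, Category.assoc, Category.assoc, ← sqT.w, ← Category.assoc,
        ← Category.assoc, ← Functor.map_comp, ← Functor.map_comp, htc, htc]))
    have h1 : r ≫ t = tz z ≫ g := (yon S).map_injective (by rw [Functor.map_comp, hr, sq.lift_fst])
    have h2 : r ≫ s = tz z' ≫ g := (yon S).map_injective (by rw [Functor.map_comp, hr, sq.lift_snd])
    exact ⟨r.left, congrArg CommaMorphism.left h1, congrArg CommaMorphism.left h2⟩
  have hle : ∀ F : Finset ↥(pullback c₀ σL), F.card ≤ n := fun F => by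
    rw [← Fintype.card_coe F]
    exact hn L inferInstance F inferInstance (fun z => qz z.1) (hinj.comp Subtype.val_injective)
      (fun z z' => hrel z.1 z'.1)
  haveI : Finite ↥(pullback c₀ σL) := by
    by_contra hf
    haveI : Infinite ↥(pullback c₀ σL) := not_finite_iff_infinite.1 hf
    obtain ⟨F, hF⟩ := Infinite.exists_subset_card_eq ↥(pullback c₀ σL) (n + 1)
    have := hle F
    omega
  refine fdle_of_etale_algClosed (k := L) _ ?_
  haveI := Fintype.ofFinite ↥(pullback c₀ σL)
  rw [Nat.card_eq_fintype_card]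
  exact hle Finset.univ

theorem isDecent_of_locSep (hX : IsAlgSpace X) (hls : IsLocallySeparatedSp X) : IsDecent X :=
  isDecent_of_bdd hX fun U φ hU hφ => by
    haveI := hU
    exact hasUnivBddFibres_of_locSep hX hls hφ

end Groth.Agent.SpFP87
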