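import Groth.Agent.SpFP87.Decent
import Mathlib.AlgebraicGeometry.PullbackCarrier
/-!
Decency of a morphism can be tested on affine base changes.
-/

set_option autoImplicit false
set_option linter.style.haveILetI false
universe u
open CategoryTheory CategoryTheory.Limits AlgebraicGeometry Opposite
open AlgSp
open Groth.Agent.SpPts86

namespace Groth.Agent.SpFP87

/-- A compact subset of an open of a scheme lies in a compact open contained in it. -/
theorem exists_compact_open_between {V : Scheme.{u}} {K : Set V} (hK : IsCompact K) (O : V.Opens)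
    (hKO : K ⊆ (O : Set V)) :
    ∃ U : V.Opens, IsCompact (U : Set V) ∧ K ⊆ (U : Set V) ∧ U ≤ O := by
  classical
  let B := {W : V.affineOpens // (W.1 : V.Opens) ≤ O}
  obtain ⟨s, hs⟩ := hK.elim_finite_subcover (fun W : B => ((W.1.1 : V.Opens) : Set V))
    (fun W => W.1.1.2) (fun x hx => by
      obtain ⟨W, hW, hxW, hWO⟩ := exists_isAffineOpen_mem_and_subset (U := O) (x := x) (hKO hx)
      exact Set.mem_iUnion.2 ⟨⟨⟨W, hW⟩, hWO⟩, hxW⟩)
  refine ⟨⨆ W ∈ s, (W.1.1 : V.Opens), ?_, ?_, iSup₂_le fun W _ => W.2⟩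
  · rw [TopologicalSpace.Opens.coe_iSup]
    simp only [TopologicalSpace.Opens.coe_iSup]
    exact s.finite_toSet.isCompact_biUnion fun W _ => W.1.2.isCompact
  · rw [TopologicalSpace.Opens.coe_iSup]
    simp only [TopologicalSpace.Opens.coe_iSup]
    exact hs

variable {S : Scheme.{u}}

/-- A quasi-compact point of an open subsheaf pulled back from an open of a scheme is quasi-compact. -/
theorem repWith_qc_point_of_open {F' F'' : Sp S} {T Z : Over S} {j : F'' ⟶ F'} {sn : F' ⟶ (yon S).obj T}
    {sn' : F'' ⟶ (yon S).obj Z} {z : Z ⟶ T} (sqj : IsPullback j sn' sn ((yon S).map z))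
    (hz : IsOpenImmersion z.left) {A : Over S} (p : (yon S).obj A ⟶ F'') (hp : RepWith @QuasiCompact p)
    (hA : Subsingleton ↥A.left) (hrep : Representable (p ≫ j)) : RepWith @QuasiCompact (p ≫ j) := by
  refine ⟨hrep, fun V P g fstP sndP sqP => ?_⟩
  change QuasiCompact sndP.left
  rw [quasiCompact_iff_forall_isAffineOpen]
  intro V' hV'
  obtain ⟨ψ, hψ⟩ := (yon S).map_surjective (g ≫ sn)
  obtain ⟨ρ, hρ⟩ := (yon S).map_surjective (p ≫ sn')
  obtain ⟨φ, hφ⟩ := (yon S).map_surjective fstP
  have hcomp : φ ≫ ρ ≫ z = sndP ≫ ψ := (yon S).map_injective (by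
    rw [Functor.map_comp, Functor.map_comp, Functor.map_comp, hφ, hρ, hψ, ← Category.assoc _ g,
      ← sqP.w, Category.assoc, Category.assoc, Category.assoc, sqj.w])
  rcases isEmpty_or_nonempty ↥A.left with hE | ⟨⟨a⟩⟩
  · haveI : IsEmpty ↥P.left := Function.isEmpty φ.left
    exact (Set.toFinite _).isCompact
  let R : Set V.left := ψ.left ⁻¹' {z.left (ρ.left a)}
  have hR : IsCompact (R ∩ (V' : Set V.left)) := by
    let t := z.left (ρ.left a)
    let π := pullback.snd (T.left.fromSpecResidueField t) ψ.left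
    haveI : QuasiCompact π := inferInstance
    have h1 := π.isCompact_preimage hV'.isCompact
    have h2 := h1.image π.continuous
    have h3 : π '' (π ⁻¹ᵁ V' : Set _) = R ∩ (V' : Set V.left) := by
      rw [show ((π ⁻¹ᵁ V' : _) : Set _) = π ⁻¹' (V' : Set V.left) from rfl, Set.image_preimage_eq_inter_range,
        Scheme.Pullback.range_snd, Scheme.range_fromSpecResidueField, Set.inter_comm]
    rwa [h3] at h2
  let O : V.left.Opens := ψ.left ⁻¹ᵁ z.left.opensRange ⊓ V'
  have hRO : R ∩ (V' : Set V.left) ⊆ (O : Set V.left) := fun v hv =>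
    ⟨⟨ρ.left a, (show ψ.left v = _ from hv.1).symm⟩, hv.2⟩
  obtain ⟨U, hU, hRU, hUO⟩ := exists_compact_open_between hR O hRO
  let U' : Over S := Over.mk (U.ι ≫ V.hom)
  let ι' : U' ⟶ V := Over.homMk U.ι rfl
  have hrange : Set.range (U.ι ≫ ψ.left) ⊆ Set.range z.left := by
    rintro _ ⟨x, rfl⟩
    exact (hUO x.2).1
  let β : U' ⟶ Z := Over.homMk (IsOpenImmersion.lift z.left (U.ι ≫ ψ.left) hrange) (by
    rw [← Over.w z, IsOpenImmersion.lift_fac_assoc, Category.assoc, Over.w ψ]; rfl)
  have hβ : β ≫ z = ι' ≫ ψ := by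
    ext : 1; exact IsOpenImmersion.lift_fac _ _ _
  let g' : (yon S).obj U' ⟶ F'' := sqj.lift ((yon S).map ι' ≫ g) ((yon S).map β)
    (by rw [Category.assoc, ← hψ, ← Functor.map_comp, ← Functor.map_comp, hβ])
  haveI : Mono ((yon S).map z) :=
    mono_of_repWith_le isOpenImmersion_le_monomorphisms ((repWith_yon_map_iff _ z).2 hz)
  haveI : Mono j := mono_baseChange sqj.flip
  obtain ⟨PU, s, fU, sqU⟩ := hp.rep g'
  haveI : QuasiCompact s.left := hp.property g' fU s sqU
  haveI : CompactSpace ↥U'.left := isCompact_iff_compactSpace.1 hU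
  haveI : CompactSpace ↥PU.left := QuasiCompact.compactSpace_of_compactSpace s.left
  have w0 : fU ≫ p ≫ j = ((yon S).map s ≫ (yon S).map ι') ≫ g := by
    rw [← Category.assoc, sqU.w, Category.assoc, sqj.lift_fst, Category.assoc]
  obtain ⟨ω, hω⟩ := (yon S).map_surjective (sqP.lift fU ((yon S).map s ≫ (yon S).map ι') w0)
  have hω2 : ω ≫ sndP = s ≫ ι' := (yon S).map_injective (by
    rw [Functor.map_comp, hω, sqP.lift_snd, Functor.map_comp])
  have h4 : sndP.left ⁻¹' (V' : Set V.left) = Set.range ω.left := by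
    ext x
    constructor
    · intro hx
      have hxU : sndP.left x ∈ (U : Set V.left) := by
        refine hRU ⟨?_, hx⟩
        have := congrArg (fun k : P ⟶ T => k.left x) hcomp
        simp only [Over.comp_left] at this
        change ψ.left (sndP.left x) = _
        rw [← show z.left (ρ.left (φ.left x)) = ψ.left (sndP.left x) from this, Subsingleton.elim (φ.left x) a]
      let xs : Over S := Over.mk (P.left.fromSpecResidueField x ≫ P.hom)
      let i : xs ⟶ P := Over.homMk (P.left.fromSpecResidueField x) rfl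
      have hr : Set.range (i ≫ sndP).left ⊆ Set.range U.ι := by
        rintro _ ⟨y, rfl⟩
        have : (P.left.fromSpecResidueField x) y = x := by
          have hy : (P.left.fromSpecResidueField x) y ∈ Set.range (P.left.fromSpecResidueField x) := ⟨y, rfl⟩
          rwa [Scheme.range_fromSpecResidueField] at hy
        rw [Scheme.Opens.range_ι]
        change sndP.left ((P.left.fromSpecResidueField x) y) ∈ _
        rw [this]; exact hxU
      let k : xs ⟶ U' := Over.homMk (IsOpenImmersion.lift U.ι (i ≫ sndP).left hr) (by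
        rw [← Over.w (i ≫ sndP)]
        exact (Category.assoc _ _ _).symm.trans
          (congrArg (· ≫ V.hom) (IsOpenImmersion.lift_fac U.ι (i ≫ sndP).left hr)))
      have hk : k ≫ ι' = i ≫ sndP := by ext : 1; exact IsOpenImmersion.lift_fac _ _ _
      have w1 : ((yon S).map i ≫ fstP) ≫ p = (yon S).map k ≫ g' := by
        rw [← cancel_mono j, Category.assoc, Category.assoc, Category.assoc, sqj.lift_fst,
          sqP.w, ← Category.assoc, ← Category.assoc, ← Functor.map_comp, ← Functor.map_comp, hk]
      obtain ⟨l, hl⟩ := (yon S).map_surjective (sqU.lift ((yon S).map i ≫ fstP) ((yon S).map k) w1)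
      have hlω : l ≫ ω = i := by
        apply (yon S).map_injective
        apply sqP.hom_ext
        · rw [Functor.map_comp, hl, hω, Category.assoc, sqP.lift_fst, sqU.lift_fst]
        · rw [Functor.map_comp, hl, hω, Category.assoc, sqP.lift_snd, ← Category.assoc, sqU.lift_snd,
            ← Functor.map_comp, hk, Functor.map_comp]
      obtain ⟨y, hy⟩ : ∃ y, (P.left.fromSpecResidueField x) y = x := by
        have hm : x ∈ ({x} : Set P.left) := rfl
        rwa [← Scheme.range_fromSpecResidueField] at hm
      refine ⟨l.left y, ?_⟩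
      rw [← hy]
      exact congrArg (fun k : xs ⟶ P => k.left y) hlω
    · rintro ⟨y, rfl⟩
      have := congrArg (fun k : PU ⟶ V => k.left y) hω2
      simp only [Over.comp_left] at this
      change sndP.left (ω.left y) ∈ (V' : Set V.left)
      rw [show sndP.left (ω.left y) = U.ι (s.left y) from this]
      exact (hUO (s.left y).2).2
  change IsCompact (sndP.left ⁻¹' (V' : Set V.left))
  rw [h4]
  exact isCompact_range ω.left.continuous

theorem isDecentMor_of_affine {X Y : Sp S} (f : X ⟶ Y) (hX : Representable (Limits.diag X))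
    (hY : Representable (Limits.diag Y))
    (h : ∀ (Z : Over S) (g : (yon S).obj Z ⟶ Y) (P : Sp S) (fst : P ⟶ X) (snd : P ⟶ (yon S).obj Z),
      IsAffine Z.left → IsPullback fst snd f g → IsDecent P) : IsDecentMor f := by
  intro T F' g fst snd sq x
  obtain ⟨t, ht⟩ := (Points.schemeHomeo T).surjective (Points.map snd x)
  obtain ⟨O, hO, htO, -⟩ := exists_isAffineOpen_mem_and_subset (U := (⊤ : T.left.Opens)) (x := t) trivial
  let Z : Over S := Over.mk (O.ι ≫ T.hom)
  let z : Z ⟶ T := Over.homMk O.ι rfl
  let sqj := IsPullback.of_hasPullback snd ((yon S).map z)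
  haveI : Mono ((yon S).map z) := mono_of_repWith_le isOpenImmersion_le_monomorphisms
    ((repWith_yon_map_iff _ z).2 (inferInstanceAs (IsOpenImmersion O.ι)))
  haveI : Mono (pullback.fst snd ((yon S).map z)) := mono_baseChange sqj.flip
  have hdec := h Z ((yon S).map z ≫ g) _ _ _ hO (sqj.paste_horiz sq)
  obtain ⟨w, hw, -⟩ := exists_of_isPullback sqj x (Points.ofScheme Z ⟨t, htO⟩)
    (by rw [← Points.ofPt_eq_map_ofScheme, Groth.Agent.SpPts86.ofPt_yon_map]; exact ht.symm)
  obtain ⟨p, hp, hpm, hpq⟩ := hdec w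
  haveI := hpm
  have hF' : Representable (Limits.diag F') :=
    representable_diag_of_isPullback sq hX (IsAlgSpace.yon_obj T).diag
  refine ⟨p.map (pullback.fst snd ((yon S).map z)), ?_, ?_, ?_⟩
  · rw [← Points.map_mk, hp, hw]
  · rw [FieldPt.toHom_map]; exact @mono_comp _ _ _ _ _ _ hpm _ inferInstance
  · rw [FieldPt.toHom_map]
    exact repWith_qc_point_of_open sqj (inferInstanceAs (IsOpenImmersion O.ι)) p.toHom hpq
      (inferInstanceAs (Subsingleton ↥(Spec (CommRingCat.of p.K))))
      (Functor.relativelyRepresentable.of_diag hF' _)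

end Groth.Agent.SpFP87
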