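import Groth.Agent.SpFP87.DecentPts
import Groth.Agent.SpFP87.FieldQuot
import Groth.Agent.SpPts86.MonoField
import Mathlib.AlgebraicGeometry.Morphisms.Preimmersion
/-!
The fibre over a decent point embeds.
-/

set_option autoImplicit false
set_option linter.style.haveILetI false
set_option backward.isDefEq.respectTransparency false
universe u
open CategoryTheory CategoryTheory.Limits AlgebraicGeometry Opposite Topology
open AlgSp
open Groth.Agent.SpPts86

namespace Groth.Agent.SpFP87

/-- Inducing maps descend along a square with open bottom map and surjective top map. -/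
theorem isInducing_of_square {A B A' B' : Type*} [TopologicalSpace A] [TopologicalSpace B] [TopologicalSpace A']
    [TopologicalSpace B'] {f : A → B} {f' : A' → B'} {p : A' → A} {q : B' → B} (hf : Continuous f)
    (hp : Continuous p) (hps : Function.Surjective p) (hq : Continuous q) (hqo : IsOpenMap q) (hqs : Function.Surjective q)
    (hw : ∀ a', q (f' a') = f (p a')) (hpair : ∀ a b', q b' = f a → ∃ a', p a' = a ∧ f' a' = b')
    (hf' : IsInducing f') : IsInducing f := by
  refine ⟨le_antisymm hf.le_induced fun O hO => ?_⟩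
  obtain ⟨Ω', hΩ', hO'⟩ := hf'.isOpen_iff.1 (hO.preimage hp)
  refine isOpen_induced_iff.2 ⟨q '' Ω', hqo _ hΩ', ?_⟩
  ext a
  constructor
  · rintro ⟨b', hb', e⟩
    obtain ⟨a', rfl, rfl⟩ := hpair a b' e
    exact (Set.ext_iff.1 hO' a').1 hb'
  · intro ha
    obtain ⟨a', rfl⟩ := hps a
    exact ⟨f' a', (Set.ext_iff.1 hO' a').2 ha, hw a'⟩

/-- A quasi-compact monomorphism from a reduced discrete scheme without specializations in its image is a
preimmersion. -/
theorem isPreimmersion_of_discrete {T U : Scheme.{u}} (g : T ⟶ U) [Mono g] [QuasiCompact g] [IsLocallyArtinian T]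
    [IsReduced T] (h : ∀ a b : ↥T, g a ⤳ g b → g a = g b) : IsPreimmersion g := by
  have hinj : Function.Injective g := injective_of_mono g
  haveI : SurjectiveOnStalks g := by
    refine ⟨fun z => ?_⟩
    haveI : Mono (T.fromSpecResidueField z ≫ g) := mono_comp _ _
    rw [← Scheme.Hom.SpecMap_residueFieldMap_fromSpecResidueField] at this
    haveI : Mono (Spec.map (g.residueFieldMap z)) := mono_of_mono _ (U.fromSpecResidueField (g z))
    haveI : Nonempty ↥(Spec (T.residueField z)) := ⟨IsLocalRing.closedPoint (T.residueField z)⟩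
    haveI : IsIso (Spec.map (g.residueFieldMap z)) := isIso_of_mono_spec_field (L := U.residueField (g z)) _
    haveI : IsIso (g.residueFieldMap z) := (ConcreteCategory.isIso_iff_bijective _).2 (isIso_SpecMap_iff.1 inferInstance)
    intro b
    obtain ⟨c, hc⟩ := ((ConcreteCategory.isIso_iff_bijective (g.residueFieldMap z)).1 inferInstance).2
      (T.residue z b)
    obtain ⟨c, rfl⟩ := U.residue_surjective (g z) c
    refine ⟨c, ?_⟩
    letI := (isField_stalk z).toField
    refine (T.residue z).hom.injective ?_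
    rw [← hc]
    exact congr($(Scheme.residue_residueFieldMap g z).hom c).symm
  haveI : DiscreteTopology ↥T := inferInstance
  refine ⟨⟨⟨le_antisymm g.continuous.le_induced fun O _ => ?_⟩, hinj⟩⟩
  have hsing : ∀ z : ↥T, ∃ Ω : Set ↥U, IsOpen Ω ∧ g ⁻¹' Ω = {z} := by
    intro z
    obtain ⟨W, hW, hzW, -⟩ := exists_isAffineOpen_mem_and_subset (U := (⊤ : U.Opens)) (x := g z) trivial
    have hfin : ((g ⁻¹' W) : Set ↥T).Finite := (g.isCompact_preimage hW.isCompact).finite_of_discrete
    refine ⟨(W : Set ↥U) \ closure (g '' ((g ⁻¹' W) \ {z})), W.isOpen.sdiff isClosed_closure,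
      Set.ext fun a => ⟨?_, ?_⟩⟩
    · rintro ⟨haW, ha⟩
      by_contra hne
      exact ha (subset_closure ⟨a, ⟨haW, hne⟩, rfl⟩)
    · rintro rfl
      refine ⟨hzW, fun hcl => ?_⟩
      rw [← Set.biUnion_of_singleton (g '' ((g ⁻¹' W) \ {a})), (hfin.sdiff.image g).closure_biUnion] at hcl
      obtain ⟨_, ⟨b, ⟨-, hb⟩, rfl⟩, hcl⟩ := Set.mem_iUnion₂.1 hcl
      exact hb (hinj (h b a (specializes_iff_mem_closure.2 hcl)))
  choose Ω hΩ hΩz using hsing
  refine isOpen_induced_iff.2 ⟨⋃ z ∈ O, Ω z, isOpen_biUnion fun z _ => hΩ z, ?_⟩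
  ext a
  simp only [Set.preimage_iUnion, hΩz, Set.mem_iUnion, Set.mem_singleton_iff, exists_prop, exists_eq_right']

variable {S : Scheme.{u}}

theorem isEmbedding_fibre {X Y F : Sp S} (hX : IsAlgSpace X) (hY : IsAlgSpace Y) (f : X ⟶ Y) (r : FieldPt Y)
    [Mono r.toHom] (hq : RepWith @QuasiCompact r.toHom) {fst : F ⟶ X} {snd : F ⟶ (yon S).obj r.pt}
    (sq : IsPullback fst snd f r.toHom) :
    IsEmbedding (Points.map fst) ∧ Set.range (Points.map fst) = Points.map f ⁻¹' {Points.mk r} := by
  have hone : ∀ z : Points ((yon S).obj r.pt), Points.map r.toHom z = Points.mk r := by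
    intro z
    obtain ⟨t, rfl⟩ := (Points.schemeHomeo r.pt).surjective z
    exact (Points.ofPt_eq_map_ofScheme r.toHom t).symm.trans (Points.ofPt_toHom r t)
  haveI : Mono fst := mono_baseChange sq.flip
  refine ⟨?_, Set.ext fun x => ⟨?_, fun hx => ?_⟩⟩
  swap
  · rintro ⟨w, rfl⟩
    show Points.map f _ = _
    rw [← Points.map_comp, sq.w, Points.map_comp, hone]
  swap
  · obtain ⟨z, hz, -⟩ := exists_of_isPullback sq x (Points.ofScheme r.pt (IsLocalRing.closedPoint r.K))
      (hx.trans (hone _).symm)
    exact ⟨z, hz⟩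
  refine ⟨?_, injective_map_of_mono fst⟩
  -- a common chart
  obtain ⟨V₀, a, ha, has⟩ := hX.atlas
  obtain ⟨U, b, hb, hbs⟩ := hY.atlas
  obtain ⟨V, e, g, sqV⟩ := exists_isPullback_yon hY.diag (a ≫ f) b
  haveI : Etale e.left := etale_snd_of_isPullback sqV.flip hb
  have he : RepWith @Surjective ((yon S).map e) :=
    (repWith_isStableUnderBaseChange _).of_isPullback sqV.flip hbs
  let φ : (yon S).obj V ⟶ X := (yon S).map e ≫ a
  have hφ : RepWith @Etale φ :=
    MorphismProperty.comp_mem (W := RepWith (@Etale : MorphismProperty Scheme.{u})) _ _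
      ((repWith_yon_map_iff _ _).2 inferInstance) ha
  have hφs : RepWith @Surjective φ :=
    MorphismProperty.comp_mem (W := RepWith (@Surjective : MorphismProperty Scheme.{u})) _ _ he has
  obtain ⟨T, c, d, sqT⟩ := exists_isPullback_yon hY.diag r.toHom b
  haveI : Mono d := ⟨fun {Z} α β e => (yon S).map_injective (sqT.hom_ext
    (by rw [← cancel_mono r.toHom, Category.assoc, Category.assoc, sqT.w, ← Category.assoc, ← Category.assoc,
          ← Functor.map_comp, ← Functor.map_comp, e])
    (by rw [← Functor.map_comp, ← Functor.map_comp, e]))⟩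
  haveI := mono_left_of_mono d
  haveI : QuasiCompact d.left :=
    (repWith_yon_map_iff _ _).1 ((repWith_isStableUnderBaseChange _).of_isPullback sqT hq)
  haveI : Etale c.left := etale_snd_of_isPullback sqT.flip hb
  haveI : Etale (show T.left ⟶ Spec (CommRingCat.of r.K) from c.left) := ‹Etale c.left›
  obtain ⟨_, _⟩ := isLocallyArtinian_of_etale (show T.left ⟶ Spec (CommRingCat.of r.K) from c.left)
  haveI : IsPreimmersion d.left := by
    refine isPreimmersion_of_discrete d.left fun z z' h => ?_
    have hz : ∀ z, Points.ofPt b (d.left z) = Points.mk r := fun z => by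
      rw [← ofPt_eq_of_isPullback sqT z]
      exact Points.ofPt_toHom r _
    obtain ⟨N, hN, hz'N, -⟩ := exists_isAffineOpen_mem_and_subset (U := (⊤ : U.left.Opens)) (x := d.left z') trivial
    have hfinN : {u : ↥U.left | u ∈ N ∧ Points.ofPt b u = Points.mk r}.Finite := by
      refine ((d.left.isCompact_preimage hN.isCompact).finite_of_discrete.image d.left).subset fun u hu => ?_
      obtain ⟨w, -, rfl⟩ := exists_pt_of_isPullback' sqT (IsLocalRing.closedPoint r.K) u
        ((Points.ofPt_toHom r _).trans hu.2.symm)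
      exact ⟨w, hu.1, rfl⟩
    exact eq_of_specializes_of_finite hY hb hfinN (h.mem_open N.isOpen hz'N) hz'N h ((hz z).trans (hz z').symm) (hz z')
  -- the square
  obtain ⟨W, k, l, sqW⟩ := exists_isPullback_yon (IsAlgSpace.yon_obj U).diag ((yon S).map g) ((yon S).map d)
  let m : (yon S).obj W ⟶ F := sq.lift ((yon S).map k ≫ φ) ((yon S).map l ≫ (yon S).map c) (by
    rw [Category.assoc, Category.assoc, Category.assoc, sqV.w, sqT.w, ← Category.assoc, sqW.w, Category.assoc])
  have sqm : IsPullback m ((yon S).map k) fst φ := by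
    have big : IsPullback ((yon S).map l ≫ (yon S).map c) ((yon S).map k) r.toHom ((yon S).map g ≫ b) :=
      sqW.flip.paste_horiz sqT
    rw [← sqV.w, show (yon S).map e ≫ a ≫ f = φ ≫ f from (Category.assoc _ _ _).symm] at big
    exact IsPullback.of_right (by rw [show m ≫ snd = _ from sq.lift_snd _ _ _]; exact big) (sq.lift_fst _ _ _) sq.flip
  haveI : IsPreimmersion k.left := MorphismProperty.of_isPullback (isPullback_left sqW).flip ‹_›
  let φ' := Points.ofPt φ
  refine isInducing_of_square (f' := k.left) (p := Points.ofPt m) (q := φ') (Points.continuous_map fst)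
    (Points.continuous_ofPt m) (fun w => ?_) (Points.continuous_ofPt φ) (isOpenMap_ofPt hφ)
    (surjective_ofPt hφs) (fun w => ?_) (fun z v hv => ?_) k.left.isEmbedding.isInducing
  · obtain ⟨v, hv⟩ := surjective_ofPt hφs (Points.map fst w)
    obtain ⟨z, hz, -⟩ := exists_pt_of_isPullback sqm w v hv.symm
    exact ⟨z, hz⟩
  · show Points.ofPt φ _ = _
    rw [← ofPt_comp, ← sqm.w, ← Points.map_ofPt]
  · exact exists_pt_of_isPullback sqm z v hv.symm

end Groth.Agent.SpFP87
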