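import Groth.Agent.SpFP87.LocSep
import Groth.Agent.SpFP87.PointScheme
import Groth.Agent.SpPts86.Subspace
import Groth.Agent.SpPts86.ZarGlue
import Groth.Agent.SpPts86.Graph
import Groth.Agent.SpPts86.DecentPts
/-!
Monomorphisms into discrete schemes.
-/

set_option autoImplicit false
set_option linter.style.haveILetI false
set_option backward.isDefEq.respectTransparency false
universe u
open CategoryTheory CategoryTheory.Limits AlgebraicGeometry Opposite Topology
open AlgSp
open Groth.Agent.SpPts86

namespace Groth.Agent.SpFP87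

variable {S : Scheme.{u}}

theorem hom_ext_to_base {F : Sp S} (a b : F ⟶ (yon S).obj (Over.mk (𝟙 S))) : a = b :=
  sp_hom_ext fun T g => by
    obtain ⟨x, hx⟩ := (yon S).map_surjective (g ≫ a)
    obtain ⟨y, hy⟩ := (yon S).map_surjective (g ≫ b)
    rw [← hx, ← hy]
    congr 1
    apply Over.OverMorphism.ext
    have h1 : x.left ≫ 𝟙 S = T.hom := Over.w x
    have h2 : y.left ≫ 𝟙 S = T.hom := Over.w y
    exact ((Category.comp_id _).symm.trans h1).trans ((Category.comp_id _).symm.trans h2).symm

theorem isLocallySeparatedSp_yon (Y : Over S) : IsLocallySeparatedSp ((yon S).obj Y) := by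
  let g : Y ⟶ Over.mk (𝟙 S) := Over.homMk Y.hom (Category.comp_id _)
  haveI : IsIso (toProd ((yon S).map g) ((yon S).map g)) :=
    ⟨pullback.lift prod.fst prod.snd (hom_ext_to_base _ _), pullback.hom_ext (by simp [toProd]) (by simp [toProd]),
      Limits.prod.hom_ext (by simp [toProd]) (by simp [toProd])⟩
  unfold IsLocallySeparatedSp
  rw [← diagonal_comp_toProd ((yon S).map g)]
  exact (repWith_isStableUnderBaseChange _).of_isPullback
    (IsPullback.of_horiz_isIso ⟨by simp⟩ :
      IsPullback (𝟙 _) (pullback.diagonal ((yon S).map g) ≫ toProd ((yon S).map g) ((yon S).map g))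
        (pullback.diagonal ((yon S).map g)) (inv (toProd ((yon S).map g) ((yon S).map g))))
    (isLocallySeparatedMor_yon_map g)

theorem isDecent_of_mono_to_scheme {X : Sp S} (hX : IsAlgSpace X) {Y : Over S} (f : X ⟶ (yon S).obj Y) [Mono f] :
    IsDecent X := by
  refine isDecent_of_locSep hX ((repWith_isStableUnderBaseChange _).of_isPullback
    (show IsPullback f (Limits.diag X) (Limits.diag ((yon S).obj Y)) (prod.map f f) from ?_)
    (isLocallySeparatedSp_yon Y))
  refine IsPullback.mk' (by simp) (fun Z a b e _ => (cancel_mono f).1 e) fun Z a b e => ?_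
  have e1 : a = (b ≫ prod.fst) ≫ f := by simpa using congrArg (· ≫ prod.fst) e
  have e2 : a = (b ≫ prod.snd) ≫ f := by simpa using congrArg (· ≫ prod.snd) e
  have e3 : b ≫ prod.fst = b ≫ prod.snd := (cancel_mono f).1 (e1.symm.trans e2)
  exact ⟨b ≫ prod.fst, e1.symm, Limits.prod.hom_ext (by simp) (by simpa using e3)⟩

theorem isRepresentable_of_mono_to_discrete {X : Sp S} (hX : IsAlgSpace X) {Y : Over S}
    [DiscreteTopology ↥Y.left] (f : X ⟶ (yon S).obj Y) [Mono f] : X.obj.IsRepresentable := by
  have hd := isDecent_of_mono_to_scheme hX f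
  haveI : DiscreteTopology (Points ((yon S).obj Y)) :=
    (Points.schemeHomeo Y).symm.isEmbedding.discreteTopology
  haveI : DiscreteTopology (Points X) :=
    DiscreteTopology.of_continuous_injective (Points.continuous_map f) (injective_map_of_mono f)
  have key : ∀ x : Points X, ∃ (V : Over S) (j : (yon S).obj V ⟶ X),
      RepWith @IsOpenImmersion j ∧ x ∈ Set.range (Points.ofPt j) := by
    intro x
    have hW : IsOpen ({x} : Set (Points X)) := isOpen_discrete _
    let X' := restrictSheaf X ({x} : Set (Points X))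
    have hj : RepWith @IsOpenImmersion (restrictι X ({x} : Set (Points X))) := repWith_restrictι hW
    have hr := range_map_restrictι (F := X) hW
    have hinj := (isEmbedding_map_of_openImmersion hj).injective
    haveI : Subsingleton (Points X') :=
      ⟨fun a b => hinj ((hr.le ⟨a, rfl⟩).trans (hr.le ⟨b, rfl⟩).symm)⟩
    haveI : Nonempty (Points X') := by
      obtain ⟨z, -⟩ := hr.ge (Set.mem_singleton x)
      exact ⟨z⟩
    haveI : X'.obj.IsRepresentable := isRepresentable_of_singleton (isAlgSpace_restrictSheaf hX hW)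
      (isDecent_of_representable _ hj.1 hd)
    let e := AlgSp.isoOfRepresentableBy X'.obj.representableBy
    refine ⟨_, e.hom ≫ restrictι X _, ?_, ?_⟩
    · exact (repWith_isStableUnderBaseChange _).of_isPullback
        (IsPullback.of_horiz_isIso ⟨by simp⟩ :
          IsPullback e.hom (e.hom ≫ restrictι X _) (restrictι X _) (𝟙 X)) hj
    · obtain ⟨z, hz⟩ := hr.ge (Set.mem_singleton x)
      obtain ⟨v, hv⟩ := (Points.schemeHomeo _).surjective (Points.map e.inv z)
      refine ⟨v, ?_⟩
      rw [Points.ofPt_eq_map_ofScheme]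
      show Points.map _ (Points.schemeHomeo _ v) = x
      rw [hv, ← Points.map_comp, Iso.inv_hom_id_assoc, hz]
  choose V j hj hx using key
  obtain ⟨U₀, a₀, -, ha₀⟩ := hX.atlas
  obtain ⟨U, ⟨e⟩⟩ := exists_iso_of_open_cover (fun u : ↥U₀.left => V (Points.ofPt a₀ u))
    (fun u => j (Points.ofPt a₀ u)) (fun u => hj _) fun x => by
      obtain ⟨u, rfl⟩ := surjective_ofPt ha₀ x
      exact ⟨u, hx _⟩
  exact isRepresentable_of_iso e

end Groth.Agent.SpFP87
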