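import Groth.Agent.SpFP87.Sober
import Groth.Agent.SpFP87.NoethDesc
import Mathlib.RingTheory.Ideal.KrullsHeightTheorem
import Mathlib.RingTheory.Spectrum.Prime.Topology
import Mathlib.Topology.NoetherianSpace
import Mathlib.Topology.JacobsonSpace
import Mathlib.Topology.Spectral.Basic
/-!
Punctured spaces of generalizations.
-/

set_option autoImplicit false
set_option linter.style.haveILetI false
set_option backward.isDefEq.respectTransparency false
universe u
open CategoryTheory CategoryTheory.Limits AlgebraicGeometry Opposite Topology TopologicalSpace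
open AlgSp
open Groth.Agent.SpPts86

namespace Groth.Agent.SpFP87

/-- A Noetherian local domain with a nonzero element in all nonzero nonmaximal primes has dimension at most one. -/
theorem eq_maximal_of_mem_all {B : Type u} [CommRing B] [IsDomain B] [IsLocalRing B] [IsNoetherianRing B] {f : B}
    (hf : f ≠ 0) (hfm : f ∈ IsLocalRing.maximalIdeal B)
    (hall : ∀ r : Ideal B, r.IsPrime → r ≠ ⊥ → r ≠ IsLocalRing.maximalIdeal B → f ∈ r)
    {q : Ideal B} (hq : q.IsPrime) (hq0 : q ≠ ⊥) : q = IsLocalRing.maximalIdeal B := by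
  by_contra hqm
  have hle : q < IsLocalRing.maximalIdeal B := lt_of_le_of_ne (IsLocalRing.le_maximalIdeal hq.ne_top) hqm
  have hone : ∀ r : Ideal B, r.IsPrime → r ≠ ⊥ → 1 ≤ r.height := fun r hr h0 => by
    rw [Order.one_le_iff_pos, pos_iff_ne_zero]
    exact fun e => h0 (Ideal.height_eq_zero_iff_eq_bot.1 e)
  have htwo : ¬ (IsLocalRing.maximalIdeal B).height ≤ 1 := fun h => by
    have h1 := (hone q hq hq0)
    have h2 := Ideal.height_add_one_le_of_lt_of_isPrime hle
    have h3 : q.height + 1 ≤ 1 := h2.trans h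
    have h4 : (1 : ℕ∞) + 1 ≤ 1 := (add_le_add_left h1 1).trans h3
    exact absurd h4 (by decide)
  let M := (Ideal.span {f}).minimalPrimes
  have hM : M.Finite := Ideal.finite_minimalPrimes_of_isNoetherianRing B _
  have hnot : ∀ r ∈ M, ¬ IsLocalRing.maximalIdeal B ≤ r := fun r hr h => by
    haveI := hr.1.1
    have := Ideal.height_le_one_of_isPrincipal_of_mem_minimalPrimes _ r hr
    exact htwo ((Ideal.height_mono h).trans this)
  obtain ⟨g, hgm, hg⟩ : ∃ g ∈ IsLocalRing.maximalIdeal B, ∀ r ∈ M, g ∉ r := by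
    by_contra hcon
    push Not at hcon
    obtain ⟨r, hr, hle'⟩ := (Ideal.subset_union_prime (s := hM.toFinset) (f := fun r => r) ⊥ ⊥
      (fun r hr _ _ => (hM.mem_toFinset.1 hr).1.1) (I := IsLocalRing.maximalIdeal B)).1 (fun x hx => by
        obtain ⟨r, hr, hxr⟩ := hcon x hx
        exact Set.mem_biUnion (hM.mem_toFinset.2 hr) hxr)
    exact hnot r (hM.mem_toFinset.1 hr) hle'
  obtain ⟨r, hr, hrm⟩ := Ideal.exists_minimalPrimes_le
    ((Ideal.span_singleton_le_iff_mem (IsLocalRing.maximalIdeal B)).2 hgm)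
  haveI := hr.1.1
  have hgr : g ∈ r := hr.1.2 (Ideal.subset_span rfl)
  have hr1 := Ideal.height_le_one_of_isPrincipal_of_mem_minimalPrimes _ r hr
  have hr0 : r ≠ ⊥ := by
    rintro rfl
    have : g = 0 := hgr
    obtain ⟨r', hr', -⟩ := Ideal.exists_minimalPrimes_le
      ((Ideal.span_singleton_le_iff_mem (IsLocalRing.maximalIdeal B)).2 hfm)
    exact hg r' hr' (this ▸ r'.zero_mem)
  have hrne : r ≠ IsLocalRing.maximalIdeal B := fun e => htwo (e ▸ hr1)
  obtain ⟨r', hr', hle'⟩ := Ideal.exists_minimalPrimes_le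
    ((Ideal.span_singleton_le_iff_mem r).2 (hall r ‹_› hr0 hrne))
  haveI := hr'.1.1
  have hr'0 : r' ≠ ⊥ := fun e => hf (by
    have : f ∈ r' := hr'.1.2 (Ideal.subset_span rfl)
    rw [e] at this
    exact this)
  rcases hle'.eq_or_lt with e | hlt
  · exact hg r' hr' (e ▸ hgr)
  · have h2 := Ideal.height_add_one_le_of_lt_of_isPrime hlt
    have h4 : (1 : ℕ∞) + 1 ≤ 1 := (add_le_add_left (hone r' ‹_› hr'0) 1).trans (h2.trans hr1)
    exact absurd h4 (by decide)

/-- Locally closed points of punctured local spectra are closed there. -/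
theorem eq_of_specializes_of_locClosed {A : Type u} [CommRing A] [IsLocalRing A] [IsNoetherianRing A]
    {p q : PrimeSpectrum A} {O : Set (PrimeSpectrum A)} (hO : IsOpen O) (hpO : p ∈ O)
    (hiso : ∀ r ∈ O, r ≠ IsLocalRing.closedPoint A → p ⤳ r → r = p) (h : p ⤳ q)
    (hpm : p ≠ IsLocalRing.closedPoint A) (hqm : q ≠ IsLocalRing.closedPoint A) : q = p := by
  have hO' : IsOpen (O \ {IsLocalRing.closedPoint A}) :=
    hO.sdiff (PrimeSpectrum.isClosed_singleton_iff_isMaximal _ |>.2 (IsLocalRing.maximalIdeal.isMaximal A))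
  obtain ⟨_, ⟨f, rfl⟩, hpf, hsub⟩ :=
    PrimeSpectrum.isTopologicalBasis_basic_opens.exists_subset_of_mem_open
      (show p ∈ O \ {IsLocalRing.closedPoint A} from ⟨hpO, hpm⟩) hO'
  haveI := p.isPrime
  let B := A ⧸ p.asIdeal
  let π := Ideal.Quotient.mk p.asIdeal
  haveI : Nontrivial B := Ideal.Quotient.nontrivial_iff.2 p.isPrime.ne_top
  haveI : IsLocalRing B := IsLocalRing.of_surjective' π Ideal.Quotient.mk_surjective
  haveI : IsNoetherianRing B := isNoetherianRing_of_surjective A B π Ideal.Quotient.mk_surjective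
  have hmax : (IsLocalRing.maximalIdeal B).comap π = IsLocalRing.maximalIdeal A := by
    exact IsLocalRing.eq_maximalIdeal (Ideal.comap_isMaximal_of_surjective π Ideal.Quotient.mk_surjective)
  have hf0 : π f ≠ 0 := fun e => hpf (Ideal.Quotient.eq_zero_iff_mem.1 e)
  have hfm : π f ∈ IsLocalRing.maximalIdeal B := by
    have : f ∈ IsLocalRing.maximalIdeal A := by
      by_contra hc
      exact (hsub (show IsLocalRing.closedPoint A ∈ (PrimeSpectrum.basicOpen f : Set _) from hc)).2 rfl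
    rw [← hmax] at this
    exact this
  have hall : ∀ r : Ideal B, r.IsPrime → r ≠ ⊥ → r ≠ IsLocalRing.maximalIdeal B → π f ∈ r := by
    intro r hr hr0 hrm
    haveI := hr
    by_contra hfr
    let R : PrimeSpectrum A := ⟨r.comap π, inferInstance⟩
    have hRO := hsub (show R ∈ (PrimeSpectrum.basicOpen f : Set _) from hfr)
    have hpR : p ⤳ R := (PrimeSpectrum.le_iff_specializes _ _).1 fun x hx => by
      show π x ∈ r
      rw [Ideal.Quotient.eq_zero_iff_mem.2 hx]
      exact r.zero_mem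
    have hne : R ≠ IsLocalRing.closedPoint A := hRO.2
    have e := congrArg PrimeSpectrum.asIdeal (hiso R hRO.1 hne hpR)
    refine hr0 ((Ideal.comap_injective_of_surjective π Ideal.Quotient.mk_surjective) ?_)
    show r.comap π = (⊥ : Ideal B).comap π
    rw [← RingHom.ker_eq_comap_bot, Ideal.mk_ker]
    exact e
  have hpq : p.asIdeal ≤ q.asIdeal := (PrimeSpectrum.le_iff_specializes _ _).2 h
  haveI := q.isPrime
  haveI : (q.asIdeal.map π).IsPrime :=
    Ideal.map_isPrime_of_surjective Ideal.Quotient.mk_surjective (by rw [Ideal.mk_ker]; exact hpq)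
  have hcm : (q.asIdeal.map π).comap π = q.asIdeal := by
    rw [Ideal.comap_map_of_surjective π Ideal.Quotient.mk_surjective, ← RingHom.ker_eq_comap_bot, Ideal.mk_ker]
    exact sup_eq_left.2 hpq
  by_contra hne
  have := eq_maximal_of_mem_all hf0 hfm hall ‹_› (fun e => hne (PrimeSpectrum.ext (by
    rw [← hcm, e, ← RingHom.ker_eq_comap_bot, Ideal.mk_ker])))
  exact hqm (PrimeSpectrum.ext (by rw [← hcm, this, hmax]; rfl))

/-- Locally closed points of punctured local spaces of Noetherian schemes are closed there. -/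
theorem eq_of_specializes_of_locClosed_gen {U : Scheme.{u}} [IsLocallyNoetherian U] {u p q : ↥U} {O : Set ↥U}
    (hO : IsOpen O) (hpO : p ∈ O) (hiso : ∀ r ∈ O, r ⤳ u → r ≠ u → p ⤳ r → r = p) (h : p ⤳ q)
    (hpu : p ⤳ u) (hpne : p ≠ u) (hqu : q ⤳ u) (hqne : q ≠ u) : q = p := by
  haveI : IsNoetherianRing ↥(U.presheaf.stalk u) := inferInstance
  have hi := (U.fromSpecStalk u).isEmbedding
  obtain ⟨P, rfl⟩ : p ∈ Set.range (U.fromSpecStalk u) := by rw [Scheme.range_fromSpecStalk]; exact hpu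
  obtain ⟨Q, rfl⟩ : q ∈ Set.range (U.fromSpecStalk u) := by rw [Scheme.range_fromSpecStalk]; exact hqu
  have hc : U.fromSpecStalk u (IsLocalRing.closedPoint (U.presheaf.stalk u)) = u := Scheme.fromSpecStalk_closedPoint
  have := eq_of_specializes_of_locClosed (A := U.presheaf.stalk u) (p := P) (q := Q)
    (O := U.fromSpecStalk u ⁻¹' O) (hO.preimage (U.fromSpecStalk u).continuous) hpO
    (fun r hr hne hPr => hi.injective (hiso _ hr
      (by
        have : U.fromSpecStalk u r ∈ Set.range (U.fromSpecStalk u) := ⟨r, rfl⟩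
        rwa [Scheme.range_fromSpecStalk] at this)
      (fun e => hne (hi.injective (e.trans hc.symm))) (Specializes.map hPr (U.fromSpecStalk u).continuous)))
    (hi.isInducing.specializes_iff.1 h) (fun e => hpne (e ▸ hc)) (fun e => hqne (e ▸ hc))
  rw [this]

variable {S : Scheme.{u}} {X : Sp S}

theorem punctured_properties (hX : IsAlgSpace X) (hd : IsDecent X) (hN : IsLocNoethSp X) (x : Points X) :
    NoetherianSpace {x' : Points X // x' ⤳ x ∧ x' ≠ x} ∧ SpectralSpace {x' : Points X // x' ⤳ x ∧ x' ≠ x} ∧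
      QuasiSober {x' : Points X // x' ⤳ x ∧ x' ≠ x} ∧ JacobsonSpace {x' : Points X // x' ⤳ x ∧ x' ≠ x} := by
  obtain ⟨U, φ, hφ, hs⟩ := hX.atlas
  obtain ⟨u, rfl⟩ := surjective_ofPt hs x
  haveI := isLocallyNoetherian_chart hX hN hφ
  haveI := t0Space_points hX hd
  haveI := quasiSober_points hX hd
  let G := {v : ↥U.left // v ⤳ u ∧ v ≠ u}
  have hG : ∀ v : G, Points.ofPt φ v.1 ⤳ Points.ofPt φ u ∧ Points.ofPt φ v.1 ≠ Points.ofPt φ u := fun v =>
    ⟨v.2.1.map (Points.continuous_ofPt φ), fun e => v.2.2 (eq_of_specializes_of_decent hX hd hφ v.2.1 e)⟩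
  let g : G → {x' : Points X // x' ⤳ Points.ofPt φ u ∧ x' ≠ Points.ofPt φ u} := fun v => ⟨_, hG v⟩
  have hg : Continuous g := ((Points.continuous_ofPt φ).comp continuous_subtype_val).subtype_mk _
  have hgs : Function.Surjective g := by
    rintro ⟨y, hy, hyne⟩
    obtain ⟨a, ha, rfl⟩ := exists_generalization_lift hX hd hφ hy
    exact ⟨⟨a, ha, fun e => hyne (by rw [e])⟩, rfl⟩
  haveI : NoetherianSpace ↥(Spec (U.left.presheaf.stalk u)) :=
    inferInstanceAs (NoetherianSpace (PrimeSpectrum (U.left.presheaf.stalk u)))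
  haveI : NoetherianSpace ↥(Set.range (U.left.fromSpecStalk u)) :=
    NoetherianSpace.range _ (U.left.fromSpecStalk u).continuous
  haveI hGN : NoetherianSpace G := by
    refine Topology.IsInducing.noetherianSpace (α := ↥(Set.range (U.left.fromSpecStalk u)))
      (i := fun v : G => ⟨v.1, by rw [Scheme.range_fromSpecStalk]; exact v.2.1⟩) ?_
    refine (IsInducing.subtypeVal.of_comp_iff).1 ?_
    exact IsInducing.subtypeVal
  haveI hW : NoetherianSpace {x' : Points X // x' ⤳ Points.ofPt φ u ∧ x' ≠ Points.ofPt φ u} :=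
    noetherianSpace_of_surjective g hg hgs
  haveI hsob : QuasiSober {x' : Points X // x' ⤳ Points.ofPt φ u ∧ x' ≠ Points.ofPt φ u} := by
    refine ⟨fun {T} hT hTc => ?_⟩
    obtain ⟨ξ, hξ⟩ := QuasiSober.sober ((hT.image _ continuous_subtype_val.continuousOn).closure) isClosed_closure
    obtain ⟨c, hc⟩ := hT.1
    have h1 : ξ ⤳ c.1 := hξ.specializes (subset_closure ⟨c, hc, rfl⟩)
    have hξ2 : ξ ⤳ Points.ofPt φ u ∧ ξ ≠ Points.ofPt φ u :=
      ⟨h1.trans c.2.1, fun e => c.2.2 (Specializes.antisymm c.2.1 (e ▸ h1)).eq⟩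
    refine ⟨⟨ξ, hξ2⟩, ?_⟩
    show closure {⟨ξ, hξ2⟩} = T
    rw [IsInducing.subtypeVal.closure_eq_preimage_closure_image, Set.image_singleton, hξ]
    exact (IsInducing.subtypeVal.closure_eq_preimage_closure_image T).symm.trans hTc.closure_eq
  refine ⟨hW, ?_, hsob, ?_⟩
  · haveI : QuasiSeparatedSpace {x' : Points X // x' ⤳ Points.ofPt φ u ∧ x' ≠ Points.ofPt φ u} :=
      ⟨fun _ _ _ _ _ _ => NoetherianSpace.isCompact _⟩
    exact {}
  · refine jacobsonSpace_iff_locallyClosed.2 fun C hCne hC => ?_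
    haveI : Nonempty ↥C := hCne.to_subtype
    obtain ⟨w, -, hw⟩ := (isClosed_univ (X := ↥C)).exists_closed_singleton Set.univ_nonempty
    obtain ⟨O, Z, hO, hZ, hCOZ⟩ := hC
    obtain ⟨O', hO', hOO'⟩ := isOpen_induced_iff.1 hO
    have hmin : ∀ c ∈ C, w.1 ⤳ c → c = w.1 := fun c hc h =>
      congrArg Subtype.val (Set.mem_singleton_iff.1 (((subtype_specializes_iff w ⟨c, hc⟩).2 h).mem_closed (s := ({w} : Set ↥C)) hw (Set.mem_singleton w)))
    refine ⟨w.1, w.2, closure_subset_iff_isClosed.1 fun y hy' => ?_⟩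
    have hy : w.1 ⤳ y := specializes_iff_mem_closure.2 hy'
    show y = w.1
    have hwO : Points.ofPt φ u = Points.ofPt φ u ∧ (w.1 : {x' : Points X // _}) ∈ O ∧ w.1 ∈ Z :=
      ⟨rfl, (hCOZ ▸ w.2 : w.1 ∈ O ∩ Z).1, (hCOZ ▸ w.2 : w.1 ∈ O ∩ Z).2⟩
    obtain ⟨c, hc, hcy⟩ := exists_generalization_lift hX hd hφ y.2.1
    obtain ⟨p, hp, hpw⟩ := exists_generalization_lift hX hd hφ (b := c) (x := w.1.1)
      (by rw [hcy]; exact hy.map continuous_subtype_val)
    have hpu : p ⤳ u := hp.trans hc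
    have hpne : p ≠ u := fun e => w.1.2.2 (by rw [← hpw, e])
    have hcne : c ≠ u := fun e => y.2.2 (by rw [← hcy, e])
    have := eq_of_specializes_of_locClosed_gen (U := U.left) (O := Points.ofPt φ ⁻¹' O')
      (hO'.preimage (Points.continuous_ofPt φ))
      (show Points.ofPt φ p ∈ O' by rw [hpw]; exact hOO'.symm.subset hwO.2.1)
      (fun r hr hru hrne hpr => by
        have hgr := hG ⟨r, hru, hrne⟩
        have hwr : w.1 ⤳ (⟨_, hgr⟩ : {x' : Points X // x' ⤳ Points.ofPt φ u ∧ x' ≠ Points.ofPt φ u}) :=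
          (subtype_specializes_iff _ _).2 (hpw ▸ hpr.map (Points.continuous_ofPt φ))
        have hrC : (⟨_, hgr⟩ : {x' : Points X // x' ⤳ Points.ofPt φ u ∧ x' ≠ Points.ofPt φ u}) ∈ C := by
          rw [hCOZ]
          exact ⟨hOO'.subset hr, hwr.mem_closed hZ hwO.2.2⟩
        exact (eq_of_specializes_of_decent hX hd hφ hpr
          (hpw.trans (congrArg Subtype.val (hmin _ hrC hwr)).symm)).symm)
      hp hpu hpne hc hcne
    exact Subtype.ext (by rw [← hcy, this, hpw])

end Groth.Agent.SpFP87
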