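import Groth.Agent.SpFP87.UnivBdd
import Groth.Agent.SpFP87.FieldMono
import Groth.Agent.SpPts86.Charts
import Groth.Agent.BddFib93.QuasiFinite
import Groth.Agent.BddFib93.Comp
import Groth.Agent.BddFib93.Etale
import Groth.Agent.Unr55.UnrQF
/-!
Calculus of universally bounded fibres.
-/

set_option autoImplicit false
set_option linter.style.haveILetI false
set_option backward.isDefEq.respectTransparency false
universe u
open CategoryTheory CategoryTheory.Limits AlgebraicGeometry Opposite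
open AlgSp
open Groth.Agent.SpPts86 Groth.Agent.BddFib93

namespace Groth.Agent.SpFP87

variable {S : Scheme.{u}}

theorem fdle_iff_isFinite {K : Type u} [Field K] {T : Scheme.{u}} (c : T ⟶ Spec (CommRingCat.of K)) (n : ℕ) :
    BddFib.FiniteOfDegLE (CommRingCat.of K) c n ↔ IsFinite c ∧ ∀ s, c.finrank s ≤ n := by
  have key : ∀ {A : Type u} [CommRing A] [Algebra K A] (e : T ≅ Spec (CommRingCat.of A)),
      e.hom ≫ Spec.map (CommRingCat.ofHom (algebraMap K A)) = c →
      ((Module.Finite K A ∧ Module.finrank K A ≤ n) ↔ IsFinite c ∧ ∀ s, c.finrank s ≤ n) := by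
    intro A _ _ e he
    subst he
    rw [MorphismProperty.cancel_left_of_respectsIso (P := @IsFinite) e.hom, IsFinite.SpecMap_iff]
    have h0 : (CommRingCat.ofHom (algebraMap K A)).hom.Finite ↔ Module.Finite K A :=
      RingHom.finite_algebraMap
    rw [h0]
    refine and_congr_right fun hA => ?_
    haveI : Flat (Spec.map (CommRingCat.ofHom (algebraMap K A))) := flat_to_specField _
    haveI : IsFinite (Spec.map (CommRingCat.ofHom (algebraMap K A))) := by
      rw [IsFinite.SpecMap_iff]; exact RingHom.finite_algebraMap.2 hA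
    constructor
    · intro h s
      rw [Scheme.Hom.finrank_comp_left_of_isIso, Scheme.Hom.finrank_SpecMap_algebraMap,
        Module.rankAtStalk_eq_finrank_of_free]
      exact h
    · intro h
      have := h (IsLocalRing.closedPoint K)
      rwa [Scheme.Hom.finrank_comp_left_of_isIso, Scheme.Hom.finrank_SpecMap_algebraMap,
        Module.rankAtStalk_eq_finrank_of_free] at this
  constructor
  · intro h
    obtain ⟨A, _, _, e, he, hA⟩ := (fdle_iff_exists c n).1 h
    exact (key e he).1 hA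
  · rintro ⟨hc, hn⟩
    haveI := hc
    haveI : IsAffine T := isAffine_of_isAffineHom c
    obtain ⟨A, i1, i2, e, he⟩ := exists_algebra (K := CommRingCat.of K) c
    exact (fdle_iff_exists c n).2 ⟨A, i1, i2, e, he, (key e he).2 ⟨hc, hn⟩⟩

theorem degFibresLE_iff {F : Sp S} {U : Over S} (a : (yon S).obj U ⟶ F) (n : ℕ) :
    W4dec.DegFibresLE n a ↔ ∀ (q : FieldPt F) (T : Over S) (c : T ⟶ q.pt)
      (snd : (yon S).obj T ⟶ (yon S).obj U), IsPullback ((yon S).map c) snd q.toHom a →
        BddFib.FiniteOfDegLE (CommRingCat.of q.K) c.left n :=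
  ⟨fun h q T c snd sq => (fdle_iff_isFinite c.left n).2 (h q T c snd sq),
    fun h q T c snd sq => (fdle_iff_isFinite c.left n).1 (h q T c snd sq)⟩

theorem degFibresLE_yon_iff {U V : Over S} (f : V ⟶ U) (n : ℕ) :
    W4dec.DegFibresLE n ((yon S).map f) ↔ BddFib.FibreDegLE f.left n := by
  rw [degFibresLE_iff]
  constructor
  · intro h
    refine (fibreDegLE_iff _ _).2 fun k _ g => ?_
    let K : Over S := Over.mk (g ≫ U.hom)
    let g' : K ⟶ U := Over.homMk g rfl
    let T : Over S := Over.mk (pullback.snd f.left g ≫ K.hom)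
    let p : T ⟶ V := Over.homMk (pullback.fst f.left g) (by
      show pullback.fst f.left g ≫ V.hom = pullback.snd f.left g ≫ g ≫ U.hom
      rw [← Over.w f, pullback.condition_assoc])
    let c : T ⟶ K := Over.homMk (pullback.snd f.left g) rfl
    have sq : IsPullback c p g' f :=
      IsPullback.of_map (Over.forget S) (Over.OverMorphism.ext pullback.condition.symm)
        (IsPullback.of_hasPullback f.left g).flip
    let q : FieldPt ((yon S).obj U) := ⟨k, g ≫ U.hom, uE ((yon S).map g')⟩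
    have hq : q.toHom = (yon S).map g' := by
      apply (uE (S := S)).injective
      rw [FieldPt.uliftYonedaEquiv_toHom]
    exact h q T c ((yon S).map p) (by rw [hq]; exact sq.map (yon S))
  · intro h q T c snd sq
    obtain ⟨g, hg⟩ := (yon S).map_surjective q.toHom
    obtain ⟨p, rfl⟩ := (yon S).map_surjective snd
    rw [← hg] at sq
    have sq' := isPullback_left sq
    have h' := (fibreDegLE_iff _ _).1 h q.K g.left
    rw [← sq'.flip.isoPullback_hom_snd]
    exact fdle_iso_comp _ _ n h'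

theorem hasUnivBdd_comp {F : Sp S} (hF : IsAlgSpace F) {U V : Over S} (f : V ⟶ U) (a : (yon S).obj U ⟶ F)
    {n m : ℕ} (hf : BddFib.FibreDegLE f.left n) (ha : W4dec.DegFibresLE m a) :
    W4dec.DegFibresLE (n * m) ((yon S).map f ≫ a) := by
  rw [degFibresLE_iff] at ha ⊢
  intro q T c snd sq
  obtain ⟨T₁, c₁, p₁, sq₁⟩ := exists_isPullback_yon hF.diag q.toHom a
  obtain ⟨p, rfl⟩ := (yon S).map_surjective snd
  obtain ⟨l, hl⟩ := (yon S).map_surjective (sq₁.lift ((yon S).map c) ((yon S).map p ≫ (yon S).map f)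
    (by rw [Category.assoc]; exact sq.w))
  have hlc : l ≫ c₁ = c := (yon S).map_injective (by rw [Functor.map_comp, hl, sq₁.lift_fst])
  have sq₂ : IsPullback ((yon S).map p) ((yon S).map l) ((yon S).map f) ((yon S).map p₁) := by
    refine IsPullback.of_bot ?_ (by rw [hl, sq₁.lift_snd]) sq₁.flip
    rw [← Functor.map_comp, hlc]
    exact sq.flip
  have h1 := ha q T₁ c₁ ((yon S).map p₁) sq₁
  have h2 := fibreDegLE_of_isPullback f.left p₁.left l.left p.left (isPullback_left sq₂) n hf
  rw [← hlc]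
  exact fdle_comp h2 h1

theorem hasUnivBddFibres_comp {F : Sp S} (hF : IsAlgSpace F) {U V : Over S} (f : V ⟶ U)
    (a : (yon S).obj U ⟶ F) (hf : BddFib.UnivBounded f.left) (ha : W4dec.HasUnivBddFibres a) :
    W4dec.HasUnivBddFibres ((yon S).map f ≫ a) := by
  obtain ⟨n, hn⟩ := hf
  obtain ⟨m, hm⟩ := ha
  exact ⟨n * m, hasUnivBdd_comp hF f a hn hm⟩

theorem univBounded_of_etale {U V : Scheme.{u}} (f : U ⟶ V) [Etale f] [CompactSpace U] :
    BddFib.UnivBounded f := by
  haveI := Groth.Agent.Unr55.locallyQuasiFinite_of_formallyUnramified f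
  exact univBounded_of_locallyQuasiFinite f

theorem degFibresLE_of_flat_surjective {F : Sp S} (hF : IsAlgSpace F) {U V : Over S} (f : U ⟶ V)
    [Flat f.left] [Surjective f.left] (h : (yon S).obj V ⟶ F) {n : ℕ}
    (hg : W4dec.DegFibresLE n ((yon S).map f ≫ h)) : W4dec.DegFibresLE n h := by
  rw [degFibresLE_iff] at hg ⊢
  intro q T c snd sq
  obtain ⟨p, rfl⟩ := (yon S).map_surjective snd
  obtain ⟨T', l, p', sqT⟩ := exists_isPullback_yon (IsAlgSpace.yon_obj V).diag ((yon S).map p) ((yon S).map f)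
  have h1 := hg q T' (l ≫ c) ((yon S).map p') (by
    rw [Functor.map_comp]
    exact (sqT.flip.paste_vert sq.flip).flip)
  rw [Over.comp_left] at h1
  haveI : Flat l.left := MorphismProperty.of_isPullback (isPullback_left sqT).flip inferInstance
  haveI : Surjective l.left := MorphismProperty.of_isPullback (isPullback_left sqT).flip inferInstance
  have h2 : BddFib.FibreDegLE (l.left ≫ c.left) n := by
    refine (fibreDegLE_iff _ _).2 fun k _ g => ?_
    obtain ⟨σ, rfl⟩ := Spec.map_surjective g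
    exact (fdle_baseChange_iff (K := q.K) (L := k) σ.hom (IsPullback.of_hasPullback _ _) n).2 h1
  have h3 := (fibreDegLE_iff c.left n).1 (fibreDegLE_of_flat_surjective l.left c.left n h2) q.K (𝟙 _)
  haveI : IsIso (pullback.fst c.left (𝟙 (Spec (CommRingCat.of q.K)))) := inferInstance
  have e : pullback.snd c.left (𝟙 (Spec (CommRingCat.of q.K))) = pullback.fst c.left (𝟙 (Spec (CommRingCat.of q.K))) ≫ c.left := by
    rw [pullback.condition]; exact (Category.comp_id _).symm
  rw [e, fdle_iso_comp_iff] at h3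
  exact h3

theorem hasUnivBddFibres_of_flat_surjective {F : Sp S} (hF : IsAlgSpace F) {U V : Over S} (f : U ⟶ V)
    [Flat f.left] [Surjective f.left] (h : (yon S).obj V ⟶ F)
    (hg : W4dec.HasUnivBddFibres ((yon S).map f ≫ h)) : W4dec.HasUnivBddFibres h := by
  obtain ⟨n, hn⟩ := hg
  exact ⟨n, degFibresLE_of_flat_surjective hF f h hn⟩

/-- Composition with a monomorphism preserves bounded fibres. -/
theorem hasUnivBddFibres_comp_mono {X Y : Sp S} (j : Y ⟶ X) [Mono j] {U : Over S} (a : (yon S).obj U ⟶ Y)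
    (ha : W4dec.HasUnivBddFibres a) : W4dec.HasUnivBddFibres (a ≫ j) := by
  obtain ⟨n, hn⟩ := ha
  have sq : IsPullback (𝟙 ((yon S).obj U)) a (a ≫ j) j :=
    ((IsPullback.of_horiz_isIso (fst := 𝟙 ((yon S).obj U)) (snd := a) (f := a) (g := 𝟙 Y) ⟨by simp⟩).paste_vert
      (IsKernelPair.id_of_mono j))
  refine ⟨n, degFibresLE_of_range_subset sq ?_ hn⟩
  rintro _ ⟨u, rfl⟩
  exact ⟨Points.ofPt a u, Points.map_ofPt a j u⟩

open scoped Classical in
/-- Bounded fibres may be checked on a finite open cover of the source. -/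
theorem hasUnivBddFibres_of_openCover {F : Sp S} (hF : IsAlgSpace F) {V : Over S} (a : (yon S).obj V ⟶ F)
    (ha : RepWith @Etale a) {ι : Type} [Fintype ι] (O : ι → V.left.Opens) (hcov : ∀ v, ∃ i, v ∈ O i)
    (h : ∀ i, W4dec.HasUnivBddFibres
      ((yon S).map (Over.homMk (O i).ι rfl : Over.mk ((O i).ι ≫ V.hom) ⟶ V) ≫ a)) :
    W4dec.HasUnivBddFibres a := by
  choose n hn using h
  refine ⟨∑ i, n i, (degFibresLE_iff _ _).2 fun q T c snd sq => ?_⟩
  obtain ⟨p, rfl⟩ := (yon S).map_surjective snd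
  haveI : Etale c.left := etale_snd_of_isPullback sq.flip ha
  haveI : LocallyQuasiFinite c.left := Groth.Agent.Unr55.locallyQuasiFinite_of_formallyUnramified c.left
  have hj : ∀ i, BddFib.FiniteOfDegLE (CommRingCat.of q.K)
      (pullback.snd (O i).ι p.left ≫ c.left) (n i) := by
    intro i
    let T' : Over S := Over.mk (pullback.snd (O i).ι p.left ≫ T.hom)
    let l : T' ⟶ T := Over.homMk (pullback.snd (O i).ι p.left) rfl
    let p' : T' ⟶ Over.mk ((O i).ι ≫ V.hom) := Over.homMk (pullback.fst (O i).ι p.left) (by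
      show pullback.fst _ _ ≫ (O i).ι ≫ V.hom = pullback.snd _ _ ≫ T.hom
      rw [pullback.condition_assoc, Over.w p])
    have sqT : IsPullback l p' p (Over.homMk (O i).ι rfl) :=
      IsPullback.of_map (Over.forget S) (Over.OverMorphism.ext pullback.condition.symm)
        (IsPullback.of_hasPullback (O i).ι p.left).flip
    exact (degFibresLE_iff _ _).1 (hn i) q T' (l ≫ c) ((yon S).map p') (by
      rw [Functor.map_comp]
      exact ((sqT.map (yon S)).flip.paste_vert sq.flip).flip)
  have hcov' : ∀ t : ↥T.left, ∃ i, t ∈ Set.range (pullback.snd (O i).ι p.left) := fun t => by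
    obtain ⟨i, hi⟩ := hcov (p.left t)
    refine ⟨i, ?_⟩
    rw [Scheme.Pullback.range_snd, Scheme.Opens.range_ι]
    exact hi
  haveI : Finite ↥T.left := by
    refine Set.finite_univ_iff.1 ?_
    rw [show (Set.univ : Set ↥T.left) = ⋃ i, Set.range (pullback.snd (O i).ι p.left) from
      (Set.eq_univ_of_forall fun t => Set.mem_iUnion.2 (hcov' t)).symm]
    refine Set.finite_iUnion fun i => ?_
    obtain ⟨_, _⟩ := finite_discrete_of_fdle (hj i)
    exact Set.finite_range _
  haveI : IsLocallyArtinian (Spec (CommRingCat.of q.K)) := inferInstance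
  haveI : IsLocallyArtinian q.pt.left := inferInstanceAs (IsLocallyArtinian (Spec (CommRingCat.of q.K)))
  haveI : IsLocallyArtinian T.left := .of_locallyQuasiFinite c.left
  exact fdle_of_cover c.left (fun i => pullback.snd (O i).ι p.left) hcov' n hj

/-- If affine etale charts covering a space have bounded fibres, all affine etale charts do. -/
theorem hasUnivBddFibres_of_etale_cover {X : Sp S} (hX : IsAlgSpace X) {ι : Type*} (U : ι → Over S)
    (φ : ∀ i, (yon S).obj (U i) ⟶ X) (hφ : ∀ i, RepWith @Etale (φ i))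
    (hb : ∀ i, W4dec.HasUnivBddFibres (φ i)) {V : Over S} [IsAffine V.left] (ψ : (yon S).obj V ⟶ X)
    (hψ : RepWith @Etale ψ) (hsurj : ∀ v : ↥V.left, ∃ (i : ι) (w : ↥(U i).left),
      Points.ofPt (φ i) w = Points.ofPt ψ v) :
    W4dec.HasUnivBddFibres ψ := by
  have hloc : ∀ v : ↥V.left, ∃ O : V.left.Opens, v ∈ O ∧ W4dec.HasUnivBddFibres
      ((yon S).map (Over.homMk O.ι rfl : Over.mk (O.ι ≫ V.hom) ⟶ V) ≫ ψ) := by
    intro v
    obtain ⟨i, w, hw⟩ := hsurj v
    obtain ⟨R, p, q, _, _, sq, -, -, -⟩ := exists_common_chart hX (hφ i) hψ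
    obtain ⟨r, hrw, hrv⟩ := exists_pt_common_chart sq w v hw
    obtain ⟨W, hW, hrW, -⟩ := exists_isAffineOpen_mem_and_subset (U := (⊤ : R.left.Opens)) (x := r) trivial
    let O : V.left.Opens := ⟨Set.range (W.ι ≫ q.left), (W.ι ≫ q.left).isOpenMap.isOpen_range⟩
    refine ⟨O, ⟨⟨r, hrW⟩, hrv⟩, ?_⟩
    let W' : Over S := Over.mk (W.ι ≫ R.hom)
    let jW : W' ⟶ R := Over.homMk W.ι rfl
    let O' : Over S := Over.mk (O.ι ≫ V.hom)
    let jO : O' ⟶ V := Over.homMk O.ι rfl
    have hlift : Set.range (W.ι ≫ q.left) ⊆ Set.range O.ι := by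
      rw [Scheme.Opens.range_ι]; exact fun z hz => hz
    let m : W' ⟶ O' := Over.homMk (IsOpenImmersion.lift O.ι (W.ι ≫ q.left) hlift) (by
      show _ ≫ O.ι ≫ V.hom = W.ι ≫ R.hom
      rw [IsOpenImmersion.lift_fac_assoc, Category.assoc, Over.w q])
    haveI : Etale (W.ι ≫ q.left) := inferInstance
    haveI : Etale (m.left ≫ O.ι) := by
      show Etale (IsOpenImmersion.lift O.ι (W.ι ≫ q.left) hlift ≫ O.ι)
      rw [IsOpenImmersion.lift_fac]; infer_instance
    haveI : Etale m.left := Etale.of_comp m.left O.ι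
    haveI : Surjective m.left := by
      refine ⟨fun z => ?_⟩
      obtain ⟨x, hx⟩ := z.2
      refine ⟨x, O.ι.isOpenEmbedding.injective ?_⟩
      show (IsOpenImmersion.lift O.ι (W.ι ≫ q.left) hlift ≫ O.ι) x = _
      rw [IsOpenImmersion.lift_fac, hx]
      rfl
    refine hasUnivBddFibres_of_flat_surjective hX m _ ?_
    haveI : IsAffine W'.left := hW
    haveI : Etale (jW ≫ p).left := inferInstanceAs (Etale (W.ι ≫ p.left))
    have e : (yon S).map m ≫ (yon S).map jO ≫ ψ = (yon S).map (jW ≫ p) ≫ φ i := by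
      rw [← Category.assoc, ← Functor.map_comp, Functor.map_comp (yon S) jW p, Category.assoc, sq.w,
        ← Category.assoc, ← Functor.map_comp]
      congr 2
      exact Over.OverMorphism.ext (IsOpenImmersion.lift_fac _ _ _)
    rw [e]
    exact hasUnivBddFibres_comp hX _ _ (univBounded_of_etale _) (hb i)
  choose O hO hbdd using hloc
  obtain ⟨t, ht⟩ := isCompact_univ.elim_finite_subcover (fun v => (O v : Set ↥V.left))
    (fun v => (O v).isOpen) (fun v _ => Set.mem_iUnion.2 ⟨v, hO v⟩)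
  let e : Fin t.card → ↥V.left := fun l => (t.equivFin.symm l).1
  refine hasUnivBddFibres_of_openCover hX ψ hψ (fun l => O (e l)) (fun v => ?_) (fun l => hbdd (e l))
  obtain ⟨w, hw, hv⟩ := Set.mem_iUnion₂.1 (ht (Set.mem_univ v))
  exact ⟨t.equivFin ⟨w, hw⟩, by simp only [e, Equiv.symm_apply_apply]; exact hv⟩

theorem hasUnivBddFibres_of_zarCover {X : Sp S} (hX : IsAlgSpace X) {ι : Type u} (Xi : ι → Sp S)
    (hXi : ∀ i, IsAlgSpace (Xi i)) (j : ∀ i, Xi i ⟶ X) (hj : IsZarCover Xi j)
    (h : ∀ (i : ι) (V : Over S) (ψ : (yon S).obj V ⟶ Xi i), IsAffine V.left → RepWith @Etale ψ →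
      W4dec.HasUnivBddFibres ψ)
    {V : Over S} [IsAffine V.left] (φ : (yon S).obj V ⟶ X) (hφ : RepWith @Etale φ) :
    W4dec.HasUnivBddFibres φ := by
  let κ := Σ (i : ι) (U : Over S), { ψ : (yon S).obj U ⟶ Xi i // IsAffine U.left ∧ RepWith @Etale ψ }
  have hmono : ∀ i, Mono (j i) := fun i =>
    mono_of_repWith_le (P := @IsOpenImmersion) (fun _ _ f (_ : IsOpenImmersion f) => inferInstanceAs (Mono f)) (hj.1 i)
  refine hasUnivBddFibres_of_etale_cover hX (fun x : κ => x.2.1) (fun x => x.2.2.1 ≫ j x.1)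
    (fun x => ?_) (fun x => ?_) φ hφ (fun v => ?_)
  · refine MorphismProperty.comp_mem (W := RepWith (@Etale : MorphismProperty Scheme.{u})) _ _ x.2.2.2.2 ?_
    exact repWith_mono (fun _ _ f (_ : IsOpenImmersion f) => inferInstanceAs (Etale f)) (hj.1 x.1)
  · haveI := hmono x.1
    exact hasUnivBddFibres_comp_mono _ _ (h _ _ _ x.2.2.2.1 x.2.2.2.2)
  · obtain ⟨i, z, hz⟩ := hj.2 (Points.ofPt φ v)
    obtain ⟨U, a, ha, has⟩ := (hXi i).atlas
    obtain ⟨u, rfl⟩ := surjective_ofPt has z
    obtain ⟨W, hW, huW, -⟩ := exists_isAffineOpen_mem_and_subset (U := (⊤ : U.left.Opens)) (x := u) trivial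
    let W' : Over S := Over.mk (W.ι ≫ U.hom)
    let jW : W' ⟶ U := Over.homMk W.ι rfl
    haveI : Etale jW.left := inferInstanceAs (Etale W.ι)
    refine ⟨⟨i, W', (yon S).map jW ≫ a, hW,
      MorphismProperty.comp_mem (W := RepWith (@Etale : MorphismProperty Scheme.{u})) _ _
        ((repWith_yon_map_iff _ _).2 inferInstance) ha⟩, (⟨u, huW⟩ : W.toScheme), ?_⟩
    show Points.ofPt (((yon S).map jW ≫ a) ≫ j i) _ = _
    rw [Category.assoc, ofPt_comp]
    exact (Points.map_ofPt a (j i) u).symm.trans hz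

theorem hasUnivBddFibres_affine_of_representable {X Y : Sp S} (hX : IsAlgSpace X) (hY : IsAlgSpace Y)
    (f : X ⟶ Y) (hf : Representable f)
    (hbY : ∀ (V : Over S) (ψ : (yon S).obj V ⟶ Y), IsAffine V.left → RepWith @Etale ψ → W4dec.HasUnivBddFibres ψ)
    {V : Over S} [IsAffine V.left] (φ : (yon S).obj V ⟶ X) (hφ : RepWith @Etale φ) :
    W4dec.HasUnivBddFibres φ := by
  let κ := Σ (B : Over S), { b : (yon S).obj B ⟶ Y // IsAffine B.left ∧ RepWith @Etale b }
  let XB : κ → Over S := fun x => hf.pullback x.2.1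
  have hsq : ∀ x : κ, IsPullback (hf.fst x.2.1) ((yon S).map (hf.snd x.2.1)) f x.2.1 :=
    fun x => hf.isPullback x.2.1
  have het : ∀ x : κ, RepWith @Etale (hf.fst x.2.1) := fun x =>
    (repWith_isStableUnderBaseChange _).of_isPullback (hsq x).flip x.2.2.2
  have hb : ∀ x : κ, W4dec.HasUnivBddFibres (hf.fst x.2.1) := by
    intro x
    obtain ⟨n, hn⟩ := hbY _ x.2.1 x.2.2.1 x.2.2.2
    exact ⟨n, degFibresLE_baseChange (hsq x).flip hn⟩
  refine hasUnivBddFibres_of_etale_cover hX XB (fun x => hf.fst x.2.1) het hb φ hφ (fun v => ?_)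
  obtain ⟨B₀, b₀, hb₀, hb₀s⟩ := hY.atlas
  obtain ⟨w, hw⟩ := surjective_ofPt hb₀s (Points.map f (Points.ofPt φ v))
  obtain ⟨W, hW, hwW, -⟩ := exists_isAffineOpen_mem_and_subset (U := (⊤ : B₀.left.Opens)) (x := w) trivial
  let B : Over S := Over.mk (W.ι ≫ B₀.hom)
  let jW : B ⟶ B₀ := Over.homMk W.ι rfl
  haveI : Etale jW.left := inferInstanceAs (Etale W.ι)
  let x : κ := ⟨B, (yon S).map jW ≫ b₀, hW,
      MorphismProperty.comp_mem (W := RepWith (@Etale : MorphismProperty Scheme.{u})) _ _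
        ((repWith_yon_map_iff _ _).2 inferInstance) hb₀⟩
  refine ⟨x, ?_⟩
  obtain ⟨r, hr, -⟩ := exists_pt_of_isPullback (hsq x) (Points.ofPt φ v) (⟨w, hwW⟩ : W.toScheme) (by
    show _ = Points.ofPt ((yon S).map jW ≫ b₀) _
    rw [ofPt_comp]
    exact hw.symm)
  exact ⟨r, hr⟩

end Groth.Agent.SpFP87
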