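import Groth.Agent.SpFP87.MonoPoint
import Groth.Agent.SpFP87.UnivBddCalc
import Groth.Agent.SpPts86.DiagDesc
/-!
Monomorphic points with finite fibres; decency from bounded fibres.
-/

set_option autoImplicit false
set_option linter.style.haveILetI false
set_option backward.isDefEq.respectTransparency false
universe u
open CategoryTheory CategoryTheory.Limits AlgebraicGeometry Opposite
open AlgSp
open Groth.Agent.SpPts86 Groth.Agent.BddFib93

namespace Groth.Agent.SpFP87

variable {S : Scheme.{u}} {X : Sp S}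

theorem finite_fibres_iff_mono_point (hX : IsAlgSpace X) (x : Points X) {U : Over S} {φ : (yon S).obj U ⟶ X}
    (hφ : RepWith @Etale φ) :
    (x ∈ Set.range (Points.ofPt φ) ∧ (Points.ofPt φ ⁻¹' {x}).Finite ∧
        ∀ (R : Over S) (s t : R ⟶ U), IsPullback ((yon S).map t) ((yon S).map s) φ φ →
          (Points.ofPt ((yon S).map t ≫ φ) ⁻¹' {x}).Finite) ↔
      ∃ p : FieldPt X, Points.mk p = x ∧ Mono p.toHom ∧
        ∀ (T : Over S) (c : T ⟶ p.pt) (snd : (yon S).obj T ⟶ (yon S).obj U),
          IsPullback ((yon S).map c) snd p.toHom φ → Nonempty ↥T.left ∧ IsFinite c.left := by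
  constructor
  · rintro ⟨⟨u, rfl⟩, hU, hR⟩
    obtain ⟨R, t, s, sq⟩ := exists_isPullback_yon hX.diag φ φ
    have hfin : {r : ↥R.left | s.left r = u ∧ t.left r = u}.Finite := (hR R s t sq).subset fun r hr => by
      show Points.ofPt ((yon S).map t ≫ φ) r = _
      rw [ofPt_comp, hr.2]
    obtain ⟨p, hp, hm⟩ := exists_mono_point_of_finite hX hφ u u rfl sq hfin
    refine ⟨p, hp, hm, fun T c snd sqT => ?_⟩
    obtain ⟨g, rfl⟩ := (yon S).map_surjective snd
    haveI := hm
    haveI : Mono g := ⟨fun {Z} a b e => (yon S).map_injective (sqT.hom_ext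
      (by rw [← cancel_mono p.toHom, Category.assoc, Category.assoc, sqT.w, ← Category.assoc, ← Category.assoc,
            ← Functor.map_comp, ← Functor.map_comp, e])
      (by rw [← Functor.map_comp, ← Functor.map_comp, e]))⟩
    haveI := mono_left_of_mono g
    have hne : Nonempty ↥T.left := by
      obtain ⟨z, -, -⟩ := exists_pt_of_isPullback' sqT (IsLocalRing.closedPoint p.K) u
        ((Points.ofPt_toHom p _).trans hp)
      exact ⟨z⟩
    have hsub : ∀ z : ↥T.left, g.left z ∈ Points.ofPt φ ⁻¹' {Points.ofPt φ u} := fun z => by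
      show Points.ofPt φ (g.left z) = _
      rw [← ofPt_eq_of_isPullback sqT z, ← hp]
      exact Points.ofPt_toHom p _
    haveI : Finite ↥T.left := by
      haveI := hU.to_subtype
      exact Finite.of_injective (β := ↥(Points.ofPt φ ⁻¹' {Points.ofPt φ u})) (fun z => ⟨g.left z, hsub z⟩)
        fun a b h => injective_of_mono g.left (congrArg Subtype.val h)
    haveI : Etale c.left := etale_snd_of_isPullback sqT.flip hφ
    haveI : LocallyQuasiFinite c.left := Groth.Agent.Unr55.locallyQuasiFinite_of_formallyUnramified _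
    haveI : IsAffine p.pt.left := inferInstanceAs (IsAffine (Spec _))
    haveI : IsLocallyArtinian p.pt.left := inferInstanceAs (IsLocallyArtinian (Spec (CommRingCat.of p.K)))
    haveI : QuasiCompact c.left := (quasiCompact_iff_compactSpace c.left).2 Finite.compactSpace
    exact ⟨hne, IsFinite.of_locallyQuasiFinite _⟩
  · rintro ⟨p, rfl, hm, hT⟩
    haveI := hm
    obtain ⟨T, c, g, sqT⟩ := exists_isPullback_yon hX.diag p.toHom φ
    obtain ⟨⟨z⟩, hc⟩ := hT T c _ sqT
    haveI := hc
    haveI : IsLocallyArtinian p.pt.left := inferInstanceAs (IsLocallyArtinian (Spec (CommRingCat.of p.K)))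
    haveI : IsAffine p.pt.left := inferInstanceAs (IsAffine (Spec _))
    haveI : IsLocallyArtinian T.left := .of_locallyQuasiFinite c.left
    haveI : CompactSpace ↥T.left := QuasiCompact.compactSpace_of_compactSpace c.left
    haveI : Finite ↥T.left := finite_of_compact_of_discrete
    have hfib : (Points.ofPt φ ⁻¹' {Points.mk p}).Finite := by
      refine (Set.finite_range g.left).subset fun u hu => ?_
      obtain ⟨z', -, hz'⟩ := exists_pt_of_isPullback' sqT (IsLocalRing.closedPoint p.K) u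
        ((Points.ofPt_toHom p _).trans hu.symm)
      exact ⟨z', hz'⟩
    refine ⟨⟨g.left z, ?_⟩, hfib, fun R s t sq => ?_⟩
    · rw [← ofPt_eq_of_isPullback sqT z]
      exact Points.ofPt_toHom p _
    · have key : ∀ r : ↥R.left, Points.ofPt φ (t.left r) = Points.ofPt φ (s.left r) := fun r =>
        ofPt_eq_of_isPullback sq r
      refine ((hfib.prod hfib).biUnion fun uv _ =>
        (?_ : {r : ↥R.left | Points.ofPt φ uv.1 = Points.mk p ∧ Points.ofPt φ uv.2 = Points.mk p ∧
          s.left r = uv.2 ∧ t.left r = uv.1}.Finite)).subset (fun r hr => ?_)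
      · by_cases h : Points.ofPt φ uv.1 = Points.mk p ∧ Points.ofPt φ uv.2 = Points.mk p
        · exact (finite_fibre_rel_of_mono hX hφ uv.1 uv.2 p h.1 h.2 sq).subset fun r hr => hr.2.2
        · exact Set.finite_empty.subset fun r hr => h ⟨hr.1, hr.2.1⟩
      · have h1 : Points.ofPt φ (t.left r) = Points.mk p := by
          rw [← ofPt_comp]; exact hr
        refine Set.mem_iUnion₂.2 ⟨(t.left r, s.left r), ⟨h1, (key r).symm.trans h1⟩, h1, (key r).symm.trans h1, rfl, rfl⟩

theorem isDecent_of_bdd (hX : IsAlgSpace X)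
    (h : ∀ (U : Over S) (φ : (yon S).obj U ⟶ X), IsAffine U.left → RepWith @Etale φ → W4dec.HasUnivBddFibres φ) :
    IsDecent X := by
  intro x
  obtain ⟨U₀, a, ha, has⟩ := hX.atlas
  obtain ⟨u₀, hu₀⟩ := surjective_ofPt has x
  have haff : ∀ (W : U₀.left.Opens), RepWith @Etale
      ((yon S).map (Over.homMk W.ι rfl : Over.mk (W.ι ≫ U₀.hom) ⟶ U₀) ≫ a) := fun W =>
    MorphismProperty.comp_mem (W := RepWith (@Etale : MorphismProperty Scheme.{u})) _ _
      ((repWith_yon_map_iff _ _).2 (inferInstanceAs (Etale W.ι))) ha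
  obtain ⟨W, hW, huW, -⟩ := exists_isAffineOpen_mem_and_subset (U := (⊤ : U₀.left.Opens)) (x := u₀) trivial
  let U : Over S := Over.mk (W.ι ≫ U₀.hom)
  let φ : (yon S).obj U ⟶ X := (yon S).map (Over.homMk W.ι rfl : U ⟶ U₀) ≫ a
  have hφ : RepWith @Etale φ := haff W
  haveI : IsAffine U.left := hW
  have hbU := h U φ hW hφ
  have hx : Points.ofPt φ (⟨u₀, huW⟩ : W.toScheme) = x := by
    rw [ofPt_comp]; exact hu₀
  have hfinU : (Points.ofPt φ ⁻¹' {x}).Finite := by
    obtain ⟨n, hn⟩ := exists_fibre_encard_le hX hbU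
    exact Set.finite_of_encard_le_coe (hn x)
  have hfinR : ∀ (R : Over S) (s t : R ⟶ U), IsPullback ((yon S).map t) ((yon S).map s) φ φ →
      (Points.ofPt ((yon S).map t ≫ φ) ⁻¹' {x}).Finite := by
    intro R s t sq
    obtain ⟨m, hm⟩ := hbU
    have ht : BddFib.FibreDegLE t.left m :=
      (degFibresLE_yon_iff t m).1 (degFibresLE_baseChange sq.flip hm)
    obtain ⟨n, hn⟩ := exists_fibre_encard_le hX ⟨m * m, hasUnivBdd_comp hX t φ ht hm⟩
    exact Set.finite_of_encard_le_coe (hn x)
  obtain ⟨p, hp, hm, -⟩ := (finite_fibres_iff_mono_point hX x hφ).1 ⟨⟨_, hx⟩, hfinU, hfinR⟩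
  refine ⟨p, hp, hm, ?_⟩
  obtain ⟨T, g, c, sqT⟩ := exists_isPullback_yon hX.diag p.toHom a
  have := quasiCompact_descends.{u}
  have := isLocalAtTarget_fppf.{u} @QuasiCompact
  refine (repWith_iff_of_chart (P := @QuasiCompact) (Functor.relativelyRepresentable.of_diag hX.diag _) ha has sqT).2 ?_
  rw [IsZariskiLocalAtTarget.iff_of_iSup_eq_top (P := @QuasiCompact) _ (iSup_affineOpens_eq_top U₀.left)]
  intro V
  haveI : IsAffine V.1.toScheme := V.2
  refine (quasiCompact_iff_compactSpace _).2 ?_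
  let V' : Over S := Over.mk (V.1.ι ≫ U₀.hom)
  let jV : V' ⟶ U₀ := Over.homMk V.1.ι rfl
  obtain ⟨n, hn⟩ := h V' ((yon S).map jV ≫ a) V.2 (haff V.1)
  let T' : Over S := Over.mk ((c.left ⁻¹ᵁ V.1).ι ≫ T.hom)
  let l : T' ⟶ T := Over.homMk (c.left ⁻¹ᵁ V.1).ι rfl
  let c' : T' ⟶ V' := Over.homMk (c.left ∣_ V.1) (by
    show (c.left ∣_ V.1) ≫ V.1.ι ≫ U₀.hom = (c.left ⁻¹ᵁ V.1).ι ≫ T.hom
    rw [morphismRestrict_ι_assoc, Over.w c])
  have sq2 : IsPullback l c' c jV :=
    IsPullback.of_map (Over.forget S) (Over.OverMorphism.ext (morphismRestrict_ι c.left V.1).symm)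
      (isPullback_morphismRestrict c.left V.1).flip
  obtain ⟨hfin, -⟩ := hn p T' (l ≫ g) ((yon S).map c') (by
    rw [Functor.map_comp]
    exact ((sq2.map (yon S)).flip.paste_vert sqT.flip).flip)
  haveI := hfin
  haveI : IsAffine p.pt.left := inferInstanceAs (IsAffine (Spec _))
  exact QuasiCompact.compactSpace_of_compactSpace (l ≫ g).left

end Groth.Agent.SpFP87
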