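import Groth.Agent.SpFP87.PointFactor
import Groth.Agent.SpFP87.OverField
import Groth.Agent.SpFP87.FieldMono
import Groth.Agent.SpFP87.NoethDesc
import Groth.Agent.SpPts86.ZarGlue
import Mathlib.RingTheory.Ideal.KrullsHeightTheorem
/-!
Factorization through residual spaces of locally Noetherian algebraic spaces.
-/

set_option autoImplicit false
set_option linter.style.haveILetI false
set_option backward.isDefEq.respectTransparency false
universe u
open CategoryTheory CategoryTheory.Limits AlgebraicGeometry Opposite Topology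
open AlgSp
open Groth.Agent.SpPts86

namespace Groth.Agent.SpFP87

attribute [local instance 50] specializationOrder

/-- A map into a Noetherian affine scheme with image an antichain is locally constant. -/
theorem isOpen_fibre_of_antichain_spec {A R : CommRingCat.{u}} [IsNoetherianRing A] (φ : A ⟶ R)
    (F : Set ↥(Spec A)) (hF : ∀ a ∈ F, ∀ b ∈ F, a ⤳ b → a = b) (hl : Set.range (Spec.map φ) ⊆ F)
    (z : ↥(Spec R)) : IsOpen (Spec.map φ ⁻¹' {Spec.map φ z}) := by
  let I := RingHom.ker φ.hom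
  have key : ∀ w : ↥(Spec R), (Spec.map φ w).asIdeal ∈ I.minimalPrimes := by
    intro w
    haveI := (Spec.map φ w).isPrime
    obtain ⟨p, hp, hpw⟩ := Ideal.exists_minimalPrimes_le (I := I) (J := (Spec.map φ w).asIdeal)
      (Ideal.comap_mono bot_le)
    obtain ⟨p', hp', -, e⟩ := Ideal.exists_comap_eq_of_mem_minimalPrimes (I := (⊥ : Ideal R)) φ.hom p hp
    let P : ↥(Spec R) := ⟨p', hp'⟩
    have h1 : Spec.map φ P ⤳ Spec.map φ w := by
      refine (PrimeSpectrum.le_iff_specializes _ _).1 ?_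
      show Ideal.comap φ.hom p' ≤ _
      rw [e]
      exact hpw
    have h2 := hF _ (hl ⟨P, rfl⟩) _ (hl ⟨w, rfl⟩) h1
    rw [← h2]
    show Ideal.comap φ.hom p' ∈ _
    rw [e]
    exact hp
  let M : Set ↥(Spec A) := {q | q.asIdeal ∈ I.minimalPrimes} ∩ Set.range (Spec.map φ)
  have hM : M.Finite :=
    Set.Finite.subset ((Ideal.finite_minimalPrimes_of_isNoetherianRing A I).preimage
      (fun q _ q' _ h => PrimeSpectrum.ext h)) Set.inter_subset_left
  have e : (Spec.map φ ⁻¹' {Spec.map φ z})ᶜ = ⋃ q ∈ M \ {Spec.map φ z}, Spec.map φ ⁻¹' closure {q} := by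
    ext w
    simp only [Set.mem_compl_iff, Set.mem_preimage, Set.mem_singleton_iff, Set.mem_iUnion, exists_prop]
    constructor
    · exact fun h => ⟨Spec.map φ w, ⟨⟨key w, w, rfl⟩, h⟩, subset_closure rfl⟩
    · rintro ⟨_, ⟨⟨-, v, rfl⟩, hne⟩, hw⟩ heq
      exact hne ((hF _ (hl ⟨v, rfl⟩) _ (hl ⟨w, rfl⟩) (specializes_iff_mem_closure.2 hw)).trans heq)
  rw [← isClosed_compl_iff, e]
  exact (hM.sdiff).isClosed_biUnion fun q _ => isClosed_closure.preimage (Spec.map φ).continuous

/-- A map into a locally Noetherian scheme with image an antichain is locally constant. -/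
theorem isOpen_fibre_of_antichain {U' U : Scheme.{u}} [IsLocallyNoetherian U] (l : U' ⟶ U) (F : Set ↥U)
    (hF : ∀ a ∈ F, ∀ b ∈ F, a ⤳ b → a = b) (hl : Set.range l ⊆ F) (z : ↥U') : IsOpen (l ⁻¹' {l z}) := by
  refine isOpen_iff_forall_mem_open.2 fun w hw => ?_
  obtain ⟨O, hO, hwO, -⟩ := exists_isAffineOpen_mem_and_subset (U := (⊤ : U.Opens)) (x := l w) trivial
  obtain ⟨O', hO', hwO', hle⟩ := exists_isAffineOpen_mem_and_subset (U := l ⁻¹ᵁ O) (x := w) hwO
  haveI : IsNoetherianRing Γ(U, O) := IsLocallyNoetherian.component_noetherian ⟨O, hO⟩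
  let φ := l.appLE O O' hle
  obtain ⟨w₀, hw₀⟩ : w ∈ Set.range hO'.fromSpec := by rw [hO'.range_fromSpec]; exact hwO'
  have hsq : ∀ y, hO.fromSpec (Spec.map φ y) = l (hO'.fromSpec y) := fun y =>
    congr($(hO.SpecMap_appLE_fromSpec l hO' hle) y)
  have hopen := isOpen_fibre_of_antichain_spec φ (hO.fromSpec ⁻¹' F)
    (fun a ha b hb h => hO.fromSpec.isOpenEmbedding.injective (hF _ ha _ hb (h.map hO.fromSpec.continuous)))
    (by rintro _ ⟨y, rfl⟩; show hO.fromSpec _ ∈ F; rw [hsq]; exact hl ⟨_, rfl⟩) w₀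
  refine ⟨hO'.fromSpec '' (Spec.map φ ⁻¹' {Spec.map φ w₀}), ?_,
    hO'.fromSpec.isOpenEmbedding.isOpenMap _ hopen, w₀, rfl, hw₀⟩
  rintro _ ⟨y, hy, rfl⟩
  show l (hO'.fromSpec y) = l z
  rw [← hsq, show Spec.map φ y = Spec.map φ w₀ from hy, hsq, hw₀]
  exact hw

variable {S : Scheme.{u}} {X Y Z : Sp S}

/-- Fibres of charts of locally Noetherian spaces are antichains. -/
theorem eq_of_specializes_of_locNoeth (hX : IsAlgSpace X) {U : Over S} [IsLocallyNoetherian U.left]
    {φ : (yon S).obj U ⟶ X} (hφ : RepWith @Etale φ) {a b : ↥U.left} (h : a ⤳ b)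
    (e : Points.ofPt φ a = Points.ofPt φ b) : a = b := by
  by_contra hne
  have hd := dim_stalk_eq_of_ofPt_eq hX hφ hφ e
  rw [ringKrullDim_stalk_eq_coheight, ringKrullDim_stalk_eq_coheight, WithBot.coe_inj] at hd
  have hlt : b < a := lt_of_le_of_ne h fun e' => hne e'.symm
  have hfin : Order.coheight a < ⊤ := by
    have := ringKrullDim_lt_top (R := U.left.presheaf.stalk a)
    rw [ringKrullDim_stalk_eq_coheight] at this
    exact lt_top_iff_ne_top.2 fun e' => this.ne (by rw [e']; rfl)
  exact (Order.coheight_strictAnti hlt hfin).ne hd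

/-- A morphism from a reduced space landing on the point of a residual space factors through it. -/
theorem exists_factor_residual (hX : IsAlgSpace X) (hZ : IsAlgSpace Z) (hN : IsLocNoethSp X)
    (hY : EtaleLocally (fun U => IsReduced U) Y) (f : Y ⟶ X) (x : Points X)
    (hf : ∀ y : Points Y, Points.map f y = x) (i : Z ⟶ X) [Mono i] (hi : Set.range (Points.map i) = {x}) :
    ∃ g : Y ⟶ Z, g ≫ i = f := by
  obtain ⟨U, a, ha, has, hU⟩ := hY
  obtain ⟨V, b, hb, hbs⟩ := hX.atlas
  haveI := isLocallyNoetherian_chart hX hN hb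
  obtain ⟨U', e, l, sq⟩ := exists_isPullback_yon hX.diag (a ≫ f) b
  haveI : Etale e.left := etale_snd_of_isPullback sq.flip hb
  haveI : Surjective e.left := ⟨fun u => by
    obtain ⟨v, hv⟩ := surjective_ofPt hbs (Points.ofPt (a ≫ f) u)
    obtain ⟨z, hz, -⟩ := exists_pt_of_isPullback' sq u v hv.symm
    exact ⟨z, hz⟩⟩
  haveI : IsReduced U.left := hU
  haveI : IsReduced U'.left := isReduced_of_smooth e.left
  have hpt : ∀ z, Points.ofPt b (l.left z) = x := fun z => by
    rw [← ofPt_eq_of_isPullback sq z, ← Points.map_ofPt]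
    exact hf _
  have hopen : ∀ z, IsOpen (l.left ⁻¹' {l.left z}) := isOpen_fibre_of_antichain l.left
    (Points.ofPt b ⁻¹' {x}) (fun c hc d hd h => eq_of_specializes_of_locNoeth hX hb h (hc.trans hd.symm))
    (by rintro _ ⟨z, rfl⟩; exact hpt z)
  let O : ↥U'.left → U'.left.Opens := fun z => ⟨_, hopen z⟩
  let W : ↥U'.left → Over S := fun z => Over.mk ((O z).ι ≫ U'.hom)
  let w : ∀ z, W z ⟶ U' := fun z => Over.homMk (O z).ι rfl
  have hloc : ∀ z, ∃ g : (yon S).obj (W z) ⟶ Z, g ≫ i = (yon S).map (w z) ≫ (yon S).map l ≫ b := by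
    intro z
    let u := l.left z
    haveI : IsReduced (W z).left := isReduced_of_smooth (O z).ι
    obtain ⟨k, hk⟩ := exists_lift_of_isPreimmersion (w z ≫ l).left (V.left.fromSpecResidueField u) (by
      rintro _ ⟨y, rfl⟩
      refine ⟨IsLocalRing.closedPoint (V.left.residueField u), ?_⟩
      rw [Scheme.fromSpecResidueField_apply]
      exact (show l.left ((O z).ι y) = u from y.2).symm)
    let k' : W z ⟶ resPt u := Over.homMk k (by
      show k ≫ V.left.fromSpecResidueField u ≫ V.hom = _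
      rw [← Category.assoc, hk, Over.w])
    have hk' : k' ≫ resIncl u = w z ≫ l := Over.OverMorphism.ext hk
    let m := (yon S).map (resIncl u) ≫ b
    have hP : IsAlgSpace (pullback i m) := isAlgSpace_pullback i m hZ (IsAlgSpace.yon_obj _) hX
    obtain ⟨y, hy⟩ := hi.ge (Set.mem_singleton x)
    obtain ⟨p, -, -⟩ := exists_of_isPullback (IsPullback.of_hasPullback i m) y
      (Points.ofScheme (resPt u) (IsLocalRing.closedPoint (V.left.residueField u))) (by
        rw [hy, ← Points.ofPt_eq_map_ofScheme, ofPt_comp, resIncl_apply, hpt])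
    haveI : IsIso (pullback.snd i m) := isIso_of_mono_to_field _ hP (pullback.snd i m) p
    refine ⟨(yon S).map k' ≫ inv (pullback.snd i m) ≫ pullback.fst i m, ?_⟩
    rw [Category.assoc, Category.assoc, pullback.condition, IsIso.inv_hom_id_assoc,
      ← Functor.map_comp_assoc, hk', Functor.map_comp, Category.assoc]
  choose g hg using hloc
  have hcov : ∀ t : ↥U'.left, ∃ z, t ∈ Set.range (w z).left := fun t => ⟨t, ⟨t, rfl⟩, rfl⟩
  obtain ⟨G, hG⟩ := open_cover_glue W w (fun z => inferInstanceAs (IsOpenImmersion (O z).ι)) hcov g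
    (fun z z' Q p q hpq => by
      rw [← cancel_mono i, Category.assoc, Category.assoc, hg, hg, ← Functor.map_comp_assoc,
        ← Functor.map_comp_assoc, hpq]; simp only [Functor.map_comp, Category.assoc])
  have hfac : G ≫ i = (yon S).map e ≫ a ≫ f := by
    refine open_cover_hom_ext W w (fun z => inferInstanceAs (IsOpenImmersion (O z).ι)) hcov fun z => ?_
    rw [← Category.assoc, hG, hg, sq.w]
  obtain ⟨gU, hgU, -⟩ := cover_existsUnique_desc e (etale_surjective_le_fppfSurj _ ⟨‹_›, ‹_›⟩) G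
    fun Q q₁ q₂ h => by
      rw [← cancel_mono i, Category.assoc, Category.assoc, hfac, ← Functor.map_comp_assoc,
        ← Functor.map_comp_assoc, h]
  have hgU' : gU ≫ i = a ≫ f := cover_hom_ext e (etale_surjective_le_fppfSurj _ ⟨‹_›, ‹_›⟩)
    (by rw [← Category.assoc, hgU, hfac])
  obtain ⟨G', hG'⟩ := exists_desc (locLift_of_atlas ha has) gU fun Q q₁ q₂ h => by
    rw [← cancel_mono i, Category.assoc, Category.assoc, hgU', ← Category.assoc, h, Category.assoc]
  refine ⟨G', sp_hom_ext fun Q q => ?_⟩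
  obtain ⟨R, r, q', hr, hq'⟩ := locLift_of_atlas ha has Q q
  refine cover_hom_ext r hr ?_
  rw [← Category.assoc, ← Category.assoc, ← hq', Category.assoc, Category.assoc, reassoc_of% hG', hgU',
    reassoc_of% hq']

end Groth.Agent.SpFP87
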