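import Groth.Agent.SpFP87.ResidualFactor
import Groth.Agent.SpFP87.IntegralSub
/-!
Closed points of locally Noetherian algebraic spaces and residual spaces.
-/

set_option autoImplicit false
set_option linter.style.haveILetI false
set_option backward.isDefEq.respectTransparency false
universe u
open CategoryTheory CategoryTheory.Limits AlgebraicGeometry Opposite Topology
open AlgSp
open Groth.Agent.SpPts86

namespace Groth.Agent.SpFP87

variable {S : Scheme.{u}} {X Z : Sp S}

theorem isClosed_point_iff_residual (hX : IsAlgSpace X) (hZ : IsAlgSpace Z) (hN : IsLocNoethSp X) (x : Points X)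
    (i : Z ⟶ X) [Mono i] (hi : Set.range (Points.map i) = {x}) {k : Type u} [Field k]
    (str : Spec (CommRingCat.of k) ⟶ S) (p : (yon S).obj (Over.mk str) ⟶ Z)
    (h1 : LocP @LocallyOfFinitePresentation p) (h2 : LocP @Flat p) (h3 : IsSurjectiveMor p) :
    IsClosed ({x} : Set (Points X)) ↔ RepWith @IsClosedImmersion i := by
  refine ⟨fun hx => ?_, fun h => hi ▸ (isClosedEmbedding_map_of_closedImmersion hX h).isClosed_range⟩
  obtain ⟨Z₀, i₀, hZ₀, hc, hr, hred⟩ := exists_isRedInduced hX {x} hx
  obtain ⟨g, hg⟩ := exists_factor_residual hX hZ hN hred i₀ x (fun y => hr.le ⟨y, rfl⟩) i hi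
  haveI := mono_of_repWith_le (P := @IsClosedImmersion)
    (fun _ _ f (_ : IsClosedImmersion f) => inferInstanceAs (Mono f)) hc
  haveI : Mono g := mono_of_mono_fac hg
  obtain ⟨z, -⟩ := hr.ge (Set.mem_singleton x)
  haveI : IsIso g := isIso_of_mono_to_fppf_field hZ₀ hZ g str p h1 h2 h3 z
  exact (repWith_isStableUnderBaseChange _).of_isPullback
    (IsPullback.of_horiz_isIso ⟨by simp [← hg]⟩ : IsPullback (inv g) i i₀ (𝟙 X)) hc

end Groth.Agent.SpFP87
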