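import Groth.Agent.SpFP87.Decent
import Groth.Agent.Unr55.DescProps
import Groth.Prelude.Def_W4decUnivBdd
import Mathlib.RingTheory.Artinian.Ring
/-!
Universally bounded fibres.
-/

set_option autoImplicit false
set_option linter.style.haveILetI false
universe u
open CategoryTheory CategoryTheory.Limits AlgebraicGeometry Opposite
open AlgSp
open Groth.Agent.SpPts86

namespace Groth.Agent.SpFP87

/-- A finite algebra over a field has at most as many primes as its dimension. -/
theorem encard_primeSpectrum_le (K A : Type u) [Field K] [CommRing A] [Algebra K A] [Module.Finite K A] :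
    (Set.univ : Set (PrimeSpectrum A)).encard ≤ Module.finrank K A := by
  classical
  haveI : IsArtinianRing A := IsArtinianRing.of_finite K A
  haveI : Fintype (MaximalSpectrum A) := Fintype.ofFinite _
  let φ : A →ₐ[K] ∀ m : MaximalSpectrum A, A ⧸ m.asIdeal :=
    Pi.algHom K _ fun m => Ideal.Quotient.mkₐ K m.asIdeal
  have hsurj : Function.Surjective φ := by
    intro v
    obtain ⟨a, ha⟩ := Ideal.pi_quotient_surjective
      (I := fun m : MaximalSpectrum A => m.asIdeal)
      (fun m m' hmm => Ideal.isCoprime_iff_sup_eq.2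
        (m.isMaximal.coprime_of_ne m'.isMaximal (fun h => hmm (MaximalSpectrum.ext h)))) v
    exact ⟨a, funext ha⟩
  have h1 : ∀ m : MaximalSpectrum A, 1 ≤ Module.finrank K (A ⧸ m.asIdeal) := fun m => by
    haveI : Nontrivial (A ⧸ m.asIdeal) := Ideal.Quotient.nontrivial_iff.2 m.isMaximal.ne_top
    haveI : Module.Finite K (A ⧸ m.asIdeal) :=
      Module.Finite.of_surjective (Ideal.Quotient.mkₐ K m.asIdeal).toLinearMap Ideal.Quotient.mk_surjective
    exact Module.finrank_pos
  have h2 : Fintype.card (MaximalSpectrum A) ≤ Module.finrank K A := by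
    haveI : ∀ m : MaximalSpectrum A, Module.Finite K (A ⧸ m.asIdeal) := fun m =>
      Module.Finite.of_surjective (Ideal.Quotient.mkₐ K m.asIdeal).toLinearMap Ideal.Quotient.mk_surjective
    calc Fintype.card (MaximalSpectrum A) = ∑ _m : MaximalSpectrum A, 1 := by simp
      _ ≤ ∑ m : MaximalSpectrum A, Module.finrank K (A ⧸ m.asIdeal) := Finset.sum_le_sum fun m _ => h1 m
      _ = Module.finrank K (∀ m : MaximalSpectrum A, A ⧸ m.asIdeal) :=
          (Module.finrank_pi_fintype K).symm
      _ ≤ Module.finrank K A := LinearMap.finrank_le_finrank_of_surjective hsurj (f := φ.toLinearMap)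
  let e : PrimeSpectrum A ≃ MaximalSpectrum A :=
    IsArtinianRing.primeSpectrumEquivMaximalSpectrum
  rw [Set.encard_univ, ENat.card_congr e, ENat.card_eq_coe_fintype_card]
  exact_mod_cast h2

/-- A finite scheme over a field has at most as many points as its degree. -/
theorem encard_le_of_finrank_le {K : Type u} [Field K] {T : Scheme.{u}} (c : T ⟶ Spec (.of K)) [IsFinite c]
    {n : ℕ} (hn : ∀ s, c.finrank s ≤ n) : (Set.univ : Set T).encard ≤ n := by
  haveI : IsAffine T := isAffine_of_isAffineHom c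
  obtain ⟨A, ⟨e⟩⟩ : ∃ A : CommRingCat.{u}, Nonempty (Spec A ≅ T) := ⟨_, ⟨T.isoSpec.symm⟩⟩
  obtain ⟨φ, hφ⟩ := Spec.map_surjective (e.hom ≫ c)
  have hfin : φ.hom.Finite := by
    rw [← IsFinite.SpecMap_iff, hφ]; infer_instance
  letI : Algebra K A := φ.hom.toAlgebra
  haveI : Module.Finite K A := hfin
  let s : PrimeSpectrum K := ⟨⊥, Ideal.isPrime_bot⟩
  haveI : Flat c := by
    rw [← MorphismProperty.cancel_left_of_respectsIso (@Flat) e.hom, ← hφ, Flat.SpecMap_iff]
    exact inferInstanceAs (Module.Flat K A)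
  have h1 := hn s
  rw [← Scheme.Hom.finrank_comp_left_of_isIso e.hom c, ← hφ] at h1
  change Scheme.Hom.finrank (Spec.map (CommRingCat.ofHom (algebraMap K A))) s ≤ n at h1
  rw [Scheme.Hom.finrank_SpecMap_algebraMap, Module.rankAtStalk_eq_finrank_of_free] at h1
  have h2 := encard_primeSpectrum_le K A
  have h3 : (Set.univ : Set T).encard = (Set.univ : Set (PrimeSpectrum A)).encard := by
    rw [Set.encard_univ, Set.encard_univ]
    exact ENat.card_congr (asIso e.hom.base |> TopCat.homeoOfIso).toEquiv.symm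
  rw [h3]
  exact h2.trans (by exact_mod_cast h1)

variable {S : Scheme.{u}}

theorem fieldPt_rel_toHom {F : Sp S} {p q : FieldPt F} {w : Over S} (a : w ⟶ p.pt) (b : w ⟶ q.pt)
    (h : F.obj.map a.op p.val = F.obj.map b.op q.val) :
    (yon S).map a ≫ p.toHom = (yon S).map b ≫ q.toHom := by
  apply (uE (S := S)).injective
  rw [← GrothendieckTopology.uliftYonedaEquiv_naturality, ← GrothendieckTopology.uliftYonedaEquiv_naturality,
    FieldPt.uliftYonedaEquiv_toHom, FieldPt.uliftYonedaEquiv_toHom]
  exact h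

theorem degFibresLE_baseChange {X Y : Sp S} {U V : Over S} {p : Y ⟶ X} {g : (yon S).obj U ⟶ X}
    {fst : (yon S).obj V ⟶ (yon S).obj U} {snd : (yon S).obj V ⟶ Y} (h : IsPullback fst snd g p)
    {n : ℕ} (hg : W4dec.DegFibresLE n g) : W4dec.DegFibresLE n snd := fun q T c e sq =>
  hg (q.map p) T c (e ≫ fst) (by rw [FieldPt.toHom_map]; exact (sq.flip.paste_horiz h).flip.flip.flip)

theorem degFibresLE_of_range_subset {X Y : Sp S} {U V : Over S} {g : Y ⟶ X} {f : (yon S).obj U ⟶ X}
    {fst : (yon S).obj V ⟶ (yon S).obj U} {f' : (yon S).obj V ⟶ Y} (h : IsPullback fst f' f g)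
    (him : Set.range (Points.ofPt f) ⊆ Set.range (Points.map g)) {n : ℕ} (hf' : W4dec.DegFibresLE n f') :
    W4dec.DegFibresLE n f := by
  intro q T c e sq
  have hflat : ∀ {Z : Scheme.{u}} (c : Z ⟶ Spec (.of q.K)), Flat c := fun {Z} c => by
    rw [IsZariskiLocalAtSource.iff_of_openCover (P := @Flat) Z.affineCover]
    intro i
    obtain ⟨φ, hφ⟩ := Spec.map_surjective (Z.affineCover.f i ≫ c)
    have hh : Flat (Spec.map φ) := by
      rw [Flat.SpecMap_iff]
      letI := φ.hom.toAlgebra
      exact Module.Flat.of_free (R := q.K)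
    exact hφ ▸ hh
  haveI : Flat c.left := hflat c.left
  rcases isEmpty_or_nonempty ↥T.left with hE | ⟨⟨t⟩⟩
  · haveI : IsClosedImmersion c.left := inferInstance
    refine ⟨inferInstance, fun s => ?_⟩
    by_contra hlt
    have h1 : 1 ≤ Scheme.Hom.finrank c.left := fun s' => by
      have : Subsingleton ↥q.pt.left := inferInstanceAs (Subsingleton ↥(Spec (CommRingCat.of q.K)))
      rw [Subsingleton.elim s' s]
      change 1 ≤ Scheme.Hom.finrank c.left s
      exact Nat.lt_of_le_of_lt (Nat.zero_le _) (not_le.1 hlt)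
    obtain ⟨x, -⟩ := ((Scheme.Hom.one_le_finrank_iff_surjective c.left).1 h1).surj s
    exact hE.elim x
  · obtain ⟨u, hu⟩ := (Points.schemeHomeo U).surjective (Points.map e (Points.ofScheme T t))
    have hq : Points.mk q = Points.ofPt f u := by
      rw [← Points.ofPt_toHom q (c.left t), ← Groth.Agent.SpPts86.ofPt_comp, sq.w,
        Points.ofPt_eq_map_ofScheme (e ≫ f), Points.map_comp, ← hu, Points.ofPt_eq_map_ofScheme f]
      rfl
    obtain ⟨y, hy⟩ := him ⟨u, hq.symm⟩
    obtain ⟨r, rfl⟩ := Points.mk_surjective y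
    rw [Points.map_mk] at hy
    obtain ⟨Ω, _, w, a, b, hab⟩ := Points.mk_eq_mk_iff.1 hy.symm
    let b' : (Over.mk w : Over S) ⟶ r.pt := b
    have hab' : (yon S).map a ≫ q.toHom = (yon S).map b' ≫ r.toHom ≫ g := by
      rw [← FieldPt.toHom_map]; exact fieldPt_rel_toHom a b hab
    let r' : FieldPt Y := ⟨Ω, w, Y.obj.map b'.op r.val⟩
    have hr' : r'.toHom = (yon S).map b' ≫ r.toHom := by
      apply (uE (S := S)).injective
      rw [← GrothendieckTopology.uliftYonedaEquiv_naturality, FieldPt.uliftYonedaEquiv_toHom,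
        FieldPt.uliftYonedaEquiv_toHom]
    obtain ⟨T', s, d, sq1⟩ := exists_isPullback_yon (IsAlgSpace.yon_obj q.pt).diag
      ((yon S).map c) ((yon S).map a)
    have big : IsPullback ((yon S).map d) ((yon S).map s ≫ e) (r'.toHom ≫ g) f := by
      rw [hr', Category.assoc, ← hab']
      exact sq1.flip.paste_vert sq
    let m := h.lift ((yon S).map s ≫ e) ((yon S).map d ≫ r'.toHom) (by
      rw [Category.assoc _ _ g]; exact big.w.symm)
    have sq' : IsPullback ((yon S).map d) m r'.toHom f' :=
      (IsPullback.of_bot (by rw [h.lift_fst]; exact big.flip.flip) (h.lift_snd _ _ _).symm h.flip).flip.flip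
    obtain ⟨hfin, hrk⟩ := hf' r' T' d m sq'
    haveI : Flat a.left := hflat a.left
    haveI : Surjective a.left := ⟨fun x => ⟨IsLocalRing.closedPoint Ω, by
      haveI : Subsingleton ↥q.pt.left := inferInstanceAs (Subsingleton ↥(Spec (CommRingCat.of q.K)))
      exact Subsingleton.elim _ _⟩⟩
    haveI : IsAffine (Over.mk w : Over S).left := inferInstanceAs (IsAffine (Spec (CommRingCat.of Ω)))
    haveI : IsAffine q.pt.left := inferInstanceAs (IsAffine (Spec (CommRingCat.of q.K)))
    haveI := Groth.Agent.Unr55.isFinite.{u}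
    haveI : IsFinite c.left :=
      MorphismProperty.of_isPullback_of_descendsAlong (P := @IsFinite)
        (Q := @Surjective ⊓ @Flat ⊓ @QuasiCompact) (isPullback_left sq1).flip
        ⟨⟨inferInstance, inferInstance⟩, inferInstance⟩ hfin
    refine ⟨inferInstance, fun x => ?_⟩
    obtain ⟨x', rfl⟩ := a.left.surjective x
    rw [← Scheme.Hom.finrank_of_isPullback _ _ _ _ (isPullback_left sq1) x']
    exact hrk x'

theorem exists_fibre_encard_le {X : Sp S} (hX : IsAlgSpace X) {U : Over S} {φ : (yon S).obj U ⟶ X}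
    (hφ : W4dec.HasUnivBddFibres φ) :
    ∃ n : ℕ, ∀ x : Points X, (Points.ofPt φ ⁻¹' {x}).encard ≤ n := by
  obtain ⟨n, hn⟩ := hφ
  refine ⟨n, fun x => ?_⟩
  obtain ⟨q, rfl⟩ := Points.mk_surjective x
  obtain ⟨T, r, c, sq⟩ := exists_isPullback_yon hX.diag φ q.toHom
  obtain ⟨hfin, hrk⟩ := hn q T c ((yon S).map r) sq.flip
  have hsub : Points.ofPt φ ⁻¹' {Points.mk q} ⊆ r.left '' Set.univ := by
    intro u hu
    obtain ⟨t, ht, -⟩ := Groth.Agent.SpPts86.exists_pt_of_isPullback' sq u (IsLocalRing.closedPoint q.K)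
      (by rw [Points.ofPt_toHom]; exact hu)
    exact ⟨t, trivial, ht⟩
  refine (Set.encard_le_encard hsub).trans ((Set.encard_image_le _ _).trans ?_)
  haveI := hfin
  exact encard_le_of_finrank_le c.left hrk

end Groth.Agent.SpFP87
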