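import Groth.Agent.SpFP87.GeomRed
import Groth.Agent.SpPts86.DecentLocal
import Groth.Agent.Unr55.EtaleStrictHens
import Groth.Agent.S0507
import Groth.Agent.S0508
/-!
Henselizations and elementary etale neighbourhoods.
-/

set_option autoImplicit false
set_option linter.style.haveILetI false
set_option backward.isDefEq.respectTransparency false
universe u
open CategoryTheory CategoryTheory.Limits AlgebraicGeometry IsLocalRing
open AlgSp Groth.Agent.SpPts86

namespace Groth.Agent.SpFP87

/-- A henselization of an essentially etale algebra with trivial residue extension is one of the base. -/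
theorem isHenselization_of_essEtale {A B : Type u} [CommRing A] [IsLocalRing A] [CommRing B] [IsLocalRing B]
    [Algebra A B] [IsLocalHom (algebraMap A B)] (h : EGA4loc.IsEssentiallyEtale A B)
    (hres : Function.Bijective (ResidueField.map (algebraMap A B))) (R : Type u) [CommRing R] [IsLocalRing R]
    [Algebra B R] [IsLocalHom (algebraMap B R)] [hR : Hensel.IsHenselization B R] :
    letI : Algebra A R := ((algebraMap B R).comp (algebraMap A B)).toAlgebra
    ∃ (_ : IsLocalHom (algebraMap A R)), Hensel.IsHenselization A R := by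
  letI : Algebra A R := ((algebraMap B R).comp (algebraMap A B)).toAlgebra
  have hmap : algebraMap A R = (algebraMap B R).comp (algebraMap A B) := rfl
  haveI hloc : IsLocalHom (algebraMap A R) := by rw [hmap]; exact RingHom.isLocalHom_comp _ _
  refine ⟨hloc, ⟨hR.henselian, fun T _ _ f hf => ?_⟩⟩
  haveI := hf
  let e := RingEquiv.ofBijective _ hres
  let α : ResidueField B →+* ResidueField T := (ResidueField.map f).comp e.symm.toRingHom
  have hα : α.comp (ResidueField.map (algebraMap A B)) = ResidueField.map f := RingHom.ext fun x => by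
    show ResidueField.map f (e.symm (e x)) = _
    rw [RingEquiv.symm_apply_apply]
  obtain ⟨g₀, ⟨hg₀, hg₀A, hg₀r⟩, huniq⟩ := Hensel20.existsUnique_essEtale_lift h f α hα
  obtain ⟨g, hg, hguniq⟩ := hR.universal T g₀ hg₀
  refine ⟨g, ?_, fun g' hg' => hguniq g' ?_⟩
  · show g.comp (algebraMap A R) = f
    rw [hmap, ← RingHom.comp_assoc, hg, hg₀A]
  · -- the restriction to the intermediate ring is the lift
    have hmax : (maximalIdeal A).map (algebraMap A R) = maximalIdeal R := by
      rw [hmap, ← Ideal.map_map, Hensel20.map_maximalIdeal_of_essEtale h, Groth.Agent.S0507.result B R]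
    haveI : IsLocalHom g' := by
      refine ((IsLocalRing.local_hom_TFAE g').out 0 2).mpr ?_
      rw [← hmax, Ideal.map_map, show g'.comp (algebraMap A R) = f from hg']
      exact ((IsLocalRing.local_hom_TFAE f).out 0 2).mp hf
    refine huniq _ ⟨RingHom.isLocalHom_comp _ _, ?_, fun x => ?_⟩
    · rw [RingHom.comp_assoc, ← hmap]; exact hg'
    · obtain ⟨y, hy⟩ := hres.2 (residue B x)
      obtain ⟨a, rfl⟩ := residue_surjective y
      rw [ResidueField.map_residue] at hy
      haveI : IsLocalHom (g'.comp (algebraMap B R)) := RingHom.isLocalHom_comp _ _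
      rw [← ResidueField.map_residue (g'.comp (algebraMap B R)), ← hy, ResidueField.map_residue,
        ← ResidueField.map_residue (algebraMap A B) a]
      show _ = ResidueField.map f (e.symm (e (residue A a)))
      rw [RingEquiv.symm_apply_apply, ResidueField.map_residue]
      show residue T (g' ((algebraMap B R) (algebraMap A B a))) = _
      rw [← RingHom.comp_apply (algebraMap B R), ← hmap, ← RingHom.comp_apply g', hg']

variable {S : Scheme.{u}} {X : Sp S}

/-- A morphism of elementary etale neighbourhoods is an isomorphism on residue fields. -/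
theorem residueFieldMap_bijective_of_elemNbhd (hX : IsAlgSpace X) {x : Points X} {U U' : Over S}
    (a : (yon S).obj U ⟶ X) (a' : (yon S).obj U' ⟶ X) (g : U' ⟶ U) (u' : ↥U'.left)
    (hg : (yon S).map g ≫ a = a') (ha : IsElemEtaleNbhd a (g.left u') x) (ha' : IsElemEtaleNbhd a' u' x) :
    Function.Bijective (g.left.residueFieldMap u').hom := by
  haveI := ha.mono
  haveI := ha'.mono
  obtain ⟨e, he⟩ := exists_iso_of_mono_fieldPt (p := FieldPt.ofPt a (g.left u')) (q := FieldPt.ofPt a' u')
    (hX.representable_from_yon _) (ha.ofPt_eq.trans ha'.ofPt_eq.symm)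
  let r : (FieldPt.ofPt a' u').pt ⟶ (FieldPt.ofPt a (g.left u')).pt :=
    Over.homMk (Spec.map (g.left.residueFieldMap u')) (by
      show Spec.map (g.left.residueFieldMap u') ≫ U.left.fromSpecResidueField (g.left u') ≫ U.hom =
        U'.left.fromSpecResidueField u' ≫ U'.hom
      rw [Scheme.Hom.SpecMap_residueFieldMap_fromSpecResidueField_assoc, Over.w g])
  have hr : r = e.hom := (yon S).map_injective ((cancel_mono (FieldPt.ofPt a (g.left u')).toHom).1 (by
    rw [he, FieldPt.toHom_ofPt, FieldPt.toHom_ofPt, ← hg, ← Functor.map_comp_assoc, ← Functor.map_comp_assoc]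
    congr 2
    exact Over.OverMorphism.ext (Scheme.Hom.SpecMap_residueFieldMap_fromSpecResidueField g.left u')))
  haveI : IsIso ((Over.forget S).map r) := by rw [hr]; infer_instance
  haveI : IsIso (Spec.map (g.left.residueFieldMap u')) := ‹IsIso ((Over.forget S).map r)›
  haveI : IsIso (Scheme.Spec.map (g.left.residueFieldMap u').op) := ‹IsIso (Spec.map (g.left.residueFieldMap u'))›
  haveI : IsIso (g.left.residueFieldMap u').op := isIso_of_reflects_iso _ Scheme.Spec
  haveI : IsIso (g.left.residueFieldMap u') := isIso_of_op _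
  exact ConcreteCategory.bijective_of_isIso (g.left.residueFieldMap u')

/-- The henselization does not depend on the elementary neighbourhood. -/
theorem isHenselization_of_elemNbhd (hX : IsAlgSpace X) {x : Points X} {U U' : Over S}
    (a : (yon S).obj U ⟶ X) (a' : (yon S).obj U' ⟶ X) (g : U' ⟶ U) (u' : ↥U'.left)
    (hg : (yon S).map g ≫ a = a') (ha : IsElemEtaleNbhd a (g.left u') x) (ha' : IsElemEtaleNbhd a' u' x)
    (R : Type u) [CommRing R] [IsLocalRing R] [Algebra ↥(U'.left.presheaf.stalk u') R]
    [IsLocalHom (algebraMap ↥(U'.left.presheaf.stalk u') R)]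
    [Hensel.IsHenselization ↥(U'.left.presheaf.stalk u') R] :
    letI : Algebra ↥(U.left.presheaf.stalk (g.left u')) R :=
      ((algebraMap ↥(U'.left.presheaf.stalk u') R).comp (g.left.stalkMap u').hom).toAlgebra
    ∃ (_ : IsLocalHom (algebraMap ↥(U.left.presheaf.stalk (g.left u')) R)),
      Hensel.IsHenselization ↥(U.left.presheaf.stalk (g.left u')) R := by
  haveI : Etale g.left := etale_of_comp_chart hX ha.etale (hg ▸ ha'.etale)
  letI : Algebra ↥(U.left.presheaf.stalk (g.left u')) ↥(U'.left.presheaf.stalk u') := (g.left.stalkMap u').hom.toAlgebra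
  haveI : IsLocalHom (algebraMap ↥(U.left.presheaf.stalk (g.left u')) ↥(U'.left.presheaf.stalk u')) :=
    inferInstanceAs (IsLocalHom (g.left.stalkMap u').hom)
  have hess := Unr55.EtSH.isEssentiallyEtale_stalkMap g.left u' ⟨⊤, trivial, inferInstance⟩
  exact isHenselization_of_essEtale hess (residueFieldMap_bijective_of_elemNbhd hX a a' g u' hg ha ha') R

end Groth.Agent.SpFP87
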