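import Groth.Agent.SpFP87.ElemHens
import Groth.Agent.SpProper61.ElemNbhd
import Groth.Agent.SpProper61.Tuples
import Groth.Agent.Henz21.AtPrime
import Groth.Agent.Henz21.EssFtHenz
import Groth.Agent.Hensel20.PairApi
import Groth.Agent.S0506
import Groth.Agent.S0509
import Groth.Agent.S9235
import Groth.Agent.S9237
/-!
Branches at a point of a decent space, seen on elementary etale neighbourhoods.
-/

set_option autoImplicit false
set_option linter.style.haveILetI false
set_option backward.isDefEq.respectTransparency false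
universe u
open CategoryTheory CategoryTheory.Limits AlgebraicGeometry IsLocalRing
open AlgSp Groth.Agent.SpPts86

namespace Groth.Agent.SpFP87.ElemBranch

theorem hasUniqueMinimalPrime_iff (A : Type u) [CommRing A] :
    CAlgX.HasUniqueMinimalPrime A ↔ (minimalPrimes A).encard = 1 := by
  rw [Set.encard_eq_one]
  constructor
  · rintro ⟨p, hp, hu⟩
    exact ⟨p, Set.eq_singleton_iff_unique_mem.2 ⟨hp, hu⟩⟩
  · rintro ⟨p, hp⟩
    exact ⟨p, hp ▸ rfl, fun q hq => by rwa [hp] at hq⟩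

/-- Minimal primes of a local ring are the components of the scheme through the point. -/
theorem encard_components {X : Scheme.{u}} (x : X) :
    {Z : Set X | Z ∈ irreducibleComponents X ∧ x ∈ Z}.encard = (minimalPrimes (X.presheaf.stalk x)).encard := by
  let j := X.fromSpecStalk x
  have hj := j.isEmbedding
  let F : Ideal (X.presheaf.stalk x) → Set X := fun P =>
    open Classical in if hP : P.IsPrime then closure {j ⟨P, hP⟩} else ∅
  have hF : ∀ (P : PrimeSpectrum (X.presheaf.stalk x)), F P.asIdeal = closure {j P} := fun P => by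
    simp only [F, dif_pos P.isPrime]
  symm
  suffices hbij : Set.BijOn F (minimalPrimes (X.presheaf.stalk x)) {Z : Set X | Z ∈ irreducibleComponents X ∧ x ∈ Z} by
    rw [← hbij.image_eq, hbij.injOn.encard_image]
  refine ⟨fun P hP => ?_, fun P hP Q hQ h => ?_, fun Z hZ => ?_⟩
  · haveI := hP.1.1
    rw [show F P = closure {j ⟨P, hP.1.1⟩} from hF ⟨P, hP.1.1⟩]
    refine ⟨⟨isIrreducible_singleton.closure, fun Z hZ hle => ?_⟩, ?_⟩
    · obtain ⟨z, hz⟩ := QuasiSober.sober hZ.closure isClosed_closure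
      have hzc : z ⤳ j ⟨P, hP.1.1⟩ := hz.specializes (subset_closure (hle (subset_closure rfl)))
      have hjx : j ⟨P, hP.1.1⟩ ⤳ x := by
        have : j ⟨P, hP.1.1⟩ ∈ Set.range j := ⟨_, rfl⟩
        rwa [X.range_fromSpecStalk] at this
      obtain ⟨Q, rfl⟩ : z ∈ Set.range j := by rw [X.range_fromSpecStalk]; exact hzc.trans hjx
      have hQP : Q ⤳ (⟨P, hP.1.1⟩ : PrimeSpectrum (X.presheaf.stalk x)) := hj.specializes_iff.1 hzc
      have hPQ : P ≤ Q.asIdeal := hP.2 ⟨Q.2, bot_le⟩ ((PrimeSpectrum.le_iff_specializes Q _).2 hQP)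
      have e : Q = ⟨P, hP.1.1⟩ := PrimeSpectrum.ext (le_antisymm ((PrimeSpectrum.le_iff_specializes Q _).2 hQP) hPQ)
      calc Z ⊆ closure Z := subset_closure
        _ = closure {j Q} := hz.symm
        _ = closure {j ⟨P, hP.1.1⟩} := by rw [e]
    · have : j ⟨P, hP.1.1⟩ ∈ Set.range j := ⟨_, rfl⟩
      rw [X.range_fromSpecStalk] at this
      exact specializes_iff_mem_closure.1 this
  · rw [show F P = closure {j ⟨P, hP.1.1⟩} from hF ⟨P, hP.1.1⟩,
      show F Q = closure {j ⟨Q, hQ.1.1⟩} from hF ⟨Q, hQ.1.1⟩] at h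
    exact congrArg PrimeSpectrum.asIdeal (hj.injective
      (inseparable_iff_closure_eq.2 h).eq)
  · obtain ⟨hZ, hx⟩ := hZ
    obtain ⟨z, hz⟩ := QuasiSober.sober hZ.1 (isClosed_of_mem_irreducibleComponents Z hZ)
    obtain ⟨P, rfl⟩ : z ∈ Set.range j := by rw [X.range_fromSpecStalk]; exact hz.specializes hx
    refine ⟨P.asIdeal, ⟨⟨P.2, bot_le⟩, fun Q hQ hle => ?_⟩, (hF P).trans hz⟩
    haveI := hQ.1
    have hsp : j ⟨Q, hQ.1⟩ ⤳ j P :=
      ((PrimeSpectrum.le_iff_specializes ⟨Q, hQ.1⟩ P).1 hle).map j.continuous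
    have hsub : Z ⊆ closure {j ⟨Q, hQ.1⟩} := by
      rw [← hz]; exact (specializes_iff_closure_subset).1 hsp
    have heq := hZ.2 isIrreducible_singleton.closure hsub
    have hmem : j ⟨Q, hQ.1⟩ ∈ closure ({j P} : Set X) := by
      rw [hz]; exact heq (subset_closure rfl)
    exact (PrimeSpectrum.le_iff_specializes P ⟨Q, hQ.1⟩).2 (hj.specializes_iff.1 (specializes_iff_mem_closure.2 hmem))

/-- Germs of functions pulled back to an affine chart. -/
theorem germ_top_specMap {X : Scheme.{u}} {V : X.Opens} (hV : IsAffineOpen V) {B : CommRingCat.{u}}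
    (f : Γ(X, V) ⟶ B) (v : ↥(Spec B)) (h : (Spec.map f ≫ hV.fromSpec) v ∈ V) (r : Γ(X, V)) :
    (Spec B).presheaf.germ ⊤ v trivial ((Scheme.ΓSpecIso B).inv (f r)) =
      (Spec.map f ≫ hV.fromSpec).stalkMap v (X.presheaf.germ V _ h r) := by
  rw [Scheme.Hom.germ_stalkMap_apply]
  have hle : (⊤ : (Spec B).Opens) ≤ (Spec.map f ≫ hV.fromSpec) ⁻¹ᵁ V := by
    rw [Scheme.Hom.comp_preimage, hV.fromSpec_preimage_self]; rfl
  have e2 : f ≫ (Scheme.ΓSpecIso B).inv = (Spec.map f ≫ hV.fromSpec).appLE V ⊤ hle := by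
    rw [Scheme.Hom.comp_appLE, hV.fromSpec_app_self, Category.assoc, Scheme.Hom.map_appLE,
      Scheme.ΓSpecIso_inv_naturality]
    congr 1
  have e3 : (Scheme.ΓSpecIso B).inv (f r) = (Spec.map f ≫ hV.fromSpec).appLE V ⊤ hle r :=
    congrArg (fun k : Γ(X, V) ⟶ Γ(Spec B, ⊤) => k r) e2
  rw [e3, Scheme.Hom.appLE, CommRingCat.comp_apply, TopCat.Presheaf.germ_res_apply]

/-- Germs and equalities of points. -/
theorem stalkCongr_germ {X : Scheme.{u}} {x y : X} (e : x = y) (V : X.Opens) (hx : x ∈ V) (hy : y ∈ V)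
    (r : Γ(X, V)) :
    (X.presheaf.stalkCongr (Inseparable.of_eq e)).commRingCatIsoToRingEquiv (X.presheaf.germ V x hx r) =
      X.presheaf.germ V y hy r := by
  show X.presheaf.stalkSpecializes (Inseparable.of_eq e).ge (X.presheaf.germ V x hx r) = _
  rw [TopCat.Presheaf.germ_stalkSpecializes_apply]

variable {S : Scheme.{u}} {X : Sp S}

/-- An etale chart with a lift of a mono point is an elementary neighbourhood there. -/
theorem isElemEtaleNbhd_of_section {x : Points X} {U U' : Over S} {a : (yon S).obj U ⟶ X} {u : ↥U.left}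
    (h : IsElemEtaleNbhd a u x) (g : U' ⟶ U) [Etale g.left] (σ : Spec (U.left.residueField u) ⟶ U'.left)
    (hσ : σ ≫ g.left = U.left.fromSpecResidueField u) :
    IsElemEtaleNbhd ((yon S).map g ≫ a) (σ (closedPoint (U.left.residueField u))) x := by
  haveI := h.mono
  let v := σ (closedPoint (U.left.residueField u))
  have hv : g.left v = u := by
    show g.left (σ _) = u
    rw [← Scheme.Hom.comp_apply, hσ]
    exact Scheme.fromSpecResidueField_apply u _
  obtain ⟨φ, hφ⟩ := Groth.Agent.SpProper61.exists_point_eq v σ rfl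
  let ψ := g.left.residueFieldMap v ≫ φ
  have hψ : Spec.map ψ ≫ U.left.fromSpecResidueField (g.left v) = U.left.fromSpecResidueField u := by
    rw [← hσ, hφ, Spec.map_comp, Category.assoc,
      Scheme.Hom.SpecMap_residueFieldMap_fromSpecResidueField, Category.assoc]
  have hψi : IsIso ψ := by
    obtain ⟨χ, hχ⟩ : ∃ χ : U.left.residueField u ≅ U.left.residueField (g.left v),
        Spec.map χ.hom ≫ U.left.fromSpecResidueField u = U.left.fromSpecResidueField (g.left v) :=
      ⟨U.left.residueFieldCongr hv.symm, U.left.residueFieldCongr_fromSpecResidueField _⟩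
    have h1 : Spec.map (χ.hom ≫ ψ) ≫ U.left.fromSpecResidueField u = U.left.fromSpecResidueField u := by
      rw [Spec.map_comp, Category.assoc, hχ, hψ]
    have h2 : χ.hom ≫ ψ = 𝟙 _ := Spec.map_injective ((cancel_mono (U.left.fromSpecResidueField u)).1
      (by rw [h1, Spec.map_id]; exact (Category.id_comp _).symm))
    rw [show ψ = χ.inv by rw [← cancel_epi χ.hom, h2, χ.hom_inv_id]]
    infer_instance
  have hφi : IsIso φ := by
    have hs : Function.Surjective φ.hom := fun y => by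
      obtain ⟨z, hz⟩ := ((ConcreteCategory.bijective_of_isIso ψ).2) y
      exact ⟨(g.left.residueFieldMap v).hom z, hz⟩
    exact (ConcreteCategory.isIso_iff_bijective φ).2 ⟨φ.hom.injective, hs⟩
  refine ⟨repWith_etale_comp g h.etale, by rw [ofPt_comp, hv, h.ofPt_eq], ?_⟩
  let φo : (FieldPt.ofPt a u).pt ⟶ (FieldPt.ofPt ((yon S).map g ≫ a) v).pt :=
    Over.homMk (Spec.map φ) (by
      show Spec.map φ ≫ U'.left.fromSpecResidueField v ≫ U'.hom = U.left.fromSpecResidueField u ≫ U.hom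
      rw [← Category.assoc, ← hφ, ← hσ, Category.assoc, Over.w g])
  haveI : IsIso ((Over.forget S).map φo) := inferInstanceAs (IsIso (Spec.map φ))
  haveI : IsIso φo := isIso_of_reflects_iso φo (Over.forget S)
  have key : (yon S).map φo ≫ (FieldPt.ofPt ((yon S).map g ≫ a) v).toHom = (FieldPt.ofPt a u).toHom := by
    rw [FieldPt.toHom_ofPt, FieldPt.toHom_ofPt, ← Category.assoc, ← Category.assoc, ← Functor.map_comp,
      ← Functor.map_comp]
    congr 2
    exact Over.OverMorphism.ext (by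
      show Spec.map φ ≫ U'.left.fromSpecResidueField v ≫ g.left = U.left.fromSpecResidueField u
      rw [← Category.assoc, ← hφ, hσ])
  rw [show (FieldPt.ofPt ((yon S).map g ≫ a) v).toHom = inv ((yon S).map φo) ≫ (FieldPt.ofPt a u).toHom by
    rw [IsIso.eq_inv_comp, key]]
  infer_instance

theorem exists_common_stage {A K : Type u} [CommRing A] [CommRing K] [Algebra A K]
    (T : Finset (Henz21.H A K)) : ∃ i : Henz21.Pt A K, ∀ t ∈ T, ∃ s, Henz21.H.incl i s = t := by
  classical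
  induction T using Finset.induction_on with
  | empty => exact ⟨(Henz21.Pt.nonempty A K).some, fun t ht => absurd ht (Finset.notMem_empty t)⟩
  | insert a T ha ih =>
    obtain ⟨i, hi⟩ := ih
    obtain ⟨j, s, hs⟩ := Henz21.H.exists_rep a
    refine ⟨IsFiltered.max i j, fun t ht => ?_⟩
    rcases Finset.mem_insert.1 ht with rfl | ht
    · exact ⟨(IsFiltered.rightToMax i j).φ s, by rw [Henz21.H.incl_φ, hs]⟩
    · obtain ⟨s', hs'⟩ := hi t ht
      exact ⟨(IsFiltered.leftToMax i j).φ s', by rw [Henz21.H.incl_φ, hs']⟩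

set_option maxHeartbeats 1600000 in
/-- Finitely many minimal primes of the henselization are seen on an elementary neighbourhood. -/
theorem exists_nbhd_le_minimalPrimes {x : Points X} {U₀ : Over S} {a₀ : (yon S).obj U₀ ⟶ X} {u₀ : ↥U₀.left}
    (h₀ : IsElemEtaleNbhd a₀ u₀ x) (hX : IsAlgSpace X)
    (R : Type u) [CommRing R] [IsLocalRing R] [Algebra ↥(U₀.left.presheaf.stalk u₀) R]
    [IsLocalHom (algebraMap ↥(U₀.left.presheaf.stalk u₀) R)] [Hensel.IsHenselization ↥(U₀.left.presheaf.stalk u₀) R]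
    (G : Finset (Ideal R)) (hG : ∀ P ∈ G, P ∈ minimalPrimes R) :
    ∃ (U : Over S) (a : (yon S).obj U ⟶ X) (u : ↥U.left), IsElemEtaleNbhd a u x ∧
      (G.card : ℕ∞) ≤ (minimalPrimes ↥(U.left.presheaf.stalk u)).encard := by
  classical
  obtain ⟨V, hV, hu₀, -⟩ := exists_isAffineOpen_mem_and_subset (X := U₀.left) (x := u₀) (U := ⊤) trivial
  let O := ↥(U₀.left.presheaf.stalk u₀)
  let A₀ := Γ(U₀.left, V)
  let p := hV.primeIdealOf ⟨u₀, hu₀⟩
  letI : Algebra A₀ O := (U₀.left.presheaf.germ V u₀ hu₀).hom.toAlgebra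
  haveI : IsLocalization.AtPrime O p.asIdeal := hV.isLocalization_stalk ⟨u₀, hu₀⟩
  letI : Algebra A₀ R := ((algebraMap O R).comp (algebraMap A₀ O)).toAlgebra
  haveI : IsScalarTower A₀ O R := IsScalarTower.of_algebraMap_eq fun _ => rfl
  let M := Henz21.HenselizationAt A₀ p.asIdeal
  let e : O ≃ₐ[A₀] Localization.AtPrime p.asIdeal :=
    IsLocalization.algEquiv p.asIdeal.primeCompl O (Localization.AtPrime p.asIdeal)
  letI : Algebra O M := ((algebraMap (Localization.AtPrime p.asIdeal) M).comp e.toRingEquiv.toRingHom).toAlgebra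
  obtain ⟨_, hM⟩ := Henz21.isHenselization_of_ringEquiv (L := Localization.AtPrime p.asIdeal) (L' := O) (M := M)
    e.toRingEquiv rfl
  haveI := hM
  obtain ⟨E⟩ := Henz21.exists_henselization_equiv (R := O) M R
  have hE : ∀ r : A₀, E (algebraMap A₀ M r) = algebraMap A₀ R r := fun r => by
    have : algebraMap A₀ M r = algebraMap O M (algebraMap A₀ O r) := by
      show _ = algebraMap (Localization.AtPrime p.asIdeal) M (e (algebraMap A₀ O r))
      rw [e.commutes, ← IsScalarTower.algebraMap_apply]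
    rw [this, E.commutes]
    rfl
  -- the separating elements
  have hsep : ∀ P Q : Ideal R, ∃ t : R, P ∈ G → Q ∈ G → P ≠ Q → (t ∈ P ∧ t ∉ Q) := fun P Q => by
    by_cases h : P ∈ G ∧ Q ∈ G ∧ P ≠ Q
    · obtain ⟨t, ht, htQ⟩ := SetLike.not_le_iff_exists.1 (fun hle : P ≤ Q =>
        h.2.2 (le_antisymm hle ((hG Q h.2.1).2 (hG P h.1).1 hle)))
      exact ⟨t, fun _ _ _ => ⟨ht, htQ⟩⟩
    · exact ⟨0, fun h1 h2 h3 => absurd ⟨h1, h2, h3⟩ h⟩
  choose t ht using hsep
  obtain ⟨i, hi⟩ := exists_common_stage (A := A₀) (K := p.asIdeal.ResidueField)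
    ((G ×ˢ G).image fun PQ => E.symm (t PQ.1 PQ.2))
  -- the neighbourhood
  let f : CommRingCat.of A₀ ⟶ CommRingCat.of i.S := CommRingCat.ofHom (algebraMap A₀ i.S)
  let U : Over S := Over.mk (Spec.map f ≫ hV.fromSpec ≫ U₀.hom)
  let g : U ⟶ U₀ := Over.homMk (Spec.map f ≫ hV.fromSpec) (Category.assoc _ _ _)
  haveI : Etale g.left := by
    haveI : Etale (Spec.map f) := (HasRingHomProperty.Spec_iff (P := @Etale)).2 (by
      show (algebraMap A₀ i.S).Etale
      rw [RingHom.etale_algebraMap]; infer_instance)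
    show Etale (Spec.map f ≫ hV.fromSpec)
    infer_instance
  let κ₀ : A₀ →+* U₀.left.residueField u₀ :=
    (U₀.left.residue u₀).hom.comp (U₀.left.presheaf.germ V u₀ hu₀).hom
  have hκker : ∀ r : A₀, κ₀ r = 0 ↔ r ∈ p.asIdeal := fun r => by
    show IsLocalRing.residue O (algebraMap A₀ O r) = 0 ↔ _
    rw [residue_eq_zero_iff]
    exact IsLocalization.AtPrime.to_map_mem_maximal_iff O p.asIdeal r
  let ψ₀ : p.asIdeal.ResidueField →+* U₀.left.residueField u₀ :=
    Ideal.ResidueField.lift p.asIdeal κ₀ (fun r hr => (hκker r).2 hr)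
      (fun r hr => isUnit_iff_ne_zero.2 fun h => hr ((hκker r).1 h))
  have hψ₀ : ∀ r : A₀, ψ₀ (algebraMap A₀ _ r) = κ₀ r := fun r => Ideal.ResidueField.lift_algebraMap _ _ _ _ r
  let σR : i.S →+* U₀.left.residueField u₀ := ψ₀.comp i.pt.toRingHom
  let σ : Spec (U₀.left.residueField u₀) ⟶ U.left := Spec.map (CommRingCat.ofHom σR)
  have hσ : σ ≫ g.left = U₀.left.fromSpecResidueField u₀ := by
    show Spec.map _ ≫ Spec.map f ≫ hV.fromSpec = _
    rw [← Spec.map_comp_assoc]
    have : f ≫ CommRingCat.ofHom σR = U₀.left.presheaf.germ V u₀ hu₀ ≫ U₀.left.residue u₀ := by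
      ext r
      show ψ₀ (i.pt (algebraMap A₀ i.S r)) = κ₀ r
      rw [AlgHom.commutes, hψ₀]
    rw [this, Spec.map_comp_assoc, Scheme.fromSpecResidueField]
    congr 1
    rw [← hV.fromSpecStalk_eq_fromSpecStalk hu₀]
    rfl
  have hel := isElemEtaleNbhd_of_section h₀ g σ hσ
  refine ⟨U, _, σ (closedPoint _), hel, ?_⟩
  have hgv : g.left (σ (closedPoint (U₀.left.residueField u₀))) = u₀ := by
    rw [← Scheme.Hom.comp_apply, hσ]
    exact Scheme.fromSpecResidueField_apply u₀ _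
  generalize hvdef : σ (closedPoint (U₀.left.residueField u₀)) = v at hel hgv ⊢
  let O' := ↥(U.left.presheaf.stalk v)
  let toO' : i.S →+* O' := ((Spec (CommRingCat.of i.S)).presheaf.germ ⊤ v trivial).hom.comp
    (Scheme.ΓSpecIso (CommRingCat.of i.S)).inv.hom
  have hmem : ∀ s : i.S, toO' s ∈ maximalIdeal O' ↔ i.pt s = 0 := fun s => by
    rw [mem_maximalIdeal, mem_nonunits_iff]
    have h1 : IsUnit (toO' s) ↔ v ∈ (Spec (CommRingCat.of i.S)).basicOpen
        ((Scheme.ΓSpecIso (CommRingCat.of i.S)).inv.hom s) :=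
      ((Spec (CommRingCat.of i.S)).mem_basicOpen_top _ v).symm
    rw [h1, basicOpen_eq_of_affine, ← hvdef]
    show ¬ s ∉ Ideal.comap σR (closedPoint (U₀.left.residueField u₀)).asIdeal ↔ _
    rw [not_not, Ideal.mem_comap, show (closedPoint (U₀.left.residueField u₀)).asIdeal = ⊥ from
      IsLocalRing.maximalIdeal_eq_bot, Ideal.mem_bot]
    exact map_eq_zero ψ₀
  have ha : IsElemEtaleNbhd a₀ (g.left v) x := hgv.symm ▸ h₀
  obtain ⟨R', _, _, _, _, hR'⟩ := Groth.Agent.S0506.result O'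
  haveI := hR'
  letI : Algebra ↥(U₀.left.presheaf.stalk (g.left v)) R' :=
    ((algebraMap O' R').comp (g.left.stalkMap v).hom).toAlgebra
  obtain ⟨_, hR'g⟩ := isHenselization_of_elemNbhd hX a₀ _ g v rfl ha hel R'
  haveI := hR'g
  let cc : O ≃+* ↥(U₀.left.presheaf.stalk (g.left v)) :=
    (U₀.left.presheaf.stalkCongr (Inseparable.of_eq hgv.symm)).commRingCatIsoToRingEquiv
  letI : Algebra O R' := ((algebraMap ↥(U₀.left.presheaf.stalk (g.left v)) R').comp cc.toRingHom).toAlgebra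
  obtain ⟨_, hR'O⟩ := Henz21.isHenselization_of_ringEquiv (L := ↥(U₀.left.presheaf.stalk (g.left v))) (L' := O)
    (M := R') cc rfl
  haveI := hR'O
  obtain ⟨Φ⟩ := Henz21.exists_henselization_equiv (R := O) R' R
  -- the two maps from the stage
  let θ₁ : i.S →+* R := (Φ.toRingEquiv.toRingHom.comp (algebraMap O' R')).comp toO'
  let θ₂ : i.S →+* R := E.toRingEquiv.toRingHom.comp (Henz21.H.incl i).toRingHom
  have h2A : ∀ r : A₀, θ₂ (algebraMap A₀ i.S r) = algebraMap A₀ R r := fun r => by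
    show E (Henz21.H.incl i (algebraMap A₀ i.S r)) = _
    rw [AlgHom.commutes, hE]
  have h1A : ∀ r : A₀, θ₁ (algebraMap A₀ i.S r) = algebraMap A₀ R r := fun r => by
    have hal : algebraMap A₀ O r = U₀.left.presheaf.germ V u₀ hu₀ r := rfl
    have hm : g.left v ∈ V := hgv.symm ▸ hu₀
    have hcc := stalkCongr_germ hgv.symm V hu₀ hm r
    have e1 : toO' (f r) = (g.left.stalkMap v).hom (U₀.left.presheaf.germ V (g.left v) hm r) :=
      germ_top_specMap hV f v hm r
    have e0 : (algebraMap A₀ i.S r : i.S) = f r := rfl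
    show Φ (algebraMap O' R' (toO' (algebraMap A₀ i.S r))) = _
    rw [e0, e1, ← hcc]
    refine Eq.trans ?_ (Φ.commutes (algebraMap A₀ O r))
    rw [hal]
    rfl
  haveI : HenselianLocalRing R := (‹Hensel.IsHenselization O R›).henselian
  let θ₁' : i.S →ₐ[A₀] R := { θ₁ with commutes' := h1A }
  let θ₂' : i.S →ₐ[A₀] R := { θ₂ with commutes' := h2A }
  haveI : IsLocalHom Φ.toRingEquiv.toRingHom := ⟨fun z hz => by simpa using hz.map Φ.toRingEquiv.symm.toRingHom⟩
  haveI : IsLocalHom E.toRingEquiv.toRingHom := ⟨fun z hz => by simpa using hz.map E.toRingEquiv.symm.toRingHom⟩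
  have hm1 : ∀ s, i.pt s = 0 → θ₁ s ∈ maximalIdeal R := fun s hs =>
    map_nonunit Φ.toRingEquiv.toRingHom _ (map_nonunit (algebraMap O' R') _ ((hmem s).2 hs))
  have hm2 : ∀ s, i.pt s = 0 → θ₂ s ∈ maximalIdeal R := fun s hs => by
    refine map_nonunit E.toRingEquiv.toRingHom _ ?_
    rw [Henz21.H.maximalIdeal_eq]
    exact (Henz21.H.proj_incl i s).trans hs
  have hθ : θ₁' = θ₂' := by
    refine Hensel20.algHom_eq_of_unramified θ₁' θ₂'
      (IsLocalRing.jacobson_eq_maximalIdeal ⊥ bot_ne_top).ge fun s => ?_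
    obtain ⟨a, b, hb, hab⟩ := IsFractionRing.div_surjective (A := A₀ ⧸ p.asIdeal) (i.pt s)
    obtain ⟨a, rfl⟩ := Ideal.Quotient.mk_surjective a
    obtain ⟨b, rfl⟩ := Ideal.Quotient.mk_surjective b
    have hbp : b ∉ p.asIdeal := fun h => nonZeroDivisors.ne_zero hb (Ideal.Quotient.eq_zero_iff_mem.2 h)
    have hb0 : algebraMap A₀ p.asIdeal.ResidueField b ≠ 0 :=
      fun h => hbp (Ideal.algebraMap_residueField_eq_zero.1 h)
    have hz : i.pt (algebraMap A₀ i.S b * s - algebraMap A₀ i.S a) = 0 := by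
      rw [map_sub, map_mul, AlgHom.commutes, AlgHom.commutes, sub_eq_zero, ← hab,
        IsScalarTower.algebraMap_apply A₀ (A₀ ⧸ p.asIdeal) p.asIdeal.ResidueField a,
        IsScalarTower.algebraMap_apply A₀ (A₀ ⧸ p.asIdeal) p.asIdeal.ResidueField b, Ideal.Quotient.algebraMap_eq]
      rw [IsScalarTower.algebraMap_apply A₀ (A₀ ⧸ p.asIdeal) p.asIdeal.ResidueField b,
        Ideal.Quotient.algebraMap_eq] at hb0
      exact mul_div_cancel₀ _ hb0
    have hd := sub_mem (hm1 _ hz) (hm2 _ hz)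
    simp only [map_sub, map_mul, h1A, h2A, sub_sub_sub_cancel_right, ← mul_sub] at hd
    refine ((maximalIdeal.isMaximal R).isPrime.mem_or_mem hd).resolve_left fun h => hbp ?_
    have : algebraMap A₀ O b ∈ maximalIdeal O := fun hu => h (hu.map (algebraMap O R))
    exact (IsLocalization.AtPrime.to_map_mem_maximal_iff O p.asIdeal b).1 this
  -- the minimal primes
  have hflat : Module.FaithfullyFlat O' R' := Groth.Agent.S0509.result O' R'
  let pull : Ideal R → Ideal O' := fun P => (P.comap Φ.toRingEquiv.toRingHom).comap (algebraMap O' R')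
  have hmin : ∀ P ∈ G, pull P ∈ minimalPrimes O' := fun P hP => by
    haveI := (hG P hP).1.1
    refine ⟨⟨Ideal.comap_isPrime _ _, bot_le⟩, fun Q hQ hle => ?_⟩
    let P' := P.comap Φ.toRingEquiv.toRingHom
    haveI := hQ.1
    haveI : P'.LiesOver (pull P) := ⟨rfl⟩
    obtain ⟨P'', hle'', hP'', hover⟩ := Ideal.exists_ideal_le_liesOver_of_le (p := Q) (q := pull P) P' hle
    have : (P''.comap Φ.symm.toRingEquiv.toRingHom) ≤ P := fun z hz => by
      have := hle'' hz
      simpa [P'] using this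
    have h2 := (hG P hP).2 ⟨Ideal.comap_isPrime _ _, bot_le⟩ this
    have hPP : P' ≤ P'' := fun z hz => by
      have := h2 (show Φ z ∈ P from hz)
      simpa using this
    rw [hover.over]
    exact Ideal.comap_mono hPP
  have hinj : Set.InjOn pull (G : Set (Ideal R)) := fun P hP Q hQ hPQ => by
    by_contra hne
    obtain ⟨htP, htQ⟩ := ht P Q hP hQ hne
    obtain ⟨s, hs⟩ := hi (E.symm (t P Q)) (Finset.mem_image.2 ⟨(P, Q), Finset.mem_product.2 ⟨hP, hQ⟩, rfl⟩)
    have e2 : θ₁ s = t P Q := by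
      rw [show θ₁ s = θ₂ s from congrArg (fun k : i.S →ₐ[A₀] R => k s) hθ]
      show E (Henz21.H.incl i s) = _
      rw [hs, AlgEquiv.apply_symm_apply]
    have h1 : toO' s ∈ pull P := show θ₁ s ∈ P from e2 ▸ htP
    rw [hPQ] at h1
    exact htQ (e2 ▸ (show θ₁ s ∈ Q from h1))
  calc (G.card : ℕ∞) = (G : Set (Ideal R)).encard := (Set.encard_coe_eq_coe_finsetCard G).symm
    _ = (pull '' (G : Set (Ideal R))).encard := hinj.encard_image.symm
    _ ≤ _ := Set.encard_le_encard (by rintro _ ⟨P, hP, rfl⟩; exact hmin P hP)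

/-- The number of branches is the same on all elementary neighbourhoods. -/
theorem numBranchesAt_eq_card {x : Points X} {U₀ : Over S} {a₀ : (yon S).obj U₀ ⟶ X} {u₀ : ↥U₀.left}
    (h₀ : IsElemEtaleNbhd a₀ u₀ x) (Xs : AlgSp.Space S) (hXs : Xs.obj = X)
    (R : Type u) [CommRing R] [IsLocalRing R] [Algebra ↥(U₀.left.presheaf.stalk u₀) R]
    [IsLocalHom (algebraMap ↥(U₀.left.presheaf.stalk u₀) R)] [Hensel.IsHenselization ↥(U₀.left.presheaf.stalk u₀) R]
    {U : Over S} {a : (yon S).obj U ⟶ X} {u : ↥U.left} (h : IsElemEtaleNbhd a u x) :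
    Brnch.numBranchesAt U.left u = (minimalPrimes R).encard := by
  subst hXs
  obtain ⟨W, b, w, g₁, g₂, hw, e₁, e₂, hu₀, hu⟩ := Groth.Agent.SpProper61.elemNbhd_dominate x h₀ h
  obtain ⟨R', _, _, _, _, hR'⟩ := Groth.Agent.S0506.result ↥(W.left.presheaf.stalk w)
  haveI := hR'
  subst hu₀ hu
  have key : ∀ {V : Over S} (c : (yon S).obj V ⟶ Xs.obj) (g : W ⟶ V), (yon S).map g ≫ c = b →
      IsElemEtaleNbhd c (g.left w) x → ENat.card (minimalPrimes R') = Brnch.numBranches ↥(V.left.presheaf.stalk (g.left w)) := by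
    intro V c g e hc
    letI : Algebra ↥(V.left.presheaf.stalk (g.left w)) R' :=
      ((algebraMap ↥(W.left.presheaf.stalk w) R').comp (g.left.stalkMap w).hom).toAlgebra
    obtain ⟨_, hh⟩ := isHenselization_of_elemNbhd Xs.property c b g w e hc hw R'
    haveI := hh
    exact Groth.Agent.S9237.result ↥(V.left.presheaf.stalk (g.left w)) R'
  rw [Brnch.numBranchesAt, ← key a g₂ e₂ h, key a₀ g₁ e₁ h₀,
    ← Groth.Agent.S9237.result ↥(U₀.left.presheaf.stalk (g₁.left w)) R]
  rfl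

theorem minimalPrimes_le_numBranches (A : Type u) [CommRing A] [IsLocalRing A] :
    (minimalPrimes A).encard ≤ Brnch.numBranches A := by
  obtain ⟨R, _, _, _, _, hR⟩ := Groth.Agent.S0506.result A
  haveI := hR
  rw [← Groth.Agent.S9237.result A R]
  show (minimalPrimes A).encard ≤ (minimalPrimes R).encard
  haveI : Module.FaithfullyFlat A R := Groth.Agent.S0509.result A R
  refine (Set.encard_le_encard ?_).trans (Set.encard_image_le (fun P : Ideal R => P.comap (algebraMap A R)) _)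
  intro P hP
  haveI := hP.1.1
  obtain ⟨Q, hQ⟩ := PrimeSpectrum.comap_surjective_of_faithfullyFlat (A := A) (B := R) ⟨P, hP.1.1⟩
  haveI := Q.2
  obtain ⟨Q', hQ', hle⟩ := Ideal.exists_minimalPrimes_le (bot_le : ⊥ ≤ Q.asIdeal)
  haveI := hQ'.1.1
  refine ⟨Q', hQ', ?_⟩
  have h1 : Q'.comap (algebraMap A R) ≤ P :=
    (Ideal.comap_mono hle).trans (congrArg PrimeSpectrum.asIdeal hQ).le
  exact le_antisymm h1 (hP.2 ⟨Ideal.comap_isPrime _ _, bot_le⟩ h1)

/-- The three attained bounds agree with the count in the henselization. -/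
theorem sup_iff {x : Points X} {U₀ : Over S} {a₀ : (yon S).obj U₀ ⟶ X} {u₀ : ↥U₀.left}
    (h₀ : IsElemEtaleNbhd a₀ u₀ x) (hX : IsAlgSpace X)
    (R : Type u) [CommRing R] [IsLocalRing R] [Algebra ↥(U₀.left.presheaf.stalk u₀) R]
    [IsLocalHom (algebraMap ↥(U₀.left.presheaf.stalk u₀) R)] [Hensel.IsHenselization ↥(U₀.left.presheaf.stalk u₀) R]
    (n : ℕ) :
    ((∀ (U : Over S) (a : (yon S).obj U ⟶ X) (u : ↥U.left), IsElemEtaleNbhd a u x →
        (minimalPrimes ↥(U.left.presheaf.stalk u)).encard ≤ n) ∧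
      ∃ (U : Over S) (a : (yon S).obj U ⟶ X) (u : ↥U.left), IsElemEtaleNbhd a u x ∧
        (minimalPrimes ↥(U.left.presheaf.stalk u)).encard = n) ↔ (minimalPrimes R).encard = n := by
  have hle : ∀ {U : Over S} {a : (yon S).obj U ⟶ X} {u : ↥U.left}, IsElemEtaleNbhd a u x →
      (minimalPrimes ↥(U.left.presheaf.stalk u)).encard ≤ (minimalPrimes R).encard := fun h => by
    refine (minimalPrimes_le_numBranches _).trans (le_of_eq ?_)
    exact numBranchesAt_eq_card h₀ ⟨X, hX⟩ rfl R h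
  have hbig : ∀ k : ℕ, (k : ℕ∞) ≤ (minimalPrimes R).encard → ∃ (U : Over S) (a : (yon S).obj U ⟶ X) (u : ↥U.left),
      IsElemEtaleNbhd a u x ∧ (k : ℕ∞) ≤ (minimalPrimes ↥(U.left.presheaf.stalk u)).encard := fun k hk => by
    obtain ⟨G, hG, hcard⟩ := Set.exists_subset_encard_eq hk
    have hfin : G.Finite := Set.finite_of_encard_eq_coe hcard
    obtain ⟨U, a, u, h, hu⟩ := exists_nbhd_le_minimalPrimes h₀ hX R hfin.toFinset
      (fun P hP => hG (hfin.mem_toFinset.1 hP))
    refine ⟨U, a, u, h, le_trans (le_of_eq ?_) hu⟩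
    rw [← hcard, hfin.encard_eq_coe_toFinset_card]
  constructor
  · rintro ⟨hall, U, a, u, h, hu⟩
    refine le_antisymm (not_lt.1 fun hlt => ?_) (hu ▸ hle h)
    obtain ⟨U', a', u', h', hu'⟩ := hbig (n + 1) (by push_cast; exact Order.add_one_le_of_lt hlt)
    have hcon : ((n + 1 : ℕ) : ℕ∞) ≤ n := hu'.trans (hall U' a' u' h')
    exact absurd (Nat.cast_le.1 hcon) (by omega)
  · intro hn
    refine ⟨fun U a u h => (hle h).trans hn.le, ?_⟩
    obtain ⟨U, a, u, h, hu⟩ := hbig n hn.ge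
    exact ⟨U, a, u, h, le_antisymm ((hle h).trans hn.le) hu⟩

theorem branches_iff {x : Points X} {U₀ : Over S} {a₀ : (yon S).obj U₀ ⟶ X} {u₀ : ↥U₀.left}
    (h₀ : IsElemEtaleNbhd a₀ u₀ x) (hX : IsAlgSpace X)
    (R : Type u) [CommRing R] [IsLocalRing R] [Algebra ↥(U₀.left.presheaf.stalk u₀) R]
    [IsLocalHom (algebraMap ↥(U₀.left.presheaf.stalk u₀) R)] [Hensel.IsHenselization ↥(U₀.left.presheaf.stalk u₀) R]
    (n : ℕ) :
    ((∀ (U : Over S) (a : (yon S).obj U ⟶ X) (u : ↥U.left), IsElemEtaleNbhd a u x →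
        Brnch.numBranchesAt U.left u ≤ n) ∧
      ∃ (U : Over S) (a : (yon S).obj U ⟶ X) (u : ↥U.left), IsElemEtaleNbhd a u x ∧
        Brnch.numBranchesAt U.left u = n) ↔ (minimalPrimes R).encard = n := by
  constructor
  · rintro ⟨-, U, a, u, h, hu⟩
    rw [← numBranchesAt_eq_card h₀ ⟨X, hX⟩ rfl R h]; exact hu
  · intro hn
    exact ⟨fun U a u h => ((numBranchesAt_eq_card h₀ ⟨X, hX⟩ rfl R h).trans hn).le, U₀, a₀, u₀, h₀,
      (numBranchesAt_eq_card h₀ ⟨X, hX⟩ rfl R h₀).trans hn⟩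

end Groth.Agent.SpFP87.ElemBranch
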