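import Groth.Agent.SpFP87.DecentPts
import Groth.Agent.SpFP87.Sober
import Groth.Agent.Cyc90.IsDimFunLft
import Groth.Agent.Cyc90.FieldExt.Basic
import Groth.Agent.FlatMor68.RelAssFlatAt
import Groth.Agent.Cat58.DimFun
import Groth.Agent.Cat58.Rings
import Groth.Agent.S12446
import Groth.Agent.S12447
import Groth.Prelude.Def_W4stk3decentspacesp2Birat
/-!
Dimension functions and catenarity of decent spaces.
-/

set_option autoImplicit false
set_option linter.style.haveILetI false
set_option backward.isDefEq.respectTransparency false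
universe u
open CategoryTheory CategoryTheory.Limits AlgebraicGeometry Opposite Topology TopologicalSpace
open AlgSp
open Groth.Agent.SpPts86

namespace Groth.Agent.SpFP87

variable {S : Scheme.{u}} {X : Sp S}

/-- A dimension function on a chart descends to the points of a decent space. -/
theorem isDimFun_points (hX : IsAlgSpace X) (hd : IsDecent X) {U : Over S} {φ : (yon S).obj U ⟶ X}
    (hφ : RepWith @Etale φ) (hs : RepWith @Surjective φ) (δ : Points X → ℤ)
    (h : Cyc.IsDimFun U.left (δ ∘ Points.ofPt φ)) :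
    ∀ x y : Points X, x ⤳ y → x ≠ y →
      δ y < δ x ∧ ((∀ z : Points X, x ⤳ z → z ⤳ y → z = x ∨ z = y) → δ x = δ y + 1) := by
  intro x y hxy hne
  obtain ⟨b, rfl⟩ := surjective_ofPt hs y
  obtain ⟨a, hab, rfl⟩ := exists_generalization_lift hX hd hφ hxy
  obtain ⟨h1, h2⟩ := h a b hab (fun e => hne (e ▸ rfl))
  refine ⟨h1, fun himm => h2 fun c hac hcb => ?_⟩
  rcases himm _ (hac.map (Points.continuous_ofPt φ)) (hcb.map (Points.continuous_ofPt φ)) with e | e
  · exact Or.inl (eq_of_specializes_of_decent hX hd hφ hac e.symm).symm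
  · exact Or.inr (eq_of_specializes_of_decent hX hd hφ hcb e)

/-- A locally Noetherian scheme with universally catenary local rings has local setups. -/
theorem exists_isSetup_nhd (S : Scheme.{u}) [IsLocallyNoetherian S]
    (hS : ∀ s : ↥S, CAlg.IsUniversallyCatenary ↥(S.presheaf.stalk s)) (s : ↥S) :
    ∃ (W : S.Opens) (δ : ↥W.toScheme → ℤ), s ∈ W ∧ Cyc.IsSetup W.toScheme δ := by
  have hcat : PtTop.IsCatenarySpace S := (Groth.Agent.S12446.result S).2 fun x =>
    (hS x).2 _ inferInstance
  obtain ⟨W, hsW, δ, hδ⟩ := (Groth.Agent.S12447.result S).1 hcat s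
  refine ⟨W, δ, hsW, ?_⟩
  haveI : IsLocallyNoetherian W.toScheme := LocallyOfFiniteType.isLocallyNoetherian W.ι
  refine ⟨this, (Cat58.universallyCatenary_iff W.toScheme).mp fun Z g _ =>
    (Cat58.universallyCatenary_iff S).mpr hS Z (g ≫ W.ι) inferInstance, fun x y hxy hne => ?_⟩
  exact ⟨hδ.1 x y hxy hne, fun h => hδ.2 x y ⟨hxy, hne, h⟩⟩

/-- Etale charts over a setup: the induced dimension function is constant on the fibres. -/
theorem delta_eq_of_ofPt_eq (hX : IsAlgSpace X) {V : Over S} {φ : (yon S).obj V ⟶ X} (hφ : RepWith @Etale φ)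
    {W : Scheme.{u}} (j : W ⟶ S) [Mono j] (g : V.left ⟶ W) [LocallyOfFiniteType g] (hg : g ≫ j = V.hom)
    (δW : ↥W → ℤ) {a a' : ↥V.left} (e : Points.ofPt φ a = Points.ofPt φ a') :
    Cyc90.FieldExt.delta g δW a = Cyc90.FieldExt.delta g δW a' := by
  obtain ⟨R, t, s, ht, hs, sq, -⟩ := exists_common_chart hX hφ hφ
  haveI := ht
  haveI := hs
  obtain ⟨z, hz1, hz2⟩ := exists_pt_common_chart sq a a' e
  haveI : LocallyQuasiFinite t.left := Groth.Agent.Unr55.locallyQuasiFinite_of_formallyUnramified _
  haveI : LocallyQuasiFinite s.left := Groth.Agent.Unr55.locallyQuasiFinite_of_formallyUnramified _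
  have hts : t.left ≫ g = s.left ≫ g := by
    rw [← cancel_mono j, Category.assoc, Category.assoc, hg, Over.w t, Over.w s]
  have key : ∀ (k : R.left ⟶ V.left) [LocallyOfFiniteType k] [LocallyQuasiFinite k],
      Cyc90.FieldExt.delta g δW (k z) = Cyc90.FieldExt.delta (k ≫ g) δW z := fun k _ _ => by
    unfold Cyc90.FieldExt.delta
    rw [FlatMor68.RelAssFlatAt.fdeg_comp_eq k g z]
    simp only [Scheme.Hom.comp_base, TopCat.coe_comp, Function.comp_apply]
  rw [← hz1, ← hz2, key t.left, key s.left, hts]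

/-- The generic point of an irreducible closed set. -/
noncomputable def genIC {Y : Type u} [TopologicalSpace Y] [QuasiSober Y] (T : IrreducibleCloseds Y) : Y :=
  T.2.genericPoint

theorem genIC_spec {Y : Type u} [TopologicalSpace Y] [QuasiSober Y] (T : IrreducibleCloseds Y) :
    IsGenericPoint (genIC T) (T : Set Y) := T.2.isGenericPoint_genericPoint T.3

theorem le_iff_genIC_specializes {Y : Type u} [TopologicalSpace Y] [QuasiSober Y] (T T' : IrreducibleCloseds Y) :
    T ≤ T' ↔ genIC T' ⤳ genIC T := by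
  rw [(genIC_spec T').specializes_iff_mem]
  refine ⟨fun h => h (genIC_spec T).mem, fun h x hx => ?_⟩
  exact ((genIC_spec T).specializes hx).mem_closed T'.3 h

theorem genIC_injective {Y : Type u} [TopologicalSpace Y] [QuasiSober Y] :
    Function.Injective (genIC : IrreducibleCloseds Y → Y) := fun T T' e =>
  le_antisymm ((le_iff_genIC_specializes T T').2 (e ▸ specializes_rfl))
    ((le_iff_genIC_specializes T' T).2 (e ▸ specializes_rfl))

theorem genIC_surjective {Y : Type u} [TopologicalSpace Y] [QuasiSober Y] [T0Space Y] (z : Y) :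
    ∃ T : IrreducibleCloseds Y, genIC T = z :=
  ⟨⟨closure {z}, isIrreducible_singleton.closure, isClosed_closure⟩, (genIC_spec _).eq isGenericPoint_closure⟩

/-- Points of a decent space locally of finite type over a universally catenary base form a catenary space. -/
theorem isCatenarySpace_points (hX : IsAlgSpace X) (hd : IsDecent X) [IsLocallyNoetherian S]
    (hS : ∀ s : ↥S, CAlg.IsUniversallyCatenary ↥(S.presheaf.stalk s))
    {U : Over S} {φ : (yon S).obj U ⟶ X} (hφ : RepWith @Etale φ) (hs : RepWith @Surjective φ)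
    [LocallyOfFiniteType U.hom] :
    W4stk3decentspacesp2.IsCatenarySpace (Points X) := by
  haveI := quasiSober_points hX hd
  haveI := t0Space_points hX hd
  intro T T' hTT'
  obtain ⟨u₁, hu₁⟩ := surjective_ofPt hs (genIC T)
  obtain ⟨W, δW, huW, hW⟩ := exists_isSetup_nhd S hS (U.hom u₁)
  let O : U.left.Opens := U.hom ⁻¹ᵁ W
  let V : Over S := Over.mk (O.ι ≫ U.hom)
  let ψ : (yon S).obj V ⟶ X := (yon S).map (Over.homMk O.ι rfl : V ⟶ U) ≫ φ
  have hψ : RepWith @Etale ψ := MorphismProperty.comp_mem (W := RepWith (@Etale : MorphismProperty Scheme.{u})) _ _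
    ((repWith_yon_map_iff _ _).2 (inferInstanceAs (Etale O.ι))) hφ
  let g : V.left ⟶ W.toScheme := U.hom ∣_ W
  haveI : LocallyOfFiniteType g := inferInstanceAs (LocallyOfFiniteType (U.hom ∣_ W))
  have hg : g ≫ W.ι = V.hom := morphismRestrict_ι U.hom W
  let δ : ↥V.left → ℤ := Cyc90.FieldExt.delta g δW
  have hdim : Cyc.IsDimFun V.left δ :=
    Cyc90.isDimFun_of_lft g δW hW δ (Cyc90.FieldExt.delta_compat g δW)
  let v : ↥V.left := (⟨u₁, huW⟩ : O.toScheme)
  have hv : Points.ofPt ψ v = genIC T := (ofPt_comp _ _ _).trans hu₁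
  obtain ⟨top, htop, htop'⟩ := exists_generalization_lift hX hd hψ
    (b := v) (hv ▸ (le_iff_genIC_specializes T T').1 hTT')
  have inv : ∀ a, Points.ofPt ψ a = genIC T' → δ a = δ top := fun a ha =>
    delta_eq_of_ofPt_eq hX hψ W.ι g hg δW (ha.trans htop'.symm)
  have main : ∀ p : LTSeries (IrreducibleCloseds (Points X)), p.head = T →
      ∀ i : ℕ, ∀ hi : i ≤ p.length, ∃ a : ↥V.left, a ⤳ v ∧ Points.ofPt ψ a = genIC (p ⟨i, by omega⟩) ∧
        δ v + i ≤ δ a ∧
        ((∀ j : Fin p.length, p.toFun j.castSucc ⋖ p.toFun j.succ) → δ a = δ v + i) := by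
    intro p hp i
    induction i with
    | zero => exact fun _ => ⟨v, specializes_rfl, by rw [hv, ← hp]; rfl, by simp, fun _ => by simp⟩
    | succ i ih =>
      intro hi
      obtain ⟨a, hav, ha, hle, heq⟩ := ih (by omega)
      let j : Fin p.length := ⟨i, by omega⟩
      have hlt : p.toFun j.castSucc < p.toFun j.succ := p.step j
      have ha' : Points.ofPt ψ a = genIC (p.toFun j.castSucc) := ha
      obtain ⟨b, hba, hb⟩ := exists_generalization_lift hX hd hψ (b := a)
        (ha'.symm ▸ (le_iff_genIC_specializes _ _).1 hlt.le)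
      have hne : b ≠ a := fun e => hlt.ne (genIC_injective (ha'.symm.trans ((e ▸ rfl : _ = Points.ofPt ψ b).trans hb)))
      obtain ⟨h1, h2⟩ := hdim b a hba hne
      refine ⟨b, hba.trans hav, hb, by push_cast; omega, fun hc => ?_⟩
      have := heq hc
      have := h2 fun c hbc hca => by
        obtain ⟨C, hC⟩ := genIC_surjective (Points.ofPt ψ c)
        have hC1 : p.toFun j.castSucc ≤ C := by
          rw [le_iff_genIC_specializes, hC, ← ha']
          exact hca.map (Points.continuous_ofPt ψ)
        have hC2 : C ≤ p.toFun j.succ := by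
          rw [le_iff_genIC_specializes, hC, ← hb]
          exact hbc.map (Points.continuous_ofPt ψ)
        rcases (hc j).eq_or_eq hC1 hC2 with e | e
        · exact Or.inr (eq_of_specializes_of_decent hX hd hψ hca (by rw [ha', ← hC, e]))
        · exact Or.inl (eq_of_specializes_of_decent hX hd hψ hbc (by rw [hb, ← hC, e])).symm
      push_cast
      omega
  refine ⟨⟨(δ top - δ v).toNat, fun p hp hp' => ?_⟩, fun p q hp hp' hq hq' hcp hcq => ?_⟩
  · obtain ⟨a, -, ha, hle, -⟩ := main p hp p.length le_rfl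
    have := inv a (ha.trans (congrArg genIC hp'))
    omega
  · obtain ⟨a, -, ha, -, heq⟩ := main p hp p.length le_rfl
    obtain ⟨b, -, hb, -, heq'⟩ := main q hq q.length le_rfl
    have := inv a (ha.trans (congrArg genIC hp'))
    have := inv b (hb.trans (congrArg genIC hq'))
    have := heq hcp
    have := heq' hcq
    omega

end Groth.Agent.SpFP87
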