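import Groth.Agent.SpFP87.GeomConnTop
import Groth.Agent.SpFP87.DecentPts
import Groth.Agent.FBase64.Geometric
import Mathlib.FieldTheory.KrullTopology
import Mathlib.LinearAlgebra.TensorProduct.Basis
/-!
Base changes of algebraic spaces along field extensions: connectedness, quasi-compact opens, Galois descent of closed sets.
-/

set_option autoImplicit false
set_option linter.style.haveILetI false
set_option backward.isDefEq.respectTransparency false
universe u
open CategoryTheory CategoryTheory.Limits AlgebraicGeometry Opposite Topology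
open AlgSp
open Groth.Agent.SpPts86
open scoped TensorProduct

namespace Groth.Agent.SpFP87.GC

variable {k : Type u} [Field k]

/-- The spectrum of a `k`-algebra over `k`. -/
noncomputable abbrev ext (k : Type u) [Field k] (A : Type u) [CommRing A] [Algebra k A] :
    Over (Spec (CommRingCat.of k)) :=
  Over.mk (Spec.map (CommRingCat.ofHom (algebraMap k A)))

noncomputable abbrev extMap {A B : Type u} [CommRing A] [CommRing B] [Algebra k A] [Algebra k B] (f : A →ₐ[k] B) :
    ext k B ⟶ ext k A :=
  Over.homMk (Spec.map (CommRingCat.ofHom f.toRingHom)) (by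
    simp only [Over.mk_hom, ← Spec.map_comp, ← CommRingCat.ofHom_comp, f.comp_algebraMap, AlgHom.toRingHom_eq_coe])

variable {X Y : Sp (Spec (CommRingCat.of k))}

local notation "yk" => yon (Spec (CommRingCat.of k))

theorem surjective_specMap {K L : Type u} [Field K] [Field L] (σ : K →+* L) :
    Surjective (Spec.map (CommRingCat.ofHom σ)) :=
  ⟨fun x => ⟨(IsLocalRing.closedPoint L), @Subsingleton.elim (PrimeSpectrum K) _ _ _⟩⟩

theorem isOpenMap_fst (K : Type u) [Field K] [Algebra k K] :
    IsOpenMap (Points.map (prod.fst : X ⨯ (yk).obj (ext k K) ⟶ X)) :=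
  isOpenMap_of_repWith (repWith_fst (@UniversallyOpen) (ext k K) (inferInstanceAs (UniversallyOpen (Spec.map _))))

theorem surjective_fst (K : Type u) [Field K] [Algebra k K] :
    Function.Surjective (Points.map (prod.fst : X ⨯ (yk).obj (ext k K) ⟶ X)) :=
  surjective_of_repWith (repWith_fst (@Surjective) (ext k K) (surjective_specMap _))

theorem surjective_map_ext {L L' : Type u} [Field L] [Field L'] [Algebra k L] [Algebra k L'] (i : L →ₐ[k] L') :
    Function.Surjective (Points.map (prod.map (𝟙 X) ((yk).map (extMap i)))) :=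
  surjective_of_repWith (repWith_prod_map (@Surjective) (extMap i) (surjective_specMap _))

theorem connectedSpace_of_ext {L L' : Type u} [Field L] [Field L'] [Algebra k L] [Algebra k L'] (i : L →ₐ[k] L')
    [ConnectedSpace (Points (X ⨯ (yk).obj (ext k L')))] : ConnectedSpace (Points (X ⨯ (yk).obj (ext k L))) :=
  (surjective_map_ext i).connectedSpace (Points.continuous_map _)

theorem connectedSpace_of_bc (K : Type u) [Field K] [Algebra k K]
    [ConnectedSpace (Points (X ⨯ (yk).obj (ext k K)))] : ConnectedSpace (Points X) :=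
  (surjective_fst K).connectedSpace (Points.continuous_map _)

theorem bijective_fst [IsSepClosed k] (K : Type u) [Field K] [Algebra k K] :
    Function.Bijective (Continuous.connectedComponentsMap
      (Points.continuous_map (prod.fst : X ⨯ (yk).obj (ext k K) ⟶ X))) := by
  refine bijective_connectedComponentsMap _ (isOpenMap_fst K) (isConnected_fibre_of_repWith ?_)
  haveI := Groth.Agent.FBase64.geometricallyIrreducible_specMap_of_isSepClosed (algebraMap k K)
  exact repWith_fst (@GeometricallyConnected) _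
    (Groth.Agent.FBase64.geometricallyConnected_of_geometricallyIrreducible (Spec.map _))

theorem connectedSpace_bc_of_sepClosed [IsSepClosed k] (K : Type u) [Field K] [Algebra k K]
    [ConnectedSpace (Points X)] : ConnectedSpace (Points (X ⨯ (yk).obj (ext k K))) := by
  refine connectedSpace_of_fibres (Points.continuous_map _) (isOpenMap_fst K) (isConnected_fibre_of_repWith ?_)
  haveI := Groth.Agent.FBase64.geometricallyIrreducible_specMap_of_isSepClosed (algebraMap k K)
  exact repWith_fst (@GeometricallyConnected) _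
    (Groth.Agent.FBase64.geometricallyConnected_of_geometricallyIrreducible (Spec.map _))

theorem connectedSpace_ext_of_sepClosed {L L' : Type u} [Field L] [Field L'] [Algebra k L] [Algebra k L']
    [IsSepClosed L] (i : L →ₐ[k] L') [ConnectedSpace (Points (X ⨯ (yk).obj (ext k L)))] :
    ConnectedSpace (Points (X ⨯ (yk).obj (ext k L'))) := by
  haveI := Groth.Agent.FBase64.geometricallyIrreducible_specMap_of_isSepClosed i.toRingHom
  haveI : UniversallyOpen (extMap i).left := inferInstanceAs (UniversallyOpen (Spec.map _))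
  exact connectedSpace_of_fibres (Points.continuous_map _)
    (isOpenMap_of_repWith (repWith_prod_map (X := X) (@UniversallyOpen) (extMap i) inferInstance))
    (isConnected_fibre_of_repWith (repWith_prod_map (X := X) (@GeometricallyConnected) (extMap i)
      (Groth.Agent.FBase64.geometricallyConnected_of_geometricallyIrreducible (Spec.map _))))

/-- Geometric connectedness can be tested on the extensions of a given one. -/
theorem geomConn_of_forall_tower (k' : Type u) [Field k'] [Algebra k k']
    (h : ∀ (K : Type u) [Field K] [Algebra k K] [Algebra k' K] [IsScalarTower k k' K],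
      ConnectedSpace (Points (X ⨯ (yk).obj (ext k K))))
    (K : Type u) [Field K] [Algebra k K] : ConnectedSpace (Points (X ⨯ (yk).obj (ext k K))) := by
  obtain ⟨Ω, _, _, i, j, hij⟩ := Groth.Agent.FBase64.exists_common_field' (algebraMap k k') (algebraMap k K)
  letI : Algebra k Ω := (j.comp (algebraMap k K)).toAlgebra
  letI : Algebra k' Ω := i.toAlgebra
  haveI : IsScalarTower k k' Ω := IsScalarTower.of_algebraMap_eq' hij.symm
  haveI := h Ω
  exact connectedSpace_of_ext (⟨j, fun _ => rfl⟩ : K →ₐ[k] Ω)

/-- Connectedness over a separable closure gives geometric connectedness. -/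
theorem geomConn_of_sepClosed (L : Type u) [Field L] [Algebra k L] [IsSepClosed L]
    (h : ConnectedSpace (Points (X ⨯ (yk).obj (ext k L))))
    (K : Type u) [Field K] [Algebra k K] : ConnectedSpace (Points (X ⨯ (yk).obj (ext k K))) := by
  refine geomConn_of_forall_tower L (fun M _ _ _ _ => ?_) K
  exact connectedSpace_ext_of_sepClosed (IsScalarTower.toAlgHom k L M)

theorem bijective_snd (hX : IsAlgSpace X) (hY : IsAlgSpace Y)
    (h : ∀ (K : Type u) [Field K] [Algebra k K], ConnectedSpace (Points (X ⨯ (yk).obj (ext k K)))) :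
    Function.Bijective (Continuous.connectedComponentsMap
      (Points.continuous_map (prod.snd : X ⨯ Y ⟶ Y))) := by
  let T : Over (Spec (CommRingCat.of k)) := Over.mk (𝟙 _)
  let hT : IsTerminal ((yk).obj T) := IsTerminal.isTerminalObj (yk) _ Over.mkIdTerminal
  haveI : IsIntegral T.left := inferInstanceAs (IsIntegral (Spec (CommRingCat.of k)))
  haveI : Subsingleton ↥T.left := inferInstanceAs (Subsingleton (PrimeSpectrum k))
  have ho : IsOpenMap (Points.map (prod.snd : X ⨯ Y ⟶ Y)) :=
    (flat_univOpen_to_field hX (hT.from X)).2 hY (hT.from Y) _ _ (isPullback_prod_snd _ hT)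
  refine bijective_connectedComponentsMap _ ho fun y => ?_
  induction y using Points.ind with
  | h q =>
    obtain ⟨φ, hφ⟩ := Spec.map_surjective q.str
    letI : Algebra k q.K := φ.hom.toAlgebra
    have e : q.str = Spec.map (CommRingCat.ofHom (algebraMap k q.K)) := hφ.symm
    haveI : ConnectedSpace (Points (X ⨯ (yk).obj q.pt)) := by
      show ConnectedSpace (Points (X ⨯ (yk).obj (Over.mk q.str)))
      rw [e]
      exact h q.K
    haveI : Subsingleton ↥q.pt.left := inferInstanceAs (Subsingleton (PrimeSpectrum q.K))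
    suffices Points.map (prod.snd : X ⨯ Y ⟶ Y) ⁻¹' {Points.mk q} =
        Set.range (Points.map (prod.map (𝟙 X) q.toHom)) by
      rw [this]
      exact isConnected_range (Points.continuous_map _)
    ext x
    constructor
    · intro hx
      obtain ⟨v, -, hv⟩ := exists_of_isPullback (isPullback_prod_map (X := X) q.toHom).flip
        (Points.ofScheme q.pt (IsLocalRing.closedPoint q.K)) x
        (((Points.ofPt_eq_map_ofScheme _ _).symm.trans (Points.ofPt_toHom q _)).trans hx.symm)
      exact ⟨v, hv⟩
    · rintro ⟨v, rfl⟩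
      obtain ⟨t, ht⟩ := (Points.schemeHomeo q.pt).surjective (Points.map prod.snd v)
      show Points.map prod.snd (Points.map _ v) = _
      rw [← Points.map_comp, prod.map_snd, Points.map_comp, ← ht]
      exact (Points.ofPt_eq_map_ofScheme _ _).symm.trans (Points.ofPt_toHom q t)

/-! Affine charts. -/

/-- Every point has an affine etale chart. -/
theorem exists_affine_chart (hX : IsAlgSpace X) (x : Points X) :
    ∃ (A : Type u) (_ : CommRing A) (_ : Algebra k A) (a : (yk).obj (ext k A) ⟶ X),
      RepWith @Etale a ∧ x ∈ Set.range (Points.ofPt a) := by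
  obtain ⟨U, a, ha, hs⟩ := hX.atlas
  obtain ⟨u, rfl⟩ := surjective_ofPt hs x
  obtain ⟨W, hW, huW, hWe⟩ := exists_affine_subchart ha u
  haveI : IsAffine W.toScheme := hW
  obtain ⟨φ, hφ⟩ := Spec.map_surjective (W.toScheme.isoSpec.inv ≫ W.ι ≫ U.hom)
  letI : Algebra k Γ(W.toScheme, ⊤) := φ.hom.toAlgebra
  have e : (Spec.map (CommRingCat.ofHom (algebraMap k Γ(W.toScheme, ⊤))) : _ ⟶ Spec (CommRingCat.of k)) =
      W.toScheme.isoSpec.inv ≫ W.ι ≫ U.hom := hφ
  let t : ext k Γ(W.toScheme, ⊤) ⟶ Over.mk (W.ι ≫ U.hom) := Over.homMk W.toScheme.isoSpec.inv e.symm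
  haveI : Etale t.left := inferInstanceAs (Etale W.toScheme.isoSpec.inv)
  refine ⟨Γ(W.toScheme, ⊤), inferInstance, inferInstance, (yk).map t ≫ _, MorphismProperty.comp_mem
    (W := RepWith (@Etale : MorphismProperty Scheme.{u})) _ _ ((repWith_yon_map_iff _ _).2 ‹_›) hWe, ?_⟩
  refine ⟨W.toScheme.isoSpec.hom ⟨u, huW⟩, ?_⟩
  rw [ofPt_comp, ofPt_comp]
  congr 1
  show W.ι (W.toScheme.isoSpec.inv (W.toScheme.isoSpec.hom _)) = u
  rw [Scheme.hom_inv_apply]
  rfl

variable {A : Type u} [CommRing A] [Algebra k A]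

/-- The chart of a base change induced by a chart. -/
noncomputable def bChart (a : (yk).obj (ext k A) ⟶ X) (L : Type u) [Field L] [Algebra k L] :
    (yk).obj (ext k (A ⊗[k] L)) ⟶ X ⨯ (yk).obj (ext k L) :=
  prod.lift ((yk).map (extMap Algebra.TensorProduct.includeLeft) ≫ a)
    ((yk).map (extMap Algebra.TensorProduct.includeRight))

theorem isPullback_bChart (a : (yk).obj (ext k A) ⟶ X) (L : Type u) [Field L] [Algebra k L] :
    IsPullback ((yk).map (extMap (Algebra.TensorProduct.includeLeft : A →ₐ[k] A ⊗[k] L)))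
      (bChart a L) a prod.fst := by
  let S := Spec (CommRingCat.of k)
  have hT : IsTerminal ((yon S).obj (Over.mk (𝟙 S))) := IsTerminal.isTerminalObj (yon S) _ Over.mkIdTerminal
  have sq0 : IsPullback (extMap (Algebra.TensorProduct.includeLeft : A →ₐ[k] A ⊗[k] L))
      (extMap Algebra.TensorProduct.includeRight)
      (Over.homMk (ext k A).hom (Category.comp_id _) : ext k A ⟶ Over.mk (𝟙 S))
      (Over.homMk (ext k L).hom (Category.comp_id _) : ext k L ⟶ Over.mk (𝟙 S)) :=
    IsPullback.of_map (Over.forget S)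
      (Over.OverMorphism.ext ((Over.w (extMap _)).trans (Over.w (extMap _)).symm))
      (isPullback_SpecMap_of_isPushout _ _ _ _ (CommRingCat.isPushout_tensorProduct k A L))
  refine IsPullback.of_bot (v₂₁ := (prod.snd : X ⨯ (yon S).obj (ext k L) ⟶ _)) (v₂₂ := hT.from X)
    (h₃₁ := hT.from _) ?_ (prod.lift_fst _ _).symm (IsPullback.of_is_product (prodIsProd X _) hT)
  have e1 : a ≫ hT.from X = (yon S).map (Over.homMk (ext k A).hom (Category.comp_id _) : ext k A ⟶ Over.mk (𝟙 S)) :=
    hT.hom_ext _ _
  have e2 : hT.from ((yon S).obj (ext k L)) =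
      (yon S).map (Over.homMk (ext k L).hom (Category.comp_id _) : ext k L ⟶ Over.mk (𝟙 S)) :=
    hT.hom_ext _ _
  rw [e1, e2]
  show IsPullback _ (bChart a L ≫ prod.snd) _ _
  rw [bChart, prod.lift_snd]
  exact sq0.map (yon S)

theorem bChart_etale (a : (yk).obj (ext k A) ⟶ X) (ha : RepWith @Etale a) (L : Type u) [Field L] [Algebra k L] :
    RepWith @Etale (bChart a L) :=
  (repWith_isStableUnderBaseChange _).of_isPullback (isPullback_bChart a L) ha

theorem exists_bChart_eq (a : (yk).obj (ext k A) ⟶ X) (L : Type u) [Field L] [Algebra k L] (x : Points (X ⨯ (yk).obj (ext k L)))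
    (u : ↥(ext k A).left) (h : Points.map prod.fst x = Points.ofPt a u) :
    ∃ z, Points.ofPt (bChart a L) z = x ∧
      (extMap (Algebra.TensorProduct.includeLeft : A →ₐ[k] A ⊗[k] L)).left z = u :=
  exists_pt_of_isPullback (isPullback_bChart a L).flip x u h

theorem bChart_comp (a : (yk).obj (ext k A) ⟶ X) {L' L : Type u} [Field L'] [Field L] [Algebra k L'] [Algebra k L] (i : L' →ₐ[k] L) :
    bChart a L ≫ prod.map (𝟙 X) ((yk).map (extMap i)) =
      (yk).map (extMap (Algebra.TensorProduct.map (AlgHom.id k A) i)) ≫ bChart a L' := by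
  have h1 : extMap (Algebra.TensorProduct.map (AlgHom.id k A) i) ≫
      extMap (Algebra.TensorProduct.includeLeft : A →ₐ[k] A ⊗[k] L') =
      extMap (Algebra.TensorProduct.includeLeft : A →ₐ[k] A ⊗[k] L) := by
    refine Over.OverMorphism.ext ?_
    rw [Over.comp_left]
    simp only [Over.homMk_left, ← Spec.map_comp, ← CommRingCat.ofHom_comp]
    congr 2
    exact RingHom.ext fun r => by simp
  have h2 : extMap (Algebra.TensorProduct.map (AlgHom.id k A) i) ≫
      extMap (Algebra.TensorProduct.includeRight : L' →ₐ[k] A ⊗[k] L') =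
      extMap (Algebra.TensorProduct.includeRight : L →ₐ[k] A ⊗[k] L) ≫ extMap i := by
    refine Over.OverMorphism.ext ?_
    rw [Over.comp_left, Over.comp_left]
    simp only [Over.homMk_left, ← Spec.map_comp, ← CommRingCat.ofHom_comp]
    congr 2
  unfold bChart
  apply Limits.prod.hom_ext
  · rw [Category.assoc, prod.map_fst, Category.comp_id, prod.lift_fst, Category.assoc, prod.lift_fst,
      ← Category.assoc, ← (yk).map_comp, h1]
  · rw [Category.assoc, prod.map_snd, prod.lift_snd_assoc, Category.assoc, prod.lift_snd,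
      ← (yk).map_comp, ← (yk).map_comp, h2]

theorem isPullback_bChart_map (a : (yk).obj (ext k A) ⟶ X) {L' L : Type u} [Field L'] [Field L] [Algebra k L'] [Algebra k L] (i : L' →ₐ[k] L) :
    IsPullback (bChart a L) ((yk).map (extMap (Algebra.TensorProduct.map (AlgHom.id k A) i)))
      (prod.map (𝟙 X) ((yk).map (extMap i))) (bChart a L') := by
  refine (IsPullback.of_right (h₁₂ := (yk).map (extMap (Algebra.TensorProduct.includeLeft : A →ₐ[k] A ⊗[k] L')))
    ?_ (bChart_comp a i).symm (isPullback_bChart a L')).flip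
  rw [← (yk).map_comp, prod.map_fst, Category.comp_id]
  convert isPullback_bChart a L using 2
  refine Over.OverMorphism.ext ?_
  rw [Over.comp_left]
  simp only [Over.homMk_left, ← Spec.map_comp, ← CommRingCat.ofHom_comp]
  congr 2
  exact RingHom.ext fun r => by simp

theorem ofPt_bChart_map (a : (yk).obj (ext k A) ⟶ X) {L' L : Type u} [Field L'] [Field L] [Algebra k L'] [Algebra k L] (i : L' →ₐ[k] L)
    (z : PrimeSpectrum (A ⊗[k] L)) :
    Points.map (prod.map (𝟙 X) ((yk).map (extMap i))) (Points.ofPt (bChart a L) z) =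
      Points.ofPt (bChart a L') (PrimeSpectrum.comap (Algebra.TensorProduct.map (AlgHom.id k A) i).toRingHom z) :=
  map_ofPt_fst (isPullback_bChart_map a i) z

/-! Quasi-compact opens come from finite subextensions. -/

theorem exists_finset_range (M : Type u) [Field M] [Algebra k M] (f : A ⊗[k] M) :
    ∃ s : Finset M, ∀ k' : IntermediateField k M, (↑s : Set M) ⊆ k' →
      f ∈ Set.range (Algebra.TensorProduct.map (AlgHom.id k A) k'.val) := by
  classical
  induction f using TensorProduct.induction_on with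
  | zero => exact ⟨∅, fun k' _ => ⟨0, map_zero _⟩⟩
  | tmul x y => exact ⟨{y}, fun k' h => ⟨x ⊗ₜ ⟨y, h (by simp)⟩, rfl⟩⟩
  | add x y hx hy =>
    obtain ⟨s, hs⟩ := hx
    obtain ⟨t, ht⟩ := hy
    refine ⟨s ∪ t, fun k' h => ?_⟩
    rw [Finset.coe_union, Set.union_subset_iff] at h
    obtain ⟨x', rfl⟩ := hs k' h.1
    obtain ⟨y', rfl⟩ := ht k' h.2
    exact ⟨x' + y', map_add _ _ _⟩

/-- A neighbourhood defined over a finitely generated subextension. -/
theorem exists_descended_nhd (hX : IsAlgSpace X) {K : Type u} [Field K] [Algebra k K]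
    {V : Set (Points (X ⨯ (yk).obj (ext k K)))} (hV : IsOpen V) {x : Points (X ⨯ (yk).obj (ext k K))} (hx : x ∈ V) :
    ∃ O : Set (Points (X ⨯ (yk).obj (ext k K))), IsOpen O ∧ x ∈ O ∧ O ⊆ V ∧
      ∃ s : Finset K, ∀ k' : IntermediateField k K, (↑s : Set K) ⊆ k' →
        ∃ W : Set (Points (X ⨯ (yk).obj (ext k k'))), IsOpen W ∧ IsCompact W ∧
          Points.map (prod.map (𝟙 X) ((yk).map (extMap k'.val))) ⁻¹' W = O := by
  obtain ⟨A, _, _, a, ha, u, hu⟩ := exists_affine_chart hX (Points.map prod.fst x)
  obtain ⟨z, hz, -⟩ := exists_bChart_eq a K x u hu.symm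
  obtain ⟨_, ⟨f, rfl⟩, hzf, hfV⟩ := PrimeSpectrum.isTopologicalBasis_basic_opens.exists_subset_of_mem_open
    (show z ∈ Points.ofPt (bChart a K) ⁻¹' V by show Points.ofPt _ z ∈ V; rwa [hz])
    (hV.preimage (Points.continuous_ofPt _))
  obtain ⟨s, hs⟩ := exists_finset_range (A := A) K f
  refine ⟨Points.ofPt (bChart a K) '' (PrimeSpectrum.basicOpen f : Set (PrimeSpectrum (A ⊗[k] K))),
    isOpenMap_ofPt (bChart_etale a ha K) _ (PrimeSpectrum.basicOpen f).isOpen, ⟨z, hzf, hz⟩,
    Set.image_subset_iff.2 hfV, s, fun k' hk' => ?_⟩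
  obtain ⟨f', rfl⟩ := hs k' hk'
  refine ⟨Points.ofPt (bChart a k') '' (PrimeSpectrum.basicOpen f' : Set (PrimeSpectrum (A ⊗[k] k'))),
    isOpenMap_ofPt (bChart_etale a ha k') _ (PrimeSpectrum.basicOpen f').isOpen,
    (PrimeSpectrum.isCompact_basicOpen f').image (Points.continuous_ofPt _), Set.Subset.antisymm ?_ ?_⟩
  · rintro y ⟨w, hw, e⟩
    obtain ⟨z', hz', hzw⟩ := exists_pt_of_isPullback (isPullback_bChart_map a k'.val) y w e.symm
    refine ⟨z', ?_, hz'⟩
    have h1 : PrimeSpectrum.comap (Algebra.TensorProduct.map (AlgHom.id k A) k'.val).toRingHom z' ∈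
        PrimeSpectrum.basicOpen f' := by
      have h1 : PrimeSpectrum.comap (Algebra.TensorProduct.map (AlgHom.id k A) k'.val).toRingHom z' = w := hzw
      rw [h1]; exact hw
    exact h1
  · rintro _ ⟨z', hz', rfl⟩
    rw [Set.mem_preimage, ofPt_bChart_map]
    exact ⟨_, hz', rfl⟩

/-- Quasi-compact opens of a base change come from finitely generated subextensions. -/
theorem exists_descended_open (hX : IsAlgSpace X) {K : Type u} [Field K] [Algebra k K]
    {V : Set (Points (X ⨯ (yk).obj (ext k K)))} (hV : IsOpen V) (hVc : IsCompact V) :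
    ∃ s : Finset K, ∀ k' : IntermediateField k K, (↑s : Set K) ⊆ k' →
      ∃ W : Set (Points (X ⨯ (yk).obj (ext k k'))), IsOpen W ∧ IsCompact W ∧
        Points.map (prod.map (𝟙 X) ((yk).map (extMap k'.val))) ⁻¹' W = V := by
  classical
  choose O hO hxO hOV s hs using fun x : V => exists_descended_nhd hX hV x.2
  obtain ⟨t, ht⟩ := hVc.elim_finite_subcover O hO fun x hx => Set.mem_iUnion.2 ⟨⟨x, hx⟩, hxO _⟩
  refine ⟨t.biUnion s, fun k' hk' => ?_⟩
  choose W hW hWc hWO using fun x : t => hs x.1 k' fun c hc =>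
    hk' (Finset.mem_coe.2 (Finset.mem_biUnion.2 ⟨x.1, x.2, hc⟩))
  refine ⟨⋃ x, W x, isOpen_iUnion hW, isCompact_iUnion hWc, ?_⟩
  rw [Set.preimage_iUnion]
  refine Set.Subset.antisymm (Set.iUnion_subset fun x => (hWO x).symm ▸ hOV x.1) fun y hy => ?_
  obtain ⟨x, hx, hyx⟩ := Set.mem_iUnion₂.1 (ht hy)
  exact Set.mem_iUnion.2 ⟨⟨x, hx⟩, (hWO ⟨x, hx⟩).symm ▸ hyx⟩

/-! Descent of connectedness from finite subextensions. -/

theorem isClosedMap_map_ext {K : Type u} [Field K] [Algebra k K] [Algebra.IsAlgebraic k K]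
    (k' : IntermediateField k K) :
    IsClosedMap (Points.map (prod.map (𝟙 X) ((yk).map (extMap k'.val)))) := by
  refine isClosedMap_of_repWith (repWith_prod_map (X := X) (@UniversallyClosed) (extMap k'.val) ?_)
  haveI : IsIntegralHom (Spec.map (CommRingCat.ofHom k'.val.toRingHom)) :=
    (IsIntegralHom.SpecMap_iff).2 (by
      have : Algebra.IsIntegral k' K := inferInstance
      exact this.isIntegral)
  exact inferInstanceAs (UniversallyClosed (Spec.map (CommRingCat.ofHom k'.val.toRingHom)))

/-- Connectedness over a separable algebraic extension follows from connectedness over its finite pieces. -/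
theorem connectedSpace_of_finite_pieces (hX : IsAlgSpace X) (K : Type u) [Field K] [Algebra k K]
    [Algebra.IsAlgebraic k K]
    (h : ∀ k' : IntermediateField k K, Module.Finite k k' → ConnectedSpace (Points (X ⨯ (yk).obj (ext k k')))) :
    ConnectedSpace (Points (X ⨯ (yk).obj (ext k K))) := by
  haveI := h ⊥ inferInstance
  haveI : Nonempty (Points (X ⨯ (yk).obj (ext k K))) :=
    (surjective_map_ext (X := X) (IntermediateField.val (⊥ : IntermediateField k K))).nonempty
  rw [connectedSpace_iff_clopen]
  refine ⟨inferInstance, fun T hT => ?_⟩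
  by_contra hne
  push_neg at hne
  obtain ⟨x, hx⟩ := hne.1
  obtain ⟨y, hy⟩ := (Set.ne_univ_iff_exists_notMem T).1 hne.2
  obtain ⟨O, -, hxO, hOT, s, hs⟩ := exists_descended_nhd hX hT.2 hx
  let k' := IntermediateField.adjoin k (↑s : Set K)
  haveI : Module.Finite k k' := IntermediateField.finiteDimensional_adjoin fun c _ =>
    Algebra.IsIntegral.isIntegral c
  haveI := h k' inferInstance
  obtain ⟨W, -, -, hW⟩ := hs k' (IntermediateField.subset_adjoin k _)
  let p := Points.map (prod.map (𝟙 X) ((yk).map (extMap k'.val)))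
  have ho : IsOpenMap p := by
    haveI : UniversallyOpen (extMap k'.val).left := inferInstanceAs (UniversallyOpen (Spec.map _))
    exact isOpenMap_of_repWith (repWith_prod_map (X := X) (@UniversallyOpen) (extMap k'.val) inferInstance)
  have hcl : IsClosedMap p := isClosedMap_map_ext k'
  have hA : IsClopen (p '' T ∩ p '' Tᶜ) :=
    ⟨(hcl _ hT.1).inter (hcl _ hT.compl.1), (ho _ hT.2).inter (ho _ hT.compl.2)⟩
  rcases isClopen_iff.1 hA with hA | hA
  · have h1 : IsClopen (p '' T) := ⟨hcl _ hT.1, ho _ hT.2⟩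
    have h2 : p '' T = Set.univ := h1.eq_univ ⟨_, x, hx, rfl⟩
    exact (hA.le ⟨h2.ge (Set.mem_univ (p y)), y, hy, rfl⟩ : p y ∈ (∅ : Set _))
  · obtain ⟨-, y', hy', e⟩ := hA.ge (Set.mem_univ (p x))
    refine hy' (hOT ?_)
    rw [← hW]
    show p y' ∈ W
    rw [e]
    exact (hW.ge hxO : p x ∈ W)

end Groth.Agent.SpFP87.GC
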