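import Groth.Agent.SpFP87.GeomConnSp
import Mathlib.FieldTheory.KrullTopology
import Mathlib.FieldTheory.Galois.Basic
/-!
Galois stable subsets of base changes of algebraic spaces.
-/

set_option autoImplicit false
set_option linter.style.haveILetI false
set_option backward.isDefEq.respectTransparency false
universe u
open CategoryTheory CategoryTheory.Limits AlgebraicGeometry Opposite Topology
open AlgSp
open Groth.Agent.SpPts86
open scoped TensorProduct

namespace Groth.Agent.SpFP87.GC

variable {k : Type u} [Field k]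

local notation "yk" => yon (Spec (CommRingCat.of k))

/-- Galois invariants of a base change. -/
theorem mem_range_algebraMap_of_invariant {A L : Type u} [CommRing A] [Algebra k A] [Field L] [Algebra k L]
    [FiniteDimensional k L] [IsGalois k L] (x : A ⊗[k] L)
    (hx : ∀ σ : L ≃ₐ[k] L, Algebra.TensorProduct.map (AlgHom.id k A) σ.toAlgHom x = x) :
    x ∈ Set.range (algebraMap A (A ⊗[k] L)) := by
  classical
  let b := Module.Basis.ofVectorSpace k A
  let e := TensorProduct.equivFinsuppOfBasisLeft b (N := L)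
  have nat : ∀ (σ : L ≃ₐ[k] L) (y : A ⊗[k] L) i,
      e (Algebra.TensorProduct.map (AlgHom.id k A) σ.toAlgHom y) i = σ (e y i) := by
    intro σ y i
    induction y using TensorProduct.induction_on with
    | zero => simp
    | tmul a c => simp [e]
    | add y z hy hz => simp [hy, hz]
  have hk : ∀ i, ∃ c : k, algebraMap k L c = e x i := fun i =>
    IsGalois.mem_range_algebraMap_iff_fixed _ |>.2 fun σ => by rw [← nat σ x i, hx σ]
  choose c hc using hk
  refine ⟨∑ i ∈ (e x).support, c i • b i, ?_⟩
  apply e.injective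
  rw [Algebra.TensorProduct.algebraMap_apply, Algebra.algebraMap_self, RingHom.id_apply, TensorProduct.sum_tmul, map_sum]
  ext i
  rw [Finsupp.finsetSum_apply]
  simp only [e, TensorProduct.equivFinsuppOfBasisLeft_apply_tmul_apply,
    map_smul, Finsupp.smul_apply, Module.Basis.repr_self, Finsupp.single_apply, smul_eq_mul]
  rw [Finset.sum_eq_single i]
  · simp [Algebra.smul_def, hc i]; rfl
  · intro j _ hj
    simp [hj]
  · intro hi
    rw [Finsupp.notMem_support_iff] at hi
    simp [Algebra.smul_def, hc i]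
    exact hi

/-- Galois conjugates separate the primes over different primes only. -/
theorem exists_conj_notMem {A L B : Type u} [CommRing A] [Algebra k A] [Field L] [Algebra k L]
    [FiniteDimensional k L] [IsGalois k L] [CommRing B] [Algebra A B] (π : A ⊗[k] L →ₐ[A] B) (q q' : Ideal B) [q'.IsPrime]
    (h : q.comap (algebraMap A B) = q'.comap (algebraMap A B)) (f : A ⊗[k] L) (hf : π f ∉ q') :
    ∃ σ : L ≃ₐ[k] L, π (Algebra.TensorProduct.map (AlgHom.id k A) σ.toAlgHom f) ∉ q := by
  classical
  by_contra hc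
  push Not at hc
  let τ : (L ≃ₐ[k] L) → (A ⊗[k] L →ₐ[k] A ⊗[k] L) := fun σ =>
    Algebra.TensorProduct.map (AlgHom.id k A) σ.toAlgHom
  let P : Polynomial (A ⊗[k] L) := ∏ σ : L ≃ₐ[k] L, (Polynomial.X - Polynomial.C (τ σ f))
  have hτ : ∀ σ ρ, τ ρ (τ σ f) = τ (ρ * σ) f := fun σ ρ => by
    rw [← AlgHom.comp_apply, ← Algebra.TensorProduct.map_comp]
    rfl
  have hinv : ∀ ρ, P.map (τ ρ).toRingHom = P := by
    intro ρ
    simp only [P, Polynomial.map_prod, Polynomial.map_sub, Polynomial.map_X, Polynomial.map_C]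
    refine Fintype.prod_equiv (Equiv.mulLeft ρ) _ _ fun σ => ?_
    show Polynomial.X - Polynomial.C (τ ρ (τ σ f)) = _
    rw [hτ]
    rfl
  have hcoef : ∀ i, ∃ c : A, algebraMap A (A ⊗[k] L) c = P.coeff i := fun i =>
    mem_range_algebraMap_of_invariant _ fun ρ => by
      show (τ ρ).toRingHom (P.coeff i) = P.coeff i
      rw [← Polynomial.coeff_map, hinv]
  choose c hc' using hcoef
  let n := Fintype.card (L ≃ₐ[k] L)
  have hq : P.map ((Ideal.Quotient.mk q).comp π.toRingHom) = Polynomial.X ^ n := by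
    simp only [P, Polynomial.map_prod, Polynomial.map_sub, Polynomial.map_X, Polynomial.map_C]
    rw [Finset.prod_congr rfl fun σ _ => by
      rw [show ((Ideal.Quotient.mk q).comp π.toRingHom) (τ σ f) = 0 from Ideal.Quotient.eq_zero_iff_mem.2 (hc σ),
        map_zero, sub_zero]]
    rw [Finset.prod_const, Finset.card_univ]
  have hq' : P.map ((Ideal.Quotient.mk q').comp π.toRingHom) = Polynomial.X ^ n := by
    ext i
    have h1 := congrArg (fun R => Polynomial.coeff R i) hq
    simp only [Polynomial.coeff_map, Polynomial.coeff_X_pow, ← hc' i, RingHom.comp_apply] at h1 ⊢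
    have e : ∀ a : A, π.toRingHom (algebraMap A (A ⊗[k] L) a) = algebraMap A B a := fun a => π.commutes a
    rw [e] at h1 ⊢
    split_ifs at h1 ⊢ with hi
    · rw [← map_one (Ideal.Quotient.mk q), Ideal.Quotient.eq] at h1
      rw [← map_one (Ideal.Quotient.mk q'), Ideal.Quotient.eq]
      have : c i - 1 ∈ q.comap (algebraMap A B) := by simpa [Ideal.mem_comap] using h1
      rw [h] at this
      simpa [Ideal.mem_comap] using this
    · rw [Ideal.Quotient.eq_zero_iff_mem] at h1 ⊢
      have : c i ∈ q.comap (algebraMap A B) := h1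
      rw [h] at this
      exact this
  have hroot : P.eval f = 0 := by
    simp only [P, Polynomial.eval_prod, Polynomial.eval_sub, Polynomial.eval_X, Polynomial.eval_C]
    refine Finset.prod_eq_zero (Finset.mem_univ (1 : L ≃ₐ[k] L)) ?_
    have : τ 1 f = f := by
      show Algebra.TensorProduct.map (AlgHom.id k A) (AlgHom.id k L) f = f
      rw [Algebra.TensorProduct.map_id]
      rfl
    rw [this, sub_self]
  have := congrArg ((Ideal.Quotient.mk q').comp π.toRingHom) hroot
  rw [map_zero, ← Polynomial.eval_map_apply, hq', Polynomial.eval_pow, Polynomial.eval_X] at this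
  exact hf (Ideal.Quotient.eq_zero_iff_mem.1 (eq_zero_of_pow_eq_zero this))

variable {X : Sp (Spec (CommRingCat.of k))}

/-- Galois stable closed subsets descend. -/
theorem exists_closed_descent (hX : IsAlgSpace X) {K : Type u} [Field K] [Algebra k K] [IsGalois k K]
    (T : Set (Points (X ⨯ (yk).obj (ext k K)))) (hT : IsClosed T)
    (hσ : ∀ σ : K ≃ₐ[k] K, Points.map (prod.map (𝟙 X) ((yk).map (extMap σ.toAlgHom))) '' T ⊆ T) :
    ∃ T₀ : Set (Points X), IsClosed T₀ ∧ Points.map (prod.fst : X ⨯ (yk).obj (ext k K) ⟶ X) ⁻¹' T₀ = T := by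
  classical
  haveI : IsIntegralHom (ext k K).hom := (IsIntegralHom.SpecMap_iff).2 (algebraMap_isIntegral_iff.2 inferInstance)
  have hcl : IsClosedMap (Points.map (prod.fst : X ⨯ (yk).obj (ext k K) ⟶ X)) :=
    isClosedMap_of_repWith (repWith_fst (@UniversallyClosed) (ext k K) inferInstance)
  refine ⟨_, hcl _ hT, Set.Subset.antisymm ?_ (Set.subset_preimage_image _ _)⟩
  rintro x' ⟨x, hx, e⟩
  by_contra hx'
  obtain ⟨A, _, _, a, ha, u, hu⟩ := exists_affine_chart hX (Points.map prod.fst x')
  obtain ⟨z', hz', hzu'⟩ := exists_bChart_eq a K x' u hu.symm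
  obtain ⟨z, hz, hzu⟩ := exists_bChart_eq a K x u (e.trans hu.symm)
  obtain ⟨_, ⟨f, rfl⟩, hzf, hfT⟩ := PrimeSpectrum.isTopologicalBasis_basic_opens.exists_subset_of_mem_open
    (show z' ∈ Points.ofPt (bChart a K) ⁻¹' Tᶜ by show Points.ofPt _ z' ∈ Tᶜ; rwa [hz'])
    (hT.isOpen_compl.preimage (Points.continuous_ofPt _))
  obtain ⟨s, hs⟩ := exists_finset_range (A := A) K f
  let L : IntermediateField k K := (FiniteGaloisIntermediateField.adjoin k (↑s : Set K)).toIntermediateField
  obtain ⟨f', rfl⟩ := hs L (FiniteGaloisIntermediateField.subset_adjoin k _)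
  let π : A ⊗[k] L →ₐ[A] A ⊗[k] K := Algebra.TensorProduct.map (AlgHom.id A A) L.val
  have hπ : ∀ y, π y = Algebra.TensorProduct.map (AlgHom.id k A) L.val y := fun y => rfl
  obtain ⟨σ, hσf⟩ := exists_conj_notMem π (z : PrimeSpectrum (A ⊗[k] K)).asIdeal (z' : PrimeSpectrum (A ⊗[k] K)).asIdeal
    (congrArg PrimeSpectrum.asIdeal (hzu.trans hzu'.symm)) f' hzf
  let σK : K ≃ₐ[k] K := σ.liftNormal K
  let w : PrimeSpectrum (A ⊗[k] K) :=
    PrimeSpectrum.comap (Algebra.TensorProduct.map (AlgHom.id k A) σK.toAlgHom).toRingHom z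
  have hcomm : Algebra.TensorProduct.map (AlgHom.id k A) σK.toAlgHom (Algebra.TensorProduct.map (AlgHom.id k A) L.val f') =
      π (Algebra.TensorProduct.map (AlgHom.id k A) σ.toAlgHom f') := by
    rw [hπ, ← AlgHom.comp_apply, ← AlgHom.comp_apply, ← Algebra.TensorProduct.map_comp,
      ← Algebra.TensorProduct.map_comp]
    congr 2
    exact AlgHom.ext fun r => σ.liftNormal_commutes K r
  have hw : w ∈ PrimeSpectrum.basicOpen (Algebra.TensorProduct.map (AlgHom.id k A) L.val f') := by
    show Algebra.TensorProduct.map (AlgHom.id k A) σK.toAlgHom _ ∉ (z : PrimeSpectrum (A ⊗[k] K)).asIdeal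
    rw [hcomm]
    exact hσf
  refine hfT hw (hσ σK ⟨x, hx, ?_⟩)
  rw [← hz]
  exact ofPt_bChart_map a σK.toAlgHom z

/-- Quasi-compact opens are stabilized by open subgroups. -/
theorem exists_open_stabilizer (hX : IsAlgSpace X) {K : Type u} [Field K] [Algebra k K] [IsGalois k K]
    {V : Set (Points (X ⨯ (yk).obj (ext k K)))} (hV : IsOpen V) (hVc : IsCompact V) :
    ∃ H : Subgroup (K ≃ₐ[k] K), IsOpen (H : Set (K ≃ₐ[k] K)) ∧
      ∀ σ ∈ H, Points.map (prod.map (𝟙 X) ((yk).map (extMap σ.toAlgHom))) '' V = V := by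
  obtain ⟨s, hs⟩ := exists_descended_open hX hV hVc
  let L := IntermediateField.adjoin k (↑s : Set K)
  haveI : FiniteDimensional k L := IntermediateField.finiteDimensional_adjoin fun c _ => Algebra.IsIntegral.isIntegral c
  obtain ⟨W, -, -, rfl⟩ := hs L (IntermediateField.subset_adjoin k _)
  refine ⟨L.fixingSubgroup, L.fixingSubgroup_isOpen, ?_⟩
  have key : ∀ σ ∈ L.fixingSubgroup,
      prod.map (𝟙 X) ((yk).map (extMap σ.toAlgHom)) ≫ prod.map (𝟙 X) ((yk).map (extMap L.val)) =
        prod.map (𝟙 X) ((yk).map (extMap L.val)) := by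
    intro σ hσ
    rw [prod.map_map, Category.comp_id, ← (yk).map_comp]
    congr 2
    refine Over.OverMorphism.ext ?_
    rw [Over.comp_left]
    simp only [Over.homMk_left, ← Spec.map_comp, ← CommRingCat.ofHom_comp]
    congr 2
    exact RingHom.ext fun r => (IntermediateField.mem_fixingSubgroup_iff _ _).1 hσ r r.2
  intro σ hσ
  refine Set.Subset.antisymm ?_ fun y hy => ?_
  · rintro _ ⟨y, hy, rfl⟩
    show Points.map _ (Points.map _ y) ∈ W
    rw [← Points.map_comp, key σ hσ]
    exact hy
  · refine ⟨Points.map (prod.map (𝟙 X) ((yk).map (extMap σ.symm.toAlgHom))) y, ?_, ?_⟩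
    · show Points.map _ (Points.map _ y) ∈ W
      rw [← Points.map_comp, key σ.symm (inv_mem hσ)]
      exact hy
    · rw [← Points.map_comp, prod.map_map, Category.comp_id, ← (yk).map_comp,
        show extMap σ.symm.toAlgHom ≫ extMap σ.toAlgHom = 𝟙 (ext k K) from Over.OverMorphism.ext (by
          rw [Over.comp_left]
          simp only [Over.homMk_left, ← Spec.map_comp, ← CommRingCat.ofHom_comp]
          show Spec.map _ = 𝟙 (Spec (CommRingCat.of K))
          rw [← Spec.map_id]
          congr 1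
          ext r
          simp), CategoryTheory.Functor.map_id, prod.map_id_id, Points.map_id]

end Groth.Agent.SpFP87.GC
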