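import Groth.Agent.SpFP87.Reduced
import Groth.Agent.SpPts86.Charts
import Groth.Agent.Unr55.EtStalk
import Groth.Agent.VarGal.GeomRed
import Groth.Agent.S2521
/-!
Geometrically reduced algebraic spaces over a field.
-/

set_option autoImplicit false
set_option linter.style.haveILetI false
set_option backward.isDefEq.respectTransparency false
universe u
open CategoryTheory CategoryTheory.Limits AlgebraicGeometry Opposite
open AlgSp
open Groth.Agent.SpPts86

namespace Groth.Agent.SpFP87

variable {k : Type u} [Field k]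

/-- Geometric reducedness at a point is etale local. -/
theorem isGeomReducedAt_iff_of_etale {U V : Scheme.{u}} (h : U ⟶ V) [Etale h]
    (f : V ⟶ Spec (CommRingCat.of k)) (g : U ⟶ Spec (CommRingCat.of k)) (hg : h ≫ f = g) (u : U) :
    FBase.IsGeomReducedAt g u ↔ FBase.IsGeomReducedAt f (h u) := by
  subst hg
  have key : ∀ (K : Type u) [Field K] [Algebra k K],
      ∃ hK : FBase.bc (h ≫ f) K ⟶ FBase.bc f K, Etale hK ∧
        hK ≫ FBase.bcπ f K = FBase.bcπ (h ≫ f) K ≫ h ∧
        ∀ y : ↥(FBase.bc f K), FBase.bcπ f K y = h u →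
          ∃ x' : ↥(FBase.bc (h ≫ f) K), hK x' = y ∧ FBase.bcπ (h ≫ f) K x' = u := by
    intro K _ _
    let t := Spec.map (CommRingCat.ofHom (algebraMap k K))
    let e := pullbackRightPullbackFstIso f t h
    refine ⟨e.inv ≫ pullback.snd h (pullback.fst f t), ?_, ?_, fun y hy => ?_⟩
    · exact (inferInstance : Etale (e.inv ≫ pullback.snd h (pullback.fst f t)))
    · show (e.inv ≫ pullback.snd h (pullback.fst f t)) ≫ pullback.fst f t = pullback.fst (h ≫ f) t ≫ h
      rw [Category.assoc, ← pullback.condition, pullbackRightPullbackFstIso_inv_fst_assoc]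
    · obtain ⟨w, hw₁, hw₂⟩ := Scheme.Pullback.exists_preimage_pullback (f := h) (g := pullback.fst f t) u y hy.symm
      refine ⟨e.hom w, ?_, ?_⟩
      · show (e.inv ≫ pullback.snd h (pullback.fst f t)) (e.hom w) = y
        rw [← Scheme.Hom.comp_apply, Iso.hom_inv_id_assoc, hw₂]
      · show pullback.fst (h ≫ f) t (e.hom w) = u
        rw [← Scheme.Hom.comp_apply, pullbackRightPullbackFstIso_hom_fst, hw₁]
  constructor
  · intro hu K _ _ y hy
    obtain ⟨hK, _, -, hlift⟩ := key K
    obtain ⟨x', rfl, hx'⟩ := hlift y hy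
    exact (Unr55.isReduced_stalk_iff_of_etale hK x').1 (hu K x' hx')
  · intro hv K _ _ x' hx'
    obtain ⟨hK, _, hc, -⟩ := key K
    refine (Unr55.isReduced_stalk_iff_of_etale hK x').2 (hv K (hK x') ?_)
    show FBase.bcπ f K (hK x') = _
    rw [← Scheme.Hom.comp_apply, hc, Scheme.Hom.comp_apply]
    exact congrArg h hx'

/-- Geometric reducedness at a point of an algebraic space: some chart. -/
def GRAt (X : Sp (Spec (CommRingCat.of k))) (x : Points X) : Prop :=
  ∃ (U : Over (Spec (CommRingCat.of k))) (a : (yon (Spec (CommRingCat.of k))).obj U ⟶ X) (u : ↥U.left),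
    RepWith @Etale a ∧ Points.ofPt a u = x ∧ FBase.IsGeomReducedAt U.hom u

variable {X Y : Sp (Spec (CommRingCat.of k))}

theorem grAt_chart_iff (hX : IsAlgSpace X) {V : Over (Spec (CommRingCat.of k))}
    (b : (yon (Spec (CommRingCat.of k))).obj V ⟶ X) (hb : RepWith @Etale b) (v : ↥V.left) :
    GRAt X (Points.ofPt b v) ↔ FBase.IsGeomReducedAt V.hom v := by
  refine ⟨?_, fun h => ⟨V, b, v, hb, rfl, h⟩⟩
  rintro ⟨U, a, u, ha, hu, hgr⟩
  obtain ⟨W, p, q, _, _, sq, -, -, -⟩ := exists_common_chart hX ha hb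
  obtain ⟨w, hpw, hqw⟩ := exists_pt_common_chart sq u v hu
  rw [← hqw, ← isGeomReducedAt_iff_of_etale q.left V.hom W.hom (Over.w q),
    isGeomReducedAt_iff_of_etale p.left U.hom W.hom (Over.w p), hpw]
  exact hgr

theorem grAt_iff_forall (hX : IsAlgSpace X) (x : Points X) :
    GRAt X x ↔ ∀ (U : Over (Spec (CommRingCat.of k))) (a : (yon (Spec (CommRingCat.of k))).obj U ⟶ X)
      (u : ↥U.left), RepWith @Etale a → Points.ofPt a u = x → FBase.IsGeomReducedAt U.hom u := by
  refine ⟨fun h U a u ha hu => (grAt_chart_iff hX a ha u).1 (hu ▸ h), fun h => ?_⟩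
  obtain ⟨U, a, ha, hs⟩ := hX.atlas
  obtain ⟨u, rfl⟩ := surjective_ofPt hs x
  exact ⟨U, a, u, ha, rfl, h U a u ha rfl⟩

theorem grAt_map_iff_of_compatible (hX : IsAlgSpace X) (hY : IsAlgSpace Y) (f : X ⟶ Y)
    {U V : Over (Spec (CommRingCat.of k))} {a : (yon (Spec (CommRingCat.of k))).obj U ⟶ X}
    {b : (yon (Spec (CommRingCat.of k))).obj V ⟶ Y} {h : U ⟶ V} (ha : RepWith @Etale a)
    (hb : RepWith @Etale b) (w : a ≫ f = (yon (Spec (CommRingCat.of k))).map h ≫ b) (u : ↥U.left)
    (W : U.left.Opens) (hu : u ∈ W) [Etale (W.ι ≫ h.left)] :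
    GRAt X (Points.ofPt a u) ↔ GRAt Y (Points.map f (Points.ofPt a u)) := by
  rw [Points.map_ofPt, w, ofPt_comp, grAt_chart_iff hX a ha, grAt_chart_iff hY b hb]
  have h1 := isGeomReducedAt_iff_of_etale W.ι U.hom (W.ι ≫ U.hom) rfl ⟨u, hu⟩
  have h2 := isGeomReducedAt_iff_of_etale (W.ι ≫ h.left) V.hom (W.ι ≫ U.hom)
    (by rw [Category.assoc, Over.w h]) ⟨u, hu⟩
  exact h1.symm.trans h2

theorem isGeomReducedAt_of_isReduced [PerfectField k] {U : Scheme.{u}} [IsReduced U]
    (f : U ⟶ Spec (CommRingCat.of k)) (u : U) : FBase.IsGeomReducedAt f u := by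
  haveI : IsIso (Spec.map (CommRingCat.ofHom (algebraMap k k))) := by
    show IsIso (Spec.map (𝟙 (CommRingCat.of k)))
    infer_instance
  haveI : IsIso (FBase.bcπ f k) := inferInstanceAs (IsIso (pullback.fst f _))
  obtain ⟨x', hx'⟩ := (FBase.bcπ f k).surjective u
  haveI : IsReduced (FBase.bc f k) := isReduced_of_isOpenImmersion (FBase.bcπ f k)
  exact Groth.Agent.S2521.result f u x' hx' (inferInstanceAs (_root_.IsReduced ((FBase.bc f k).presheaf.stalk x')))

section BaseChange

variable (K : Type u) [Field K] [Algebra k K]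

/-- `Spec K` over `Spec k`. -/
noncomputable abbrev specExt : Over (Spec (CommRingCat.of k)) :=
  Over.mk (Spec.map (CommRingCat.ofHom (algebraMap k K)))

theorem isAlgSpace_prod_specExt (hX : IsAlgSpace X) :
    IsAlgSpace (X ⨯ (yon (Spec (CommRingCat.of k))).obj (specExt K)) := by
  let T := (yon (Spec (CommRingCat.of k))).obj (Over.mk (𝟙 (Spec (CommRingCat.of k))))
  have hT : IsTerminal T := IsTerminal.isTerminalObj (yon (Spec (CommRingCat.of k))) _ Over.mkIdTerminal
  exact isAlgSpace_of_isPullback (IsPullback.of_is_product (prodIsProd X _) hT) hX (IsAlgSpace.yon_obj _) (IsAlgSpace.yon_obj _).diag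

/-- The chart of the base change induced by a chart. -/
noncomputable def bcChart {U : Over (Spec (CommRingCat.of k))}
    (a : (yon (Spec (CommRingCat.of k))).obj U ⟶ X) :
    (yon (Spec (CommRingCat.of k))).obj (Over.mk (FBase.bcπ U.hom K ≫ U.hom)) ⟶
      X ⨯ (yon (Spec (CommRingCat.of k))).obj (specExt K) :=
  prod.lift ((yon (Spec (CommRingCat.of k))).map (Over.homMk (FBase.bcπ U.hom K) rfl : _ ⟶ U) ≫ a)
    ((yon (Spec (CommRingCat.of k))).map (Over.homMk (FBase.bcStr U.hom K) pullback.condition.symm : _ ⟶ specExt K))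

theorem isPullback_bcChart {U : Over (Spec (CommRingCat.of k))}
    (a : (yon (Spec (CommRingCat.of k))).obj U ⟶ X) :
    IsPullback ((yon (Spec (CommRingCat.of k))).map
        (Over.homMk (FBase.bcπ U.hom K) rfl : Over.mk (FBase.bcπ U.hom K ≫ U.hom) ⟶ U))
      (bcChart K a) a prod.fst := by
  let S := Spec (CommRingCat.of k)
  let W : Over S := Over.mk (FBase.bcπ U.hom K ≫ U.hom)
  let p : W ⟶ U := Over.homMk (FBase.bcπ U.hom K) rfl
  let q : W ⟶ specExt K := Over.homMk (FBase.bcStr U.hom K) pullback.condition.symm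
  have hT : IsTerminal ((yon S).obj (Over.mk (𝟙 S))) := IsTerminal.isTerminalObj (yon S) _ Over.mkIdTerminal
  have sq0 : IsPullback p q (Over.homMk U.hom (Category.comp_id _) : U ⟶ Over.mk (𝟙 S))
      (Over.homMk (specExt K).hom (Category.comp_id _) : specExt K ⟶ Over.mk (𝟙 S)) :=
    IsPullback.of_map (Over.forget S) (Over.OverMorphism.ext pullback.condition) (IsPullback.of_hasPullback _ _)
  refine IsPullback.of_bot (v₂₁ := (prod.snd : X ⨯ (yon S).obj (specExt K) ⟶ _)) (v₂₂ := hT.from X)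
    (h₃₁ := hT.from _) ?_ (prod.lift_fst _ _).symm (IsPullback.of_is_product (prodIsProd X _) hT)
  have e1 : a ≫ hT.from X = (yon S).map (Over.homMk U.hom (Category.comp_id _) : U ⟶ Over.mk (𝟙 S)) :=
    hT.hom_ext _ _
  have e2 : hT.from ((yon S).obj (specExt K)) =
      (yon S).map (Over.homMk (specExt K).hom (Category.comp_id _) : specExt K ⟶ Over.mk (𝟙 S)) :=
    hT.hom_ext _ _
  rw [e1, e2]
  show IsPullback _ (bcChart K a ≫ prod.snd) _ _
  rw [bcChart, prod.lift_snd]
  exact sq0.map (yon S)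

theorem bcChart_etale {U : Over (Spec (CommRingCat.of k))} {a : (yon (Spec (CommRingCat.of k))).obj U ⟶ X}
    (ha : RepWith @Etale a) : RepWith @Etale (bcChart K a) :=
  (repWith_isStableUnderBaseChange _).of_isPullback (isPullback_bcChart K a) ha

theorem bcChart_surjective {U : Over (Spec (CommRingCat.of k))} {a : (yon (Spec (CommRingCat.of k))).obj U ⟶ X}
    (ha : RepWith @Surjective a) : RepWith @Surjective (bcChart K a) :=
  (repWith_isStableUnderBaseChange _).of_isPullback (isPullback_bcChart K a) ha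

/-- Geometric reducedness over `K` at a point of the base change. -/
def GRAtBC (X : Sp (Spec (CommRingCat.of k))) (x' : Points (X ⨯ (yon (Spec (CommRingCat.of k))).obj (specExt K))) :
    Prop :=
  ∃ (U' : Over (Spec (CommRingCat.of k)))
    (a' : (yon (Spec (CommRingCat.of k))).obj U' ⟶ X ⨯ (yon (Spec (CommRingCat.of k))).obj (specExt K))
    (q : U' ⟶ specExt K) (u' : ↥U'.left),
    RepWith @Etale a' ∧ a' ≫ prod.snd = (yon (Spec (CommRingCat.of k))).map q ∧
      Points.ofPt a' u' = x' ∧ FBase.IsGeomReducedAt q.left u'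

theorem grAtBC_iff (hX : IsAlgSpace X) (x' : Points (X ⨯ (yon (Spec (CommRingCat.of k))).obj (specExt K))) :
    GRAtBC K X x' ↔ GRAt X (Points.map prod.fst x') := by
  let S := Spec (CommRingCat.of k)
  obtain ⟨U, a, ha, hs⟩ := hX.atlas
  obtain ⟨z, hz⟩ := surjective_ofPt (bcChart_surjective K hs) x'
  have hfst : Points.map prod.fst x' = Points.ofPt a (FBase.bcπ U.hom K z) := by
    rw [← hz, Points.map_ofPt, ← (isPullback_bcChart K a).w, ofPt_comp]
    rfl
  rw [hfst, grAt_chart_iff hX a ha, Groth.Agent.VarGal.isGeomReducedAt_iff_bcStr U.hom z]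
  refine ⟨?_, fun h => ?_⟩
  · rintro ⟨U', a', q, u', ha', hq, hu', h⟩
    obtain ⟨W, p, r, _, _, sq, -, -, -⟩ :=
      exists_common_chart (isAlgSpace_prod_specExt K hX) ha' (bcChart_etale K ha)
    obtain ⟨w, hpw, hrw⟩ := exists_pt_common_chart sq u' z (hu'.trans hz.symm)
    let qU : Over.mk (FBase.bcπ U.hom K ≫ U.hom) ⟶ specExt K :=
      Over.homMk (FBase.bcStr U.hom K) pullback.condition.symm
    have e : p ≫ q = r ≫ qU := (yon S).map_injective (by
      rw [Functor.map_comp, Functor.map_comp, ← hq, reassoc_of% sq.w]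
      exact congrArg _ (prod.lift_snd _ _).symm |>.symm)
    have e' : p.left ≫ q.left = r.left ≫ FBase.bcStr U.hom K := congrArg CommaMorphism.left e
    have h1 := isGeomReducedAt_iff_of_etale p.left q.left (p.left ≫ q.left) rfl w
    have h2 := isGeomReducedAt_iff_of_etale r.left (FBase.bcStr U.hom K) (p.left ≫ q.left) e'.symm w
    rw [hpw] at h1
    have := h2.1 (h1.2 h)
    rwa [hrw] at this
  · exact ⟨_, bcChart K a, Over.homMk (FBase.bcStr U.hom K) pullback.condition.symm, z, bcChart_etale K ha,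
      prod.lift_snd _ _, hz, h⟩

theorem isReduced_bc_iff (hX : IsAlgSpace X) {U : Over (Spec (CommRingCat.of k))}
    {a : (yon (Spec (CommRingCat.of k))).obj U ⟶ X} (ha : RepWith @Etale a) (hs : RepWith @Surjective a) :
    EtaleLocally (fun V => IsReduced V) (X ⨯ (yon (Spec (CommRingCat.of k))).obj (specExt K)) ↔
      IsReduced (FBase.bc U.hom K) :=
  ⟨fun h => isReduced_chart (isAlgSpace_prod_specExt K hX) h (bcChart_etale K ha),
    fun h => ⟨_, bcChart K a, bcChart_etale K ha, bcChart_surjective K hs, h⟩⟩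

theorem isReduced_bc_of_forall_grAt (hX : IsAlgSpace X) (h : ∀ x : Points X, GRAt X x) :
    EtaleLocally (fun V => IsReduced V) (X ⨯ (yon (Spec (CommRingCat.of k))).obj (specExt K)) := by
  obtain ⟨U, a, ha, hs⟩ := hX.atlas
  refine (isReduced_bc_iff K hX ha hs).2 ?_
  have : ∀ x' : ↥(FBase.bc U.hom K), _root_.IsReduced ((FBase.bc U.hom K).presheaf.stalk x') := fun x' =>
    (grAt_chart_iff hX a ha _).1 (h _) K x' rfl
  exact isReduced_of_isReduced_stalk _

theorem grAt_of_isReduced_bc_perfect [PerfectField K] (hX : IsAlgSpace X)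
    (h : EtaleLocally (fun V => IsReduced V) (X ⨯ (yon (Spec (CommRingCat.of k))).obj (specExt K)))
    (x : Points X) : GRAt X x := by
  obtain ⟨U, a, ha, hs⟩ := hX.atlas
  obtain ⟨u, rfl⟩ := surjective_ofPt hs x
  haveI := (isReduced_bc_iff K hX ha hs).1 h
  haveI : Surjective (Spec.map (CommRingCat.ofHom (algebraMap k K))) := inferInstance
  obtain ⟨u', hu'⟩ := (pullback.fst U.hom (Spec.map (CommRingCat.ofHom (algebraMap k K)))).surjective u
  exact ⟨U, a, u, ha, rfl, Groth.Agent.S2521.result U.hom u u' hu'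
    (inferInstanceAs (_root_.IsReduced ((FBase.bc U.hom K).presheaf.stalk u')))⟩

end BaseChange

theorem forall_grAt_iff_forall_bc (hX : IsAlgSpace X) :
    (∀ x : Points X, GRAt X x) ↔ ∀ (K : Type u) [Field K] [Algebra k K],
      EtaleLocally (fun V => IsReduced V) (X ⨯ (yon (Spec (CommRingCat.of k))).obj (specExt K)) :=
  ⟨fun h K _ _ => isReduced_bc_of_forall_grAt K hX h,
    fun h => grAt_of_isReduced_bc_perfect (AlgebraicClosure k) hX (h _)⟩

theorem forall_grAt_iff_forall_bc_point (hX : IsAlgSpace X) (K : Type u) [Field K] [Algebra k K] :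
    (∀ x : Points X, GRAt X x) ↔
      ∀ x' : Points (X ⨯ (yon (Spec (CommRingCat.of k))).obj (specExt K)), GRAtBC K X x' := by
  refine ⟨fun h x' => (grAtBC_iff K hX x').2 (h _), fun h x => ?_⟩
  obtain ⟨U, a, ha, hs⟩ := hX.atlas
  obtain ⟨u, rfl⟩ := surjective_ofPt hs x
  obtain ⟨u', hu'⟩ := (pullback.fst U.hom (Spec.map (CommRingCat.ofHom (algebraMap k K)))).surjective u
  have := (grAtBC_iff K hX _).1 (h (Points.ofPt (bcChart K a) u'))
  rw [Points.map_ofPt, ← (isPullback_bcChart K a).w, ofPt_comp] at this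
  have e : FBase.bcπ U.hom K u' = u := hu'
  change GRAt X (Points.ofPt a (FBase.bcπ U.hom K u')) at this
  rwa [e] at this

theorem forall_grAt_of_purelyInseparable (hX : IsAlgSpace X)
    (h : ∀ (k' : Type u) [Field k'] [Algebra k k'], Module.Finite k k' → IsPurelyInseparable k k' →
      EtaleLocally (fun V => IsReduced V) (X ⨯ (yon (Spec (CommRingCat.of k))).obj (specExt k')))
    (x : Points X) : GRAt X x := by
  obtain ⟨U, a, ha, hs⟩ := hX.atlas
  obtain ⟨u, rfl⟩ := surjective_ofPt hs x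
  letI : U.left.Over (Spec (CommRingCat.of k)) := ⟨U.hom⟩
  refine ⟨U, a, u, ha, rfl, ?_⟩
  refine (Groth.Agent.VarGal.isGeomReducedAt_iff_fbase (X := U.left) u).1
    (Groth.Agent.VarGal.isGeomReducedAt_of_forall_purelyInseparable (X := U.left) u fun k' _ _ _ _ x' _ => ?_)
  haveI : IsReduced (FBase.bc U.hom k') := (isReduced_bc_iff k' hX ha hs).1 (h k' inferInstance inferInstance)
  exact inferInstanceAs (_root_.IsReduced ((FBase.bc U.hom k').presheaf.stalk x'))

theorem etale_of_comp_chart {S : Scheme.{u}} {Y : Sp S} (hY : IsAlgSpace Y) {U V : Over S} {h : U ⟶ V}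
    {b : (yon S).obj V ⟶ Y} (hb : RepWith @Etale b) (hhb : RepWith @Etale ((yon S).map h ≫ b)) :
    Etale h.left := by
  obtain ⟨R, p, q, sq⟩ := exists_isPullback_yon hY.diag ((yon S).map h ≫ b) b
  haveI : Etale q.left := etale_snd_of_isPullback sq hhb
  haveI : Etale p.left := etale_snd_of_isPullback sq.flip hb
  obtain ⟨σ, hσ⟩ := (yon S).map_surjective (sq.lift (𝟙 _) ((yon S).map h) (by simp))
  have h1 : σ ≫ p = 𝟙 U := (yon S).map_injective (by rw [Functor.map_comp, hσ, IsPullback.lift_fst, CategoryTheory.Functor.map_id])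
  have h2 : σ ≫ q = h := (yon S).map_injective (by rw [Functor.map_comp, hσ, IsPullback.lift_snd])
  haveI : Etale (σ.left ≫ p.left) := by
    rw [← Over.comp_left, h1]
    exact inferInstanceAs (Etale (𝟙 U.left))
  haveI : Etale σ.left := Etale.of_comp σ.left p.left
  rw [← h2, Over.comp_left]
  infer_instance

theorem forall_grAt_iff_of_etale (hX : IsAlgSpace X) (hY : IsAlgSpace Y) (f : X ⟶ Y) (he : IsEtaleMor f)
    (hs : IsSurjectiveMor f) : (∀ x : Points X, GRAt X x) ↔ ∀ y : Points Y, GRAt Y y := by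
  have key : ∀ x : Points X, GRAt X x ↔ GRAt Y (Points.map f x) := by
    intro x
    obtain ⟨V, b, hb, hbs⟩ := hY.atlas
    obtain ⟨U, a, h, ha, has, w⟩ := exists_compatible_chart f hX hY.diag hb hbs
    obtain ⟨u, rfl⟩ := surjective_ofPt has x
    haveI : Etale h.left := etale_of_comp_chart hY hb (w ▸ he a ha)
    haveI : Etale ((⊤ : U.left.Opens).ι ≫ h.left) := inferInstance
    exact grAt_map_iff_of_compatible hX hY f ha hb w u ⊤ trivial
  refine ⟨fun h y => ?_, fun h x => (key x).2 (h _)⟩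
  obtain ⟨x, rfl⟩ := hs y
  exact (key x).1 (h x)

end Groth.Agent.SpFP87
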