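import Groth.Agent.SpFP87.DecentPts
import Groth.Agent.SpFP87.NoethDesc
import Mathlib.Topology.NoetherianSpace
import Mathlib.AlgebraicGeometry.Noetherian
/-!
Irreducible components of locally Noetherian algebraic spaces.
-/

set_option autoImplicit false
set_option linter.style.haveILetI false
set_option backward.isDefEq.respectTransparency false
universe u
open CategoryTheory CategoryTheory.Limits AlgebraicGeometry Topology TopologicalSpace
open AlgSp
open Groth.Agent.SpPts86

namespace Groth.Agent.SpFP87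

variable {S : Scheme.{u}}

/-- Components meeting an open image of a Noetherian space form a finite set. -/
theorem finite_components_meeting {α β : Type*} [TopologicalSpace α] [TopologicalSpace β] [NoetherianSpace β]
    (g : β → α) (hg : Continuous g) (hgo : IsOpen (Set.range g)) :
    {Z ∈ irreducibleComponents α | (Z ∩ Set.range g).Nonempty}.Finite := by
  refine ((NoetherianSpace.finite_irreducibleComponents (α := β)).image fun C => closure (g '' C)).subset ?_
  rintro Z ⟨hZ, hne⟩
  have hZc : IsClosed Z := isClosed_of_mem_irreducibleComponents Z hZ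
  have hirr : IsIrreducible (Z ∩ Set.range g) := ⟨hne, fun U V hU hV hUn hVn => by
    have := hZ.1.2 (U ∩ Set.range g) (V ∩ Set.range g) (hU.inter hgo) (hV.inter hgo)
      (hUn.mono fun x hx => ⟨hx.1.1, hx.2, hx.1.2⟩) (hVn.mono fun x hx => ⟨hx.1.1, hx.2, hx.1.2⟩)
    exact this.mono fun x hx => ⟨⟨hx.1, hx.2.1.2⟩, hx.2.1.1, hx.2.2.1⟩⟩
  have hsub : Z ⊆ closure (Z ∩ Set.range g) := subset_closure_inter_of_isPreirreducible_of_isOpen hZ.1.2 hgo hne
  have hfin := (NoetherianSpace.finite_irreducibleComponents (α := β))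
  have hcov : Z ∩ Set.range g ⊆ ⋃₀ ((fun C => closure (g '' C)) '' irreducibleComponents β) := by
    rintro _ ⟨-, b, rfl⟩
    exact ⟨_, ⟨irreducibleComponent b, irreducibleComponent_mem_irreducibleComponents b, rfl⟩,
      subset_closure ⟨b, mem_irreducibleComponent, rfl⟩⟩
  have hcl : IsClosed (⋃₀ ((fun C => closure (g '' C)) '' irreducibleComponents β)) := by
    rw [Set.sUnion_image]
    exact hfin.isClosed_biUnion fun C _ => isClosed_closure
  have hZsub : Z ⊆ ⋃₀ ((fun C => closure (g '' C)) '' irreducibleComponents β) :=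
    hsub.trans (hcl.closure_subset_iff.2 hcov)
  obtain ⟨_, hC, hZC⟩ := (isIrreducible_iff_sUnion_isClosed.1 hZ.1 (hfin.image fun C => closure (g '' C)).toFinset
    (fun z hz => by
      obtain ⟨C, -, rfl⟩ := (Set.Finite.mem_toFinset _).1 hz
      exact isClosed_closure) (by rwa [Set.Finite.coe_toFinset]))
  obtain ⟨C, hC', rfl⟩ := (Set.Finite.mem_toFinset _).1 hC
  exact ⟨C, hC', hZC.antisymm' ((hZ.2 ((hC'.1.image g hg.continuousOn).closure) hZC))⟩

theorem locallyFinite_components {X : Sp S} (hX : IsAlgSpace X) (hN : IsLocNoethSp X) (T : Set (Points X)) :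
    LocallyFinite (fun Z : ↥(irreducibleComponents ↥T) => ((↑) : ↥T → Points X) '' (Z : Set ↥T)) := by
  intro x
  obtain ⟨U, a, ha, has⟩ := hX.atlas
  obtain ⟨u, hu⟩ := surjective_ofPt has x
  obtain ⟨W, hW, huW, hWe⟩ := exists_affine_subchart ha u
  haveI := hW
  haveI := isLocallyNoetherian_chart hX hN hWe
  haveI : IsNoetherian (Over.mk (W.ι ≫ U.hom) : Over S).left := {}
  let φ := Points.ofPt ((yon S).map (Over.homMk W.ι rfl : Over.mk (W.ι ≫ U.hom) ⟶ U) ≫ a)
  have hO : IsOpen (Set.range φ) := (isOpenMap_ofPt hWe).isOpen_range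
  refine ⟨Set.range φ, hO.mem_nhds ⟨⟨u, huW⟩, by rw [← hu]; exact ofPt_comp _ _ _⟩, ?_⟩
  let g : ↥(φ ⁻¹' T) → ↥T := fun b => ⟨φ b, b.2⟩
  have hg : Continuous g := ((Points.continuous_ofPt _).comp continuous_subtype_val).subtype_mk _
  have hr : Set.range g = ((↑) : ↥T → Points X) ⁻¹' Set.range φ := by
    ext t
    constructor
    · rintro ⟨b, rfl⟩; exact ⟨b.1, rfl⟩
    · rintro ⟨b, hb⟩; exact ⟨⟨b, show φ b ∈ T by rw [hb]; exact t.2⟩, Subtype.ext hb⟩
  haveI : NoetherianSpace ↥(φ ⁻¹' T) := inferInstance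
  refine ((finite_components_meeting g hg (hr ▸ hO.preimage continuous_subtype_val)).preimage
    Subtype.val_injective.injOn).subset ?_
  rintro Z ⟨_, ⟨t, ht, rfl⟩, hx⟩
  exact ⟨Z.2, t, ht, hr.symm ▸ hx⟩

end Groth.Agent.SpFP87
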