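import Groth.Agent.SpFP87.LocP
import Groth.Agent.SpFP87.LocPRep
import Groth.Prelude.Def_AlgSpCov
import Groth.Agent.SpPts86.EtaleMor
import Groth.Agent.SpFP87.Deform
/-!
Cech descent of a property from affine schemes flat and locally of finite presentation.
-/

set_option autoImplicit false
set_option linter.style.haveILetI false
set_option backward.isDefEq.respectTransparency false
universe u
open CategoryTheory CategoryTheory.Limits AlgebraicGeometry
open AlgSp
open Groth.Agent.SpPts86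

namespace Groth.Agent.SpFP87

variable {S : Scheme.{u}}

/-- Wide pullbacks satisfy what is preserved by binary fibre products and holds for the factors. -/
theorem widePullback_induction {U : Sp S} (C : ∀ ⦃W : Sp S⦄, (W ⟶ U) → Prop)
    (hiso : ∀ ⦃W W' : Sp S⦄ (e : W' ⟶ W) [IsIso e] (a : W ⟶ U), C a → C (e ≫ a))
    (hpb : ∀ ⦃W W' W'' : Sp S⦄ (a : W ⟶ U) (b : W' ⟶ U) (p : W'' ⟶ W) (q : W'' ⟶ W'),
      IsPullback p q a b → C a → C b → C (p ≫ a))
    {ι : Type u} (Ui : ι → Sp S) (g : ∀ i, Ui i ⟶ U) (hg : ∀ i, C (g i)) :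
    ∀ (n : ℕ) (c : Fin (n + 1) → ι), C (WidePullback.base (fun k : Fin (n + 1) => g (c k))) := by
  intro n
  induction n with
  | zero =>
    intro c
    let π := WidePullback.π (fun k : Fin 1 => g (c k)) 0
    haveI : IsIso π := ⟨WidePullback.lift (g (c 0)) (fun k => eqToHom (by rw [Subsingleton.elim k 0]))
      (fun k => by obtain rfl := Subsingleton.elim k 0; simp), ?_, ?_⟩
    · rw [← WidePullback.π_arrow (fun k : Fin 1 => g (c k)) 0]
      exact hiso π _ (hg _)
    · refine WidePullback.hom_ext _ _ _ (fun k => ?_) ?_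
      · obtain rfl := Subsingleton.elim k 0
        simp [π]
      · simp [π, WidePullback.π_arrow]
    · simp [π]
  | succ n ih =>
    intro c
    let a := WidePullback.base (fun k : Fin (n + 1) => g (c k.castSucc))
    let p : widePullback U _ (fun k : Fin (n + 2) => g (c k)) ⟶ widePullback U _ (fun k : Fin (n + 1) => g (c k.castSucc)) :=
      WidePullback.lift (WidePullback.base (fun k : Fin (n + 2) => g (c k)))
        (fun k => WidePullback.π (fun k : Fin (n + 2) => g (c k)) k.castSucc)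
        (fun k => WidePullback.π_arrow (fun k : Fin (n + 2) => g (c k)) k.castSucc)
    let q := WidePullback.π (fun k : Fin (n + 2) => g (c k)) (Fin.last (n + 1))
    have hp : p ≫ a = WidePullback.base (fun k : Fin (n + 2) => g (c k)) := WidePullback.lift_base _ _ _ _
    have sq : IsPullback p q a (g (c (Fin.last (n + 1)))) := by
      refine ⟨⟨by rw [hp]; exact (WidePullback.π_arrow (fun k : Fin (n + 2) => g (c k)) _).symm⟩,
        ⟨PullbackCone.IsLimit.mk _ (fun s => WidePullback.lift (s.fst ≫ a)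
          (fun k => Fin.lastCases (motive := fun k => s.pt ⟶ Ui (c k)) s.snd
            (fun j => s.fst ≫ WidePullback.π (fun k : Fin (n + 1) => g (c k.castSucc)) j) k)
          (fun k => ?_)) (fun s => ?_) (fun s => ?_) (fun s m h1 h2 => ?_)⟩⟩
      · cases k using Fin.lastCases with
        | last => rw [Fin.lastCases_last]; exact s.condition.symm
        | cast j =>
          rw [Fin.lastCases_castSucc, Category.assoc]
          exact congrArg (s.fst ≫ ·) (WidePullback.π_arrow (fun k : Fin (n + 1) => g (c k.castSucc)) j)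
      · refine WidePullback.hom_ext _ _ _ (fun j => ?_) ?_
        · simp [p]
        · simp [p, a]
      · simp [q]
      · refine WidePullback.hom_ext _ _ _ (fun k => ?_) ?_
        · cases k using Fin.lastCases with
          | last => simpa [q] using h2
          | cast j => simp [← h1, p]
        · simp [← h1, p, a]
    rw [← hp]
    exact hpb a _ p q sq (ih _) (hg _)

section classes

variable {X : Sp S} (K : Scheme.{u} → Prop)

/-- Flat and locally finitely presented over `X`, represented by a scheme in the class `K`. -/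
def InClass {U : Sp S} (b : U ⟶ X) : Prop :=
  ∃ (T : Over S) (_ : U ≅ (yon S).obj T), K T.left ∧ LocP @Flat b ∧ LocP @LocallyOfFinitePresentation b

end classes

theorem EtLoc.locP_iso_comp {P : MorphismProperty Scheme.{u}} [EtLoc P] {X Y Z : Sp S} {e : X ⟶ Y} [IsIso e]
    {g : Y ⟶ Z} (hX : IsAlgSpace X) (hY : IsAlgSpace Y) (hZ : IsAlgSpace Z) (h : LocP P g) : LocP P (e ≫ g) := by
  haveI : P.ContainsIdentities := ⟨fun _ => EtLoc.of_etale _ inferInstance⟩
  exact locP_comp hX hY hZ (locP_of_isIso e hX hY) h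

theorem etLoc_flat_lfp : EtLoc (@Flat.{u} : MorphismProperty Scheme.{u}) ∧
    EtLoc (@LocallyOfFinitePresentation.{u} : MorphismProperty Scheme.{u}) := ⟨inferInstance, inferInstance⟩

/-- One step: from a class of schemes closed under fibre products over the class to be treated. -/
theorem cech_step {X : Sp S} (hX : IsAlgSpace X) (P : ∀ ⦃U : Sp S⦄, (U ⟶ X) → Prop)
    (hP : ∀ ⦃U : Sp S⦄ (a : U ⟶ X), IsAlgSpace U →
      ∀ ⦃ι : Type u⦄ (Ui : ι → Sp S) (g : ∀ i, Ui i ⟶ U), (∀ i, IsAlgSpace (Ui i)) →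
      IsFppfCover Ui g →
      (∀ (n : ℕ) (c : Fin (n + 1) → ι),
        P (WidePullback.base (fun k : Fin (n + 1) => g (c k)) ≫ a)) → P a)
    (K : Scheme.{u} → Prop) (hK : ∀ ⦃U : Sp S⦄ (b : U ⟶ X), InClass K b → P b)
    {U : Sp S} (hU : IsAlgSpace U) (a : U ⟶ X) (haf : LocP @Flat a) (hal : LocP @LocallyOfFinitePresentation a)
    (hpb : ∀ (T T' : Over S) (x : (yon S).obj T ⟶ U) (y : (yon S).obj T' ⟶ U), K T.left → K T'.left →
      ∃ (T'' : Over S) (p : T'' ⟶ T) (q : T'' ⟶ T'), K T''.left ∧ IsPullback ((yon S).map p) ((yon S).map q) x y)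
    {ι : Type u} (T : ι → Over S) (hT : ∀ i, K (T i).left) (g : ∀ i, (yon S).obj (T i) ⟶ U)
    (hg : IsFppfCover (fun i => (yon S).obj (T i)) g) : P a := by
  refine hP a hU _ g (fun i => IsAlgSpace.yon_obj _) hg fun n c => hK _ ?_
  refine (widePullback_induction (fun W (b : W ⟶ U) => InClass K (b ≫ a) ∧ LocP @Flat b ∧
    LocP @LocallyOfFinitePresentation b) ?_ ?_ _ g (fun i => ⟨⟨T i, Iso.refl _, hT i,
      locP_comp (IsAlgSpace.yon_obj _) hU hX (hg.1 i).1 haf,
      locP_comp (IsAlgSpace.yon_obj _) hU hX (hg.1 i).2 hal⟩, (hg.1 i)⟩) n c).1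
  · rintro W W' e _ b ⟨⟨T₀, eT, hK₀, h1, h2⟩, h3, h4⟩
    have hW : IsAlgSpace W := (IsAlgSpace.yon_obj T₀).of_iso eT.symm
    have hW' : IsAlgSpace W' := hW.of_iso (asIso e).symm
    refine ⟨⟨T₀, asIso e ≪≫ eT, hK₀, ?_, ?_⟩, EtLoc.locP_iso_comp hW' hW hU h3,
      EtLoc.locP_iso_comp hW' hW hU h4⟩ <;> rw [Category.assoc]
    · exact EtLoc.locP_iso_comp hW' hW hX h1
    · exact EtLoc.locP_iso_comp hW' hW hX h2
  · rintro W W' W'' b b' p q sq ⟨⟨T₀, e₀, hK₀, h1, h2⟩, h3, h4⟩ ⟨⟨T₁, e₁, hK₁, -, -⟩, h5, h6⟩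
    obtain ⟨T₂, p', q', hK₂, sq'⟩ := hpb T₀ T₁ (e₀.inv ≫ b) (e₁.inv ≫ b') hK₀ hK₁
    have hW : IsAlgSpace W := (IsAlgSpace.yon_obj T₀).of_iso e₀.symm
    have hW' : IsAlgSpace W' := (IsAlgSpace.yon_obj T₁).of_iso e₁.symm
    have hW'' : IsAlgSpace W'' := isAlgSpace_of_isPullback sq hW hW' hU.diag
    have sq'' : IsPullback ((yon S).map p' ≫ e₀.inv) ((yon S).map q' ≫ e₁.inv) b b' :=
      sq'.of_iso (Iso.refl _) e₀.symm e₁.symm (Iso.refl _) (by simp) (by simp) (by simp) (by simp)
    refine ⟨⟨T₂, sq.isoIsPullback _ _ sq'', hK₂, ?_, ?_⟩,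
      locP_comp hW'' hW hU (locP_baseChange sq.flip hW' hU hW h5) h3,
      locP_comp hW'' hW hU (locP_baseChange sq.flip hW' hU hW h6) h4⟩ <;> rw [Category.assoc]
    · exact locP_comp hW'' hW hX (locP_baseChange sq.flip hW' hU hW h5) h1
    · exact locP_comp hW'' hW hX (locP_baseChange sq.flip hW' hU hW h6) h2

theorem fppfCover_affineOpens (T : Over S) {U : Sp S} (e : U ≅ (yon S).obj T) :
    IsFppfCover (fun V : T.left.affineOpens => (yon S).obj (Over.mk (V.1.ι ≫ T.hom)))
      (fun V => (yon S).map (Over.homMk V.1.ι rfl : Over.mk (V.1.ι ≫ T.hom) ⟶ T) ≫ e.inv) := by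
  have hU : IsAlgSpace U := (IsAlgSpace.yon_obj T).of_iso e.symm
  haveI : MorphismProperty.ContainsIdentities (@Flat.{u} : MorphismProperty Scheme.{u}) :=
    ⟨fun _ => inferInstanceAs (Flat (𝟙 _))⟩
  haveI : MorphismProperty.ContainsIdentities (@LocallyOfFinitePresentation.{u} : MorphismProperty Scheme.{u}) :=
    ⟨fun _ => inferInstanceAs (LocallyOfFinitePresentation (𝟙 _))⟩
  refine ⟨fun V => ⟨locP_comp (IsAlgSpace.yon_obj _) (IsAlgSpace.yon_obj T) hU
      ((locP_yon_map_iff (P := @Flat) _).2 (inferInstanceAs (Flat V.1.ι)))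
      (locP_of_isIso e.inv (IsAlgSpace.yon_obj T) hU),
    locP_comp (IsAlgSpace.yon_obj _) (IsAlgSpace.yon_obj T) hU
      ((locP_yon_map_iff (P := @LocallyOfFinitePresentation) _).2
        (inferInstanceAs (LocallyOfFinitePresentation V.1.ι)))
      (locP_of_isIso e.inv (IsAlgSpace.yon_obj T) hU)⟩, fun x => ?_⟩
  obtain ⟨t, ht⟩ := (Points.schemeHomeo T).surjective (Points.map e.hom x)
  obtain ⟨_, ⟨V, hV, rfl⟩, htV, -⟩ := T.left.isBasis_affineOpens.exists_subset_of_mem_open
    (Set.mem_univ t) isOpen_univ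
  refine ⟨⟨V, hV⟩, Points.schemeHomeo _ (⟨t, htV⟩ : Scheme.Opens.toScheme (X := T.left) V), ?_⟩
  rw [Points.map_comp, Points.map_yon_map_apply]
  show Points.map e.inv (Points.schemeHomeo T t) = x
  rw [ht, ← Points.map_comp, e.hom_inv_id, Points.map_id]

theorem cech_result {X : Sp S} (hX : IsAlgSpace X) (P : ∀ ⦃U : Sp S⦄, (U ⟶ X) → Prop)
    (hP : ∀ ⦃U : Sp S⦄ (a : U ⟶ X), IsAlgSpace U →
      ∀ ⦃ι : Type u⦄ (Ui : ι → Sp S) (g : ∀ i, Ui i ⟶ U), (∀ i, IsAlgSpace (Ui i)) →
      IsFppfCover Ui g →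
      (∀ (n : ℕ) (c : Fin (n + 1) → ι),
        P (WidePullback.base (fun k : Fin (n + 1) => g (c k)) ≫ a)) → P a)
    (haff : ∀ ⦃U : Sp S⦄ (b : U ⟶ X), InClass IsAffine b → P b) : P (𝟙 X) := by
  have pbS : ∀ (T₀ : Over S) {U : Sp S} (e : U ≅ (yon S).obj T₀) (K : Scheme.{u} → Prop)
      (hK : ∀ {A B : Scheme.{u}} (x : A ⟶ T₀.left) (y : B ⟶ T₀.left), K A → K B → K (pullback x y))
      (T T' : Over S) (x : (yon S).obj T ⟶ U) (y : (yon S).obj T' ⟶ U), K T.left → K T'.left →
      ∃ (T'' : Over S) (p : T'' ⟶ T) (q : T'' ⟶ T'), K T''.left ∧ IsPullback ((yon S).map p) ((yon S).map q) x y := by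
    intro T₀ U e K hK T T' x y hA hB
    obtain ⟨x₀, hx₀⟩ := (yon S).map_surjective (x ≫ e.hom)
    obtain ⟨y₀, hy₀⟩ := (yon S).map_surjective (y ≫ e.hom)
    let T'' : Over S := Over.mk (pullback.fst x₀.left y₀.left ≫ T.hom)
    let p : T'' ⟶ T := Over.homMk (pullback.fst x₀.left y₀.left) rfl
    let q : T'' ⟶ T' := Over.homMk (pullback.snd x₀.left y₀.left) (by
      show _ = pullback.fst x₀.left y₀.left ≫ T.hom
      rw [← Over.w x₀, ← Over.w y₀, pullback.condition_assoc])
    refine ⟨T'', p, q, hK _ _ hA hB, ?_⟩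
    have h := isPullback_yon_of_left (p := p) (q := q) (r := x₀) (s := y₀) (IsPullback.of_hasPullback _ _)
    rw [hx₀, hy₀] at h
    exact h.of_iso (Iso.refl _) (Iso.refl _) (Iso.refl _) e.symm (by simp) (by simp) (by simp) (by simp)
  have h1 : ∀ ⦃U : Sp S⦄ (b : U ⟶ X), InClass (fun T => T.IsSeparated) b → P b := by
    rintro U b ⟨T, e, hT, hf, hl⟩
    haveI := hT
    refine cech_step hX P hP _ haff ((IsAlgSpace.yon_obj T).of_iso e.symm) b hf hl
      (pbS T e _ fun {A B} x y hA hB => ?_) (fun V : T.left.affineOpens => Over.mk (V.1.ι ≫ T.hom))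
      (fun V => V.2) _ (fppfCover_affineOpens T e)
    haveI := hA
    haveI := hB
    haveI : IsAffineHom x := IsAffineHom.of_comp x (terminal.from T.left)
    haveI : IsAffineHom (pullback.snd x y) := MorphismProperty.pullback_snd _ _ ‹IsAffineHom x›
    exact isAffine_of_isAffineHom (pullback.snd x y)
  have h2 : ∀ ⦃U : Sp S⦄ (b : U ⟶ X), InClass (fun _ => True) b → P b := by
    rintro U b ⟨T, e, -, hf, hl⟩
    refine cech_step hX P hP _ h1 ((IsAlgSpace.yon_obj T).of_iso e.symm) b hf hl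
      (pbS T e _ fun {A B} x y hA hB => ?_) (fun V : T.left.affineOpens => Over.mk (V.1.ι ≫ T.hom))
      (fun V => haveI := V.2; inferInstanceAs (V.1.toScheme.IsSeparated)) _ (fppfCover_affineOpens T e)
    haveI := hA
    haveI := hB
    haveI : IsSeparated y := IsSeparated.of_comp y (terminal.from T.left)
    haveI : IsSeparated (pullback.fst x y) := MorphismProperty.pullback_fst _ _ ‹IsSeparated y›
    refine ⟨?_⟩
    rw [show terminal.from (pullback x y) = pullback.fst x y ≫ terminal.from A from terminal.hom_ext _ _]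
    infer_instance
  obtain ⟨U₀, u₀, hu, hus⟩ := hX.atlas
  haveI : MorphismProperty.ContainsIdentities (@Flat.{u} : MorphismProperty Scheme.{u}) :=
    ⟨fun _ => inferInstanceAs (Flat (𝟙 _))⟩
  haveI : MorphismProperty.ContainsIdentities (@LocallyOfFinitePresentation.{u} : MorphismProperty Scheme.{u}) :=
    ⟨fun _ => inferInstanceAs (LocallyOfFinitePresentation (𝟙 _))⟩
  refine cech_step hX P hP (fun _ => True) h2 hX (𝟙 X) (locP_of_isIso _ hX hX) (locP_of_isIso _ hX hX)
    (fun T T' x y _ _ => ?_) (fun _ : PUnit.{u + 1} => U₀) (fun _ => trivial) (fun _ => u₀)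
    ⟨fun _ => ⟨LocP.of_le (P := @Etale) (fun _ _ k hk => by haveI : Etale k := hk; exact inferInstanceAs (Flat k))
        (locP_etale_of_isEtaleMor (Groth.Agent.SpPts86.isEtaleMor_of_repWith_etale hu)),
      LocP.of_le (P := @Etale) (fun _ _ k hk => by
        haveI : Etale k := hk; exact inferInstanceAs (LocallyOfFinitePresentation k))
        (locP_etale_of_isEtaleMor (Groth.Agent.SpPts86.isEtaleMor_of_repWith_etale hu))⟩,
      fun z => ⟨⟨⟩, isSurjectiveMor_of_repWith hus z⟩⟩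
  obtain ⟨W, p, q, sq⟩ := exists_isPullback_yon hX.diag x y
  exact ⟨W, p, q, trivial, sq⟩

end Groth.Agent.SpFP87
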