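import Groth.Prelude.Def_AlgSpEt
import Groth.Prelude.Def_AlgSpCov
import Groth.Agent.SpPts86.Basic
import Groth.Agent.SpPts86.EtaleMor
import Groth.Agent.SpFP87.Covers
/-!
The small etale site inside the big etale site.
-/

set_option autoImplicit false
set_option backward.isDefEq.respectTransparency false
universe u w
open CategoryTheory CategoryTheory.Limits AlgebraicGeometry Opposite
open AlgSp
open Groth.Agent.SpPts86

namespace Groth.Agent.SpFP87

variable {S : Scheme.{u}}

/-- The morphism of spaces underlying a morphism from a scheme. -/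
noncomputable abbrev fromSch {X : Space S} {U : Over S} (g : (yon S).obj U ⟶ X.obj) :
    (AlgSp.ofScheme S).obj U ⟶ X := ObjectProperty.homMk g

/-- Every morphism from a scheme lifts etale locally into the sieve. -/
def EtLifts (X : Space S) (R : Sieve X) : Prop :=
  ∀ (U : Over S) (g : (yon S).obj U ⟶ X.obj), ∃ (ι : Type u) (V : ι → Over S) (c : ∀ i, V i ⟶ U),
    (∀ i, Etale (c i).left) ∧ (∀ u : ↥U.left, ∃ i, u ∈ Set.range (c i).left) ∧
      ∀ i, R (fromSch ((yon S).map (c i) ≫ g))

theorem etLifts_of_mem {X : Space S} {R : Sieve X} (hR : R ∈ spacesTop S IsEtaleMor X) : EtLifts X R := by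
  rw [spacesTop, Precoverage.mem_toGrothendieck_iff] at hR
  induction hR with
  | of X R hR =>
    intro U g
    obtain ⟨hP, hx⟩ := hR
    choose Y h hY hh using fun u : ↥U.left => hx (Points.ofPt g u)
    choose y hy using hh
    choose A a ha has using fun u : ↥U.left => (Y u).property.atlas
    choose r hr using fun u => surjective_ofPt (has u) (y u)
    have he : ∀ u, RepWith @Etale (a u ≫ (h u).hom) := fun u => hP (h u) (hY u) (a u) (ha u)
    refine ⟨↥U.left, fun u => (he u).rep.pullback g, fun u => (he u).rep.snd g, fun u => (he u).property_snd g,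
      fun u => ?_, fun u => ?_⟩
    · obtain ⟨v, -, hv⟩ := exists_pt_of_isPullback ((he u).rep.isPullback g) (Points.ofScheme (A u) (r u)) u (by
        rw [← Points.ofPt_eq_map_ofScheme, ← hy u, ← hr u, Points.map_ofPt])
      exact ⟨u, v, hv⟩
    · refine ⟨_, fromSch ((he u).rep.fst g ≫ a u), h u, hY u, ObjectProperty.hom_ext _ ?_⟩
      exact (Category.assoc _ _ _).trans ((he u).rep.isPullback g).w
  | top X =>
    exact fun U g => ⟨PUnit, fun _ => U, fun _ => 𝟙 U, fun _ => inferInstanceAs (Etale (𝟙 _)),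
      fun u => ⟨⟨⟩, u, rfl⟩, fun _ => trivial⟩
  | pullback X R _ Y f ih =>
    intro U g
    obtain ⟨ι, V, c, h1, h2, h3⟩ := ih U (g ≫ f.hom)
    refine ⟨ι, V, c, h1, h2, fun i => ?_⟩
    have h4 := h3 i
    have : fromSch ((yon S).map (c i) ≫ g) ≫ f = fromSch ((yon S).map (c i) ≫ g ≫ f.hom) :=
      ObjectProperty.hom_ext _ (Category.assoc _ _ _)
    show R (_ ≫ f)
    rwa [this]
  | transitive X T R _ _ ih ih' =>
    intro U g
    obtain ⟨ι, V, c, h1, h2, h3⟩ := ih U g
    choose κ W d k1 k2 k3 using fun i => ih' (h3 i) (V i) (𝟙 _)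
    refine ⟨Σ i, κ i, fun r => W r.1 r.2, fun r => d r.1 r.2 ≫ c r.1, fun r => ?_, fun u => ?_, fun r => ?_⟩
    · haveI := k1 r.1 r.2
      haveI := h1 r.1
      exact inferInstanceAs (Etale ((d r.1 r.2).left ≫ (c r.1).left))
    · obtain ⟨i, v, rfl⟩ := h2 u
      obtain ⟨k, w, rfl⟩ := k2 i v
      exact ⟨⟨i, k⟩, w, rfl⟩
    · have h4 : R (fromSch ((yon S).map (d r.1 r.2) ≫ 𝟙 _) ≫ fromSch ((yon S).map (c r.1) ≫ g)) := k3 r.1 r.2
      have : fromSch ((yon S).map (d r.1 r.2) ≫ 𝟙 _) ≫ fromSch ((yon S).map (c r.1) ≫ g) =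
          fromSch ((yon S).map (d r.1 r.2 ≫ c r.1) ≫ g) := ObjectProperty.hom_ext _ (by
        show ((yon S).map (d r.1 r.2) ≫ 𝟙 _) ≫ (yon S).map (c r.1) ≫ g = _
        rw [Category.comp_id, Functor.map_comp, Category.assoc]
        rfl)
      rwa [this] at h4

/-- The functor from the small etale site to the big site over `X`. -/
noncomputable abbrev etToBig {X Y : Space S} (f : Y ⟶ X) : EtOver Y.obj ⥤ Over X :=
  EtOver.toEtSpOver Y ⋙ ObjectProperty.ι (fun E : Over Y => IsEtaleMor E.hom.hom) ⋙ Over.map f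

theorem isCocontinuous_etToBig {X Y : Space S} (f : Y ⟶ X) :
    (etToBig f).IsCocontinuous (etTop Y.obj) (spacesTopOver IsEtaleMor X) := by
  refine ⟨fun {E R} hR => ?_⟩
  obtain ⟨ι, V, c, h1, h2, h3⟩ := etLifts_of_mem hR E.obj.left (𝟙 _)
  let E' : ι → EtOver Y.obj := fun i => EtOver.mk ((yon S).map (c i) ≫ E.obj.hom)
    (isEtaleMor_of_repWith_etale E.property _ ((repWith_yon_map_iff _ _).2 (h1 i)))
  refine GrothendieckTopology.superset_covering _ ?_
    (ofArrows_mem_etTop E' (fun i => EtOver.homMk (c i) rfl) h2)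
  rw [Sieve.generate_le_iff]
  rintro _ _ ⟨i⟩
  show R ((etToBig f).map _)
  have h4 := (Sieve.overEquiv_iff _ _).1 (h3 i)
  refine cast ?_ h4
  congr 2
  all_goals first
    | rfl
    | (apply ObjectProperty.hom_ext; simp)

theorem isContinuous_etToBig {X Y : Space S} (f : Y ⟶ X) :
    (etToBig f).IsContinuous (etTop Y.obj) (spacesTopOver IsEtaleMor X) := by
  refine ⟨fun G => ?_⟩
  have hG := (isSheaf_iff_isSheaf_of_type _ _).1 G.property
  rw [etTop, Precoverage.isSheaf_toGrothendieck_iff]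
  intro E E₁ k R hR
  rw [← Sieve.pullbackArrows_comm, ← Presieve.isSheafFor_iff_generate]
  have hR' := (etPre Y.obj).pullbackArrows_mem k hR
  obtain ⟨ι, Z, π, e⟩ := Presieve.exists_eq_ofArrows (R.pullbackArrows k)
  rw [e] at hR' ⊢
  have hcov := (ofArrows_mem_etPre_iff Z π).1 hR'
  refine (Presieve.isSheafFor_arrows_iff _ _).2 fun x hx => ?_
  let π' : ∀ i, (etToBig f).obj (Z i) ⟶ (etToBig f).obj E₁ := fun i => (etToBig f).map (π i)
  have hmem : Sieve.ofArrows _ π' ∈ spacesTopOver IsEtaleMor X ((etToBig f).obj E₁) := by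
    rw [GrothendieckTopology.mem_over_iff, Sieve.overEquiv_generate]
    refine GrothendieckTopology.superset_covering _ ?_
      (Precoverage.generate_mem_toGrothendieck
        (R := Presieve.ofArrows (fun i => (AlgSp.ofScheme S).obj (Z i).obj.left) fun i => (π' i).left) ?_)
    · rw [Sieve.generate_le_iff]
      rintro _ _ ⟨i⟩
      exact Sieve.le_generate _ _ _ ⟨_, π' i, 𝟙 _, ⟨i⟩, by simp⟩
    · refine ⟨?_, fun p => ?_⟩
      · rintro _ _ ⟨i⟩
        exact isEtaleMor_of_repWith_etale ((repWith_yon_map_iff _ _).2 (EtOver.etale_left (π i)))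
      · obtain ⟨v, rfl⟩ := (Points.schemeHomeo _).surjective p
        obtain ⟨i, z, hz⟩ := hcov v
        refine ⟨_, (π' i).left, ⟨i⟩, Points.ofScheme _ z, ?_⟩
        show Points.map ((yon S).map (π i).hom.left) (Points.ofScheme _ z) = _
        rw [← Points.ofPt_eq_map_ofScheme, ofPt_yon_map, hz]
        rfl
  have hGf := (Presieve.isSheafFor_iff_generate _).2 (hG _ hmem)
  refine (Presieve.isSheafFor_arrows_iff _ _).1 hGf x fun i j T gi gj hij => ?_
  obtain ⟨W, a, ha, has⟩ := T.left.property.atlas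
  have hT : Sieve.generate (Presieve.singleton
      (Over.homMk (fromSch a) : Over.mk (fromSch a ≫ T.hom) ⟶ T)) ∈ spacesTopOver IsEtaleMor X T := by
    rw [GrothendieckTopology.mem_over_iff, Sieve.overEquiv_generate]
    refine GrothendieckTopology.superset_covering _ ?_
      (Precoverage.generate_mem_toGrothendieck (R := Presieve.singleton (fromSch a)) ?_)
    · rw [Sieve.generate_le_iff]
      rintro _ _ ⟨⟩
      exact Sieve.le_generate _ _ _ ⟨_, _, 𝟙 _, ⟨⟩, by simp⟩
    · refine ⟨?_, fun p => ?_⟩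
      · rintro _ _ ⟨⟩
        exact isEtaleMor_of_repWith_etale ha
      · obtain ⟨v, rfl⟩ := surjective_ofPt has p
        exact ⟨_, fromSch a, ⟨⟩, Points.ofScheme _ v, (Points.ofPt_eq_map_ofScheme _ _).symm⟩
  refine Presieve.isSeparatedFor_singleton.1 ((Presieve.isSheafFor_iff_generate _).2 (hG _ hT)).isSeparatedFor ?_
  obtain ⟨p, hp⟩ := (yon S).map_surjective (a ≫ gi.left.hom)
  obtain ⟨q, hq⟩ := (yon S).map_surjective (a ≫ gj.left.hom)
  have hpq : p ≫ (π i).hom.left = q ≫ (π j).hom.left := (yon S).map_injective (by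
    rw [Functor.map_comp, Functor.map_comp, hp, hq]
    have := congrArg (fun m => a ≫ m.left.hom) hij
    exact (Category.assoc _ _ _).trans (this.trans (Category.assoc _ _ _).symm))
  let L := EtOver.pullbackObj (π i) (π j)
  let l : W ⟶ L.obj.left := pullback.lift p q hpq
  have key := hx i j L (EtOver.pullbackFst _ _) (EtOver.pullbackSnd _ _) (EtOver.isPullback _ _).w
  simp only [← Functor.map_comp_apply, ← op_comp]
  have w1 : fromSch a ≫ T.hom = (AlgSp.ofScheme S).map l ≫ ((etToBig f).obj L).hom := by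
    rw [← Over.w gi]
    have h5 : (AlgSp.ofScheme S).map l ≫ ((etToBig f).map (EtOver.pullbackFst (π i) (π j))).left =
        fromSch a ≫ gi.left := ObjectProperty.hom_ext _ (by
      show (yon S).map l ≫ (yon S).map (EtOver.pullbackFst (π i) (π j)).hom.left = a ≫ gi.left.hom
      rw [← Functor.map_comp, ← hp]
      congr 1
      exact pullback.lift_fst _ _ _)
    rw [← Over.w ((etToBig f).map (EtOver.pullbackFst (π i) (π j))), ← Category.assoc, ← Category.assoc, h5]
  let m : Over.mk (fromSch a ≫ T.hom) ⟶ (etToBig f).obj L := Over.homMk ((AlgSp.ofScheme S).map l) w1.symm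
  have e1 : (Over.homMk (fromSch a) : Over.mk (fromSch a ≫ T.hom) ⟶ T) ≫ gi =
      m ≫ (etToBig f).map (EtOver.pullbackFst (π i) (π j)) := by
    apply Over.OverMorphism.ext
    apply ObjectProperty.hom_ext
    show a ≫ gi.left.hom = (yon S).map l ≫ (yon S).map (EtOver.pullbackFst (π i) (π j)).hom.left
    rw [← Functor.map_comp, ← hp]
    congr 1
    exact (pullback.lift_fst _ _ _).symm
  have e2 : (Over.homMk (fromSch a) : Over.mk (fromSch a ≫ T.hom) ⟶ T) ≫ gj =
      m ≫ (etToBig f).map (EtOver.pullbackSnd (π i) (π j)) := by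
    apply Over.OverMorphism.ext
    apply ObjectProperty.hom_ext
    show a ≫ gj.left.hom = (yon S).map l ≫ (yon S).map (EtOver.pullbackSnd (π i) (π j)).hom.left
    rw [← Functor.map_comp, ← hq]
    congr 1
    exact (pullback.lift_snd _ _ _).symm
  rw [e1, e2]
  simp only [op_comp, Functor.map_comp_apply]
  exact congrArg (G.obj.map m.op) key

end Groth.Agent.SpFP87
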