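import Groth.Agent.SpFP87.FinChow
import Groth.Agent.SpPts86.SliceAlg
import Groth.Prelude.Def_W4stk3sptopologiesPh
/-!
A proper surjective morphism is a ph covering; schemes finite surjective over spaces proper over affines.
-/

set_option autoImplicit false
set_option linter.style.haveILetI false
set_option backward.isDefEq.respectTransparency false
universe u
open CategoryTheory CategoryTheory.Limits AlgebraicGeometry
open AlgSp Groth.Agent.SpPts86

namespace Groth.Agent.SpFP87

variable {S S' : Scheme.{u}}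

theorem isSeparatedMor_eFun (g : S ⟶ S') {X Y : Sp S} {f : X ⟶ Y} (hf : IsSeparatedMor f) :
    IsSeparatedMor ((Slice.eFun g).map f) := by
  have sq := Slice.isPullback_eFun g (IsPullback.of_hasPullback f f)
  change RepWith @IsClosedImmersion (pullback.diagonal ((Slice.eFun g).map f))
  have e : pullback.diagonal ((Slice.eFun g).map f) = (Slice.eFun g).map (pullback.diagonal f) ≫ sq.isoPullback.hom := by
    apply pullback.hom_ext
    · rw [pullback.diagonal_fst, Category.assoc, sq.isoPullback_hom_fst, ← Functor.map_comp,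
        pullback.diagonal_fst, CategoryTheory.Functor.map_id]
    · rw [pullback.diagonal_snd, Category.assoc, sq.isoPullback_hom_snd, ← Functor.map_comp,
        pullback.diagonal_snd, CategoryTheory.Functor.map_id]
  rw [e, MorphismProperty.cancel_right_of_respectsIso (RepWith @IsClosedImmersion)]
  exact Slice.repWith_eFun g hf

/-- A space separated and quasi-compact over an affine scheme receives a finite surjective map from a scheme,
whatever the base. -/
theorem exists_scheme_finite_surjective_of_affine (V : AlgSp.Space S) {Z : Over S} [IsAffine Z.left]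
    {q : V.obj ⟶ (yon S).obj Z} (hsep : IsSeparatedMor q) (hqc : IsQuasiCompactMor q) :
    ∃ (W : Over S) (y : (yon S).obj W ⟶ V.obj), IsFiniteMor y ∧ IsSurjectiveMor y := by
  let g : S ⟶ ⊤_ Scheme.{u} := terminal.from S
  have hZc : CompactSpace (Points ((yon S).obj Z)) := (Points.schemeHomeo Z).compactSpace
  haveI : CompactSpace (Points V.obj) := compactSpace_of_qcMor' (IsAlgSpace.yon_obj Z) hqc
  obtain ⟨U, u, hU, hue, hus⟩ := exists_affine_chart_of_compactSpace V.property
  have hV' : IsAlgSpace ((Slice.eFun g).obj V.obj) := (Slice.isAlgSpace_eFun_iff g _).2 V.property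
  have hc : IsQuasiCompactSp ((Slice.eFun g).obj V.obj) := by
    haveI : IsAffine ((Over.map g).obj U).left := hU
    exact ⟨(Over.map g).obj U, (Slice.eYon g U).inv ≫ (Slice.eFun g).map u,
      MorphismProperty.RespectsIso.precomp _ _ _ (Slice.repWith_eFun g hue),
      MorphismProperty.RespectsIso.precomp _ _ _ (Slice.repWith_eFun g hus), inferInstance⟩
  let q' : (Slice.eFun g).obj V.obj ⟶ (yon (⊤_ Scheme.{u})).obj ((Over.map g).obj Z) :=
    (Slice.eFun g).map q ≫ (Slice.eYon g Z).hom
  have hq' : IsSeparatedMor q' := by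
    have h1 := isSeparatedMor_eFun g hsep
    exact isSeparatedMor_comp h1 (isSeparatedMor_of_repWith_le (P := @IsClosedImmersion)
      (fun _ _ k (hk : IsClosedImmersion k) => inferInstance) ((Slice.isAlgSpace_eFun_iff g _).2 (IsAlgSpace.yon_obj Z))
      (repWith_mono (fun _ _ k (hk : IsIso k) => inferInstance) (repWith_isomorphisms_of_isIso _)))
  have hs : IsQuasiSeparatedSp ((Slice.eFun g).obj V.obj) := by
    refine Groth.Agent.SpProper61.qsSp_of_mor q' (isQuasiSeparatedMor_of_isSeparatedMor hq') ?_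
    let t : (Over.map g).obj Z ⟶ Over.mk (𝟙 (⊤_ Scheme.{u})) := Over.homMk ((Over.map g).obj Z).hom (Category.comp_id _)
    haveI : IsAffine ((Over.map g).obj Z).left := ‹IsAffine Z.left›
    haveI : IsSeparated t.left := isSeparated_hom_of_isAffine _
    exact isQuasiSeparatedSp_of_toBase ((yon _).map t)
      (isQuasiSeparatedMor_of_isSeparatedMor ((isSeparatedMor_yon_map_iff t).2 inferInstance))
  obtain ⟨W', y', hy', hys'⟩ := ModSys.exists_scheme_finite_surjective ⟨_, hV'⟩ hc hs
  obtain ⟨W, ι, y, hy⟩ := Slice.exists_eq_map g (x := y')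
  have hrep := (isFiniteMor_iff y').1 hy'
  have hfin : RepWith @IsFinite y := Slice.repWith_of_eFun g (by
    rw [hy, ← Category.assoc]; exact MorphismProperty.RespectsIso.precomp _ _ _ hrep)
  refine ⟨W, y, (isFiniteMor_iff y).2 hfin, isSurjectiveMor_of_repWith (Slice.repWith_of_eFun g ?_)⟩
  rw [hy, ← Category.assoc]
  exact MorphismProperty.RespectsIso.precomp _ _ _ ((repWith_surjective_iff hrep.rep).2 hys')

/-- A proper surjective morphism is a ph covering. -/
theorem isPhCover_of_isProperMor {X Y : AlgSp.Space S} (f : Y ⟶ X)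
    (hf : AlgSp.IsProperMor f.hom) (hs : AlgSp.IsSurjectiveMor f.hom) :
    AlgSp.IsPhCover (fun _ : PUnit.{u + 1} => Y.obj) (fun _ => f.hom) := by
  refine ⟨fun _ => hf.2.1.1, fun Z hZ h => ?_⟩
  haveI := hZ
  have sq := IsPullback.of_hasPullback f.hom h
  let V : AlgSp.Space S := ⟨_, isAlgSpace_pullback f.hom h Y.property (IsAlgSpace.yon_obj Z) X.property⟩
  have hp : IsProperMor (pullback.snd f.hom h) :=
    isProperMor_baseChange Y.property X.property (IsAlgSpace.yon_obj Z) hf sq
  obtain ⟨W, y, hy, hys⟩ := exists_scheme_finite_surjective_of_affine V hp.1 hp.2.1.2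
  obtain ⟨w, hw⟩ := (yon S).map_surjective (y ≫ pullback.snd f.hom h)
  haveI : IsProper w.left := (isProperMor_yon_map_iff w).1 (hw ▸ isProperMor_comp (IsAlgSpace.yon_obj W)
    V.property (IsAlgSpace.yon_obj Z) (isProperMor_of_isFiniteMor (IsAlgSpace.yon_obj W) V.property hy) hp)
  haveI : Surjective w.left := ⟨fun z => by
    obtain ⟨p, hp'⟩ := hs (Points.map h (Points.ofScheme Z z))
    obtain ⟨v, -, hv⟩ := exists_of_isPullback sq p (Points.ofScheme Z z) hp'
    obtain ⟨v', rfl⟩ := hys v
    obtain ⟨a, rfl⟩ := (Points.schemeHomeo W).surjective v'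
    refine ⟨a, (Points.schemeHomeo Z).injective ?_⟩
    refine ((Points.map_yon_map_apply w a).symm.trans ?_).trans hv
    rw [hw, Points.map_comp]⟩
  haveI : CompactSpace ↥W.left := QuasiCompact.compactSpace_of_compactSpace w.left
  obtain ⟨G, hG⟩ := isCompact_univ.elim_finite_subcover (fun O : W.left.affineOpens => (O.1 : Set W.left))
    (fun O => O.1.2) (fun x _ => by
      obtain ⟨_, ⟨O, hO, rfl⟩, hx, -⟩ :=
        W.left.isBasis_affineOpens.exists_subset_of_mem_open (Set.mem_univ x) isOpen_univ
      exact Set.mem_iUnion.2 ⟨⟨O, hO⟩, hx⟩)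
  let e := G.equivFin
  let F : PreZeroHypercover.{0} Z.left :=
    { I₀ := Fin G.card, X := fun j => (e.symm j).1.1.toScheme, f := fun j => (e.symm j).1.1.ι ≫ w.left }
  refine ⟨F, ⟨hZ, inferInstanceAs (Finite (Fin G.card)), fun j => (e.symm j).1.2,
    ⟨W.left, w.left, fun j => (e.symm j).1.1.ι, inferInstance, inferInstance,
      fun j => inferInstance, fun j => rfl, fun x => ?_⟩⟩, fun j => ⟨PUnit.unit, ?_⟩⟩
  · obtain ⟨O, hO, hx⟩ := Set.mem_iUnion₂.1 (hG (Set.mem_univ x))
    refine ⟨e ⟨O, hO⟩, ?_⟩
    change x ∈ Set.range (e.symm (e ⟨O, hO⟩)).1.1.ι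
    rw [Equiv.symm_apply_apply]
    exact O.1.range_ι.ge hx
  · let o : Over.mk (F.f j ≫ Z.hom) ⟶ W := Over.homMk (e.symm j).1.1.ι (by
      show _ ≫ W.hom = ((e.symm j).1.1.ι ≫ w.left) ≫ Z.hom
      rw [Category.assoc, Over.w w])
    refine ⟨(yon S).map o ≫ y ≫ pullback.fst f.hom h, ?_⟩
    simp only [Category.assoc]
    rw [pullback.condition, ← Category.assoc y, ← hw, ← Functor.map_comp_assoc]
    rfl

end Groth.Agent.SpFP87
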