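import Groth.Agent.SpFP87.Covers
import Groth.Prelude.Def_W4stk3sptopologiesPh
/-!
Base change of ph coverings of algebraic spaces.
-/

set_option autoImplicit false
set_option linter.style.haveILetI false
universe u
open CategoryTheory CategoryTheory.Limits AlgebraicGeometry Opposite
open AlgSp

namespace Groth.Agent.SpFP87

variable {S : Scheme.{u}}

theorem isPhCover_baseChange {X X' : Sp S} (hX : IsAlgSpace X) (hX' : IsAlgSpace X') {ι : Type u}
    {Y Y' : ι → Sp S} (hY : ∀ i, IsAlgSpace (Y i)) {a : X' ⟶ X}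
    {g : ∀ i, Y i ⟶ X} {q : ∀ i, Y' i ⟶ X'} {p : ∀ i, Y' i ⟶ Y i}
    (sq : ∀ i, IsPullback (q i) (p i) a (g i)) (h : IsPhCover Y g) : IsPhCover Y' q := by
  refine ⟨fun i => locP_baseChange (sq i).flip (hY i) hX hX' (h.1 i), fun Z hZ z => ?_⟩
  obtain ⟨F, hF, hl⟩ := h.2 Z hZ (z ≫ a)
  refine ⟨F, hF, fun j => ?_⟩
  obtain ⟨i, l, e⟩ := hl j
  exact ⟨i, (sq i).lift _ l (by rw [Category.assoc]; exact e.symm), (sq i).lift_fst _ _ _⟩

end Groth.Agent.SpFP87
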