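import Groth.Agent.SpFP87.SmoothFS
import Groth.Agent.SpFP87.NoethDesc
import Groth.Agent.S2793
import Groth.Agent.S1417
/-!
Lifting criteria for smoothness of morphisms of algebraic spaces along small extensions.
-/

set_option autoImplicit false
set_option linter.style.haveILetI false
set_option backward.isDefEq.respectTransparency false
universe u
open CategoryTheory CategoryTheory.Limits AlgebraicGeometry
open AlgSp

namespace Groth.Agent.SpFP87

variable {S : Scheme.{u}} {B' B : Type u} [CommRing B'] [CommRing B]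

theorem ker_sq_eq_bot_of_small [IsLocalRing B'] [Nontrivial B] {π : B' →+* B}
    (ht : ∃ t : B', RingHom.ker π = Ideal.span {t} ∧ ∀ a ∈ IsLocalRing.maximalIdeal B', a * t = 0) :
    RingHom.ker π ^ 2 = ⊥ := by
  obtain ⟨t, hker, hm⟩ := ht
  have htm : t ∈ IsLocalRing.maximalIdeal B' :=
    IsLocalRing.le_maximalIdeal (RingHom.ker_ne_top π) (hker ▸ Ideal.subset_span rfl)
  rw [hker, Ideal.span_singleton_pow, Ideal.span_singleton_eq_bot, sq]
  exact hm t htm

/-- The square of a surjection with square-zero kernel, in the normal form of lifting problems. -/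
theorem exists_infSq {F G : Sp S} {f : F ⟶ G} (π : B' →+* B) (hπ : Function.Surjective π)
    (h2 : RingHom.ker π ^ 2 = ⊥) (s : Spec (CommRingCat.of B') ⟶ S)
    (α : (yon S).obj (Over.mk (Spec.map (CommRingCat.ofHom π) ≫ s)) ⟶ F)
    (β : (yon S).obj (Over.mk s) ⟶ G) (w : α ≫ f = (yon S).map (specChg π s) ≫ β) :
    ∃ j' : (Over.mk (Spec.map (CommRingCat.ofHom (Ideal.Quotient.mk (RingHom.ker π))) ≫ s) : Over S) ⟶
        Over.mk (Spec.map (CommRingCat.ofHom π) ≫ s),
      IsIso j' ∧ j' ≫ specChg π s = specChg (Ideal.Quotient.mk (RingHom.ker π)) s ∧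
      ∃ sq : InfSq f, ∀ (P : Prop), (∀ l : (yon S).obj (Over.mk s) ⟶ F,
          (yon S).map (specChg π s) ≫ l = α → l ≫ f = β → P) →
        sq.HasLift → P := by
  let e := RingHom.quotientKerEquivOfSurjective hπ
  have he : e.symm.toRingHom.comp π = Ideal.Quotient.mk (RingHom.ker π) :=
    RingHom.ext fun x => (RingEquiv.symm_apply_eq e).2 rfl
  let j' : (Over.mk (Spec.map (CommRingCat.ofHom (Ideal.Quotient.mk (RingHom.ker π))) ≫ s) : Over S) ⟶
      Over.mk (Spec.map (CommRingCat.ofHom π) ≫ s) :=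
    Over.homMk (Spec.map (CommRingCat.ofHom e.symm.toRingHom))
      ((Category.assoc _ _ _).symm.trans (congrArg (· ≫ s) (specMap_comp' he)))
  haveI : IsIso j'.left := by
    haveI : IsIso (CommRingCat.ofHom e.symm.toRingHom) := (ConcreteCategory.isIso_iff_bijective _).2 e.symm.bijective
    exact inferInstanceAs (IsIso (Spec.map (CommRingCat.ofHom e.symm.toRingHom)))
  haveI : IsIso ((Over.forget S).map j') := inferInstanceAs (IsIso j'.left)
  haveI : IsIso j' := isIso_of_reflects_iso j' (Over.forget S)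
  have hj : j' ≫ specChg π s = specChg (Ideal.Quotient.mk (RingHom.ker π)) s :=
    Over.OverMorphism.ext (specMap_comp' he)
  let sq : InfSq f :=
    { A := B', I := RingHom.ker π, sq_zero := h2, str := s, top := (yon S).map j' ≫ α, bot := β,
      comm := by
        change _ = (yon S).map (specChg (Ideal.Quotient.mk (RingHom.ker π)) s) ≫ β
        rw [← hj, Functor.map_comp, Category.assoc, Category.assoc, w] }
  refine ⟨j', inferInstance, hj, sq, fun P hP hl => ?_⟩
  obtain ⟨l, hl1, hl2⟩ := hl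
  refine hP l ?_ hl2
  rw [← cancel_epi ((yon S).map j'), ← Category.assoc, ← Functor.map_comp, hj]
  exact hl1

theorem exists_lift_of_formallySmooth {F G : Sp S} {f : F ⟶ G} (hf : IsFormallySmoothMor f) (π : B' →+* B)
    (hπ : Function.Surjective π) (h2 : RingHom.ker π ^ 2 = ⊥) (s : Spec (CommRingCat.of B') ⟶ S)
    (α : (yon S).obj (Over.mk (Spec.map (CommRingCat.ofHom π) ≫ s)) ⟶ F)
    (β : (yon S).obj (Over.mk s) ⟶ G) (w : α ≫ f = (yon S).map (specChg π s) ≫ β) :
    ∃ l : (yon S).obj (Over.mk s) ⟶ F, (yon S).map (specChg π s) ≫ l = α ∧ l ≫ f = β := by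
  obtain ⟨j', -, -, sq, h⟩ := exists_infSq π hπ h2 s α β w
  exact h _ (fun l h1 h2 => ⟨l, h1, h2⟩) (hf sq)

theorem lift_unique_of_formallyUnramified {F G : Sp S} {f : F ⟶ G} (hf : IsFormallyUnramifiedMor f) (π : B' →+* B)
    (hπ : Function.Surjective π) (h2 : RingHom.ker π ^ 2 = ⊥) (s : Spec (CommRingCat.of B') ⟶ S)
    {l l' : (yon S).obj (Over.mk s) ⟶ F} (h1 : (yon S).map (specChg π s) ≫ l = (yon S).map (specChg π s) ≫ l')
    (h : l ≫ f = l' ≫ f) : l = l' := by
  obtain ⟨j', _, hj, -⟩ := exists_infSq π hπ h2 s ((yon S).map (specChg π s) ≫ l) (l ≫ f) (Category.assoc _ _ _)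
  let sq : InfSq f :=
    { A := B', I := RingHom.ker π, sq_zero := h2, str := s,
      top := (yon S).map (specChg (Ideal.Quotient.mk (RingHom.ker π)) s) ≫ l, bot := l ≫ f,
      comm := Category.assoc _ _ _ }
  refine hf sq l l' rfl rfl ?_ h.symm
  show (yon S).map (specChg (Ideal.Quotient.mk (RingHom.ker π)) s) ≫ l' =
    (yon S).map (specChg (Ideal.Quotient.mk (RingHom.ker π)) s) ≫ l
  rw [← hj, Functor.map_comp, Category.assoc, Category.assoc, h1]

/-- In a chart diagram a lift of the composite gives a lift in the chart. -/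
theorem exists_chart_lift_of_lift {X Y : Sp S} {f : X ⟶ Y} {U V : Over S} {a : (yon S).obj U ⟶ X}
    {b : (yon S).obj V ⟶ Y} {h : U ⟶ V} (ha : RepWith @Etale a) (hb : RepWith @Etale b)
    (w : a ≫ f = (yon S).map h ≫ b) (π : B' →+* B) (hπ : Function.Surjective π) (h2 : RingHom.ker π ^ 2 = ⊥)
    (s : Spec (CommRingCat.of B') ⟶ S) (α : Over.mk (Spec.map (CommRingCat.ofHom π) ≫ s) ⟶ U)
    (β : Over.mk s ⟶ V) (hαβ : α ≫ h = specChg π s ≫ β) (γ : (yon S).obj (Over.mk s) ⟶ X)
    (h1 : (yon S).map (specChg π s) ≫ γ = (yon S).map α ≫ a) (hγ : γ ≫ f = (yon S).map β ≫ b) :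
    ∃ γ' : Over.mk s ⟶ U, specChg π s ≫ γ' = α ∧ γ' ≫ h = β := by
  have hA := (isFormallyEtaleMor_iff a).1 (isFormallyEtaleMor_of_repWith_etale a ha)
  have hB := (isFormallyEtaleMor_iff b).1 (isFormallyEtaleMor_of_repWith_etale b hb)
  obtain ⟨l, hl1, hl2⟩ := exists_lift_of_formallySmooth hA.1 π hπ h2 s ((yon S).map α) γ h1.symm
  obtain ⟨γ', rfl⟩ := (yon S).map_surjective l
  have e : specChg π s ≫ γ' = α := (yon S).map_injective (((yon S).map_comp _ _).trans hl1)
  refine ⟨γ', e, (yon S).map_injective (lift_unique_of_formallyUnramified hB.2 π hπ h2 s ?_ ?_)⟩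
  · rw [← Functor.map_comp, ← Functor.map_comp, ← Category.assoc, e, hαβ]
  · rw [Functor.map_comp, Category.assoc, ← w, ← Category.assoc, hl2, hγ]

theorem smooth_chart_of_lifts {X Y : Sp S} (f : X ⟶ Y) (hY : IsAlgSpace Y) (hN : IsLocNoethSp Y)
    (hft : LocP @LocallyOfFiniteType f)
    (H : ∀ (B' B : Type u) [CommRing B'] [CommRing B] [IsLocalRing B'] [IsLocalRing B]
        [IsArtinianRing B'] [IsArtinianRing B] (π : B' →+* B), Function.Surjective π →
        (∃ t : B', RingHom.ker π = Ideal.span {t} ∧ ∀ a ∈ IsLocalRing.maximalIdeal B', a * t = 0) →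
        ∀ (s : Spec (CommRingCat.of B') ⟶ S)
          (α : (yon S).obj (Over.mk (Spec.map (CommRingCat.ofHom π) ≫ s)) ⟶ X)
          (β : (yon S).obj (Over.mk s) ⟶ Y), LocP @LocallyOfFiniteType β →
          α ≫ f = (yon S).map (specChg π s) ≫ β →
          ∃ γ : (yon S).obj (Over.mk s) ⟶ X, (yon S).map (specChg π s) ≫ γ = α ∧ γ ≫ f = β) :
    LocP @Smooth f := by
  intro U V a b h ha hb w
  haveI : IsLocallyNoetherian V.left := isLocallyNoetherian_chart hY hN hb
  haveI : LocallyOfFiniteType h.left := hft a b h ha hb w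
  refine (Groth.Agent.S1417.result h.left).2 fun B B' _ _ _ _ _ _ π ε hπ hker hε α β hβ hsq => ?_
  have ht : ∃ t : B', RingHom.ker π = Ideal.span {t} ∧ ∀ a ∈ IsLocalRing.maximalIdeal B', a * t = 0 :=
    ⟨ε, hker, fun m hm => by rw [mul_comm]; exact hε m hm⟩
  let s := β ≫ V.hom
  let αO : Over.mk (Spec.map (CommRingCat.ofHom π) ≫ s) ⟶ U := Over.homMk α (by
    show α ≫ U.hom = Spec.map _ ≫ β ≫ V.hom
    rw [← Over.w h, ← Category.assoc, ← hsq, Category.assoc])
  let βO : Over.mk s ⟶ V := Over.homMk β rfl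
  have hαβ : αO ≫ h = specChg π s ≫ βO := Over.OverMorphism.ext hsq.symm
  have hw : ((yon S).map αO ≫ a) ≫ f = (yon S).map (specChg π s) ≫ (yon S).map βO ≫ b := by
    exact (Category.assoc _ _ _).trans ((congrArg (fun t => (yon S).map αO ≫ t) w).trans
      (((yon S).map_comp_assoc αO h b).symm.trans ((congrArg (fun t => (yon S).map t ≫ b) hαβ).trans
      ((yon S).map_comp_assoc (specChg π s) βO b))))
  have hlft : LocP (@LocallyOfFiniteType : MorphismProperty Scheme.{u}) ((yon S).map βO ≫ b) :=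
    locP_comp (P := @LocallyOfFiniteType) (IsAlgSpace.yon_obj _) (IsAlgSpace.yon_obj _) hY
      ((locP_yon_map_iff (P := @LocallyOfFiniteType) βO).2 hβ)
      (locP_of_repWith (IsAlgSpace.yon_obj _).diag hY
        (Groth.Agent.SpPts86.repWith_mono (fun _ _ φ hφ => by haveI : Etale φ := hφ; infer_instance) hb))
  obtain ⟨γ, hγ1, hγ2⟩ := H B' B π hπ ht s _ _ hlft hw
  obtain ⟨γ', e1, e2⟩ := exists_chart_lift_of_lift ha hb w π hπ (ker_sq_eq_bot_of_small ht) s αO βO hαβ γ hγ1 hγ2
  exact ⟨γ'.left, congrArg CommaMorphism.left e1, congrArg CommaMorphism.left e2⟩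

end Groth.Agent.SpFP87
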