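import Groth.Agent.SpFP87.ElemDistSq
import Groth.Agent.SpFP87.RepDescProps
import Groth.Agent.SpFP87.Covers
import Groth.Agent.SpPts86.Graph
import Groth.Agent.SpPts86.Separation
import Groth.Agent.SpPts86.Props
/-!
Separatedness tested on the pieces of an elementary distinguished square.
-/

set_option autoImplicit false
set_option backward.isDefEq.respectTransparency false
universe u
open CategoryTheory CategoryTheory.Limits AlgebraicGeometry Topology
open AlgSp
open Groth.Agent.SpPts86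

namespace Groth.Agent.SpFP87

variable {S : Scheme.{u}}

/-- Restricting the first factor of a fibre product. -/
theorem isPullback_mapFst {A X B Y : Sp S} (a : A ⟶ X) (g : X ⟶ Y) (h : B ⟶ Y) :
    IsPullback (pullback.fst (a ≫ g) h)
      (pullback.map (a ≫ g) h g h a (𝟙 B) (𝟙 Y) (Category.comp_id _) (by simp)) a (pullback.fst g h) := by
  refine (IsPullback.of_right (h₁₂ := pullback.snd g h) (v₁₃ := h) (h₂₂ := g) ?_ ?_
    (IsPullback.of_hasPullback g h).flip).flip
  · simpa using (IsPullback.of_hasPullback (a ≫ g) h).flip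
  · simp

theorem isPullback_mapSnd {A B X Y : Sp S} (b : B ⟶ X) (g : X ⟶ Y) (h : A ⟶ Y) :
    IsPullback (pullback.snd h (b ≫ g))
      (pullback.map h (b ≫ g) h g (𝟙 A) b (𝟙 Y) (by simp) (Category.comp_id _)) b (pullback.snd h g) := by
  refine (IsPullback.of_right (h₁₂ := pullback.fst h g) (v₁₃ := h) (h₂₂ := g) ?_ ?_
    (IsPullback.of_hasPullback h g)).flip
  · simpa using IsPullback.of_hasPullback h (b ≫ g)
  · simp

theorem isFppfCover_of_etale {X : Sp S} {ι : Type u} (Y : ι → Sp S) (g : ∀ i, Y i ⟶ X)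
    (hg : ∀ i, IsEtaleMor (g i)) (hs : ∀ x : Points X, ∃ i, x ∈ Set.range (Points.map (g i))) :
    IsFppfCover Y g :=
  ⟨fun i => ⟨LocP.of_le (P := @Etale) (fun A B k hk => by
      have : Etale k := hk
      exact (inferInstance : Flat k)) (locP_etale_of_isEtaleMor (hg i)),
    LocP.of_le (P := @Etale) (fun A B k hk => by
      have : Etale k := hk
      exact (inferInstance : LocallyOfFinitePresentation k)) (locP_etale_of_isEtaleMor (hg i))⟩, hs⟩

theorem repWith_cancel_iso {P : MorphismProperty Scheme.{u}} {A B A' B' : Sp S} (e : A' ≅ A) (k : A ⟶ B)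
    (e' : B ≅ B') (h : RepWith P k) : RepWith P (e.hom ≫ k ≫ e'.hom) := by
  refine (repWith_isStableUnderBaseChange P).of_isPullback
    (IsPullback.of_horiz_isIso ⟨?_⟩ : IsPullback e.hom (e.hom ≫ k ≫ e'.hom) k e'.inv) h
  simp

theorem isClosedImmersion_of_immersion_closed_range {P Q : Sp S} {c : P ⟶ Q} (h : RepWith @IsImmersion c)
    (hr : IsClosed (Set.range (Points.map c))) : RepWith @IsClosedImmersion c := by
  refine ⟨h.rep, fun T V g fst snd sq => ?_⟩
  haveI : IsImmersion snd.left := h.property g fst snd sq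
  refine IsClosedImmersion.of_isPreimmersion snd.left ?_
  rw [← preimage_ofPt_range_map sq]
  exact hr.preimage (Points.continuous_ofPt g)

theorem isImmersion_le_of_closedImmersion :
    (@IsClosedImmersion : MorphismProperty Scheme.{u}) ≤ @IsImmersion := fun _ _ k hk => by
  have : IsClosedImmersion k := hk
  exact (inferInstance : IsImmersion k)

variable {X Y : Sp S} (g : X ⟶ Y)

/-- Separatedness on the four pieces of a cover by two etale maps. -/
theorem isSeparatedMor_of_pieces (hX : IsAlgSpace X) (hY : IsAlgSpace Y) (A : ULift.{u} Bool → Sp S)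
    (hA : ∀ s, IsAlgSpace (A s)) (a : ∀ s, A s ⟶ X) (ha : ∀ s, IsEtaleMor (a s))
    (hs : ∀ x : Points X, ∃ s, x ∈ Set.range (Points.map (a s)))
    (h : ∀ s t, RepWith @IsClosedImmersion (pullback.mapDesc (a s) (a t) g)) : IsSeparatedMor g := by
  have hgg : IsAlgSpace (pullback g g) := isAlgSpace_pullback g g hX hX hY
  let π : ∀ k : ULift.{u} Bool × ULift.{u} Bool, pullback (a k.1 ≫ g) (a k.2 ≫ g) ⟶ pullback g g := fun k =>
    pullback.map (a k.1 ≫ g) (a k.2 ≫ g) g g (a k.1) (a k.2) (𝟙 Y) (Category.comp_id _) (Category.comp_id _)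
  let π₁ : ∀ k : ULift.{u} Bool × ULift.{u} Bool, pullback (a k.1 ≫ g) (a k.2 ≫ g) ⟶ pullback g (a k.2 ≫ g) := fun k =>
    pullback.map (a k.1 ≫ g) (a k.2 ≫ g) g (a k.2 ≫ g) (a k.1) (𝟙 _) (𝟙 Y) (Category.comp_id _) (by simp)
  let π₂ : ∀ k : ULift.{u} Bool × ULift.{u} Bool, pullback g (a k.2 ≫ g) ⟶ pullback g g := fun k =>
    pullback.map g (a k.2 ≫ g) g g (𝟙 X) (a k.2) (𝟙 Y) (by simp) (Category.comp_id _)
  have hπ : ∀ k, π₁ k ≫ π₂ k = π k := fun k => by
    apply pullback.hom_ext <;> simp [π, π₁, π₂]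
  have hAk : ∀ t, IsAlgSpace (pullback g (a t ≫ g)) := fun t =>
    isAlgSpace_pullback g (a t ≫ g) hX (hA t) hY
  have hPk : ∀ s t, IsAlgSpace (pullback (a s ≫ g) (a t ≫ g)) := fun s t =>
    isAlgSpace_pullback _ _ (hA s) (hA t) hY
  have hπe : ∀ k, IsEtaleMor (π k) := fun k => by
    rw [← hπ]
    exact isEtaleMor_comp
      (isEtaleMor_baseChange (isPullback_mapFst (a k.1) g (a k.2 ≫ g)) (hA _) hX (hAk _) (ha _))
      (isEtaleMor_baseChange (isPullback_mapSnd (a k.2) g g) (hA _) hX hgg (ha _))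
  have hπs : ∀ z, ∃ k, z ∈ Set.range (Points.map (π k)) := fun z => by
    obtain ⟨t, y, hy⟩ := hs (Points.map (pullback.snd g g) z)
    obtain ⟨z₂, -, hz₂⟩ := exists_of_isPullback (isPullback_mapSnd (a t) g g) y z hy
    obtain ⟨s, x, hx⟩ := hs (Points.map (pullback.fst g (a t ≫ g)) z₂)
    obtain ⟨z₁, -, hz₁⟩ := exists_of_isPullback (isPullback_mapFst (a s) g (a t ≫ g)) x z₂ hx
    exact ⟨(s, t), z₁, by rw [← hπ, Points.map_comp, hz₁, hz₂]⟩
  have key := isLocalOnBase_fpqc_closedImmersion (S := S) _ π hgg (fun k => hPk k.1 k.2)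
    (isFpqcCover_of_isFppfCover _ π hgg (fun k => hPk k.1 k.2) (isFppfCover_of_etale _ π hπe hπs))
    (pullback.diagonal g) hX (fun k => pullback (a k.1) (a k.2)) (fun k => pullback.mapDesc (a k.1) (a k.2) g)
    (fun k => pullback.fst (a k.1) (a k.2) ≫ a k.1) (fun k => isAlgSpace_pullback _ _ (hA _) (hA _) hX)
    (fun k => isPullback_mapDesc (a k.1) (a k.2) g)
  exact key.2 fun k => h k.1 k.2

theorem repWith_mapDesc_self {U : Sp S} (j : U ⟶ X) [Mono j]
    (hU : IsSeparatedMor (j ≫ g)) : RepWith @IsClosedImmersion (pullback.mapDesc j j g) := by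
  have : pullback.diagonal (j ≫ g) = pullback.diagonal j ≫ pullback.mapDesc j j g := by
    apply pullback.hom_ext <;> simp [pullback.mapDesc]
  have e : pullback.mapDesc j j g = (asIso (pullback.diagonal j)).symm.hom ≫ pullback.diagonal (j ≫ g) ≫
      (Iso.refl _).hom := by
    rw [this]; simp
  rw [e]
  exact repWith_cancel_iso _ _ _ hU

theorem repWith_mapDesc_of_iso {U V PX PY : Sp S} {j : U ⟶ X} {f : V ⟶ X} {pX : PX ⟶ U} {qX : PX ⟶ V}
    (hPX : IsPullback pX qX j f) {pY : PY ⟶ U} {qY : PY ⟶ V} (hPY : IsPullback pY qY (j ≫ g) (f ≫ g))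
    {c : PX ⟶ PY} (hc₁ : c ≫ pY = pX) (hc₂ : c ≫ qY = qX) :
    pullback.mapDesc j f g = hPX.isoPullback.symm.hom ≫ c ≫ hPY.isoPullback.hom := by
  rw [Iso.symm_hom, Iso.eq_inv_comp]
  apply pullback.hom_ext <;> simp [pullback.mapDesc, hc₁, hc₂]

theorem repWith_mapDesc_open {U V : Sp S} (j : U ⟶ X) (f : V ⟶ X) (hj : RepWith @IsOpenImmersion j)
    (hU : IsSeparatedMor (j ≫ g)) (hcl : IsClosed (Set.range (Points.map (pullback.mapDesc j f g)))) :
    RepWith @IsClosedImmersion (pullback.mapDesc j f g) := by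
  refine isClosedImmersion_of_immersion_closed_range ?_ hcl
  refine repWith_of_comp (b := pullback.snd (j ≫ g) (f ≫ g)) ?_ ?_
  · exact (repWith_isStableUnderBaseChange _).of_isPullback
      (isPullback_diagonal_baseChange (IsPullback.of_hasPullback (j ≫ g) (f ≫ g)))
      (repWith_mono isImmersion_le_of_closedImmersion hU)
  · rw [show pullback.mapDesc j f g ≫ pullback.snd (j ≫ g) (f ≫ g) = pullback.snd j f by simp [pullback.mapDesc]]
    exact (repWith_isStableUnderBaseChange _).of_isPullback (IsPullback.of_hasPullback j f)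
      (repWith_mono (fun A B k hk => by
        have : IsOpenImmersion k := hk
        exact (inferInstance : IsImmersion k)) hj)

theorem repWith_mapDesc_symm {U V : Sp S} (j : U ⟶ X) (f : V ⟶ X)
    (h : RepWith @IsClosedImmersion (pullback.mapDesc j f g)) :
    RepWith @IsClosedImmersion (pullback.mapDesc f j g) := by
  have : pullback.mapDesc f j g = (pullbackSymmetry f j).hom ≫ pullback.mapDesc j f g ≫
      (pullbackSymmetry (j ≫ g) (f ≫ g)).hom := by
    apply pullback.hom_ext <;> simp [pullback.mapDesc]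
  rw [this]
  exact repWith_cancel_iso _ _ _ h

theorem isSeparatedMor_of_elemDistSq {U V : Sp S} (hU₀ : IsAlgSpace U) (hV₀ : IsAlgSpace V) (hX : IsAlgSpace X)
    (hY : IsAlgSpace Y) {j : U ⟶ X} {f : V ⟶ X} (hsq : IsElemDistSq j f) (hU : IsSeparatedMor (j ≫ g))
    {PX PY : Sp S} {pX : PX ⟶ U} {qX : PX ⟶ V} (hPX : IsPullback pX qX j f)
    {pY : PY ⟶ U} {qY : PY ⟶ V} (hPY : IsPullback pY qY (j ≫ g) (f ≫ g))
    {c : PX ⟶ PY} (hc₁ : c ≫ pY = pX) (hc₂ : c ≫ qY = qX) (hcl : IsClosedMor c)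
    {QX QY : Sp S} {rX₁ rX₂ : QX ⟶ V} (hQX : IsPullback rX₁ rX₂ f f)
    {rY₁ rY₂ : QY ⟶ V} (hQY : IsPullback rY₁ rY₂ (f ≫ g) (f ≫ g))
    {d : QX ⟶ QY} (hd₁ : d ≫ rY₁ = rX₁) (hd₂ : d ≫ rY₂ = rX₂) (hd : RepWith @IsClosedImmersion d) :
    IsSeparatedMor g := by
  haveI : Mono j := mono_of_repWith_le isOpenImmersion_le_monomorphisms hsq.1
  have hjE : IsEtaleMor j := isEtaleMor_of_repWith_etale (repWith_mono (fun A B k hk => by
    have : IsOpenImmersion k := hk
    exact (inferInstance : Etale k)) hsq.1)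
  have hUV : RepWith @IsClosedImmersion (pullback.mapDesc j f g) := by
    refine repWith_mapDesc_open g j f hsq.1 hU ?_
    rw [repWith_mapDesc_of_iso g hPX hPY hc₁ hc₂]
    have : Set.range (Points.map (hPX.isoPullback.symm.hom ≫ c ≫ hPY.isoPullback.hom)) =
        Points.map hPY.isoPullback.inv ⁻¹' Set.range (Points.map c) := by
      ext z
      constructor
      · rintro ⟨w, rfl⟩
        exact ⟨Points.map hPX.isoPullback.symm.hom w, by rw [← Points.map_comp, ← Points.map_comp]; simp⟩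
      · rintro ⟨w, hw⟩
        refine ⟨Points.map hPX.isoPullback.hom w, ?_⟩
        rw [← Points.map_comp, Iso.symm_hom, Iso.hom_inv_id_assoc, Points.map_comp, hw, ← Points.map_comp,
          Iso.inv_hom_id, Points.map_id]
    rw [this]
    exact hcl.isClosed_range.preimage (Points.continuous_map _)
  refine isSeparatedMor_of_pieces g hX hY
    (fun s => cond s.down U V) (fun s => by rcases s with ⟨_ | _⟩ <;> assumption)
    (fun s => match s with | ⟨true⟩ => j | ⟨false⟩ => f)
    (fun s => match s with | ⟨true⟩ => hjE | ⟨false⟩ => hsq.2.1) (fun x => ?_) (fun s t => ?_)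
  · rcases range_union_eq_univ hsq x with h | h
    · exact ⟨⟨true⟩, h⟩
    · exact ⟨⟨false⟩, h⟩
  · rcases s with ⟨_ | _⟩ <;> rcases t with ⟨_ | _⟩ <;> dsimp only
    · show RepWith @IsClosedImmersion (pullback.mapDesc (X := V) (Y := V) f f g)
      rw [repWith_mapDesc_of_iso g hQX hQY hd₁ hd₂]
      exact repWith_cancel_iso _ _ _ hd
    · exact repWith_mapDesc_symm g j f hUV
    · exact hUV
    · exact repWith_mapDesc_self g j hU

end Groth.Agent.SpFP87
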