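import Groth.Agent.SpFP87.PhProper
import Groth.Agent.SpFP87.SepPieces
import Groth.Agent.HTop50.OverTop
import Groth.Agent.S10514
import Mathlib.CategoryTheory.Sites.Canonical
/-!
ph sheaves are the etale sheaves with descent along proper surjective morphisms.
-/

set_option autoImplicit false
set_option linter.style.haveILetI false
set_option backward.isDefEq.respectTransparency false
universe w u
open CategoryTheory CategoryTheory.Limits AlgebraicGeometry Opposite
open AlgSp Groth.Agent.SpPts86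

namespace Groth.Agent.SpFP87.PhSheaf

variable {S : Scheme.{u}}

/-- Etale coverings of spaces are ph coverings. -/
theorem spacesPre_le_phSpacesPre : spacesPre S IsEtaleMor ≤ phSpacesPre S := by
  rintro X R ⟨hR, hcov⟩
  refine ⟨fun Y g hg => LocP.of_le (P := @Etale) (fun A B k hk => by
      have : Etale k := hk
      exact (inferInstance : LocallyOfFiniteType k))
    (locP_etale_of_isEtaleMor (hR g hg)), fun Z hZ h => ?_⟩
  choose Y g hg hx using fun z : Z.left => hcov (Points.map h (Points.ofScheme Z z))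
  let Zs : AlgSp.Space S := ⟨(yon S).obj Z, IsAlgSpace.yon_obj Z⟩
  let P : Z.left → AlgSp.Space S := fun z =>
    ⟨pullback (g z).hom h, isAlgSpace_pullback _ _ (Y z).property (IsAlgSpace.yon_obj Z) X.property⟩
  let q : ∀ z, P z ⟶ Zs := fun z => ObjectProperty.homMk (pullback.snd (g z).hom h)
  have hc : IsFppfCover (fun z => (P z).obj) (fun z => (q z).hom) := by
    refine isFppfCover_of_etale _ _ (fun z => isEtaleMor_baseChange (IsPullback.of_hasPullback _ _)
      (Y z).property X.property (IsAlgSpace.yon_obj Z) (hR _ (hg z))) fun x => ?_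
    obtain ⟨z, rfl⟩ := (Points.schemeHomeo Z).surjective x
    obtain ⟨y, hy⟩ := hx z
    obtain ⟨p, -, hp⟩ := exists_of_isPullback (IsPullback.of_hasPullback (g z).hom h) y _ hy
    exact ⟨z, p, hp⟩
  obtain ⟨F, hF, hj⟩ := (Groth.Agent.S10514.result Zs P q hc).2 Z hZ (𝟙 _)
  refine ⟨F, hF, fun j => ?_⟩
  obtain ⟨z, l, hl⟩ := hj j
  refine ⟨Y z, g z, hg z, l ≫ pullback.fst (g z).hom h, ?_⟩
  rw [Category.assoc, pullback.condition, ← Category.assoc]
  exact (congrArg (· ≫ h) (hl.trans (Category.comp_id _)))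

variable {X : AlgSp.Space S} {F : (Over X)ᵒᵖ ⥤ Type w}

/-- Descent along a morphism of spaces, on a fibre product. -/
def Desc (F : (Over X)ᵒᵖ ⥤ Type w) ⦃U V : Over X⦄ (f : V ⟶ U) : Prop :=
  ∀ ⦃W : Over X⦄ (p q : W ⟶ V), IsPullback p.left.hom q.left.hom f.left.hom f.left.hom →
    ∀ t : F.obj (op V), F.map p.op t = F.map q.op t → ∃! s : F.obj (op U), F.map f.op s = t

theorem exists_kernelPair ⦃U V : Over X⦄ (f : V ⟶ U) :
    ∃ (W : Over X) (p q : W ⟶ V), IsPullback p.left.hom q.left.hom f.left.hom f.left.hom := by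
  let W₀ : AlgSp.Space S := ⟨pullback f.left.hom f.left.hom,
    isAlgSpace_pullback _ _ V.left.property V.left.property U.left.property⟩
  let p₀ : W₀ ⟶ V.left := ObjectProperty.homMk (pullback.fst f.left.hom f.left.hom)
  let q₀ : W₀ ⟶ V.left := ObjectProperty.homMk (pullback.snd f.left.hom f.left.hom)
  refine ⟨Over.mk (p₀ ≫ V.hom), Over.homMk p₀ rfl, Over.homMk q₀ ?_, IsPullback.of_hasPullback _ _⟩
  apply InducedCategory.hom_ext
  show pullback.snd f.left.hom f.left.hom ≫ V.hom.hom = pullback.fst f.left.hom f.left.hom ≫ V.hom.hom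
  have e : V.hom.hom = f.left.hom ≫ U.hom.hom := congrArg InducedCategory.Hom.hom (Over.w f).symm
  rw [e, pullback.condition_assoc]

theorem isSheafFor_singleton_iff_desc ⦃U V : Over X⦄ (f : V ⟶ U) :
    Presieve.IsSheafFor F (Presieve.singleton f) ↔ Desc F f := by
  rw [show Presieve.singleton f = Presieve.ofArrows (fun _ : PUnit.{1} => V) (fun _ => f) from
    (Presieve.ofArrows_of_unique (fun _ => f)).symm, Presieve.isSheafFor_arrows_iff]
  constructor
  · intro h W p q sq t ht
    obtain ⟨s, hs, hu⟩ := h (fun _ => t) (by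
      intro _ _ Z g₁ g₂ e
      have e' : g₁.left.hom ≫ f.left.hom = g₂.left.hom ≫ f.left.hom :=
        congrArg InducedCategory.Hom.hom (congrArg CommaMorphism.left e)
      let k₀ : Z.left ⟶ W.left := ObjectProperty.homMk (sq.lift g₁.left.hom g₂.left.hom e')
      have hk₁ : k₀ ≫ p.left = g₁.left := InducedCategory.hom_ext (sq.lift_fst _ _ _)
      let k : Z ⟶ W := Over.homMk k₀ (by rw [← Over.w p, ← Category.assoc, hk₁]; exact Over.w g₁)
      have h1 : k ≫ p = g₁ := Over.OverMorphism.ext hk₁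
      have h2 : k ≫ q = g₂ := Over.OverMorphism.ext (InducedCategory.hom_ext (sq.lift_snd _ _ _))
      rw [← h1, ← h2, op_comp, op_comp, Functor.map_comp_apply, Functor.map_comp_apply, ht])
    exact ⟨s, hs ⟨⟩, fun s' hs' => hu s' fun _ => hs'⟩
  · intro h t ht
    obtain ⟨W, p, q, sq⟩ := exists_kernelPair f
    obtain ⟨s, hs, hu⟩ := h p q sq (t ⟨⟩) (ht ⟨⟩ ⟨⟩ W p q (Over.OverMorphism.ext (InducedCategory.hom_ext sq.w)))
    exact ⟨s, fun _ => hs, fun s' hs' => hu s' (hs' ⟨⟩)⟩

/-- Proper surjective morphisms generate covers for the finest topology of a presheaf with descent along them. -/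
theorem singleton_mem_finest
    (hd : ∀ ⦃U V : Over X⦄ (f : V ⟶ U), IsProperMor f.left.hom → IsSurjectiveMor f.left.hom → Desc F f)
    ⦃U V : Over X⦄ (f : V ⟶ U) (hp : IsProperMor f.left.hom) (hs : IsSurjectiveMor f.left.hom) :
    Sieve.generate (Presieve.singleton f) ∈ Sheaf.finestTopologySingle F U := by
  intro U' g
  have sq := IsPullback.of_hasPullback f.left.hom g.left.hom
  let V₀ : AlgSp.Space S := ⟨pullback f.left.hom g.left.hom,
    isAlgSpace_pullback _ _ V.left.property U'.left.property U.left.property⟩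
  let a₀ : V₀ ⟶ V.left := ObjectProperty.homMk (pullback.fst f.left.hom g.left.hom)
  let b₀ : V₀ ⟶ U'.left := ObjectProperty.homMk (pullback.snd f.left.hom g.left.hom)
  have e₀ : a₀ ≫ f.left = b₀ ≫ g.left := InducedCategory.hom_ext sq.w
  let V' : Over X := Over.mk (b₀ ≫ U'.hom)
  let b : V' ⟶ U' := Over.homMk b₀ rfl
  let a : V' ⟶ V := Over.homMk a₀ (by
    show a₀ ≫ V.hom = b₀ ≫ U'.hom
    rw [← Over.w f, ← Category.assoc, e₀, Category.assoc, Over.w g])
  have e : (Sieve.generate (Presieve.singleton f)).pullback g = Sieve.generate (Presieve.singleton b) := by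
    apply le_antisymm
    · rintro Z k ⟨_, c, _, ⟨⟩, hc⟩
      have hc' : c.left.hom ≫ f.left.hom = k.left.hom ≫ g.left.hom :=
        congrArg InducedCategory.Hom.hom (congrArg CommaMorphism.left hc)
      let d₀ : Z.left ⟶ V₀ := ObjectProperty.homMk (sq.lift c.left.hom k.left.hom hc')
      have hd₀ : d₀ ≫ b₀ = k.left := InducedCategory.hom_ext (sq.lift_snd _ _ _)
      let d : Z ⟶ V' := Over.homMk d₀ (by
        show d₀ ≫ b₀ ≫ U'.hom = Z.hom
        rw [← Category.assoc, hd₀]; exact Over.w k)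
      exact ⟨V', d, b, ⟨⟩, Over.OverMorphism.ext hd₀⟩
    · rw [Sieve.generate_le_iff]
      rintro _ _ ⟨⟩
      exact ⟨V, a, f, ⟨⟩, Over.OverMorphism.ext e₀⟩
  rw [e, ← Presieve.isSheafFor_iff_generate, isSheafFor_singleton_iff_desc]
  refine hd b (isProperMor_baseChange V.left.property U.left.property U'.left.property hp sq) fun x => ?_
  obtain ⟨y, hy⟩ := hs (Points.map g.left.hom x)
  obtain ⟨z, -, hz⟩ := exists_of_isPullback sq y x hy
  exact ⟨z, hz⟩

theorem spacesTopOver_le_finest (hF : Presieve.IsSheaf (spacesTopOver IsEtaleMor X) F) :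
    spacesTopOver IsEtaleMor X ≤ Sheaf.finestTopologySingle F :=
  fun _ _ hR _ f => hF _ ((spacesTopOver IsEtaleMor X).pullback_stable f hR)

theorem generate_mem_spacesTopOver {U : Over X} {ι : Type u} (Y : ι → Over X) (g : ∀ i, Y i ⟶ U)
    (hg : ∀ i, IsEtaleMor (g i).left.hom) (hc : ∀ x, ∃ i, x ∈ Set.range (Points.map (g i).left.hom)) :
    Sieve.ofArrows Y g ∈ spacesTopOver IsEtaleMor X U := by
  rw [GrothendieckTopology.mem_over_iff, Sieve.overEquiv_ofArrows]
  exact Precoverage.generate_mem_toGrothendieck ((ofArrows_mem_spacesPre_iff IsEtaleMor _ _).2 ⟨hg, hc⟩)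

set_option maxHeartbeats 800000 in
theorem phSpacesTopOver_le_finest (hF : Presieve.IsSheaf (spacesTopOver IsEtaleMor X) F)
    (hd : ∀ ⦃U V : Over X⦄ (f : V ⟶ U), IsProperMor f.left.hom → IsSurjectiveMor f.left.hom → Desc F f) :
    phSpacesTopOver X ≤ Sheaf.finestTopologySingle F := by
  let K := Sheaf.finestTopologySingle F
  suffices key : ∀ (U₀ : AlgSp.Space S) (R : Sieve U₀), (phSpacesPre S).Saturate U₀ R →
      ∀ (U₁ : AlgSp.Space S) (g : U₁ ⟶ U₀) (y : U₁ ⟶ X),
        (Sieve.overEquiv (Over.mk y)).symm (R.pullback g) ∈ K (Over.mk y) by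
    intro U R hR
    have h := key U.left _ hR U.left (𝟙 _) U.hom
    rw [Sieve.pullback_id] at h
    exact (OrderIso.symm_apply_apply (Sieve.overEquiv U) R) ▸ h
  intro U₀ R hR
  induction hR with
  | of U₀ R hR =>
    intro U₁ g y
    refine Groth.Agent.HTop50.mem_finest_of_local hF
      (fun Y => ∃ (Z : Over S) (z : (⟨(yon S).obj Z, IsAlgSpace.yon_obj Z⟩ : AlgSp.Space S) ⟶ X),
        IsAffine Z.left ∧ Y = Over.mk z) (fun Y => ?_) ?_
    · obtain ⟨U, p, hpe, hps⟩ := Y.left.property.atlas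
      let Z : U.left.affineOpens → Over X := fun O => Over.mk
        ((ObjectProperty.homMk ((yon S).map (openIncl U O.1) ≫ p) :
          (⟨(yon S).obj (openOver U O.1), IsAlgSpace.yon_obj _⟩ : AlgSp.Space S) ⟶ Y.left) ≫ Y.hom)
      refine ⟨U.left.affineOpens, Z, fun O => Over.homMk (ObjectProperty.homMk ((yon S).map (openIncl U O.1) ≫ p)) rfl,
        generate_mem_spacesTopOver _ _ (fun O => ?_) fun x => ?_, fun O => ⟨openOver U O.1, _, O.2, rfl⟩⟩
      · haveI : Etale (openIncl U O.1).left := inferInstanceAs (Etale O.1.ι)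
        exact Groth.Agent.SpPts86.isEtaleMor_of_repWith_etale (repWith_etale_comp _ hpe)
      · obtain ⟨v, rfl⟩ := surjective_ofPt hps x
        obtain ⟨_, ⟨O, hO, rfl⟩, hv, -⟩ :=
          U.left.isBasis_affineOpens.exists_subset_of_mem_open (Set.mem_univ v) isOpen_univ
        refine ⟨⟨O, hO⟩, Points.ofScheme (openOver U O) ⟨v, hv⟩, ?_⟩
        show Points.map ((yon S).map (openIncl U O) ≫ p) _ = _
        rw [← Points.ofPt_eq_map_ofScheme, ofPt_comp]
        rfl
    · rintro _ f ⟨Z, z, hZ, rfl⟩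
      obtain ⟨Fc, ⟨-, _, hFa, W₁, w₁, o, hw₁, hw₁s, ho, how, hocov⟩, hj⟩ := hR.2 Z hZ (f.left.hom ≫ g.hom)
      haveI := hw₁
      haveI := hw₁s
      let W : Over S := Over.mk (w₁ ≫ Z.hom)
      let wo : W ⟶ Z := Over.homMk w₁ rfl
      let Ws : AlgSp.Space S := ⟨(yon S).obj W, IsAlgSpace.yon_obj W⟩
      let Wf : Over X := Over.mk ((ObjectProperty.homMk ((yon S).map wo) :
        Ws ⟶ (⟨(yon S).obj Z, IsAlgSpace.yon_obj Z⟩ : AlgSp.Space S)) ≫ z)
      let wf : Wf ⟶ Over.mk z := Over.homMk (ObjectProperty.homMk ((yon S).map wo)) rfl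
      let T : Sieve (Over.mk z) := ((Sieve.overEquiv (Over.mk y)).symm ((Sieve.generate R).pullback g)).pullback f
      suffices hT : T ∈ K (Over.mk z) by
        have := hT _ (𝟙 _)
        rwa [Sieve.pullback_id] at this
      have hwp : IsProperMor wf.left.hom := (isProperMor_yon_map_iff wo).2 hw₁
      have hwsu : IsSurjectiveMor wf.left.hom := fun x => by
        obtain ⟨t, rfl⟩ := (Points.schemeHomeo Z).surjective x
        obtain ⟨s, rfl⟩ := w₁.surjective t
        exact ⟨Points.schemeHomeo W s, Points.map_yon_map_apply wo s⟩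
      refine K.transitive (singleton_mem_finest hd wf hwp hwsu) T ?_
      rintro A k ⟨_, c, _, ⟨⟩, rfl⟩
      rw [Sieve.pullback_comp]
      refine K.pullback_stable c (spacesTopOver_le_finest hF _ ?_)
      -- the Zariski cover of the modification
      let Oj : Fc.I₀ → Over S := fun j => Over.mk (Fc.f j ≫ Z.hom)
      let oj : ∀ j, Oj j ⟶ W := fun j => Over.homMk (o j) (by
        show o j ≫ w₁ ≫ Z.hom = Fc.f j ≫ Z.hom
        rw [← Category.assoc, how])
      let Pj : ULift.{u} Fc.I₀ → Over X := fun j => Over.mk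
        ((ObjectProperty.homMk ((yon S).map (oj j.down)) :
          (⟨(yon S).obj (Oj j.down), IsAlgSpace.yon_obj _⟩ : AlgSp.Space S) ⟶ Ws) ≫ Wf.hom)
      let pj : ∀ j, Pj j ⟶ Wf := fun j => Over.homMk (ObjectProperty.homMk ((yon S).map (oj j.down))) rfl
      refine (spacesTopOver IsEtaleMor X).superset_covering ?_ (generate_mem_spacesTopOver Pj pj (fun j => ?_) fun x => ?_)
      · rw [Sieve.generate_le_iff]
        rintro _ _ ⟨j⟩
        obtain ⟨Y', g', hg', l, hl⟩ := hj j.down
        show (Sieve.generate R).arrows (((pj j ≫ wf) ≫ f).left ≫ g)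
        refine ⟨Y', ObjectProperty.homMk l, g', hg', InducedCategory.hom_ext ?_⟩
        show l ≫ g'.hom = (((yon S).map (oj j.down) ≫ (yon S).map wo) ≫ f.left.hom) ≫ g.hom
        rw [hl, ← Functor.map_comp, Category.assoc]
        congr 2
        exact Over.OverMorphism.ext (how j.down).symm
      · haveI := ho j.down
        haveI : Etale (oj j.down).left := inferInstanceAs (Etale (o j.down))
        exact Groth.Agent.SpPts86.isEtaleMor_of_repWith_etale ((repWith_yon_map_iff _ _).2 ‹Etale (oj j.down).left›)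
      · obtain ⟨s, rfl⟩ := (Points.schemeHomeo W).surjective x
        obtain ⟨j, t, ht⟩ := hocov s
        refine ⟨⟨j⟩, Points.schemeHomeo (Oj j) t, ?_⟩
        show Points.map ((yon S).map (oj j)) _ = _
        rw [Points.map_yon_map_apply]
        exact congrArg _ ht
  | top U₀ => intro U₁ g y; rw [Sieve.pullback_top, map_top]; exact K.top_mem _
  | pullback U₀ R _ U₂ g₀ ih => intro U₁ g y; rw [← Sieve.pullback_comp]; exact ih U₁ _ y
  | transitive U₀ R R' _ _ ih ih' =>
    intro U₁ g y
    refine K.transitive (ih U₁ g y) _ fun A k hk => ?_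
    have h := ih' (f := k.left ≫ g) hk A.left (𝟙 _) A.hom
    rw [Sieve.pullback_id, Sieve.pullback_comp, Sieve.overEquiv_symm_pullback] at h
    exact h

theorem isSheaf_phSpacesTopOver_iff (X : AlgSp.Space S) (F : (Over X)ᵒᵖ ⥤ Type w) :
    Presheaf.IsSheaf (AlgSp.phSpacesTopOver X) F ↔
      Presheaf.IsSheaf (AlgSp.spacesTopOver AlgSp.IsEtaleMor X) F ∧
      ∀ ⦃U V W : Over X⦄ (f : V ⟶ U) (p q : W ⟶ V),
        AlgSp.IsProperMor f.left.hom → AlgSp.IsSurjectiveMor f.left.hom →
        IsPullback p.left.hom q.left.hom f.left.hom f.left.hom →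
        ∀ t : F.obj (Opposite.op V), F.map p.op t = F.map q.op t →
          ∃! s : F.obj (Opposite.op U), F.map f.op s = t := by
  simp only [isSheaf_iff_isSheaf_of_type]
  constructor
  · intro h
    refine ⟨Presieve.isSheaf_of_le _ ?_ h, fun U V W f p q hp hs sq => ?_⟩
    · exact fun U R hR => Precoverage.toGrothendieck_mono spacesPre_le_phSpacesPre _ hR
    refine (isSheafFor_singleton_iff_desc f).1 ?_ p q sq
    rw [Presieve.isSheafFor_iff_generate]
    refine h _ ?_
    rw [GrothendieckTopology.mem_over_iff, show Presieve.singleton f =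
      Presieve.ofArrows (fun _ : PUnit.{u + 1} => V) (fun _ => f) from (Presieve.ofArrows_of_unique (fun _ => f)).symm,
      Sieve.overEquiv_ofArrows]
    exact Precoverage.generate_mem_toGrothendieck
      ((ofArrows_mem_phSpacesPre_iff _ _).2 (isPhCover_of_isProperMor f.left hp hs))
  · rintro ⟨hF, hd⟩ U R hR
    have := phSpacesTopOver_le_finest hF (fun U V f hp hs W p q sq => hd f p q hp hs sq) U hR U (𝟙 U)
    rwa [Sieve.pullback_id] at this

end Groth.Agent.SpFP87.PhSheaf
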