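import Groth.Agent.SpFP87.NoethDesc
import Groth.Agent.EGA4H10.Serre
/-!
Regularity of schemes and algebraic spaces: etale ascent, fppf descent.
-/

set_option autoImplicit false
set_option linter.style.haveILetI false
universe u
open CategoryTheory CategoryTheory.Limits AlgebraicGeometry Opposite
open AlgSp
open Groth.Agent.SpPts86

namespace Groth.Agent.SpFP87

/-- Locally noetherian with regular local rings. -/
abbrev IsRegularScheme (U : Scheme.{u}) : Prop :=
  IsLocallyNoetherian U ∧ ∀ u : ↥U, IsRegularLocalRing ↥(U.presheaf.stalk u)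

set_option backward.isDefEq.respectTransparency.types false in
theorem isRegularScheme_of_etale {U V : Scheme.{u}} (k : U ⟶ V) [AlgebraicGeometry.Etale k]
    (h : IsRegularScheme V) : IsRegularScheme U := by
  haveI := h.1
  haveI := LocallyOfFiniteType.isLocallyNoetherian k
  refine ⟨inferInstance, fun u => ?_⟩
  letI := (k.stalkMap u).hom.toAlgebra
  obtain ⟨_, _, hm⟩ := Groth.Agent.Unr55.stalkMap_facts k u
  exact (Groth.Agent.Unr55.isRegularLocalRing_iff_of_map_maximalIdeal
    (V.presheaf.stalk (k u)) (U.presheaf.stalk u) hm).2 (h.2 (k u))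

set_option backward.isDefEq.respectTransparency.types false in
theorem isRegularScheme_of_flat_lfp_surjective {U V : Scheme.{u}} (k : U ⟶ V) [Flat k]
    [LocallyOfFinitePresentation k] [Surjective k] (h : IsRegularScheme U) : IsRegularScheme V := by
  haveI := h.1
  haveI := isLocallyNoetherian_of_flat_lfp_surjective k
  refine ⟨inferInstance, fun v => ?_⟩
  obtain ⟨u, rfl⟩ := k.surjective v
  letI := (k.stalkMap u).hom.toAlgebra
  haveI : IsLocalHom (algebraMap (V.presheaf.stalk (k u)) (U.presheaf.stalk u)) :=
    inferInstanceAs <| IsLocalHom (k.stalkMap u).hom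
  haveI : Module.Flat (V.presheaf.stalk (k u)) (U.presheaf.stalk u) := Flat.stalkMap k u
  haveI := h.2 u
  exact Groth.Agent.EGA4H10.regular_of_flat (V.presheaf.stalk (k u)) (U.presheaf.stalk u)

variable {S : Scheme.{u}}

/-- Every etale chart of a regular algebraic space is regular. -/
theorem isRegularScheme_chart {F : Sp S} (hF : IsAlgSpace F) (h : EtaleLocally IsRegularScheme F)
    {U : Over S} {a : (yon S).obj U ⟶ F} (ha : RepWith @Etale a) : IsRegularScheme U.left := by
  obtain ⟨U₀, p, hp, hps, hreg⟩ := h
  obtain ⟨W, q, r, hq, hr, -, -, hrs, -⟩ := exists_common_chart hF hp ha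
  haveI := hq
  haveI := hr
  haveI := hrs hps
  exact isRegularScheme_of_flat_lfp_surjective r.left (isRegularScheme_of_etale q.left hreg)

end Groth.Agent.SpFP87
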