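import Groth.Agent.SpFP87.GoodSmooth
import Groth.Agent.SpFP87.LocalST
import Groth.Agent.SpFP87.Deform
import Groth.Agent.SpFP87.LocPRep
/-!
A property local on the source for the etale topology, local on the base for the smooth topology and stable
under composition with open immersions is etale-smooth local on source-and-target.
-/

set_option autoImplicit false
set_option linter.style.haveILetI false
set_option backward.isDefEq.respectTransparency false
universe u
open CategoryTheory CategoryTheory.Limits AlgebraicGeometry Opposite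
open AlgSp
open Groth.Agent.SpPts86

namespace Groth.Agent.SpFP87

variable {S : Scheme.{u}} (P : MorphismProperty (Sp S))

/-- `P` on morphisms of schemes over `S`. -/
def SchProp : ∀ ⦃T V : Scheme.{u}⦄, (T ⟶ V) → (V ⟶ S) → Prop := fun T _ h v =>
  ∀ (w : T ⟶ S) (hw : h ≫ v = w), P ((yon S).map (Over.homMk h hw : Over.mk w ⟶ Over.mk v))

theorem schProp_iff {A B : Over S} (k : A ⟶ B) : SchProp P k.left B.hom ↔ P ((yon S).map k) := by
  refine ⟨fun h => h A.hom (Over.w k), fun h w hw => ?_⟩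
  obtain rfl : A.hom = w := (Over.w k).symm.trans hw
  exact h

variable {P} (h1 : IsLocalOnSource (IsEtCover (S := S)) P) (h2 : IsLocalOnBase (IsSmCover (S := S)) P)
  (h3 : ∀ ⦃X Y Z : Space S⦄ (f : X ⟶ Y) (j : Y ⟶ Z), P f.hom → RepWith @IsOpenImmersion j.hom → P (f ≫ j).hom)

theorem locP_smooth_yon {A B : Over S} (k : A ⟶ B) (hk : Smooth k.left) : LocP @Smooth ((yon S).map k) :=
  (locP_yon_map_iff (P := @Smooth) k).2 hk

theorem points_yon_surjective {A B : Over S} (k : A ⟶ B) (hk : Surjective k.left) :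
    IsSurjectiveMor ((yon S).map k) := fun y => by
  obtain ⟨b, rfl⟩ := (Points.schemeHomeo B).surjective y
  obtain ⟨a, rfl⟩ := k.left.surjective b
  exact ⟨_, Points.map_yon_map_apply k a⟩

include h1 h2 h3 in
theorem baseLocal_schProp : BaseLocal (SchProp P) where
  precomp T' T V e h v he H w hw := by
    let k : Over.mk w ⟶ Over.mk (h ≫ v) := Over.homMk e (by simpa using hw)
    let l : Over.mk (h ≫ v) ⟶ Over.mk v := Over.homMk h rfl
    have := precomp_of_localOnSource h1 (IsAlgSpace.yon_obj (Over.mk w)) (IsAlgSpace.yon_obj (Over.mk (h ≫ v)))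
      (IsAlgSpace.yon_obj (Over.mk v)) (isEtaleMor_id _) ((isEtaleMor_yon_map_iff k).2 he) ((schProp_iff P l).1 H)
    rw [← Functor.map_comp] at this
    exact this
  cover T V h v H w hw := by
    choose U hU hR using H
    refine (h1 (fun t : T => (yon S).obj (Over.mk ((U t).ι ≫ w)))
      (fun t => (yon S).map (Over.homMk (U t).ι rfl : Over.mk ((U t).ι ≫ w) ⟶ Over.mk w))
      (IsAlgSpace.yon_obj _) (fun t => IsAlgSpace.yon_obj _) ⟨fun t => (isEtaleMor_yon_map_iff _).2
        (inferInstanceAs (Etale (U t).ι)), fun x => ?_⟩ _ (IsAlgSpace.yon_obj _)).2 fun t => ?_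
    · obtain ⟨t, rfl⟩ := (Points.schemeHomeo _).surjective x
      exact ⟨t, _, Points.map_yon_map_apply (Over.homMk (U t).ι rfl : Over.mk ((U t).ι ≫ w) ⟶ Over.mk w) ⟨t, hU t⟩⟩
    · rw [← Functor.map_comp]
      exact hR t _ (by rw [Category.assoc, hw])
  descSource T' T V e h v he hes H w hw := by
    let k : Over.mk (e ≫ w) ⟶ Over.mk w := Over.homMk e rfl
    refine (h1 (fun _ : PUnit.{u + 1} => (yon S).obj (Over.mk (e ≫ w))) (fun _ => (yon S).map k)
      (IsAlgSpace.yon_obj _) (fun _ => IsAlgSpace.yon_obj _) ⟨fun _ => (isEtaleMor_yon_map_iff k).2 he,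
        fun x => ⟨⟨⟩, points_yon_surjective k hes x⟩⟩ _ (IsAlgSpace.yon_obj _)).2 fun _ => ?_
    rw [← Functor.map_comp]
    exact H _ (by rw [Category.assoc, hw])
  bc T V T' V' a h' h g sq hg v H w hw := by
    let kg : Over.mk (g ≫ v) ⟶ Over.mk v := Over.homMk g rfl
    let ka : Over.mk w ⟶ Over.mk (h ≫ v) := Over.homMk a (by
      show a ≫ h ≫ v = w; rw [← hw, ← Category.assoc, sq.w, Category.assoc])
    let kh : Over.mk (h ≫ v) ⟶ Over.mk v := Over.homMk h rfl
    let kh' : Over.mk w ⟶ Over.mk (g ≫ v) := Over.homMk h' hw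
    exact baseChange_of_localOnBase h2 (IsAlgSpace.yon_obj _) (IsAlgSpace.yon_obj _) (IsAlgSpace.yon_obj _)
      (IsAlgSpace.yon_obj _) (locP_smooth_id (IsAlgSpace.yon_obj _))
      (isPullback_yon_of_left (p := ka) (q := kh') (r := kh) (s := kg) sq) (locP_smooth_yon kg hg)
      ((schProp_iff P kh).1 H)
  desc T V T' V' a h' h g sq hg hgs v H w hw := by
    let kg : Over.mk (g ≫ v) ⟶ Over.mk v := Over.homMk g rfl
    let ka : Over.mk (h' ≫ g ≫ v) ⟶ Over.mk w := Over.homMk a (by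
      show a ≫ w = h' ≫ g ≫ v; rw [← hw, ← Category.assoc, sq.w, Category.assoc])
    let kh : Over.mk w ⟶ Over.mk v := Over.homMk h hw
    let kh' : Over.mk (h' ≫ g ≫ v) ⟶ Over.mk (g ≫ v) := Over.homMk h' rfl
    exact (h2 (fun _ : PUnit.{u + 1} => (yon S).obj (Over.mk (g ≫ v))) (fun _ => (yon S).map kg)
      (IsAlgSpace.yon_obj _) (fun _ => IsAlgSpace.yon_obj _) ⟨fun _ => locP_smooth_yon kg hg,
        fun x => ⟨⟨⟩, points_yon_surjective kg hgs x⟩⟩ ((yon S).map kh) (IsAlgSpace.yon_obj _)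
      (fun _ => (yon S).obj (Over.mk (h' ≫ g ≫ v))) (fun _ => (yon S).map kh') (fun _ => (yon S).map ka)
      (fun _ => IsAlgSpace.yon_obj _)
      (fun _ => isPullback_yon_of_left (p := ka) (q := kh') (r := kh) (s := kg) sq)).2
      fun _ => (schProp_iff P kh').1 H
  post T V V' h j v hj H w hw := by
    let k : Over.mk w ⟶ Over.mk (j ≫ v) := Over.homMk h (by simpa using hw)
    let l : Over.mk (j ≫ v) ⟶ Over.mk v := Over.homMk j rfl
    have := @h3 ⟨_, IsAlgSpace.yon_obj (Over.mk w)⟩ ⟨_, IsAlgSpace.yon_obj (Over.mk (j ≫ v))⟩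
      ⟨_, IsAlgSpace.yon_obj (Over.mk v)⟩ (ObjectProperty.homMk ((yon S).map k)) (ObjectProperty.homMk ((yon S).map l))
      ((schProp_iff P k).1 H) ((repWith_yon_map_iff (P := @IsOpenImmersion) l).2 hj)
    change P ((yon S).map k ≫ (yon S).map l) at this
    rw [← Functor.map_comp] at this
    exact this

include h1 h2 h3 in
theorem of_etaleSmooth_charts {X Y : Sp S} (hX : IsAlgSpace X) (hY : IsAlgSpace Y) (f : X ⟶ Y)
    (H : ∀ x : Points X, ∃ (V W U : Sp S) (b : V ⟶ Y) (p : W ⟶ X) (q : W ⟶ V) (e : U ⟶ W) (v : Points U),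
      IsAlgSpace V ∧ IsAlgSpace W ∧ IsAlgSpace U ∧ LocP @Smooth b ∧ IsPullback p q f b ∧ IsEtaleMor e ∧
      Points.map (e ≫ p) v = x ∧ P (e ≫ q)) : P f := by
  obtain ⟨V₀, b₀, hb₀, hb₀s⟩ := hY.atlas
  have hb₀e : IsEtaleMor b₀ := isEtaleMor_of_repWith_etale hb₀
  have hX₀ := isAlgSpace_pullback f b₀ hX (IsAlgSpace.yon_obj V₀) hY
  have sq₀ : IsPullback (pullback.fst f b₀) (pullback.snd f b₀) f b₀ := IsPullback.of_hasPullback _ _
  refine (h2 (fun _ : PUnit.{u + 1} => (yon S).obj V₀) (fun _ => b₀) hY (fun _ => IsAlgSpace.yon_obj _)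
    ⟨fun _ => locP_smooth_of_etale (IsAlgSpace.yon_obj _) hY hb₀e,
      fun y => ⟨⟨⟩, isSurjectiveMor_of_repWith hb₀s y⟩⟩ f hX (fun _ => pullback f b₀)
    (fun _ => pullback.snd f b₀) (fun _ => pullback.fst f b₀) (fun _ => hX₀) (fun _ => sq₀)).2 fun _ => ?_
  obtain ⟨T, α, hα, hαs⟩ := hX₀.atlas
  obtain ⟨hh, hhα⟩ : ∃ hh : T ⟶ V₀, (yon S).map hh = α ≫ pullback.snd f b₀ := (yon S).map_surjective _
  refine (h1 (fun _ : PUnit.{u + 1} => (yon S).obj T) (fun _ => α) hX₀ (fun _ => IsAlgSpace.yon_obj _)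
    ⟨fun _ => isEtaleMor_of_repWith_etale hα, fun y => ⟨⟨⟩, isSurjectiveMor_of_repWith hαs y⟩⟩ _
    (IsAlgSpace.yon_obj _)).2 fun _ => ?_
  have hR := baseLocal_schProp h1 h2 h3
  rw [← hhα, ← schProp_iff P]
  refine hR.cover _ _ fun t => ?_
  -- the morphism from the chart to `X`
  let aT : (yon S).obj T ⟶ X := α ≫ pullback.fst f b₀
  have haT : IsEtaleMor aT := Groth.Agent.SpPts86.isEtaleMor_comp (isEtaleMor_of_repWith_etale hα)
    ((Groth.Agent.SpPts86.isEtaleMor_iff_locP hX).2 (locP_baseChange sq₀.flip (IsAlgSpace.yon_obj _) hY hX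
      (locP_etale_of_isEtaleMor hb₀e)))
  have haTf : aT ≫ f = (yon S).map hh ≫ b₀ := by rw [hhα]; simp [aT, sq₀.w]
  obtain ⟨V, W, U, b, p, q, e, v, hV, hW, hU, hb, sq, he, hx, hP⟩ := H (Points.map aT (Points.schemeHomeo T t))
  -- `V₁ = V₀ ×_Y V` and a chart of it
  have hV₁ := isAlgSpace_pullback b₀ b (IsAlgSpace.yon_obj V₀) hV hY
  have sq₁ : IsPullback (pullback.fst b₀ b) (pullback.snd b₀ b) b₀ b := IsPullback.of_hasPullback _ _
  obtain ⟨V2, c₁, hc₁, hc₁s⟩ := hV₁.atlas
  obtain ⟨g, hg⟩ : ∃ g : V2 ⟶ V₀, (yon S).map g = c₁ ≫ pullback.fst b₀ b := (yon S).map_surjective _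
  have hgsm : Smooth g.left := (locP_yon_map_iff (P := @Smooth) g).1 (by
    rw [hg]
    exact locP_comp (IsAlgSpace.yon_obj _) hV₁ (IsAlgSpace.yon_obj _)
      (locP_smooth_of_etale (IsAlgSpace.yon_obj _) hV₁ (isEtaleMor_of_repWith_etale hc₁))
      (locP_baseChange sq₁.flip hV hY (IsAlgSpace.yon_obj _) hb))
  let c : (yon S).obj V2 ⟶ V := c₁ ≫ pullback.snd b₀ b
  have hc : IsEtaleMor c := Groth.Agent.SpPts86.isEtaleMor_comp (isEtaleMor_of_repWith_etale hc₁)
    ((Groth.Agent.SpPts86.isEtaleMor_iff_locP hV).2 (locP_baseChange sq₁ (IsAlgSpace.yon_obj _) hY hV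
      (locP_etale_of_isEtaleMor hb₀e)))
  -- `TW = T ×_X W` and `TU = T ×_X U`
  have sqTW : IsPullback (pullback.fst aT p) (pullback.snd aT p) aT p := IsPullback.of_hasPullback _ _
  have hTW := isAlgSpace_pullback aT p (IsAlgSpace.yon_obj T) hW hX
  let m : pullback aT p ⟶ pullback b₀ b := pullback.lift (pullback.fst aT p ≫ (yon S).map hh)
    (pullback.snd aT p ≫ q) (by simp only [Category.assoc, ← haTf, sqTW.w_assoc, sq.w])
  have hm1 : m ≫ pullback.fst b₀ b = pullback.fst aT p ≫ (yon S).map hh := pullback.lift_fst _ _ _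
  have hm2 : m ≫ pullback.snd b₀ b = pullback.snd aT p ≫ q := pullback.lift_snd _ _ _
  have sqm : IsPullback (pullback.fst aT p) m ((yon S).map hh) (pullback.fst b₀ b) := by
    refine (IsPullback.of_right (h₁₁ := m) (t := sq₁.flip) ?_ hm1).flip
    rw [hm2, ← haTf]
    exact (sqTW.paste_vert sq.flip.flip |>.flip)
  have hTU := isAlgSpace_pullback (pullback.snd aT p) e hTW hU hW
  have sqTU : IsPullback (pullback.fst (pullback.snd aT p) e) (pullback.snd (pullback.snd aT p) e)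
      (pullback.snd aT p) e := IsPullback.of_hasPullback _ _
  have heT : IsEtaleMor (pullback.fst (pullback.snd aT p) e) :=
    (Groth.Agent.SpPts86.isEtaleMor_iff_locP hTW).2 (locP_baseChange sqTU.flip hU hW hTW (locP_etale_of_isEtaleMor he))
  have hTUU : IsEtaleMor (pullback.snd (pullback.snd aT p) e) :=
    (Groth.Agent.SpPts86.isEtaleMor_iff_locP hU).2 (locP_baseChange sqTU hTW hW hU (locP_baseChange sqTW (IsAlgSpace.yon_obj T) hX hW
      (locP_etale_of_isEtaleMor haT)))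
  -- `E = TU ×_{V₁} V2` and a chart of it
  let n : pullback (pullback.snd aT p) e ⟶ pullback b₀ b := pullback.fst (pullback.snd aT p) e ≫ m
  have sqE : IsPullback (pullback.fst n c₁) (pullback.snd n c₁) n c₁ := IsPullback.of_hasPullback _ _
  have hE := isAlgSpace_pullback n c₁ hTU (IsAlgSpace.yon_obj V2) hV₁
  obtain ⟨Et, ε, hε, hεs⟩ := hE.atlas
  -- the scheme `T' = T ×_{V₀} V2`
  let T' : Over S := Over.mk (pullback.snd hh.left g.left ≫ V2.hom)
  let h' : T' ⟶ V2 := Over.homMk (pullback.snd hh.left g.left) rfl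
  let a' : T' ⟶ T := Over.homMk (pullback.fst hh.left g.left) (by
    show pullback.fst hh.left g.left ≫ T.hom = pullback.snd hh.left g.left ≫ V2.hom
    rw [← Over.w hh, ← Over.w g, pullback.condition_assoc])
  have sqT' : IsPullback a'.left h'.left hh.left g.left := IsPullback.of_hasPullback _ _
  have sqT'y := isPullback_yon_of_left sqT'
  -- `Q = TW ×_{V₁} V2` is `T'`
  have sqQ : IsPullback (pullback.fst m c₁) (pullback.snd m c₁) m c₁ := IsPullback.of_hasPullback _ _
  have sqQ' : IsPullback (pullback.fst m c₁ ≫ pullback.fst aT p) (pullback.snd m c₁) ((yon S).map hh) ((yon S).map g) := by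
    rw [hg]; exact sqQ.paste_horiz sqm
  let iso := sqQ'.isoIsPullback _ _ sqT'y
  let r : pullback n c₁ ⟶ pullback m c₁ := pullback.lift (pullback.fst n c₁ ≫ pullback.fst (pullback.snd aT p) e)
    (pullback.snd n c₁) (by rw [Category.assoc]; exact sqE.w)
  have hr1 : r ≫ pullback.fst m c₁ = pullback.fst n c₁ ≫ pullback.fst (pullback.snd aT p) e := pullback.lift_fst _ _ _
  have hr2 : r ≫ pullback.snd m c₁ = pullback.snd n c₁ := pullback.lift_snd _ _ _
  have sqr : IsPullback r (pullback.fst n c₁) (pullback.fst m c₁) (pullback.fst (pullback.snd aT p) e) :=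
    (IsPullback.of_bot (v₂₂ := m) (by rw [hr2]; exact sqE) hr1.symm sqQ).flip
  obtain ⟨η, hη⟩ := (yon S).map_surjective (ε ≫ r ≫ iso.hom)
  have hηe : Etale η.left := (isEtaleMor_yon_map_iff η).1 (by
    rw [hη]
    refine Groth.Agent.SpPts86.isEtaleMor_comp (isEtaleMor_of_repWith_etale hε) (isEtaleMor_comp ?_ ?_)
    · exact (Groth.Agent.SpPts86.isEtaleMor_iff_locP (isAlgSpace_pullback m c₁ hTW (IsAlgSpace.yon_obj _) hV₁)).2
        (locP_baseChange sqr.flip hTU hTW (isAlgSpace_pullback m c₁ hTW (IsAlgSpace.yon_obj _) hV₁)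
          (locP_etale_of_isEtaleMor heT))
    · haveI : MorphismProperty.ContainsIdentities (@Etale.{u} : MorphismProperty Scheme.{u}) :=
        ⟨fun _ => inferInstanceAs (Etale (𝟙 _))⟩
      exact (Groth.Agent.SpPts86.isEtaleMor_iff_locP (IsAlgSpace.yon_obj _)).2 (locP_of_isIso _ (isAlgSpace_pullback m c₁ hTW (IsAlgSpace.yon_obj _) hV₁) (IsAlgSpace.yon_obj _)))
  have hηh : (yon S).map η ≫ (yon S).map h' = ε ≫ pullback.snd n c₁ := by
    rw [hη]; simp only [iso, Category.assoc, IsPullback.isoIsPullback_hom_snd, hr2]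
  -- `P` for the chart
  have hPη : SchProp P (η.left ≫ h'.left) V2.hom := by
    rw [show η.left ≫ h'.left = (η ≫ h').left from rfl, schProp_iff, Functor.map_comp, hηh]
    have sqU : IsPullback (pullback.fst (e ≫ q) c) (pullback.snd (e ≫ q) c) (e ≫ q) c :=
      IsPullback.of_hasPullback _ _
    have hUV := isAlgSpace_pullback (e ≫ q) c hU (IsAlgSpace.yon_obj V2) hV
    have hbc : P (pullback.snd (e ≫ q) c) := baseChange_of_localOnBase h2 hU hV hUV (IsAlgSpace.yon_obj _)
      (locP_smooth_id hV) sqU (locP_smooth_of_etale (IsAlgSpace.yon_obj _) hV hc) hP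
    let χ : (yon S).obj Et ⟶ pullback (e ≫ q) c :=
      pullback.lift (ε ≫ pullback.fst n c₁ ≫ pullback.snd (pullback.snd aT p) e) (ε ≫ pullback.snd n c₁) (by
        simp only [c, n, Category.assoc, ← sqE.w_assoc, hm2, sqTU.w_assoc])
    have hχ1 : χ ≫ pullback.fst (e ≫ q) c = ε ≫ pullback.fst n c₁ ≫ pullback.snd (pullback.snd aT p) e :=
      pullback.lift_fst _ _ _
    have hχ : IsEtaleMor χ := by
      refine Groth.Agent.SpPts86.isEtaleMor_of_comp (g := pullback.fst (e ≫ q) c) hUV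
        ((Groth.Agent.SpPts86.isEtaleMor_iff_locP hU).2 (locP_baseChange sqU.flip (IsAlgSpace.yon_obj _) hV hU
          (locP_etale_of_isEtaleMor hc))) ?_
      rw [hχ1]
      exact Groth.Agent.SpPts86.isEtaleMor_comp (isEtaleMor_of_repWith_etale hε) (isEtaleMor_comp
        ((Groth.Agent.SpPts86.isEtaleMor_iff_locP hTU).2 (locP_baseChange sqE.flip (IsAlgSpace.yon_obj _) hV₁ hTU
          (locP_etale_of_isEtaleMor (isEtaleMor_of_repWith_etale hc₁)))) hTUU)
    have := precomp_of_localOnSource h1 (IsAlgSpace.yon_obj Et) hUV (IsAlgSpace.yon_obj V2) (isEtaleMor_id _) hχ hbc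
    rwa [show χ ≫ pullback.snd (e ≫ q) c = ε ≫ pullback.snd n c₁ from pullback.lift_snd _ _ _] at this
  -- a point of the chart over `t`
  rw [Points.map_comp] at hx
  obtain ⟨w₁, hw₁, hw₁'⟩ := exists_of_isPullback sqTW (Points.schemeHomeo T t) (Points.map e v) hx.symm
  obtain ⟨w₂, hw₂, -⟩ := exists_of_isPullback sqTU w₁ v hw₁'
  obtain ⟨d, hd⟩ := isSurjectiveMor_of_repWith hc₁s (Points.map n w₂)
  obtain ⟨w₃, hw₃, -⟩ := exists_of_isPullback sqE w₂ d hd.symm
  obtain ⟨w₄, hw₄⟩ := isSurjectiveMor_of_repWith hεs w₃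
  obtain ⟨s, rfl⟩ := (Points.schemeHomeo Et).surjective w₄
  have hst : a'.left (η.left s) = t := by
    apply (Points.schemeHomeo T).injective
    rw [← Scheme.Hom.comp_apply, ← Over.comp_left, ← Points.map_yon_map_apply, Functor.map_comp, hη]
    rw [show (ε ≫ r ≫ iso.hom) ≫ (yon S).map a' =
      ε ≫ pullback.fst n c₁ ≫ pullback.fst (pullback.snd aT p) e ≫ pullback.fst aT p by
        simp only [iso, Category.assoc, IsPullback.isoIsPullback_hom_fst, reassoc_of% hr1]]
    simp only [Points.map_comp, hw₄, hw₃, hw₂, hw₁]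
  haveI := hgsm
  haveI := hηe
  have hgood : Good (SchProp P) h'.left (g.left ≫ V₀.hom) (η.left s) := by
    rw [Over.w g]
    exact hR.good_of_etale (hR.good_of hPη s)
  have := hR.descGood_smooth g.left _ _ _ sqT' _ _ hgood
  rwa [hst] at this

include h1 h2 h3 in
theorem isEtaleSmoothLocalST_of_local : IsEtaleSmoothLocalST P where
  precomp _ _ _ hX hY hZ _ _ hf hg := precomp_of_localOnSource h1 hX hY hZ (isEtaleMor_id _) hf hg
  baseChange _ _ _ _ hX hY hX' hY' _ _ _ _ sq hg hf :=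
    baseChange_of_localOnBase h2 hX hY hX' hY' (locP_smooth_id hY) sq hg hf
  locality X Y hX hY f :=
    ⟨fun h x => ⟨Y, X, X, 𝟙 Y, 𝟙 X, f, 𝟙 X, x, hY, hX, hX, locP_smooth_id hY,
      IsPullback.of_horiz_isIso ⟨by simp⟩, isEtaleMor_id X, by simp [Points.map_id], by simpa using h⟩,
    of_etaleSmooth_charts h1 h2 h3 hX hY f⟩

end Groth.Agent.SpFP87
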