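import Groth.Agent.SpFP87.FpqcSheaf
/-!
The affine criterion for being fpqc local on the base.
-/

set_option autoImplicit false
set_option linter.style.haveILetI false
set_option backward.isDefEq.respectTransparency false
universe u
open CategoryTheory CategoryTheory.Limits AlgebraicGeometry Opposite
open AlgSp

namespace Groth.Agent.SpFP87

variable {S : Scheme.{u}} {κ : Type u} (W : κ → Over S)

/-- The disjoint union of schemes is their coproduct as sheaves. -/
noncomputable def sigmaCofanIsColimit :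
    IsColimit (Cofan.mk ((yon S).obj (sigmaOver W)) fun k => (yon S).map (sigmaIncl W k)) :=
  Cofan.IsColimit.mk _ (fun s => (sigma_existsUnique_desc W fun k => s.inj k).choose)
    (fun s k => (sigma_existsUnique_desc W fun k => s.inj k).choose_spec.1 k)
    (fun s m hm => (sigma_existsUnique_desc W fun k => s.inj k).choose_spec.2 m hm)

variable {W} {F : Sp S} {Fk : κ → Sp S} {f : F ⟶ (yon S).obj (sigmaOver W)}
  {ik : ∀ k, Fk k ⟶ F} {fk : ∀ k, Fk k ⟶ (yon S).obj (W k)}

/-- A sheaf over a disjoint union is the coproduct of its restrictions to the summands. -/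
theorem existsUnique_desc_over_sigma (sq : ∀ k, IsPullback (ik k) (fk k) f ((yon S).map (sigmaIncl W k)))
    {G : Sp S} (e : ∀ k, Fk k ⟶ G) : ∃! d : F ⟶ G, ∀ k, ik k ≫ d = e k := by
  have hcover : ∀ (R : Over S) (l : (yon S).obj R ⟶ F),
      ∃ (V : κ → Over S) (r : ∀ k, V k ⟶ R) (m : ∀ k, (yon S).obj (V k) ⟶ Fk k),
        (∀ k, Flat (r k).left ∧ LocallyOfFinitePresentation (r k).left) ∧
        (∀ x : ↥R.left, ∃ k, x ∈ Set.range (r k).left) ∧ ∀ k, m k ≫ ik k = (yon S).map (r k) ≫ l := by
    intro R l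
    obtain ⟨t, ht⟩ := (yon S).map_surjective (l ≫ f)
    let r : ∀ k, pullback t (sigmaIncl W k) ⟶ R := fun k => pullback.fst t (sigmaIncl W k)
    have hr : ∀ k, IsPullback (r k).left (pullback.snd t (sigmaIncl W k)).left t.left (sigmaIncl W k).left :=
      fun k => (IsPullback.of_hasPullback t (sigmaIncl W k)).map (Over.forget S)
    have hopen : ∀ k, IsOpenImmersion (r k).left := fun k =>
      MorphismProperty.of_isPullback (hr k).flip (sigmaIncl_isOpenImmersion W k)
    refine ⟨fun k => pullback t (sigmaIncl W k), r, fun k => (sq k).lift ((yon S).map (r k) ≫ l)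
      ((yon S).map (pullback.snd t (sigmaIncl W k))) ?_,
      fun k => by haveI := hopen k; exact ⟨inferInstance, inferInstance⟩, fun x => ?_,
      fun k => (sq k).lift_fst _ _ _⟩
    · rw [Category.assoc, ← ht, ← Functor.map_comp, ← Functor.map_comp]
      exact congrArg (yon S).map pullback.condition
    · obtain ⟨k, w, hw⟩ := exists_sigmaIncl W (t.left x)
      obtain ⟨v, hv, -⟩ := Scheme.exists_preimage_of_isPullback (hr k) x w hw.symm
      exact ⟨k, v, hv⟩
  let Good : ∀ {R : Over S}, ((yon S).obj R ⟶ F) → ((yon S).obj R ⟶ G) → Prop := fun {R} l h =>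
    ∀ (R' : Over S) (k : R' ⟶ R) (j : κ) (m : (yon S).obj R' ⟶ Fk j),
      m ≫ ik j = (yon S).map k ≫ l → (yon S).map k ≫ h = m ≫ e j
  have huniq : ∀ {R : Over S} {l : (yon S).obj R ⟶ F} {h h' : (yon S).obj R ⟶ G},
      Good l h → Good l h' → h = h' := by
    intro R l h h' hh hh'
    obtain ⟨V, r, m, h1, h2, h3⟩ := hcover R l
    exact fam_hom_ext V r h1 h2 fun k => (hh _ _ k _ (h3 k)).trans (hh' _ _ k _ (h3 k)).symm
  -- compatibility of the given maps
  have hcompat : ∀ {R : Over S} {i j : κ} (m : (yon S).obj R ⟶ Fk i) (m' : (yon S).obj R ⟶ Fk j),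
      m ≫ ik i = m' ≫ ik j → m ≫ e i = m' ≫ e j := by
    intro R i j m m' hm
    have hpt : ∀ x : ↥R.left, i = j := fun x => by
      obtain ⟨a, ha⟩ := (yon S).map_surjective (m ≫ fk i)
      obtain ⟨b, hb⟩ := (yon S).map_surjective (m' ≫ fk j)
      have he : a ≫ sigmaIncl W i = b ≫ sigmaIncl W j := (yon S).map_injective (by
        rw [Functor.map_comp, Functor.map_comp, ha, hb, Category.assoc, Category.assoc, ← (sq i).w, ← (sq j).w,
          ← Category.assoc, hm, Category.assoc])
      exact sigmaIncl_range_eq W congr($(congrArg CommaMorphism.left he) x)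
    by_cases hij : i = j
    · subst hij
      haveI : Mono (sigmaIncl W i) := ⟨fun g g' h => Over.OverMorphism.ext (by
        haveI := sigmaIncl_isOpenImmersion W i
        exact (cancel_mono (sigmaIncl W i).left).1 (congrArg CommaMorphism.left h))⟩
      have hmm : m = m' := by
        refine (sq i).hom_ext hm ?_
        obtain ⟨a, ha⟩ := (yon S).map_surjective (m ≫ fk i)
        obtain ⟨b, hb⟩ := (yon S).map_surjective (m' ≫ fk i)
        have he : a ≫ sigmaIncl W i = b ≫ sigmaIncl W i := (yon S).map_injective (by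
          rw [Functor.map_comp, Functor.map_comp, ha, hb, Category.assoc, Category.assoc, ← (sq i).w,
            ← Category.assoc, hm, Category.assoc])
        rw [← ha, ← hb, (cancel_mono (sigmaIncl W i)).1 he]
      rw [hmm]
    · haveI : IsEmpty R.left := ⟨fun x => hij (hpt x)⟩
      exact yon_hom_ext_of_isEmpty _ _
  have hex : ∀ (R : Over S) (l : (yon S).obj R ⟶ F), ∃ h, Good l h := by
    intro R l
    obtain ⟨V, r, m, h1, h2, h3⟩ := hcover R l
    obtain ⟨h, hh, -⟩ := fam_existsUnique_desc V r h1 h2 (fun k => m k ≫ e k) fun i j R' p q hpq => by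
      rw [← Category.assoc, ← Category.assoc]
      refine hcompat _ _ ?_
      rw [Category.assoc, Category.assoc, h3, h3, ← Functor.map_comp_assoc, hpq, Functor.map_comp_assoc]
    refine ⟨h, fun R' k j n hn => ?_⟩
    let r' : ∀ i, pullback k (r i) ⟶ R' := fun i => pullback.fst k (r i)
    have hr' : ∀ i, IsPullback (r' i).left (pullback.snd k (r i)).left k.left (r i).left :=
      fun i => (IsPullback.of_hasPullback k (r i)).map (Over.forget S)
    refine fam_hom_ext _ r' (fun i => ⟨MorphismProperty.of_isPullback (P := @Flat) (hr' i).flip (h1 i).1,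
      MorphismProperty.of_isPullback (P := @LocallyOfFinitePresentation) (hr' i).flip (h1 i).2⟩)
      (fun x => ?_) fun i => ?_
    · obtain ⟨i, w, hw⟩ := h2 (k.left x)
      obtain ⟨v, hv, -⟩ := Scheme.exists_preimage_of_isPullback (hr' i) x w hw.symm
      exact ⟨i, v, hv⟩
    · have hc : r' i ≫ k = pullback.snd k (r i) ≫ r i := pullback.condition
      rw [← Functor.map_comp_assoc, hc, Functor.map_comp_assoc, hh, ← Category.assoc, ← Category.assoc]
      refine hcompat _ _ ?_
      rw [Category.assoc, Category.assoc, h3, hn, ← Functor.map_comp_assoc, ← hc, Functor.map_comp_assoc]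
  choose β hβ using hex
  let d : F ⟶ G := ⟨{
    app := fun R => ↾fun x => uE (β R.unop (uE.symm x))
    naturality := by
      rintro ⟨R⟩ ⟨R'⟩ k
      ext x
      change uE (β R' (uE.symm (F.obj.map k x))) = G.obj.map k (uE (β R (uE.symm x)))
      rw [← k.op_unop, GrothendieckTopology.uliftYonedaEquiv_naturality,
        ← GrothendieckTopology.uliftYonedaEquiv_symm_naturality_left]
      refine congrArg uE (huniq (hβ _ _) fun R'' k' j m hm => ?_)
      rw [← Functor.map_comp_assoc]
      exact hβ R (uE.symm x) R'' (k' ≫ k.unop) j m (by rw [hm, Functor.map_comp_assoc]) }⟩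
  have hd : ∀ (R : Over S) (l : (yon S).obj R ⟶ F), l ≫ d = β R l := fun R l =>
    (uE (S := S)).injective (by
      rw [GrothendieckTopology.uliftYonedaEquiv_comp]
      change uE (β R (uE.symm (uE l))) = _
      rw [Equiv.symm_apply_apply])
  refine ⟨d, fun k => sp_hom_ext fun R l => ?_, fun d' hd' => sp_hom_ext fun R l => ?_⟩
  · rw [← Category.assoc, hd]
    refine huniq (hβ _ _) fun R' k' j m hm => ?_
    rw [← Category.assoc]
    exact hcompat _ _ (by rw [Category.assoc, hm])
  · refine huniq (l := l) ?_ ?_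
    · intro R' k' j m hm
      rw [← Category.assoc, ← hm, Category.assoc, hd']
    · rw [hd]; exact hβ R l

/-- The cofan of the restrictions of a sheaf over a disjoint union is a coproduct. -/
noncomputable def isColimitOverSigma
    (sq : ∀ k, IsPullback (ik k) (fk k) f ((yon S).map (sigmaIncl W k))) : IsColimit (Cofan.mk F ik) :=
  Cofan.IsColimit.mk _ (fun s => (existsUnique_desc_over_sigma sq fun k => s.inj k).choose)
    (fun s k => (existsUnique_desc_over_sigma sq fun k => s.inj k).choose_spec.1 k)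
    (fun s m hm => (existsUnique_desc_over_sigma sq fun k => s.inj k).choose_spec.2 m hm)

omit W F Fk f ik fk in
theorem isLocalOnBase_fpqc_of_affine_criterion (P : MorphismProperty (Sp S))
    (h1 : ∀ ⦃ι : Type u⦄ [Finite ι] (Xi Yi : ι → Sp S) (fi : ∀ i, Xi i ⟶ Yi i)
      (cX : Cofan Xi) (cY : Cofan Yi) (_ : IsColimit cX) (_ : IsColimit cY) (m : cX.pt ⟶ cY.pt),
      (∀ i, IsAlgSpace (Xi i)) → (∀ i, IsAlgSpace (Yi i)) → IsAlgSpace cX.pt → IsAlgSpace cY.pt →
      (∀ i, cX.inj i ≫ m = fi i ≫ cY.inj i) → (∀ i, P (fi i)) → P m)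
    (h2 : ∀ ⦃X Y : Sp S⦄, IsAlgSpace X → IsAlgSpace Y → ∀ (f : X ⟶ Y),
      P f ↔ ∀ (Z : Over S), IsAffine Z.left → ∀ (g : (yon S).obj Z ⟶ Y) (W : Sp S)
        (fst : W ⟶ X) (snd : W ⟶ (yon S).obj Z), IsAlgSpace W → IsPullback fst snd f g → P snd)
    (h3 : ∀ ⦃Z Z' : Over S⦄ (c : Z' ⟶ Z), IsAffine Z.left → IsAffine Z'.left → Surjective c.left →
      Flat c.left → ∀ ⦃X X' : Sp S⦄ (f : X ⟶ (yon S).obj Z) (fst : X' ⟶ X) (f' : X' ⟶ (yon S).obj Z'),
        IsAlgSpace X → IsAlgSpace X' → IsPullback fst f' f ((yon S).map c) → P f' → P f) :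
    IsLocalOnBase (IsFpqcCover (S := S)) P := by
  intro ι Y Yi g hY hYi hg X f hX Xi p q hXi sq
  refine ⟨fun hf i => (h2 (hXi i) (hYi i) (p i)).2 fun Z hZ l W fst snd hW sqW =>
    (h2 hX hY f).1 hf Z hZ (l ≫ g i) W _ snd hW (sqW.paste_horiz (sq i)), fun hp => (h2 hX hY f).2 ?_⟩
  intro Z hZ z V fst snd hV sqV
  obtain ⟨m, W₀, c₀, hW, hfl, hsurj, hlift⟩ := hg.2 Z hZ z
  let W : ULift.{u} (Fin m) → Over S := fun j => W₀ j.down
  haveI := hZ
  haveI : ∀ j, IsAffine (W j).left := fun j => hW j.down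
  let c : sigmaOver W ⟶ Z := Over.homMk (Sigma.desc fun j => (c₀ j.down).left)
    (Sigma.hom_ext _ _ fun j => (Sigma.ι_desc_assoc (fun j : ULift.{u} (Fin m) => (c₀ j.down).left) j Z.hom).trans
      ((Over.w (c₀ j.down)).trans (Sigma.ι_desc (fun k => (W k).hom) j).symm))
  have hc : ∀ j, sigmaIncl W j ≫ c = c₀ j.down := fun j =>
    Over.OverMorphism.ext (Sigma.ι_desc (fun j : ULift.{u} (Fin m) => (c₀ j.down).left) j)
  haveI hA : IsAffine (sigmaOver W).left :=
    inferInstanceAs (IsAffine (∐ fun j : ULift.{u} (Fin m) => (W j).left))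
  haveI : IsZariskiLocalAtSource (@Flat : MorphismProperty Scheme.{u}) :=
    HasRingHomProperty.instIsZariskiLocalAtSource (Q := RingHom.Flat)
  haveI hcf : Flat c.left := IsZariskiLocalAtSource.sigmaDesc (P := (@Flat : MorphismProperty Scheme.{u}))
    (fun j => hfl j.down)
  haveI hcs : Surjective c.left := ⟨fun x => by
    obtain ⟨j, w, rfl⟩ := hsurj x
    exact ⟨(sigmaIncl W ⟨j⟩).left w, congr($(congrArg CommaMorphism.left (hc ⟨j⟩)) w)⟩⟩
  let f' := pullback.snd snd ((yon S).map c)
  have hV' : IsAlgSpace (pullback snd ((yon S).map c)) :=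
    isAlgSpace_pullback _ _ hV (IsAlgSpace.yon_obj _) (IsAlgSpace.yon_obj Z)
  have hVj : ∀ j, IsAlgSpace (pullback f' ((yon S).map (sigmaIncl W j))) := fun j =>
    isAlgSpace_pullback _ _ hV' (IsAlgSpace.yon_obj _) (IsAlgSpace.yon_obj _)
  refine h3 c hZ hA hcs hcf snd _ f' hV hV' (IsPullback.of_hasPullback _ _) ?_
  refine h1 _ _ (fun j => pullback.snd f' ((yon S).map (sigmaIncl W j))) _ _
    (isColimitOverSigma (fun j => IsPullback.of_hasPullback f' ((yon S).map (sigmaIncl W j))))
    (sigmaCofanIsColimit W) f' hVj (fun j => IsAlgSpace.yon_obj _) hV' (IsAlgSpace.yon_obj _)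
    (fun j => pullback.condition) fun j => ?_
  obtain ⟨i, l, hl⟩ := hlift j.down
  have big : IsPullback (pullback.fst f' ((yon S).map (sigmaIncl W j)) ≫ pullback.fst snd ((yon S).map c) ≫ fst)
      (pullback.snd f' ((yon S).map (sigmaIncl W j))) f (l ≫ g i) := by
    have := (IsPullback.of_hasPullback f' ((yon S).map (sigmaIncl W j))).paste_horiz
      ((IsPullback.of_hasPullback snd ((yon S).map c)).paste_horiz sqV)
    rwa [← Functor.map_comp_assoc, hc, ← hl] at this
  exact (h2 (hXi i) (hYi i) (p i)).1 (hp i) (W j) (hW j.down) l _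
    ((sq i).lift (pullback.fst f' ((yon S).map (sigmaIncl W j)) ≫ pullback.fst snd ((yon S).map c) ≫ fst)
      (pullback.snd f' ((yon S).map (sigmaIncl W j)) ≫ l) (by
        simpa only [Category.assoc] using big.w)) _ (hVj j)
    (IsPullback.of_right (by rw [(sq i).lift_fst]; exact big) ((sq i).lift_snd _ _ _) (sq i))

end Groth.Agent.SpFP87
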