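import Groth.Agent.SpFP87.RepDesc
import Groth.Agent.SpFP87.FpqcTest
/-!
Open sets of points descend along fpqc coverings of algebraic spaces.
-/

set_option autoImplicit false
set_option linter.style.haveILetI false
set_option backward.isDefEq.respectTransparency false
universe u
open CategoryTheory CategoryTheory.Limits AlgebraicGeometry Opposite TopologicalSpace
open AlgSp

namespace Groth.Agent.SpFP87

variable {S : Scheme.{u}} {ι : Type u} {T : Sp S} {Ti : ι → Sp S} {g : ∀ i, Ti i ⟶ T}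

/-- An fpqc covering of an algebraic space is surjective on points. -/
theorem exists_map_eq_of_fpqc (hT : IsAlgSpace T) (hg : IsFpqcCover Ti g) (x : Points T) :
    ∃ i, x ∈ Set.range (Points.map (g i)) := by
  obtain ⟨U, a, ha, has⟩ := hT.atlas
  obtain ⟨u, rfl⟩ := Groth.Agent.SpPts86.surjective_ofPt has x
  obtain ⟨V, hV, huV, -⟩ :=
    exists_isAffineOpen_mem_and_subset (U := (⊤ : U.left.Opens)) (x := u) trivial
  let Z : Over S := Over.mk (V.ι ≫ U.hom)
  let v : Z ⟶ U := Over.homMk V.ι rfl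
  obtain ⟨m, W, c, -, -, hsurj, hlift⟩ := hg.2 Z hV ((yon S).map v ≫ a)
  obtain ⟨j, w, hw⟩ := hsurj ⟨u, huV⟩
  obtain ⟨i, l, hl⟩ := hlift j
  refine ⟨i, Points.ofPt l w, ?_⟩
  rw [Points.map_ofPt, hl, Groth.Agent.SpPts86.ofPt_comp, Groth.Agent.SpPts86.ofPt_comp, hw]
  rfl

/-- A set of points whose preimages in an fpqc covering are open is open. -/
theorem isOpen_of_fpqc (hT : IsAlgSpace T) (hg : IsFpqcCover Ti g) (A : Set (Points T))
    (h : ∀ i, IsOpen (Points.map (g i) ⁻¹' A)) : IsOpen A := by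
  obtain ⟨U, a, ha, has⟩ := hT.atlas
  rw [← (Groth.Agent.SpPts86.isOpenQuotientMap_ofPt ha has).isQuotientMap.isOpen_preimage]
  refine isOpen_iff_forall_mem_open.2 fun u hu => ?_
  obtain ⟨V, hV, huV, -⟩ :=
    exists_isAffineOpen_mem_and_subset (U := (⊤ : U.left.Opens)) (x := u) trivial
  let Z : Over S := Over.mk (V.ι ≫ U.hom)
  let v : Z ⟶ U := Over.homMk V.ι rfl
  haveI : IsAffine Z.left := hV
  obtain ⟨m, W, c, hW, hfl, hsurj, hlift⟩ := hg.2 Z hV ((yon S).map v ≫ a)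
  let W' := fun j : ULift.{u} (Fin m) => (W j.down).left
  haveI : ∀ j, IsAffine (W' j) := fun j => hW j.down
  let d : ∐ W' ⟶ Z.left := Sigma.desc fun j => (c j.down).left
  haveI : IsZariskiLocalAtSource (@Flat : MorphismProperty Scheme.{u}) :=
    HasRingHomProperty.instIsZariskiLocalAtSource (Q := RingHom.Flat)
  haveI : Flat d := IsZariskiLocalAtSource.sigmaDesc fun j => hfl j.down
  have hι : ∀ (j : ULift.{u} (Fin m)) (w : ↥(W' j)), d ((Sigma.ι W' j) w) = (c j.down).left w := fun j w =>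
    congrArg (fun k : W' j ⟶ Z.left => k.base w) (Sigma.ι_desc (fun j : ULift.{u} (Fin m) => (c j.down).left) j)
  haveI : Surjective d := ⟨fun z => by
    obtain ⟨j, w, rfl⟩ := hsurj z
    exact ⟨_, hι ⟨j⟩ w⟩⟩
  haveI : QuasiCompact d := inferInstance
  let B : Set ↥Z.left := v.left ⁻¹' (Points.ofPt a ⁻¹' A)
  have hB : IsOpen B := by
    rw [← (Flat.isQuotientMap_of_surjective d).isOpen_preimage]
    refine isOpen_iff_forall_mem_open.2 fun x hx => ?_
    obtain ⟨j, w, rfl⟩ := (sigmaOpenCover W').exists_eq x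
    obtain ⟨i, l, hl⟩ := hlift j.down
    have hpre : (c j.down).left ⁻¹' B = Points.ofPt l ⁻¹' (Points.map (g i) ⁻¹' A) := by
      ext y
      simp only [B, Set.mem_preimage]
      rw [Points.map_ofPt, hl, Groth.Agent.SpPts86.ofPt_comp, Groth.Agent.SpPts86.ofPt_comp]
    refine ⟨Sigma.ι W' j '' ((c j.down).left ⁻¹' B), ?_, ?_,
      ⟨w, show (c j.down).left w ∈ B by rw [← hι]; exact hx, rfl⟩⟩
    · rintro _ ⟨y, hy, rfl⟩
      simp only [Set.mem_preimage]; rw [hι]; exact hy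
    · rw [hpre]
      exact (Sigma.ι W' j).isOpenEmbedding.isOpenMap _ ((h i).preimage (Points.continuous_ofPt l))
  refine ⟨v.left '' B, ?_, (V.ι.isOpenEmbedding).isOpenMap _ hB, ⟨u, huV⟩, ?_, rfl⟩
  · rintro _ ⟨z, hz, rfl⟩; exact hz
  · exact hu

theorem existsUnique_open_descend (hT : IsAlgSpace T) (hg : IsFpqcCover Ti g)
    (Wi : ∀ i, Set (Points (Ti i))) (hW : ∀ i, IsOpen (Wi i))
    (hc : ∀ i j, Points.map (pullback.fst (g i) (g j)) ⁻¹' Wi i =
      Points.map (pullback.snd (g i) (g j)) ⁻¹' Wi j) :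
    ∃! W : Opens (Points T), ∀ i, Points.map (g i) ⁻¹' (W : Set (Points T)) = Wi i := by
  let A : Set (Points T) := ⋃ i, Points.map (g i) '' Wi i
  have hA : ∀ i, Points.map (g i) ⁻¹' A = Wi i := fun i => by
    ext y
    refine ⟨fun hy => ?_, fun hy => Set.mem_iUnion.2 ⟨i, y, hy, rfl⟩⟩
    obtain ⟨j, y', hy', e⟩ := Set.mem_iUnion.1 hy
    obtain ⟨z, hz1, hz2⟩ := Groth.Agent.SpPts86.exists_of_isPullback (IsPullback.of_hasPullback (g i) (g j)) y y' e.symm
    have : z ∈ Points.map (pullback.snd (g i) (g j)) ⁻¹' Wi j := by rw [Set.mem_preimage, hz2]; exact hy'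
    rw [← hc, Set.mem_preimage, hz1] at this
    exact this
  refine ⟨⟨A, isOpen_of_fpqc hT hg A fun i => by rw [hA]; exact hW i⟩, hA, fun W' hW' => ?_⟩
  apply Opens.ext
  ext x
  obtain ⟨i, y, rfl⟩ := exists_map_eq_of_fpqc hT hg x
  exact (iff_of_eq (congrArg (y ∈ ·) (hW' i))).trans (iff_of_eq (congrArg (y ∈ ·) (hA i))).symm

end Groth.Agent.SpFP87
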