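import Groth.Agent.SpFP87.FinSplit
import Groth.Agent.S7409
import Groth.Agent.Approx60.Segre
import Mathlib.AlgebraicGeometry.Morphisms.Immersion
/-!
Chow's lemma for separated finite type morphisms to quasi-compact quasi-separated spaces.
-/

set_option autoImplicit false
set_option linter.style.haveILetI false
set_option backward.isDefEq.respectTransparency false
universe u
open CategoryTheory CategoryTheory.Limits AlgebraicGeometry
open AlgSp Groth.Agent.SpPts86

namespace Groth.Agent.SpFP87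

variable {S : Scheme.{u}}

theorem quasiSeparated_of_isQuasiSeparatedMor_yon {X Y : Over S} {f : X ⟶ Y}
    (h : IsQuasiSeparatedMor ((yon S).map f)) : QuasiSeparated f.left := by
  have h1 := (repWith_diagonal_iff @QuasiCompact (IsAlgSpace.yon_obj X).diag
    ((IsAlgSpace.yon_obj Y).representable_from_yon ((yon S).map f))).1 h
  haveI := Groth.Agent.Unr55.quasiCompact
  exact ⟨(repWith_yon_map_iff (MorphismProperty.diagonal @QuasiCompact) f).1 h1⟩

theorem quasiSeparatedSpace_of_qsSp [QuasiSeparatedSpace ↥S] {X : Over S}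
    (h : IsQuasiSeparatedSp ((yon S).obj X)) : QuasiSeparatedSpace X.left := by
  let t : X ⟶ Over.mk (𝟙 S) := Over.homMk X.hom (Category.comp_id _)
  have hT : IsTerminal ((yon S).obj (Over.mk (𝟙 S))) := IsTerminal.isTerminalObj (yon S) _ Over.mkIdTerminal
  haveI : QuasiSeparated X.hom :=
    quasiSeparated_of_isQuasiSeparatedMor_yon (f := t) (Groth.Agent.SpProper61.qs_to_terminal h hT _)
  exact quasiSeparatedSpace_of_quasiSeparated X.hom

theorem isQuasiSeparatedMor_of_isSeparatedMor {X Y : Sp S} {f : X ⟶ Y} (h : IsSeparatedMor f) :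
    IsQuasiSeparatedMor f :=
  repWith_mono (fun _ _ g (hg : IsClosedImmersion g) => inferInstance) h

theorem compactSpace_of_qcMor' {X Y : Sp S} (hY : IsAlgSpace Y) [CompactSpace (Points Y)]
    {f : X ⟶ Y} (hf : IsQuasiCompactMor f) : CompactSpace (Points X) :=
  compactSpace_of_isQuasiCompactMor hf hY (IsPullback.of_horiz_isIso ⟨by simp⟩ : IsPullback (𝟙 X) f f (𝟙 _))

set_option maxHeartbeats 1000000 in
theorem chow_finite_type [QuasiSeparatedSpace ↥S] {X Y : AlgSp.Space S} (f : X ⟶ Y)
    (hY1 : AlgSp.IsQuasiCompactSp Y.obj) (hY2 : AlgSp.IsQuasiSeparatedSp Y.obj)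
    (hf1 : AlgSp.IsSeparatedMor f.hom) (hf2 : AlgSp.IsFiniteTypeMor f.hom) :
    ∃ (X' Xb : AlgSp.Space S) (a : X' ⟶ X) (b : X' ⟶ Xb) (c : Xb ⟶ Y), b ≫ c = a ≫ f ∧
      AlgSp.IsProperMor a.hom ∧ AlgSp.IsSurjectiveMor a.hom ∧ AlgSp.RepWith @IsOpenImmersion b.hom ∧
        AlgSp.IsProperMor c.hom ∧ AlgSp.Representable c.hom := by
  obtain ⟨W, g, hg, hgs⟩ := ModSys.exists_scheme_finite_surjective Y hY1 hY2
  have hgp := isProperMor_of_isFiniteMor (IsAlgSpace.yon_obj W) Y.property hg
  haveI := compactSpace_points_of_isQuasiCompactSp hY1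
  haveI hWp : CompactSpace (Points ((yon S).obj W)) := compactSpace_of_qcMor' Y.property hgp.2.1.2
  haveI : CompactSpace W.left := (Points.schemeHomeo W).symm.compactSpace
  have hWq : IsQuasiSeparatedSp ((yon S).obj W) :=
    Groth.Agent.SpProper61.qsSp_of_mor g (isQuasiSeparatedMor_of_isSeparatedMor hgp.1) hY2
  haveI := quasiSeparatedSpace_of_qsSp hWq
  -- the pullback
  have sq := IsPullback.of_hasPullback f.hom g
  let P : AlgSp.Space S :=
    ⟨pullback f.hom g, isAlgSpace_pullback f.hom g X.property (IsAlgSpace.yon_obj W) Y.property⟩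
  have hsep : IsSeparatedMor (pullback.snd f.hom g) := isSeparatedMor_of_isPullback sq hf1
  have hft : IsFiniteTypeMor (pullback.snd f.hom g) :=
    isFiniteTypeMor_baseChange X.property Y.property (IsAlgSpace.yon_obj W) hf2 sq
  haveI : CompactSpace (Points P.obj) := compactSpace_of_qcMor' (IsAlgSpace.yon_obj W) hft.2
  obtain ⟨Z, h, hh, hhs⟩ := ModSys.exists_scheme_finite_surjective P (isQuasiCompactSp_of_compactSpace P.property)
    (Groth.Agent.SpProper61.qsSp_of_mor _ (isQuasiSeparatedMor_of_isSeparatedMor hsep) hWq)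
  have hhp := isProperMor_of_isFiniteMor (IsAlgSpace.yon_obj Z) P.property hh
  obtain ⟨z, hz⟩ := (yon S).map_surjective (h ≫ pullback.snd f.hom g)
  have hzs : IsSeparatedMor ((yon S).map z) := hz ▸ isSeparatedMor_comp hhp.1 hsep
  have hzf : IsFiniteTypeMor ((yon S).map z) :=
    hz ▸ isFiniteTypeMor_comp (IsAlgSpace.yon_obj Z) P.property (IsAlgSpace.yon_obj W) hhp.2.1 hft
  haveI : IsSeparated z.left := (isSeparatedMor_yon_map_iff z).1 hzs
  haveI : LocallyOfFiniteType z.left := (locP_yon_map_iff z).1 hzf.1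
  haveI : QuasiCompact z.left := quasiCompact_of_isQuasiCompactMor_yon hzf.2
  obtain ⟨n, Z', π, j, hj, hjπ, hπp, hπs⟩ := Groth.Agent.S7409.result z.left
  haveI := hj
  haveI := hπp
  haveI := hπs
  haveI : IsProper (CohB1.ProjSpaceOver.toBase n W.left) := Approx60.Segre.isProper_toBase n W.left
  haveI : QuasiCompact (j ≫ CohB1.ProjSpaceOver.toBase n W.left) := by rw [hjπ]; infer_instance
  haveI : QuasiCompact j := QuasiCompact.of_comp j (CohB1.ProjSpaceOver.toBase n W.left)
  let Z'o : Over S := Over.mk (π ≫ Z.hom)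
  let πo : Z'o ⟶ Z := Over.homMk π rfl
  let Xbo : Over S := Over.mk ((j.imageι ≫ CohB1.ProjSpaceOver.toBase n W.left) ≫ W.hom)
  let co : Xbo ⟶ W := Over.homMk (j.imageι ≫ CohB1.ProjSpaceOver.toBase n W.left) rfl
  let bo : Z'o ⟶ Xbo := Over.homMk j.toImage (by
    show j.toImage ≫ (j.imageι ≫ CohB1.ProjSpaceOver.toBase n W.left) ≫ W.hom = π ≫ Z.hom
    rw [← Category.assoc, ← Category.assoc j.toImage, Scheme.Hom.toImage_imageι, hjπ, Category.assoc, Over.w z])
  have hbc : bo ≫ co = πo ≫ z := Over.OverMorphism.ext (by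
    show j.toImage ≫ j.imageι ≫ CohB1.ProjSpaceOver.toBase n W.left = π ≫ z.left
    rw [← Category.assoc, Scheme.Hom.toImage_imageι, hjπ])
  have hfst : IsFiniteMor (pullback.fst f.hom g) :=
    (isFiniteMor_iff _).2 ((repWith_isStableUnderBaseChange _).of_isPullback sq.flip ((isFiniteMor_iff g).1 hg))
  have hπy : IsProperMor ((yon S).map πo) := (isProperMor_yon_map_iff πo).2 ‹IsProper π›
  refine ⟨⟨(yon S).obj Z'o, IsAlgSpace.yon_obj _⟩, ⟨(yon S).obj Xbo, IsAlgSpace.yon_obj _⟩,
    ObjectProperty.homMk ((yon S).map πo ≫ h ≫ pullback.fst f.hom g), ObjectProperty.homMk ((yon S).map bo),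
    ObjectProperty.homMk ((yon S).map co ≫ g), InducedCategory.hom_ext ?_, ?_, ?_, ?_, ?_, ?_⟩
  · show (yon S).map bo ≫ (yon S).map co ≫ g = ((yon S).map πo ≫ h ≫ pullback.fst f.hom g) ≫ f.hom
    rw [← Functor.map_comp_assoc, hbc, Functor.map_comp, hz]
    simp only [Category.assoc, pullback.condition]
  · exact isProperMor_comp (IsAlgSpace.yon_obj _) (IsAlgSpace.yon_obj _) X.property hπy
      (isProperMor_comp (IsAlgSpace.yon_obj _) P.property X.property hhp
        (isProperMor_of_isFiniteMor P.property X.property hfst))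
  · intro x
    obtain ⟨w, hw⟩ := hgs (Points.map f.hom x)
    obtain ⟨p, hp, -⟩ := exists_of_isPullback sq x w hw.symm
    obtain ⟨v, hv⟩ := hhs p
    obtain ⟨v, rfl⟩ := (Points.schemeHomeo Z).surjective v
    obtain ⟨v', hv'⟩ := π.surjective v
    refine ⟨Points.schemeHomeo Z'o v', ?_⟩
    show Points.map ((yon S).map πo ≫ h ≫ pullback.fst f.hom g) _ = x
    rw [Points.map_comp, Points.map_comp, Points.map_yon_map_apply, show πo.left v' = v from hv', hv]
    exact hp
  · exact (repWith_yon_map_iff _ bo).2 (inferInstanceAs (IsOpenImmersion j.toImage))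
  · exact isProperMor_comp (IsAlgSpace.yon_obj _) (IsAlgSpace.yon_obj _) Y.property
      ((isProperMor_yon_map_iff co).2 (inferInstanceAs (IsProper (j.imageι ≫ CohB1.ProjSpaceOver.toBase n W.left)))) hgp
  · exact Y.property.representable_from_yon _

end Groth.Agent.SpFP87
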