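import Groth.Agent.SpFP87.ThickScheme
import Groth.Agent.SpFP87.EtTop
import Groth.Agent.SpPts86.EtaleMor
import Groth.Agent.SpPts86.PieceEtale
import Groth.Prelude.Def_AlgSpOX2
/-!
The small etale sites of a thickening.
-/

set_option autoImplicit false
set_option linter.style.haveILetI false
set_option backward.isDefEq.respectTransparency false
universe u
open CategoryTheory CategoryTheory.Limits AlgebraicGeometry
open AlgSp Groth.Agent.SpPts86

namespace Groth.Agent.SpFP87

variable {S : Scheme.{u}}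

theorem repWith_uhHom_of_thick {X X' : Sp S} {i : X ⟶ X'} (hi : IsThickMor i) : RepWith uhHom i := by
  refine repWith_mono (fun A B g hg => ?_) hi
  haveI : IsClosedImmersion g := hg.1
  exact ⟨⟨(inferInstance : IsIntegralHom g), (inferInstance : UniversallyInjective g)⟩, hg.2⟩

theorem bc_isEquivalence_of_thick {X X' : Sp S} {i : X ⟶ X'} (hi : IsThickMor i) (hX : IsAlgSpace X)
    (hX' : IsAlgSpace X') : (EtOver.bc hi.1).IsEquivalence := by
  have huh := repWith_uhHom_of_thick hi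
  have huniq := fun {E E' : EtOver X'} (φ : (EtOver.bc hi.1).obj E ⟶ (EtOver.bc hi.1).obj E') =>
    existsUnique_map_of_uh huh hX hX' (IsAlgSpace.yon_obj E.obj.left) (IsAlgSpace.yon_obj E'.obj.left)
      (Groth.Agent.SpPts86.isEtaleMor_of_repWith_etale E.property)
      (Groth.Agent.SpPts86.isEtaleMor_of_repWith_etale E'.property)
      (EtOver.isPullback_bcObj hi.1 E) (EtOver.isPullback_bcObj hi.1 E') ((yon S).map φ.hom.left) (EtOver.w φ)
  haveI : (EtOver.bc hi.1).Faithful := ⟨fun {E E'} g g' h => by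
    obtain ⟨ψ, -, hu⟩ := huniq ((EtOver.bc hi.1).map g)
    refine EtOver.hom_ext _ _ ((yon S).map_injective ((hu _ ⟨EtOver.w g, ?_⟩).trans (hu _ ⟨EtOver.w g', ?_⟩).symm))
    · rw [← Functor.map_comp, ← Functor.map_comp]
      exact congrArg (yon S).map (EtOver.bcMap_snd hi.1 g).symm
    · rw [h, ← Functor.map_comp, ← Functor.map_comp]
      exact congrArg (yon S).map (EtOver.bcMap_snd hi.1 g').symm⟩
  haveI : (EtOver.bc hi.1).Full := ⟨fun {E E'} φ => by
    obtain ⟨ψ, ⟨hψ1, hψ2⟩, -⟩ := huniq φ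
    obtain ⟨ψ, rfl⟩ := (yon S).map_surjective ψ
    refine ⟨EtOver.homMk ψ hψ1, EtOver.hom_ext _ _ ?_⟩
    refine hi.1.hom_ext ?_ ?_
    · exact (EtOver.map_bcMap_fst hi.1 _).trans (EtOver.w φ).symm
    · refine (EtOver.bcMap_snd hi.1 _).trans ((yon S).map_injective ?_)
      rw [Functor.map_comp, Functor.map_comp]
      exact hψ2⟩
  haveI : (EtOver.bc hi.1).EssSurj := ⟨fun E => by
    obtain ⟨V', a, c, hV', ha, sq⟩ := exists_descent_of_etale huh hX' hX (IsAlgSpace.yon_obj E.obj.left)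
      (Groth.Agent.SpPts86.isEtaleMor_of_repWith_etale E.property)
    obtain ⟨T', ⟨e⟩⟩ := exists_scheme_of_thick (thick_baseChange hi sq) hV' (Iso.refl _)
    have sq' : IsPullback E.obj.hom (c ≫ e.inv) i (e.hom ≫ a) :=
      sq.of_iso (Iso.refl _) (Iso.refl _) e.symm (Iso.refl _) (by simp) (by simp) (by simp) (by simp)
    have ha' : RepWith @Etale (e.hom ≫ a) := by
      refine Groth.Agent.SpPts86.repWith_etale_of_isEtaleMor hX' (hX'.representable_from_yon _) ?_
      exact Groth.Agent.SpPts86.isEtaleMor_comp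
        (Groth.Agent.SpPts86.isEtaleMor_of_repWith_etale (repWith_etale_of_isIso e.hom)) ha
    let E' : EtOver X' := EtOver.mk (e.hom ≫ a) ha'
    obtain ⟨ε, hε, -⟩ : ∃ ε : (yon S).obj ((EtOver.bc hi.1).obj E').obj.left ≅ (yon S).obj E.obj.left,
        ε.hom ≫ E.obj.hom = ((EtOver.bc hi.1).obj E').obj.hom ∧ True :=
      ⟨(EtOver.isPullback_bcObj hi.1 E').isoIsPullback _ _ sq', IsPullback.isoIsPullback_hom_fst _ _ _ _, trivial⟩
    let e₀ := (Functor.FullyFaithful.ofFullyFaithful (yon S)).preimageIso ε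
    have he₀ : (yon S).map e₀.hom = ε.hom := Functor.map_preimage _ _
    have he₀' : (yon S).map e₀.inv = ε.inv := Functor.map_preimage _ _
    refine ⟨E', ⟨⟨EtOver.homMk e₀.hom (by rw [he₀]; exact hε), EtOver.homMk e₀.inv ?_, ?_, ?_⟩⟩⟩
    · rw [he₀', Iso.inv_comp_eq]; exact hε.symm
    · exact EtOver.hom_ext _ _ e₀.hom_inv_id
    · exact EtOver.hom_ext _ _ e₀.inv_hom_id⟩
  exact ⟨inferInstance, inferInstance, inferInstance⟩

end Groth.Agent.SpFP87
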