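import Groth.Agent.SpFP87.ThickTop
import Groth.Agent.SpPts86.ProperCrit
/-!
Separation properties of morphisms of thickenings.
-/

set_option autoImplicit false
set_option linter.style.haveILetI false
set_option backward.isDefEq.respectTransparency false
universe u
open CategoryTheory CategoryTheory.Limits AlgebraicGeometry Opposite
open AlgSp Groth.Agent.SpPts86

namespace Groth.Agent.SpFP87

variable {S : Scheme.{u}} {X X' Y Y' : Sp S} {i : X ⟶ X'} {j : Y ⟶ Y'} {f : X ⟶ Y} {f' : X' ⟶ Y'}

theorem thick_comp {A B C : Sp S} {a : A ⟶ B} {b : B ⟶ C} (ha : IsThickMor a) (hb : IsThickMor b) :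
    IsThickMor (a ≫ b) := by
  haveI : thick.{u}.IsStableUnderBaseChange := inferInstanceAs
    ((@IsClosedImmersion ⊓ @Surjective : MorphismProperty Scheme.{u}).IsStableUnderBaseChange)
  haveI : thick.{u}.IsMultiplicative :=
    { id_mem := fun A => ⟨(inferInstance : IsClosedImmersion (𝟙 A)), (inferInstance : Surjective (𝟙 A))⟩
      comp_mem := fun a b ha hb => ⟨MorphismProperty.comp_mem (W := @IsClosedImmersion) a b ha.1 hb.1,
        MorphismProperty.comp_mem (W := @Surjective) a b ha.2 hb.2⟩ }
  exact (repWith_isMultiplicative thick).comp_mem a b ha hb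

/-- The diagonals of a morphism of thickenings form a morphism of thickenings. -/
theorem exists_thick_diagonal (hi : IsThickMor i) (hj : IsThickMor j) (w : i ≫ f' = f ≫ j) :
    ∃ m : pullback f f ⟶ pullback f' f', IsThickMor m ∧
      i ≫ pullback.diagonal f' = pullback.diagonal f ≫ m := by
  haveI := mono_of_thick hj
  let m : pullback f f ⟶ pullback f' f' :=
    pullback.lift (pullback.fst f f ≫ i) (pullback.snd f f ≫ i) (by
      rw [Category.assoc, Category.assoc, w, pullback.condition_assoc])
  have big : IsPullback (pullback.fst f f) (pullback.snd f f) (i ≫ f') (i ≫ f') := by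
    rw [w]
    exact IsPullback.of_isLimit' ⟨by rw [pullback.condition_assoc]⟩
      (PullbackCone.IsLimit.mk _ (fun c => pullback.lift c.fst c.snd (by
          rw [← cancel_mono j, Category.assoc, Category.assoc]; exact c.condition))
        (fun c => pullback.lift_fst _ _ _) (fun c => pullback.lift_snd _ _ _)
        (fun c n h1 h2 => pullback.hom_ext (by rw [pullback.lift_fst]; exact h1) (by rw [pullback.lift_snd]; exact h2)))
  let m₁ : pullback f f ⟶ pullback f' (i ≫ f') :=
    pullback.lift (pullback.fst f f ≫ i) (pullback.snd f f) (by rw [Category.assoc]; exact big.w)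
  let m₂ : pullback f' (i ≫ f') ⟶ pullback f' f' :=
    pullback.lift (pullback.fst f' (i ≫ f')) (pullback.snd f' (i ≫ f') ≫ i)
      (by rw [Category.assoc]; exact pullback.condition)
  have sq1 : IsPullback (pullback.fst f f) m₁ i (pullback.fst f' (i ≫ f')) :=
    IsPullback.of_bot (by rw [pullback.lift_snd]; exact big) (pullback.lift_fst _ _ _).symm
      (IsPullback.of_hasPullback f' (i ≫ f'))
  have sq2 : IsPullback (pullback.snd f' (i ≫ f')) m₂ i (pullback.snd f' f') :=
    IsPullback.of_bot (by rw [pullback.lift_fst]; exact (IsPullback.of_hasPullback f' (i ≫ f')).flip)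
      (pullback.lift_snd _ _ _).symm (IsPullback.of_hasPullback f' f').flip
  refine ⟨m, ?_, ?_⟩
  · have e : m = m₁ ≫ m₂ := by
      apply pullback.hom_ext <;> simp [m, m₁, m₂]
    rw [e]
    exact thick_comp (thick_baseChange hi sq1) (thick_baseChange hi sq2)
  · apply pullback.hom_ext <;> simp [m]

theorem isUnivClosedMor_diag_of_separated (hX : IsAlgSpace X) (hY : IsAlgSpace Y) (h : IsSeparatedMor f) :
    IsUnivClosedMor (pullback.diagonal f) :=
  (S9922.result (X := ⟨X, hX⟩) (Y := ⟨_, isAlgSpace_pullback f f hX hX hY⟩) ⟨pullback.diagonal f⟩ h.rep).1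
    (repWith_mono (fun _ _ _ hk => by haveI := hk; exact inferInstance) h)

theorem thickening_separated_iff (hX : IsAlgSpace X) (hX' : IsAlgSpace X') (hY : IsAlgSpace Y)
    (hY' : IsAlgSpace Y') (hi : IsThickMor i) (hj : IsThickMor j) (w : i ≫ f' = f ≫ j) :
    (IsSeparatedMor f ↔ IsSeparatedMor f') ∧ (IsQuasiSeparatedMor f ↔ IsQuasiSeparatedMor f') := by
  obtain ⟨m, hm, e⟩ := exists_thick_diagonal hi hj w
  have hP := isAlgSpace_pullback f f hX hX hY
  have hP' := isAlgSpace_pullback f' f' hX' hX' hY'
  obtain ⟨-, hqc, huc, -⟩ := thickening_topological_iff hX hX' hP hP' hi hm e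
  exact ⟨⟨fun h => isSeparatedMor_of_diag_univClosed hX' hY' (huc.1 (isUnivClosedMor_diag_of_separated hX hY h)),
      fun h => isSeparatedMor_of_diag_univClosed hX hY (huc.2 (isUnivClosedMor_diag_of_separated hX' hY' h))⟩,
    ⟨fun h => repWith_quasiCompact_of_isQuasiCompactMor (representable_diagonal hX'.diag f')
        (hqc.1 (isQuasiCompactMor_of_repWith hP h)),
      fun h => repWith_quasiCompact_of_isQuasiCompactMor (representable_diagonal hX.diag f)
        (hqc.2 (isQuasiCompactMor_of_repWith hP' h))⟩⟩

end Groth.Agent.SpFP87
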