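import Groth.Agent.SpFP87.EtaleSeparating
import Groth.Agent.SpPts86.GeomLift
import Groth.Agent.SpPts86.EtaleMor
import Groth.Agent.SpFP87.Basic

/-!
Injectivity after every etale base change gives a surjective diagonal.
-/

set_option autoImplicit false
set_option linter.style.haveILetI false
set_option backward.isDefEq.respectTransparency false
universe u

open CategoryTheory CategoryTheory.Limits AlgebraicGeometry Opposite
open AlgSp

namespace Groth.Agent.SpFP87

open Groth.Agent.SpPts86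

variable {S : Scheme.{u}}

/-- Two morphisms from field spectra with equal classes agree over a common extension. -/
theorem exists_common_ext {F : Sp S} {K : Type u} [Field K] {str : Spec (CommRingCat.of K) ⟶ S}
    (a b : (yon S).obj (Over.mk str) ⟶ F) (x y : ↥(Spec (CommRingCat.of K)))
    (h : Points.ofPt a x = Points.ofPt b y) :
    ∃ (Ω : Type u) (_ : Field Ω) (w : Spec (CommRingCat.of Ω) ⟶ S) (i j : Over.mk w ⟶ Over.mk str),
      (yon S).map i ≫ a = (yon S).map j ≫ b := by
  have key : ∀ (c : (yon S).obj (Over.mk str) ⟶ F) (z : ↥(Spec (CommRingCat.of K))),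
      Points.ofPt c z = Points.mk ⟨K, str, (J S).uliftYonedaEquiv c⟩ := fun c z => by
    have hc : FieldPt.toHom (⟨K, str, (J S).uliftYonedaEquiv c⟩ : FieldPt F) = c :=
      Equiv.symm_apply_apply _ _
    conv_lhs => rw [← hc]
    exact Points.ofPt_toHom (⟨K, str, (J S).uliftYonedaEquiv c⟩ : FieldPt F) z
  rw [key, key, Points.mk_eq_mk_iff] at h
  obtain ⟨Ω, _, w, i, j, hij⟩ := h
  refine ⟨Ω, inferInstance, w, i, j, (J S).uliftYonedaEquiv.injective ?_⟩
  exact ((J S).uliftYonedaEquiv_naturality a i).symm.trans (hij.trans ((J S).uliftYonedaEquiv_naturality b j))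

theorem isSurjectiveMor_diagonal_of_injective_etale {X Y : Space S} (f : X ⟶ Y)
    (hft : LocP @LocallyOfFiniteType f.hom)
    (hinj : ∀ (V : Space S) (g : V ⟶ Y), IsEtaleMor g.hom →
      ∀ (P : Sp S) (fst : P ⟶ X.obj) (snd : P ⟶ V.obj), IsPullback fst snd f.hom g.hom →
        Function.Injective (Points.map snd)) :
    IsSurjectiveMor (pullback.diagonal f.hom) := by
  intro w0
  obtain ⟨q, rfl⟩ := Points.mk_surjective w0
  let Ω := AlgebraicClosure q.K
  let sΩ : Spec (CommRingCat.of Ω) ⟶ S := Spec.map (CommRingCat.ofHom (algebraMap q.K Ω)) ≫ q.str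
  let e0 : Over.mk sΩ ⟶ q.pt := Over.homMk (Spec.map (CommRingCat.ofHom (algebraMap q.K Ω))) rfl
  let g := (yon S).map e0 ≫ q.toHom
  let pt : ↥(Spec (CommRingCat.of Ω)) := IsLocalRing.closedPoint Ω
  have hg : Points.ofPt g pt = Points.mk q := by
    rw [ofPt_comp e0 q.toHom pt]; exact Points.ofPt_toHom q _
  let a := g ≫ pullback.fst f.hom f.hom
  let b := g ≫ pullback.snd f.hom f.hom
  have hab : a ≫ f.hom = b ≫ f.hom := by simp only [a, b, Category.assoc, pullback.condition]
  obtain ⟨V, bV, hbV, hbVs⟩ := Y.property.atlas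
  let pV : FieldPt Y.obj := ⟨Ω, sΩ, (J S).uliftYonedaEquiv (a ≫ f.hom)⟩
  obtain ⟨tV, htV⟩ := surjective_ofPt hbVs (Points.mk pV)
  obtain ⟨l, hl, -⟩ := exists_lift_of_etale hbV pV (show IsAlgClosed Ω from inferInstance) tV htV
  have hl' : (yon S).map l ≫ bV = a ≫ f.hom := hl.trans (Equiv.symm_apply_apply _ _)
  let P := pullback f.hom bV
  have hP : IsAlgSpace P := isAlgSpace_pullback f.hom bV X.property (IsAlgSpace.yon_obj V) Y.property
  obtain ⟨U', pU, hpU, hpUs⟩ := hP.atlas
  obtain ⟨π, hπ⟩ := (yon S).map_surjective (pU ≫ pullback.snd f.hom bV)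
  have hfst : RepWith @Etale (pullback.fst f.hom bV) :=
    (repWith_isStableUnderBaseChange (S := S) @Etale).of_isPullback (IsPullback.of_hasPullback f.hom bV).flip hbV
  haveI hπft : LocallyOfFiniteType π.left := hft (pU ≫ pullback.fst f.hom bV) bV π
    ((repWith_isMultiplicative (S := S) @Etale).comp_mem _ _ hpU hfst) hbV
    (by rw [Category.assoc, pullback.condition, ← Category.assoc, hπ])
  -- lifts to the chart
  have liftU : ∀ (c : (yon S).obj (Over.mk sΩ) ⟶ X.obj), c ≫ f.hom = a ≫ f.hom →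
      ∃ α : Over.mk sΩ ⟶ U', α ≫ π = l ∧ (yon S).map α ≫ pU ≫ pullback.fst f.hom bV = c := by
    intro c hc
    let c' := pullback.lift (f := f.hom) (g := bV) c ((yon S).map l) (hc.trans hl'.symm)
    let pP : FieldPt P := ⟨Ω, sΩ, (J S).uliftYonedaEquiv c'⟩
    obtain ⟨tU, htU⟩ := surjective_ofPt hpUs (Points.mk pP)
    obtain ⟨α, hα, -⟩ := exists_lift_of_etale hpU pP (show IsAlgClosed Ω from inferInstance) tU htU
    have hα' : (yon S).map α ≫ pU = c' := hα.trans (Equiv.symm_apply_apply _ _)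
    refine ⟨α, (yon S).map_injective ?_, ?_⟩
    · rw [Functor.map_comp, hπ, ← Category.assoc, hα', pullback.lift_snd]
    · rw [← Category.assoc, hα', pullback.lift_fst]
  obtain ⟨α, hαπ, hαX⟩ := liftU a rfl
  obtain ⟨β, hβπ, hβX⟩ := liftU b hab.symm
  -- finiteness of residue extensions
  have hfin : ∀ u : ↥U'.left, (π.left.residueFieldMap u).hom.Finite := by
    intro u
    obtain ⟨z, hz, hzf⟩ := exists_point_finite_residueFieldMap π.left u
    have hrel : Points.ofPt pU z = Points.ofPt pU u := by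
      apply hinj ⟨(yon S).obj V, IsAlgSpace.yon_obj V⟩ (ObjectProperty.homMk bV)
        (isEtaleMor_of_repWith_etale hbV) P _ _ (IsPullback.of_hasPullback f.hom bV)
      rw [Points.map_ofPt, Points.map_ofPt, ← hπ, ofPt_yon_map, ofPt_yon_map, hz]
    obtain ⟨R, t, s, sq⟩ := exists_isPullback_yon hP.diag pU pU
    haveI : Etale t.left := etale_snd_of_isPullback sq.flip hpU
    obtain ⟨r, hr1, hr2⟩ := exists_pt_of_isPullback' sq z u hrel
    have hts : t.left ≫ π.left = s.left ≫ π.left := by
      have : t ≫ π = s ≫ π := (yon S).map_injective (by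
        rw [Functor.map_comp, Functor.map_comp, hπ, ← Category.assoc, ← Category.assoc, sq.w])
      exact congrArg CommaMorphism.left this
    rw [← hr2]
    exact finite_residueFieldMap_propagate π.left t.left s.left hts r (by rw [hr1]; exact hzf)
  have hαβ : α.left ≫ π.left = β.left ≫ π.left := by
    rw [← Over.comp_left, ← Over.comp_left, hαπ, hβπ]
  obtain ⟨v, L, _, χ, ι, α₀, β₀, hχ, hια, hιβ, hα₀, hβ₀⟩ :=
    exists_finite_factor π.left α.left β.left hαβ (hfin _) (hfin _)
  obtain ⟨V', e, l', he, hl'e, hsep⟩ := exists_etale_separating χ hχ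
  let sL : Spec (CommRingCat.of L) ⟶ S := Spec.map (CommRingCat.ofHom χ) ≫ V.left.fromSpecResidueField v ≫ V.hom
  let V'O : Over S := Over.mk (e ≫ V.hom)
  let eO : V'O ⟶ V := Over.homMk e rfl
  let lO : Over.mk sL ⟶ V'O := Over.homMk l' (by
    show l' ≫ e ≫ V.hom = sL; rw [reassoc_of% hl'e])
  let αO : Over.mk sL ⟶ U' := Over.homMk α₀ (by
    show α₀ ≫ U'.hom = sL; rw [← Over.w π, reassoc_of% hα₀])
  let βO : Over.mk sL ⟶ U' := Over.homMk β₀ (by
    show β₀ ≫ U'.hom = sL; rw [← Over.w π, reassoc_of% hβ₀])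
  have hαO : αO ≫ π = lO ≫ eO := Over.OverMorphism.ext (hα₀.trans hl'e.symm)
  have hβO : βO ≫ π = lO ≫ eO := Over.OverMorphism.ext (hβ₀.trans hl'e.symm)
  haveI : Etale eO.left := he
  have hg' : RepWith @Etale ((yon S).map eO ≫ bV) := repWith_etale_comp eO hbV
  let aL := (yon S).map αO ≫ pU ≫ pullback.fst f.hom bV
  let bL := (yon S).map βO ≫ pU ≫ pullback.fst f.hom bV
  have hcond : ∀ (γ : Over.mk sL ⟶ U'), γ ≫ π = lO ≫ eO →
      ((yon S).map γ ≫ pU ≫ pullback.fst f.hom bV) ≫ f.hom = (yon S).map lO ≫ (yon S).map eO ≫ bV := by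
    intro γ hγ
    rw [← Functor.map_comp_assoc, ← hγ, Functor.map_comp_assoc, hπ]
    simp only [Category.assoc, pullback.condition]
  let a2 := pullback.lift (f := f.hom) (g := (yon S).map eO ≫ bV) aL ((yon S).map lO) (hcond αO hαO)
  let b2 := pullback.lift (f := f.hom) (g := (yon S).map eO ≫ bV) bL ((yon S).map lO) (hcond βO hβO)
  have hrel2 : Points.ofPt a2 (IsLocalRing.closedPoint L : ↥(Over.mk sL).left) =
      Points.ofPt b2 (IsLocalRing.closedPoint L : ↥(Over.mk sL).left) := by
    apply hinj ⟨(yon S).obj V'O, IsAlgSpace.yon_obj V'O⟩ (ObjectProperty.homMk ((yon S).map eO ≫ bV))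
      (isEtaleMor_of_repWith_etale hg') _ _ _ (IsPullback.of_hasPullback f.hom ((yon S).map eO ≫ bV))
    rw [Points.map_ofPt, Points.map_ofPt, pullback.lift_snd, pullback.lift_snd]
  obtain ⟨Ω', _, w', i, j, hij⟩ := exists_common_ext a2 b2 _ _ hrel2
  have hij' : i = j := by
    have h1 := congrArg (· ≫ pullback.snd f.hom ((yon S).map eO ≫ bV)) hij
    simp only [a2, b2, Category.assoc, pullback.lift_snd, ← Functor.map_comp] at h1
    have h2 : i.left ≫ l' = j.left ≫ l' := congrArg CommaMorphism.left ((yon S).map_injective h1)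
    apply Over.OverMorphism.ext
    have hi : Spec.map (Spec.preimage i.left) = i.left := Spec.map_preimage _
    have hj : Spec.map (Spec.preimage j.left) = j.left := Spec.map_preimage _
    rw [← hi, ← hj] at h2 ⊢
    exact congrArg Spec.map (CommRingCat.hom_ext (hsep Ω' _ _ h2))
  subst hij'
  have heq : (yon S).map i ≫ aL = (yon S).map i ≫ bL := by
    have h1 := congrArg (· ≫ pullback.fst f.hom ((yon S).map eO ≫ bV)) hij
    simpa only [a2, b2, Category.assoc, pullback.lift_fst] using h1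
  let gL := pullback.lift (f := f.hom) (g := f.hom) aL bL ((hcond αO hαO).trans (hcond βO hβO).symm)
  let ιO : Over.mk sΩ ⟶ Over.mk sL := Over.homMk (Spec.map (CommRingCat.ofHom ι)) (by
    show Spec.map (CommRingCat.ofHom ι) ≫ sL = sΩ
    have hw : α.left ≫ U'.hom = sΩ := Over.w α
    rw [← hw, ← hια, Category.assoc, ← Over.w π, reassoc_of% hα₀])
  have hιA : ιO ≫ αO = α := Over.OverMorphism.ext hια
  have hιB : ιO ≫ βO = β := Over.OverMorphism.ext hιβ
  have hgL : (yon S).map ιO ≫ gL = g := by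
    apply pullback.hom_ext
    · rw [Category.assoc, pullback.lift_fst, ← Functor.map_comp_assoc, hιA, hαX]
    · rw [Category.assoc, pullback.lift_snd, ← Functor.map_comp_assoc, hιB, hβX]
  let pt' : ↥(Over.mk w').left := (IsLocalRing.closedPoint Ω' :)
  refine ⟨Points.ofPt ((yon S).map i ≫ aL) pt', ?_⟩
  have hd : ((yon S).map i ≫ aL) ≫ pullback.diagonal f.hom = (yon S).map i ≫ gL := by
    apply pullback.hom_ext
    · simp [gL]
    · simp only [Category.assoc, pullback.diagonal_snd, Category.comp_id, gL, pullback.lift_snd, heq]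
  rw [Points.map_ofPt, hd, ← hg, ← hgL, ofPt_comp i gL pt', ofPt_comp ιO gL pt]
  congr 1
  exact @Subsingleton.elim ↥(Spec (CommRingCat.of L)) (inferInstanceAs (Subsingleton (PrimeSpectrum L))) _ _

end Groth.Agent.SpFP87
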