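import Groth.Agent.FlatMor67.FibreCrit
import Groth.Agent.SpFP87.LocP
import Groth.Agent.SpFP87.EtLocInst
import Groth.Agent.SpFP87.Basic
import Groth.Agent.SpPts86.EtaleMor
import Groth.Agent.SpPts86.Basic

/-!
Chart diagrams for a composable pair of morphisms, with the induced maps of fibres.
-/

set_option autoImplicit false
set_option linter.style.haveILetI false
set_option backward.isDefEq.respectTransparency false
universe u

open CategoryTheory CategoryTheory.Limits AlgebraicGeometry Opposite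
open AlgSp

namespace Groth.Agent.SpFP87

variable {S : Scheme.{u}} {X Y Z : Sp S}

/-- Flatness on all fibres over field-valued points of the base. -/
def FibresFlat (f : X ⟶ Y) (h : Y ⟶ Z) : Prop :=
  ∀ (K : Type u) [Field K] (sK : Spec (CommRingCat.of K) ⟶ S)
    (z : (yon S).obj (Over.mk sK) ⟶ Z) (Xz Yz : Sp S)
    (pX : Xz ⟶ X) (qX : Xz ⟶ (yon S).obj (Over.mk sK))
    (pY : Yz ⟶ Y) (qY : Yz ⟶ (yon S).obj (Over.mk sK)) (fz : Xz ⟶ Yz),
    IsPullback pX qX (f ≫ h) z → IsPullback pY qY h z → fz ≫ pY = pX ≫ f → fz ≫ qY = qX →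
    LocP @Flat fz

theorem flat_snd_of_isPullback {U' W Wz Uz : Scheme.{u}} {f : U' ⟶ W} {C : Scheme.{u}} {g : W ⟶ C} {s : C}
    {uz : Uz ⟶ U'} {kz : Uz ⟶ Wz} {wz : Wz ⟶ W} {qz : Wz ⟶ Spec (C.residueField s)}
    (hW : IsPullback wz qz g (C.fromSpecResidueField s)) (hU : IsPullback uz kz f wz) (hk : Flat kz) :
    Flat (pullback.snd f (g.fiberι s)) := by
  let e : Wz ≅ g.fiber s := hW.isoPullback
  have h1 : e.hom ≫ g.fiberι s = wz := hW.isoPullback_hom_fst
  have h2 : IsPullback uz (kz ≫ e.hom) f (g.fiberι s) :=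
    hU.of_iso (Iso.refl _) (Iso.refl _) e (Iso.refl _) (by simp) (by simp) (by simp) (by simpa using h1.symm)
  rw [← h2.isoPullback_inv_snd]
  infer_instance

/-- A compatible system of charts whose fibre maps are flat. -/
theorem exists_fibre_diagram (f : X ⟶ Y) (h : Y ⟶ Z) (hX : IsAlgSpace X) (hY : IsAlgSpace Y) (hZ : IsAlgSpace Z)
    (hfib : FibresFlat f h) :
    ∃ (U W C : Over S) (a : (yon S).obj U ⟶ X) (b : (yon S).obj W ⟶ Y) (c : (yon S).obj C ⟶ Z)
      (f' : U ⟶ W) (g' : W ⟶ C),
      RepWith @Etale a ∧ RepWith @Surjective a ∧ RepWith @Etale b ∧ RepWith @Surjective b ∧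
      RepWith @Etale c ∧ a ≫ f = (yon S).map f' ≫ b ∧ b ≫ h = (yon S).map g' ≫ c ∧
      (IsSurjectiveMor f → Surjective f'.left) ∧
      ∀ s : ↥C.left, Flat (pullback.snd f'.left (g'.left.fiberι s)) := by
  obtain ⟨C, c, hc, hcs⟩ := hZ.atlas
  obtain ⟨V, b, hb, hbs⟩ := hY.atlas
  have hQ : IsAlgSpace (Limits.pullback f b) := isAlgSpace_pullback f b hX (IsAlgSpace.yon_obj V) hY
  obtain ⟨U, aQ, haQ, haQs⟩ := hQ.atlas
  obtain ⟨h0, hh0⟩ := (yon S).map_surjective (aQ ≫ pullback.snd f b)
  let a := aQ ≫ pullback.fst f b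
  have ha : RepWith @Etale a := (repWith_isMultiplicative (S := S) @Etale).comp_mem _ _ haQ
    ((repWith_isStableUnderBaseChange (S := S) @Etale).of_isPullback (IsPullback.of_hasPullback f b).flip hb)
  have has : RepWith @Surjective a := (repWith_isMultiplicative (S := S) @Surjective).comp_mem _ _ haQs
    ((repWith_isStableUnderBaseChange (S := S) @Surjective).of_isPullback (IsPullback.of_hasPullback f b).flip hbs)
  have wa : a ≫ f = (yon S).map h0 ≫ b := by simp only [a, Category.assoc, pullback.condition, reassoc_of% hh0]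
  obtain ⟨W, fW, gW, sqW⟩ := exists_isPullback_yon hZ.diag (b ≫ h) c
  obtain ⟨U', fU, gU, sqU⟩ := exists_isPullback_yon hZ.diag ((yon S).map h0 ≫ b ≫ h) c
  obtain ⟨f', hf'⟩ := (yon S).map_surjective
    (sqW.lift ((yon S).map (fU ≫ h0)) ((yon S).map gU) (by rw [Functor.map_comp, Category.assoc]; exact sqU.w))
  have hf'1 : f' ≫ fW = fU ≫ h0 := (yon S).map_injective (by rw [Functor.map_comp, hf', sqW.lift_fst])
  have hf'2 : f' ≫ gW = gU := (yon S).map_injective (by rw [Functor.map_comp, hf', sqW.lift_snd])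
  haveI hfWe : Etale fW.left := etale_snd_of_isPullback sqW.flip hc
  haveI hfWs : Surjective fW.left := hcs.2 (b ≫ h) _ _ sqW.flip
  haveI hfUe : Etale fU.left := etale_snd_of_isPullback sqU.flip hc
  haveI hfUs : Surjective fU.left := hcs.2 ((yon S).map h0 ≫ b ≫ h) _ _ sqU.flip
  have hWb : RepWith @Etale ((yon S).map fW ≫ b) := Groth.Agent.SpPts86.repWith_etale_comp fW hb
  have hWbs : RepWith @Surjective ((yon S).map fW ≫ b) :=
    (repWith_isMultiplicative (S := S) @Surjective).comp_mem _ _ ((repWith_yon_map_iff _ _).2 hfWs) hbs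
  have hUa : RepWith @Etale ((yon S).map fU ≫ a) := Groth.Agent.SpPts86.repWith_etale_comp fU ha
  have hUas : RepWith @Surjective ((yon S).map fU ≫ a) :=
    (repWith_isMultiplicative (S := S) @Surjective).comp_mem _ _ ((repWith_yon_map_iff _ _).2 hfUs) has
  have sqP : IsPullback ((yon S).map fU) ((yon S).map f') ((yon S).map h0) ((yon S).map fW) := by
    have ho : IsPullback ((yon S).map fU) ((yon S).map f' ≫ (yon S).map gW) ((yon S).map h0 ≫ b ≫ h) c := by
      rw [← Functor.map_comp, hf'2]; exact sqU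
    exact IsPullback.of_bot ho (by rw [← Functor.map_comp, ← Functor.map_comp, hf'1]) sqW
  refine ⟨U', W, C, (yon S).map fU ≫ a, (yon S).map fW ≫ b, c, f', gW, hUa, hUas, hWb, hWbs, hc, ?_, ?_, ?_, ?_⟩
  · rw [Category.assoc, wa, ← Functor.map_comp_assoc, ← hf'1, Functor.map_comp_assoc]
  · rw [Category.assoc]; exact sqW.w
  · intro hs
    haveI : Surjective h0.left := ⟨fun v => by
      obtain ⟨x, hx⟩ := hs (Points.ofPt b v)
      obtain ⟨z, -, hz⟩ := Groth.Agent.SpPts86.exists_of_isPullback (IsPullback.of_hasPullback f b) x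
        (Points.ofScheme V v) (by rw [hx, Points.map_ofPt, Category.id_comp])
      obtain ⟨u, rfl⟩ := Groth.Agent.SpPts86.surjective_ofPt haQs z
      refine ⟨u, ?_⟩
      rw [Points.map_ofPt, ← hh0, Groth.Agent.SpPts86.ofPt_yon_map] at hz
      exact (Points.schemeHomeo V).injective hz⟩
    exact MorphismProperty.of_isPullback (P := @Surjective) (isPullback_left sqP) ‹Surjective h0.left›
  · intro s
    let K : Over S := Over.mk (C.left.fromSpecResidueField s ≫ C.hom)
    let ζ₀ : K ⟶ C := Over.homMk (C.left.fromSpecResidueField s) rfl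
    let ζ := (yon S).map ζ₀ ≫ c
    obtain ⟨Wz, fV, qz, sqV⟩ := exists_isPullback_yon hZ.diag (b ≫ h) ζ
    obtain ⟨Uz, fUz, qU, sqUz⟩ := exists_isPullback_yon hZ.diag ((yon S).map h0 ≫ b ≫ h) ζ
    obtain ⟨wz, hwz⟩ := (yon S).map_surjective
      (sqW.lift ((yon S).map fV) ((yon S).map (qz ≫ ζ₀)) (by rw [Functor.map_comp, Category.assoc]; exact sqV.w))
    obtain ⟨uz, huz⟩ := (yon S).map_surjective
      (sqU.lift ((yon S).map fUz) ((yon S).map (qU ≫ ζ₀)) (by rw [Functor.map_comp, Category.assoc]; exact sqUz.w))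
    have sqWz : IsPullback ((yon S).map wz) ((yon S).map qz) ((yon S).map gW) ((yon S).map ζ₀) := by
      have ho : IsPullback ((yon S).map wz ≫ (yon S).map fW) ((yon S).map qz) (b ≫ h) ((yon S).map ζ₀ ≫ c) := by
        rw [hwz, sqW.lift_fst]; exact sqV
      exact IsPullback.of_right ho (by rw [hwz, sqW.lift_snd, Functor.map_comp]) sqW
    have sqUz' : IsPullback ((yon S).map uz) ((yon S).map qU) ((yon S).map gU) ((yon S).map ζ₀) := by
      have ho : IsPullback ((yon S).map uz ≫ (yon S).map fU) ((yon S).map qU) ((yon S).map h0 ≫ b ≫ h)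
          ((yon S).map ζ₀ ≫ c) := by
        rw [huz, sqU.lift_fst]; exact sqUz
      exact IsPullback.of_right ho (by rw [huz, sqU.lift_snd, Functor.map_comp]) sqU
    obtain ⟨kz, hkz⟩ := (yon S).map_surjective
      (sqV.lift ((yon S).map (fUz ≫ h0)) ((yon S).map qU) (by rw [Functor.map_comp, Category.assoc]; exact sqUz.w))
    have hkz1 : (yon S).map kz ≫ (yon S).map fV = (yon S).map fUz ≫ (yon S).map h0 := by
      rw [hkz, sqV.lift_fst, Functor.map_comp]
    have hkz2 : (yon S).map kz ≫ (yon S).map qz = (yon S).map qU := by rw [hkz, sqV.lift_snd]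
    have hcomm : (yon S).map uz ≫ (yon S).map f' = (yon S).map kz ≫ (yon S).map wz := by
      apply sqW.hom_ext
      · rw [Category.assoc, Category.assoc, hf', sqW.lift_fst, hwz, sqW.lift_fst, hkz1, huz,
          (yon S).map_comp fU h0, ← Category.assoc, sqU.lift_fst]
      · rw [Category.assoc, Category.assoc, hf', sqW.lift_snd, hwz, sqW.lift_snd, huz, sqU.lift_snd,
          Functor.map_comp, Functor.map_comp, ← Category.assoc ((yon S).map kz), hkz2]
    have sqk : IsPullback ((yon S).map uz) ((yon S).map kz) ((yon S).map f') ((yon S).map wz) := by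
      have ho : IsPullback ((yon S).map uz) ((yon S).map kz ≫ (yon S).map qz)
          ((yon S).map f' ≫ (yon S).map gW) ((yon S).map ζ₀) := by
        rw [hkz2, ← Functor.map_comp, hf'2]; exact sqUz'
      exact IsPullback.of_bot ho hcomm sqWz
    let βz : (yon S).obj Wz ⟶ Limits.pullback h ζ :=
      pullback.lift ((yon S).map fV ≫ b) ((yon S).map qz) (by rw [Category.assoc]; exact sqV.w)
    let αz : (yon S).obj Uz ⟶ Limits.pullback (f ≫ h) ζ :=
      pullback.lift ((yon S).map fUz ≫ a) ((yon S).map qU) (by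
        rw [Category.assoc, reassoc_of% wa]; exact sqUz.w)
    let fz : Limits.pullback (f ≫ h) ζ ⟶ Limits.pullback h ζ :=
      pullback.lift (pullback.fst _ _ ≫ f) (pullback.snd _ _) (by rw [Category.assoc]; exact pullback.condition)
    have hβ : RepWith @Etale βz :=
      (repWith_isStableUnderBaseChange (S := S) @Etale).of_isPullback
        (IsPullback.of_bot (show IsPullback ((yon S).map fV) (βz ≫ pullback.snd h ζ) (b ≫ h) ζ by
            rw [pullback.lift_snd]; exact sqV)
          (pullback.lift_fst _ _ _).symm (IsPullback.of_hasPullback h ζ)) hb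
    have hα : RepWith @Etale αz :=
      (repWith_isStableUnderBaseChange (S := S) @Etale).of_isPullback
        (IsPullback.of_bot (show IsPullback ((yon S).map fUz) (αz ≫ pullback.snd (f ≫ h) ζ) (a ≫ f ≫ h) ζ by
            rw [pullback.lift_snd, reassoc_of% wa]; exact sqUz)
          (pullback.lift_fst _ _ _).symm (IsPullback.of_hasPullback (f ≫ h) ζ)) ha
    have hflat : LocP @Flat fz := hfib _ _ ζ _ _ _ _ _ _ fz (IsPullback.of_hasPullback _ _)
      (IsPullback.of_hasPullback _ _) (pullback.lift_fst _ _ _) (pullback.lift_snd _ _ _)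
    have hk : Flat kz.left := hflat αz βz kz hα hβ (by
      apply pullback.hom_ext
      · simp only [αz, βz, fz, Category.assoc, pullback.lift_fst, pullback.lift_fst_assoc, wa]
        rw [← Category.assoc ((yon S).map kz), hkz1, Category.assoc]
      · simp only [αz, βz, fz, Category.assoc, pullback.lift_snd, hkz2])
    exact flat_snd_of_isPullback (isPullback_left sqWz) (isPullback_left sqk) hk

end Groth.Agent.SpFP87
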