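import Groth.Agent.SpFP87.PureFlat
import Groth.Agent.SpFP87.FlatMono
/-!
A quasi-compact monomorphism which is universally injective on sections is an isomorphism.
-/

set_option autoImplicit false
set_option linter.style.haveILetI false
set_option backward.isDefEq.respectTransparency false
universe u
open CategoryTheory CategoryTheory.Limits AlgebraicGeometry TensorProduct
open AlgSp
open Groth.Agent.SpPts86

namespace Groth.Agent.SpFP87

variable {S : Scheme.{u}} {X Y : Sp S}

/-- Universal injectivity on global sections of a morphism of sheaves. -/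
def SecInj (f : X ⟶ Y) : Prop :=
  ∀ (T : Over S) (g : (yon S).obj T ⟶ Y) (P : Sp S) (fst : P ⟶ X) (snd : P ⟶ (yon S).obj T),
    IsPullback fst snd f g → ∀ s : Γ(T.left, ⊤),
      (∀ (W : Over S) (a : (yon S).obj W ⟶ P) (c : W ⟶ T), a ≫ snd = (yon S).map c → c.left.appTop s = 0) → s = 0

theorem exists_lift_affine_of_secInj (f : X ⟶ Y) [Mono f] (hX : IsAlgSpace X) (hY : IsAlgSpace Y)
    (hqc : IsQuasiCompactMor f) (hinj : SecInj f) {A : CommRingCat.{u}} (q : Spec A ⟶ S)
    (g : (yon S).obj (Over.mk q) ⟶ Y) : ∃ l : (yon S).obj (Over.mk q) ⟶ X, l ≫ f = g := by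
  let T : Over S := Over.mk q
  have sq : IsPullback (pullback.fst f g) (pullback.snd f g) f g := IsPullback.of_hasPullback f g
  have hP : IsAlgSpace (pullback f g) := isAlgSpace_of_isPullback sq hX (IsAlgSpace.yon_obj T) hY.diag
  let m := pullback.snd f g
  haveI : Mono m := inferInstance
  haveI : CompactSpace (Points ((yon S).obj T)) :=
    haveI : CompactSpace T.left := inferInstanceAs (CompactSpace (Spec A))
    (Points.schemeHomeo T).compactSpace
  haveI := compactSpace_points_of_isQuasiCompactSp
    (hqc (IsAlgSpace.yon_obj T) (isQuasiCompactSp_of_compactSpace (IsAlgSpace.yon_obj T)) g _ _ sq)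
  obtain ⟨U₀, a₀, hU₀, ha₀, ha₀s⟩ := exists_affine_chart_of_compactSpace hP
  haveI := hU₀
  let C : CommRingCat.{u} := Γ(U₀.left, ⊤)
  let U : Over S := Over.mk (U₀.left.isoSpec.inv ≫ U₀.hom)
  let e : U ≅ U₀ := Over.isoMk U₀.left.isoSpec.symm rfl
  haveI : IsIso e.hom.left := inferInstanceAs (IsIso ((Over.forget S).map e.hom))
  let a : (yon S).obj U ⟶ pullback f g := (yon S).map e.hom ≫ a₀
  have ha : RepWith @Etale a := repWith_etale_comp e.hom ha₀
  have hasurj : RepWith @Surjective a :=
    MorphismProperty.comp_mem (W := RepWith (@Surjective : MorphismProperty Scheme.{u})) _ _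
      ((repWith_yon_map_iff _ _).2 inferInstance) ha₀s
  obtain ⟨s, hs⟩ := (yon S).map_surjective (a ≫ m)
  obtain ⟨φs, hφs⟩ := Spec.map_surjective (s.left : Spec C ⟶ Spec A)
  algebraize [φs.hom]
  have hsleft : s.left = Spec.map (CommRingCat.ofHom (algebraMap A C)) := hφs.symm
  haveI : Algebra.Etale C (C ⊗[A] C) := by
    obtain ⟨qR, p, r, hp, -, sqs⟩ := isPullback_over_spec (A := A) (B := C) (C := C) (qA := q)
      (qB := U.hom) (qC := U.hom) s s hsleft hsleft
    rw [hs] at sqs
    have sqa : IsPullback ((yon S).map r) ((yon S).map p) a a :=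
      ⟨⟨(cancel_mono m).1 (by rw [Category.assoc, Category.assoc]; exact sqs.flip.w)⟩, ⟨PullbackCone.IsLimit.mk _
        (fun c => sqs.flip.lift c.fst c.snd (by rw [← Category.assoc, c.condition, Category.assoc]))
        (fun c => sqs.flip.lift_fst _ _ _) (fun c => sqs.flip.lift_snd _ _ _)
        (fun c m' h1 h2 => sqs.flip.hom_ext (h1.trans (sqs.flip.lift_fst _ _ _).symm)
          (h2.trans (sqs.flip.lift_snd _ _ _).symm))⟩⟩
    have h1 : Etale p.left := ha.property a _ _ sqa
    rw [hp] at h1
    have h2 : Etale (Spec.map (CommRingCat.ofHom (algebraMap C (C ⊗[A] C)))) := h1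
    rw [HasRingHomProperty.Spec_iff (P := @Etale)] at h2
    exact RingHom.etale_algebraMap.1 h2
  have hpure : ∀ (N : Type u) [AddCommGroup N] [Module A N] (n : N),
      (1 : C) ⊗ₜ[A] n = 0 → n = 0 := by
    intro N _ _ n hn
    letI : Module (↑A)ᵐᵒᵖ N := Module.compHom N ((RingHom.id A).fromOpposite mul_comm)
    haveI : IsCentralScalar A N := ⟨fun _ _ => rfl⟩
    let A' := TrivSqZeroExt A N
    let T' : Over S := Over.mk (Spec.map (CommRingCat.ofHom (algebraMap A A')) ≫ q)
    let t : T' ⟶ T := Over.homMk (Spec.map (CommRingCat.ofHom (algebraMap A A'))) rfl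
    let D : Over S := Over.mk (Spec.map (CommRingCat.ofHom (algebraMap A (Polynomial A))) ≫ q)
    let ψ : A' → (Polynomial A →ₐ[A] A') := fun x => Polynomial.aeval x
    let γ : A' → (T' ⟶ D) := fun x => Over.homMk (Spec.map (CommRingCat.ofHom (ψ x).toRingHom)) (by
      show Spec.map _ ≫ Spec.map _ ≫ q = Spec.map _ ≫ q
      rw [← Category.assoc, ← Spec.map_comp, ← CommRingCat.ofHom_comp]
      exact congrArg (fun h : A →+* A' => Spec.map (CommRingCat.ofHom h) ≫ q) (ψ x).comp_algebraMap)
    let σ : Γ(T'.left, ⊤) := (Scheme.ΓSpecIso (CommRingCat.of A')).inv.hom (TrivSqZeroExt.inr n)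
    have hσ : σ = 0 := by
      refine hinj T' ((yon S).map t ≫ g) _ _ _ (IsPullback.of_hasPullback _ _) σ fun W aW c hc => ?_
      let aP : (yon S).obj W ⟶ pullback f g := sq.lift (aW ≫ pullback.fst _ _) ((yon S).map (c ≫ t)) (by
        rw [Category.assoc, pullback.condition, ← Category.assoc, hc, Functor.map_comp, Category.assoc])
      let W' : Over S := ha.rep.pullback aP
      let c' : W' ⟶ W := ha.rep.snd aP
      let l : (yon S).obj W' ⟶ (yon S).obj U := ha.rep.fst aP
      obtain ⟨l', hl'⟩ := (yon S).map_surjective l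
      have hcover : fppfSurj c'.left :=
        etale_surjective_le_fppfSurj _ ⟨ha.property_snd aP, hasurj.property _ _ _ (ha.rep.isPullback aP)⟩
      have hw : l' ≫ s = (c' ≫ c) ≫ t := by
        apply (yon S).map_injective
        rw [Functor.map_comp, hs, hl', ← Category.assoc]
        show (ha.rep.fst aP ≫ a) ≫ m = _
        rw [(ha.rep.isPullback aP).w, Category.assoc, sq.lift_snd]
        simp [c', Category.assoc]
      obtain ⟨qR, p, r, hp, hr, sqR⟩ := isPullback_over_spec (A := A) (B := C) (C := A') (qA := q)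
        (qB := U.hom) (qC := T'.hom) s t hsleft rfl
      let k : (yon S).obj W' ⟶ (yon S).obj (Over.mk qR) :=
        sqR.lift ((yon S).map l') ((yon S).map (c' ≫ c)) (by rw [← Functor.map_comp, ← Functor.map_comp, hw])
      obtain ⟨k', hk'⟩ := (yon S).map_surjective k
      have hkr : k' ≫ r = c' ≫ c := (yon S).map_injective (by rw [Functor.map_comp, hk', sqR.lift_snd])
      have hagree : r ≫ γ (TrivSqZeroExt.inr n) = r ≫ γ 0 := by
        refine Over.OverMorphism.ext ?_
        show r.left ≫ Spec.map _ = r.left ≫ Spec.map _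
        rw [hr, ← Spec.map_comp, ← Spec.map_comp, ← CommRingCat.ofHom_comp, ← CommRingCat.ofHom_comp]
        congr 2
        refine congrArg AlgHom.toRingHom (Polynomial.algHom_ext ?_ :
          (Algebra.TensorProduct.includeRight : A' →ₐ[A] C ⊗[A] A').comp (ψ (TrivSqZeroExt.inr n)) =
          (Algebra.TensorProduct.includeRight : A' →ₐ[A] C ⊗[A] A').comp (ψ 0))
        have := congrArg (LinearMap.lTensor C ((TrivSqZeroExt.inrHom A N).restrictScalars A)) hn
        simpa [ψ] using this
      have hc' : c ≫ γ (TrivSqZeroExt.inr n) = c ≫ γ 0 := by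
        apply (yon S).map_injective
        refine cover_hom_ext c' hcover ?_
        rw [← Functor.map_comp, ← Functor.map_comp, ← Category.assoc, ← Category.assoc, ← hkr,
          Category.assoc, Category.assoc, hagree]
      have hx : ∀ x : A', (Spec.map (CommRingCat.ofHom (ψ x).toRingHom)).appTop
          ((Scheme.ΓSpecIso (CommRingCat.of (Polynomial A))).inv.hom Polynomial.X) =
          (Scheme.ΓSpecIso (CommRingCat.of A')).inv.hom x := fun x => by
        have := ConcreteCategory.congr_hom
          (Scheme.ΓSpecIso_inv_naturality (CommRingCat.ofHom (ψ x).toRingHom)) Polynomial.X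
        refine this.symm.trans ?_
        show (Scheme.ΓSpecIso (CommRingCat.of A')).inv.hom (ψ x Polynomial.X) = _
        exact congrArg _ (Polynomial.aeval_X x)
      have h2 := congrArg (fun h : W.left ⟶ D.left =>
        h.appTop ((Scheme.ΓSpecIso (CommRingCat.of (Polynomial A))).inv.hom Polynomial.X))
        (congrArg CommaMorphism.left hc')
      simp only [Over.comp_left, γ, Over.homMk_left, Scheme.Hom.comp_appTop, CommRingCat.comp_apply] at h2
      have h3 := ((congrArg (fun y => c.left.appTop y) (hx (TrivSqZeroExt.inr n))).symm.trans h2).trans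
        (congrArg (fun y => c.left.appTop y) (hx 0))
      simpa [σ] using h3
    have h0 := congrArg (Scheme.ΓSpecIso (CommRingCat.of A')).hom.hom hσ
    simp [σ] at h0
    simpa using congrArg TrivSqZeroExt.snd h0
  haveI : Module.Flat C (C ⊗[A] C) := inferInstance
  haveI : Module.Flat A C := flat_of_pure_of_flat_baseChange A C C hpure
  haveI : Module.FaithfullyFlat A C := faithfullyFlat_of_pure_of_flat A C hpure
  haveI : Algebra.Etale A C := Algebra.Etale.of_etale_tensorProduct_of_faithfullyFlat C
  have hcov : fppfSurj s.left := by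
    rw [hsleft]
    refine etale_surjective_le_fppfSurj _ ⟨?_, ⟨PrimeSpectrum.comap_surjective_of_faithfullyFlat⟩⟩
    exact (HasRingHomProperty.Spec_iff (P := @Etale)).2 (RingHom.etale_algebraMap.2 inferInstance)
  have hl : (a ≫ pullback.fst f g) ≫ f = (yon S).map s ≫ g := by
    rw [Category.assoc, pullback.condition, ← Category.assoc, ← hs]
  obtain ⟨l, hl₁, -⟩ := cover_existsUnique_desc s hcov (a ≫ pullback.fst f g) (fun Z p₁ p₂ hp => by
    rw [← cancel_mono f, Category.assoc ((yon S).map p₁), Category.assoc ((yon S).map p₂), hl,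
      ← Functor.map_comp_assoc, ← Functor.map_comp_assoc, hp])
  exact ⟨l, cover_hom_ext s hcov (by rw [← Category.assoc, hl₁, hl])⟩

theorem isIso_of_secInj (f : X ⟶ Y) [Mono f] (hX : IsAlgSpace X) (hY : IsAlgSpace Y)
    (hqc : IsQuasiCompactMor f) (hinj : SecInj f) : IsIso f := by
  refine isIso_of_probe f fun T g => ?_
  let B : T.left → T.left.Opens := fun x => (exists_isAffineOpen_mem_and_subset (x := x) (U := ⊤) trivial).choose
  have hB : ∀ x, IsAffineOpen (B x) ∧ x ∈ B x := fun x =>
    ⟨(exists_isAffineOpen_mem_and_subset (x := x) (U := ⊤) trivial).choose_spec.1,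
      (exists_isAffineOpen_mem_and_subset (x := x) (U := ⊤) trivial).choose_spec.2.1⟩
  let V : T.left → Over S := fun x => Over.mk ((hB x).1.fromSpec ≫ T.hom)
  let c : ∀ x, V x ⟶ T := fun x => Over.homMk (hB x).1.fromSpec rfl
  choose l hl using fun x => exists_lift_affine_of_secInj f hX hY hqc hinj ((hB x).1.fromSpec ≫ T.hom)
    ((yon S).map (c x) ≫ g)
  obtain ⟨a, ha⟩ := open_cover_glue V c (fun x => inferInstanceAs (IsOpenImmersion (hB x).1.fromSpec))
    (fun t => ⟨t, by show t ∈ Set.range (hB t).1.fromSpec; rw [(hB t).1.range_fromSpec]; exact (hB t).2⟩)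
    l (fun i j Z p q hpq => by
      rw [← cancel_mono f, Category.assoc, Category.assoc, hl, hl, ← Functor.map_comp_assoc,
        ← Functor.map_comp_assoc, hpq])
  have haf : a ≫ f = g := open_cover_hom_ext V c
    (fun x => inferInstanceAs (IsOpenImmersion (hB x).1.fromSpec))
    (fun t => ⟨t, by show t ∈ Set.range (hB t).1.fromSpec; rw [(hB t).1.range_fromSpec]; exact (hB t).2⟩)
    (fun i => by rw [← Category.assoc, ha, hl])
  exact ⟨a, haf, fun b hb => (cancel_mono f).1 (hb.trans haf.symm)⟩

end Groth.Agent.SpFP87
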