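import Groth.Agent.SpFP87.SmallLift
/-!
Pointwise lifting criterion for smoothness of morphisms of algebraic spaces.
-/

set_option autoImplicit false
set_option linter.style.haveILetI false
set_option backward.isDefEq.respectTransparency false
universe u
open CategoryTheory CategoryTheory.Limits AlgebraicGeometry
open AlgSp
open Groth.Agent.SpPts86

namespace Groth.Agent.SpFP87

attribute [local instance 50] specializationOrder

variable {S : Scheme.{u}} {X Y : Sp S}

theorem hasLift_local_of_smoothAt (f : X ⟶ Y) (hX : IsAlgSpace X) (hY : IsAlgSpace Y) (x : Points X)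
    (h : HasAtMor (fun U _ h u => ∃ W : U.Opens, u ∈ W ∧ Smooth (W.ι ≫ h)) f x)
    {B' B : Type u} [CommRing B'] [CommRing B] [IsLocalRing B] (π : B' →+* B) (hπ : Function.Surjective π)
    (h2 : RingHom.ker π ^ 2 = ⊥) (s : Spec (CommRingCat.of B') ⟶ S)
    (α : (yon S).obj (Over.mk (Spec.map (CommRingCat.ofHom π) ≫ s)) ⟶ X)
    (β : (yon S).obj (Over.mk s) ⟶ Y) (hα : Points.ofPt α (IsLocalRing.closedPoint B) = x)
    (w : α ≫ f = (yon S).map (specChg π s) ≫ β) :
    ∃ γ : (yon S).obj (Over.mk s) ⟶ X, (yon S).map (specChg π s) ≫ γ = α ∧ γ ≫ f = β := by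
  obtain ⟨U, V, a, b, k, u, ha, hb, wk, hu, W, huW, hsm⟩ := h
  let Wo : Over S := openOver U W
  let ι : Wo ⟶ U := openIncl U W
  haveI : Etale ι.left := inferInstanceAs (Etale W.ι)
  let aW : (yon S).obj Wo ⟶ X := (yon S).map ι ≫ a
  have haW : RepWith @Etale aW := repWith_etale_comp ι ha
  have hO : IsOpen (Set.range (Points.ofPt aW)) := (isOpenMap_ofPt haW).isOpen_range
  let X₀ := restrictSheaf X (Set.range (Points.ofPt aW))
  let j : X₀ ⟶ X := restrictι X _
  have hX₀ : IsAlgSpace X₀ := isAlgSpace_restrictSheaf hX hO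
  haveI : Mono j := mono_restrictι
  obtain ⟨a₀, ha₀'⟩ := exists_restrict_lift (W := Set.range (Points.ofPt aW)) aW subset_rfl
  change (yon S).obj Wo ⟶ X₀ at a₀
  change a₀ ≫ j = aW at ha₀'
  have sqa : IsPullback (𝟙 _) a₀ aW j := by
    refine ⟨⟨by rw [Category.id_comp, ha₀']⟩, ⟨PullbackCone.IsLimit.mk _ (fun c => c.fst)
      (fun c => Category.comp_id _) (fun c => ?_) (fun c m h1 _ => (Category.comp_id m).symm.trans h1)⟩⟩
    rw [← cancel_mono j, Category.assoc, ha₀']
    exact c.condition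
  have ha₀ : RepWith @Etale a₀ := (repWith_isStableUnderBaseChange _).of_isPullback sqa haW
  have ha₀s : RepWith @Surjective a₀ := repWith_surjective_of_surjective_ofPt ha₀.rep fun y => by
    obtain ⟨v, hv⟩ : Points.map j y ∈ Set.range (Points.ofPt aW) := (range_map_restrictι hO).le ⟨y, rfl⟩
    exact ⟨v, injective_map_of_mono j (by rw [Points.map_ofPt, ha₀', hv])⟩
  have hsm₀ : LocP @Smooth (j ≫ f) := by
    refine locP_of_chart (h := ι ≫ k) hX₀.diag hY.diag ha₀ ha₀s hb ?_ hsm
    rw [← Category.assoc, ha₀', Category.assoc, wk, Functor.map_comp, Category.assoc]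
  -- the whole local scheme maps into the open
  have hrange : Set.range (Points.ofPt α) ⊆ Set.range (Points.ofPt aW) := by
    rintro - ⟨p, rfl⟩
    have hsp : p ⤳ (IsLocalRing.closedPoint B : PrimeSpectrum B) :=
      IsLocalRing.specializes_closedPoint p
    refine (hsp.map (Points.continuous_ofPt α)).mem_open hO ?_
    rw [hα, ← hu]
    obtain ⟨w', hw'⟩ : u ∈ Set.range ι.left := by
      show u ∈ Set.range W.ι
      rw [Scheme.Opens.range_ι]; exact huW
    exact ⟨w', by rw [ofPt_comp, hw']⟩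
  obtain ⟨α₀, hα₀⟩ := exists_restrict_lift (W := Set.range (Points.ofPt aW)) α hrange
  change (yon S).obj (Over.mk (Spec.map (CommRingCat.ofHom π) ≫ s)) ⟶ X₀ at α₀
  change α₀ ≫ j = α at hα₀
  obtain ⟨l, hl1, hl2⟩ := exists_lift_of_formallySmooth (isFormallySmoothMor_of_smooth (j ≫ f) hX₀ hY hsm₀)
    π hπ h2 s α₀ β (by rw [← Category.assoc, hα₀, w])
  exact ⟨l ≫ j, by rw [← Category.assoc, hl1, hα₀], by rw [Category.assoc, hl2]⟩

/-- The small-extension lifting property at a point. -/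
def LiftsSmallAt (f : X ⟶ Y) (x : Points X) : Prop :=
  ∀ (B' B : Type u) [CommRing B'] [CommRing B] [IsLocalRing B'] [IsLocalRing B]
    [IsArtinianRing B'] [IsArtinianRing B] (π : B' →+* B), Function.Surjective π →
    (∃ t : B', RingHom.ker π = Ideal.span {t} ∧ ∀ a ∈ IsLocalRing.maximalIdeal B', a * t = 0) →
    ∀ (s : Spec (CommRingCat.of B') ⟶ S)
      (α : (yon S).obj (Over.mk (Spec.map (CommRingCat.ofHom π) ≫ s)) ⟶ X)
      (β : (yon S).obj (Over.mk s) ⟶ Y),
      Points.ofPt α (IsLocalRing.closedPoint B) = x →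
      α ≫ f = (yon S).map (specChg π s) ≫ β →
      ∃ γ : (yon S).obj (Over.mk s) ⟶ X, (yon S).map (specChg π s) ≫ γ = α ∧ γ ≫ f = β

/-- One step of lifting in a chart, in terms of local rings. -/
theorem exists_stalk_lift {f : X ⟶ Y} {U V : Over S} {a : (yon S).obj U ⟶ X} {b : (yon S).obj V ⟶ Y}
    {k : U ⟶ V} (ha : RepWith @Etale a) (hb : RepWith @Etale b) (w : a ≫ f = (yon S).map k ≫ b)
    (u : ↥U.left) (H : LiftsSmallAt f (Points.ofPt a u))
    {R' R : Type u} [CommRing R'] [CommRing R] [IsLocalRing R'] [IsLocalRing R] [IsArtinianRing R'] [IsArtinianRing R]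
    (π : R' →+* R) (hπ : Function.Surjective π)
    (ht : ∃ t : R', RingHom.ker π = Ideal.span {t} ∧ ∀ a ∈ IsLocalRing.maximalIdeal R', a * t = 0)
    (h : V.left.presheaf.stalk (k.left.base u) →+* R') (g : U.left.presheaf.stalk u →+* R) [IsLocalHom g]
    (hg : g.comp (k.left.stalkMap u).hom = π.comp h) :
    ∃ g' : U.left.presheaf.stalk u →+* R', g'.comp (k.left.stalkMap u).hom = h ∧ π.comp g' = g := by
  let β : Spec (CommRingCat.of R') ⟶ V.left := Spec.map (CommRingCat.ofHom h) ≫ V.left.fromSpecStalk _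
  let α : Spec (CommRingCat.of R) ⟶ U.left := Spec.map (CommRingCat.ofHom g) ≫ U.left.fromSpecStalk u
  have hsq : α ≫ k.left = Spec.map (CommRingCat.ofHom π) ≫ β := by
    simp only [α, β, Category.assoc]
    rw [← Scheme.SpecMap_stalkMap_fromSpecStalk, ← Category.assoc, ← Category.assoc, ← Spec.map_comp, ← Spec.map_comp]
    exact congrArg (fun r => Spec.map (CommRingCat.ofHom r) ≫ V.left.fromSpecStalk _) hg
  let s := β ≫ V.hom
  let βO : Over.mk s ⟶ V := Over.homMk β rfl
  let αO : Over.mk (Spec.map (CommRingCat.ofHom π) ≫ s) ⟶ U := Over.homMk α (by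
    show α ≫ U.hom = Spec.map _ ≫ β ≫ V.hom
    rw [← Over.w k, ← Category.assoc, hsq, Category.assoc])
  have hαβ : αO ≫ k = specChg π s ≫ βO := Over.OverMorphism.ext hsq
  have hw : ((yon S).map αO ≫ a) ≫ f = (yon S).map (specChg π s) ≫ (yon S).map βO ≫ b := by
    exact (Category.assoc _ _ _).trans ((congrArg (fun t => (yon S).map αO ≫ t) w).trans
      (((yon S).map_comp_assoc αO k b).symm.trans ((congrArg (fun t => (yon S).map t ≫ b) hαβ).trans
      ((yon S).map_comp_assoc (specChg π s) βO b))))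
  haveI : IsLocalHom (CommRingCat.ofHom g).hom := ‹IsLocalHom g›
  have hαu : α (IsLocalRing.closedPoint R) = u := by
    show U.left.fromSpecStalk u ((Spec.map (CommRingCat.ofHom g)) (IsLocalRing.closedPoint R)) = u
    rw [show (Spec.map (CommRingCat.ofHom g)) (IsLocalRing.closedPoint R) = IsLocalRing.closedPoint _ from
      IsLocalRing.comap_closedPoint g, Scheme.fromSpecStalk_closedPoint]
  obtain ⟨γ, hγ1, hγ2⟩ := H R' R π hπ ht s ((yon S).map αO ≫ a) ((yon S).map βO ≫ b)
    (by rw [ofPt_comp]; exact congrArg (Points.ofPt a) hαu) hw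
  obtain ⟨γ', e1, e2⟩ := exists_chart_lift_of_lift ha hb w π hπ (ker_sq_eq_bot_of_small ht) s αO βO hαβ γ hγ1 hγ2
  let γs : Spec (CommRingCat.of R') ⟶ U.left := γ'.left
  have e1' : Spec.map (CommRingCat.ofHom π) ≫ γs = α := congrArg CommaMorphism.left e1
  have e2' : γs ≫ k.left = β := congrArg CommaMorphism.left e2
  haveI : IsLocalHom π := IsLocalHom.of_surjective π hπ
  have hpt : γs (IsLocalRing.closedPoint R') = u := by
    rw [← hαu, ← e1', Scheme.Hom.comp_apply]
    exact (congrArg γs (IsLocalRing.comap_closedPoint π)).symm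
  let g' : U.left.presheaf.stalk u ⟶ CommRingCat.of R' :=
    U.left.presheaf.stalkSpecializes (specializes_of_eq hpt) ≫ Scheme.stalkClosedPointTo γs
  have hg' : Spec.map g' ≫ U.left.fromSpecStalk u = γs := by
    rw [Spec.map_comp, Category.assoc, Scheme.SpecMap_stalkSpecializes_fromSpecStalk,
      Scheme.Spec_stalkClosedPointTo_fromSpecStalk]
  refine ⟨g'.hom, ?_, ?_⟩
  · refine congrArg CommRingCat.Hom.hom (Spec.map_injective (a₁ := k.left.stalkMap u ≫ g') (a₂ := CommRingCat.ofHom h) ?_)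
    rw [← cancel_mono (V.left.fromSpecStalk _), Spec.map_comp, Category.assoc,
      Scheme.SpecMap_stalkMap_fromSpecStalk, ← Category.assoc, hg', e2']
  · refine congrArg CommRingCat.Hom.hom (Spec.map_injective (a₁ := g' ≫ CommRingCat.ofHom π) (a₂ := CommRingCat.ofHom g) ?_)
    rw [← cancel_mono (U.left.fromSpecStalk u), Spec.map_comp, Category.assoc, hg', e1']

theorem smoothAt_of_liftsSmallAt (f : X ⟶ Y) (hX : IsAlgSpace X) (hY : IsAlgSpace Y) (hN : IsLocNoethSp Y)
    (hft : LocP @LocallyOfFiniteType f) (x : Points X) (H : LiftsSmallAt f x) :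
    HasAtMor (fun U _ h u => ∃ W : U.Opens, u ∈ W ∧ Smooth (W.ι ≫ h)) f x := by
  obtain ⟨V, b, hb, hbs⟩ := hY.atlas
  obtain ⟨U, a, k, ha, has, w⟩ := exists_compatible_chart f hX hY.diag hb hbs
  obtain ⟨u, rfl⟩ := surjective_ofPt has x
  refine ⟨U, V, a, b, k, u, ha, hb, w, rfl, ?_⟩
  haveI : IsLocallyNoetherian V.left := isLocallyNoetherian_chart hY hN hb
  haveI : LocallyOfFiniteType k.left := hft a b k ha hb w
  refine (Groth.Agent.S2793.result k.left u).2 fun A' _ _ _ h _ I hI hIm g₀ hg₀ hm _ => ?_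
  let P : Ideal A' → Prop := fun J => ∃ hJ : J ≤ I, ∃ g : U.left.presheaf.stalk u →+* A' ⧸ J,
    g.comp (k.left.stalkMap u).hom = (Ideal.Quotient.mk J).comp h ∧ (Ideal.Quotient.factor hJ).comp g = g₀
  obtain ⟨J, ⟨hJ, g, hg1, hg2⟩, hmin⟩ := IsArtinian.set_has_minimal {J | P J}
    ⟨I, le_rfl, g₀, hg₀, RingHom.ext fun b => by
      obtain ⟨c, hc⟩ := Ideal.Quotient.mk_surjective (g₀ b)
      simp [← hc]⟩
  suffices hbot : J = ⊥ by
    subst hbot
    let e : (A' ⧸ (⊥ : Ideal A')) →+* A' := Ideal.Quotient.lift ⊥ (RingHom.id A') (fun a ha => ha)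
    have he : (Ideal.Quotient.mk I).comp e = Ideal.Quotient.factor hJ :=
      Ideal.Quotient.ringHom_ext (RingHom.ext fun _ => rfl)
    refine ⟨e.comp g, ?_, ?_⟩
    · rw [RingHom.comp_assoc, hg1, ← RingHom.comp_assoc]
      exact RingHom.ext fun _ => rfl
    · rw [← RingHom.comp_assoc, he, hg2]
  by_contra hne
  obtain ⟨K, hK, hKmax⟩ := set_has_maximal_iff_noetherian.2 (inferInstance : IsNoetherian A' A') {K : Ideal A' | K < J}
    ⟨⊥, bot_lt_iff_ne_bot.2 hne⟩
  change K < J at hK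
  obtain ⟨t, htJ, htK⟩ := SetLike.exists_of_lt hK
  have hKt : K ⊔ Ideal.span {t} = J := by
    by_contra hne'
    refine hKmax _ (lt_of_le_of_ne (sup_le hK.le ((Ideal.span_singleton_le_iff_mem _).2 htJ)) hne')
      (lt_of_le_of_ne le_sup_left fun he => htK ?_)
    rw [he]
    exact Ideal.mem_sup_right (Ideal.mem_span_singleton_self t)
  have hItop : ∀ L, L ≤ I → L ≠ ⊤ := fun L hL hLt => hI (top_le_iff.1 (hLt ▸ hL))
  haveI : Nontrivial (A' ⧸ J) := Ideal.Quotient.nontrivial_iff.2 (hItop J hJ)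
  haveI : Nontrivial (A' ⧸ K) := Ideal.Quotient.nontrivial_iff.2 (hItop K (hK.le.trans hJ))
  haveI : IsLocalRing (A' ⧸ J) := .of_surjective' _ Ideal.Quotient.mk_surjective
  haveI : IsLocalRing (A' ⧸ K) := .of_surjective' _ Ideal.Quotient.mk_surjective
  haveI : IsLocalHom g := ⟨fun c hc => by
    by_contra hcu
    have h1 : g₀ c ∈ (IsLocalRing.maximalIdeal A').map (Ideal.Quotient.mk I) := hm c hcu
    have h2 : IsUnit (g₀ c) := by rw [← hg2]; exact hc.map (Ideal.Quotient.factor hJ)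
    haveI : Nontrivial (A' ⧸ I) := Ideal.Quotient.nontrivial_iff.2 hI
    haveI : IsLocalRing (A' ⧸ I) := .of_surjective' _ Ideal.Quotient.mk_surjective
    haveI : IsLocalHom (Ideal.Quotient.mk I) := IsLocalHom.of_surjective _ Ideal.Quotient.mk_surjective
    have hle : (IsLocalRing.maximalIdeal A').map (Ideal.Quotient.mk I) ≤ IsLocalRing.maximalIdeal (A' ⧸ I) :=
      Ideal.map_le_iff_le_comap.2 fun z hz hu => hz ((isUnit_map_iff (Ideal.Quotient.mk I) z).1 hu)
    exact (IsLocalRing.mem_maximalIdeal _).1 (hle h1) h2⟩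
  obtain ⟨g', hg'1, hg'2⟩ := exists_stalk_lift ha hb w u H (Ideal.Quotient.factor hK.le)
    (Ideal.Quotient.factor_surjective hK.le)
    ⟨Ideal.Quotient.mk K t, by
      rw [Ideal.Quotient.factor_ker, ← hKt, Ideal.map_sup, Ideal.map_quotient_self, bot_sup_eq,
        Ideal.map_span, Set.image_singleton], fun c hc => by
      obtain ⟨c, rfl⟩ := Ideal.Quotient.mk_surjective c
      have hc' : c ∈ IsLocalRing.maximalIdeal A' := fun hu => hc (hu.map _)
      have : t * c ∈ I * IsLocalRing.maximalIdeal A' := Ideal.mul_mem_mul (hJ htJ) hc'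
      rw [hIm, Ideal.mem_bot] at this
      rw [← map_mul, mul_comm, this, map_zero]⟩
    ((Ideal.Quotient.mk K).comp h) g (hg1.trans (RingHom.ext fun _ => rfl))
  refine hmin K ⟨hK.le.trans hJ, g', hg'1, ?_⟩ hK
  rw [← hg2, ← hg'2, ← RingHom.comp_assoc]
  congr 1
  exact Ideal.Quotient.ringHom_ext (RingHom.ext fun _ => rfl)

end Groth.Agent.SpFP87
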