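import Groth.Agent.SpFP87.NilLift
import Groth.Agent.SpFP87.FlatMono
import Groth.Prelude.Def_AlgSpInf
/-!
Smooth morphisms lift etale locally along thickenings.
-/

set_option autoImplicit false
set_option linter.style.haveILetI false
set_option backward.isDefEq.respectTransparency false
universe u
open CategoryTheory CategoryTheory.Limits AlgebraicGeometry TensorProduct
open AlgSp
open Groth.Agent.SpPts86

namespace Groth.Agent.SpFP87

variable {S : Scheme.{u}} {X Y T T' : Sp S}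

theorem surjective_of_isClosedImmersion_SpecMap {A B : CommRingCat.{u}} (φ : A ⟶ B)
    [IsClosedImmersion (Spec.map φ)] : Function.Surjective φ.hom := by
  have h := (IsClosedImmersion.isAffine_surjective_of_isAffine (Spec.map φ)).2
  intro b
  obtain ⟨a, ha⟩ := h ((Scheme.ΓSpecIso B).inv.hom b)
  obtain ⟨a, rfl⟩ := (ConcreteCategory.bijective_of_isIso (Scheme.ΓSpecIso A).inv).2 a
  refine ⟨a, (ConcreteCategory.bijective_of_isIso (Scheme.ΓSpecIso B).inv).1 ?_⟩
  exact (ConcreteCategory.congr_hom (Scheme.ΓSpecIso_inv_naturality φ) a).trans ha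

theorem ker_le_nilradical_of_comap_surjective {A B : Type u} [CommRing A] [CommRing B] (φ : A →+* B)
    (h : Function.Surjective (PrimeSpectrum.comap φ)) : RingHom.ker φ ≤ nilradical A := fun a ha => by
  rw [nilradical_eq_sInf, Ideal.mem_sInf]
  intro p hp
  obtain ⟨q, hq⟩ := h ⟨p, hp⟩
  rw [show p = q.asIdeal.comap φ from (congrArg PrimeSpectrum.asIdeal hq).symm, Ideal.mem_comap,
    show φ a = 0 from ha]
  exact zero_mem _

set_option maxHeartbeats 1000000 in
theorem exists_smooth_lift_thick (hX : IsAlgSpace X) (hY : IsAlgSpace Y) (hT' : IsAlgSpace T')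
    (f : X ⟶ Y) (hf : LocP @Smooth f) (i : T ⟶ T') (hi : IsThickMor i) (a : T ⟶ X) (b : T' ⟶ Y)
    (w : a ≫ f = i ≫ b) (t' : Points T') :
    ∃ (V : Over S) (e : (yon S).obj V ⟶ T') (ℓ : (yon S).obj V ⟶ X),
      RepWith @Etale e ∧ t' ∈ Set.range (Points.ofPt e) ∧ ℓ ≫ f = e ≫ b ∧
      ∀ (P : Sp S) (p₁ : P ⟶ T) (p₂ : P ⟶ (yon S).obj V), IsPullback p₁ p₂ i e → p₂ ≫ ℓ = p₁ ≫ a := by
  obtain ⟨V, v, hv, hvs⟩ := hY.atlas
  -- a chart of `T'` mapping to the chart of `Y`
  have sqb : IsPullback (pullback.fst b v) (pullback.snd b v) b v := IsPullback.of_hasPullback b v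
  obtain ⟨U₁, p, hp, hps⟩ := (isAlgSpace_of_isPullback sqb hT' (IsAlgSpace.yon_obj V) hY.diag).atlas
  have hfst : RepWith @Etale (pullback.fst b v) :=
    (repWith_isStableUnderBaseChange _).of_isPullback sqb.flip hv
  have hfsts : RepWith @Surjective (pullback.fst b v) :=
    (repWith_isStableUnderBaseChange _).of_isPullback sqb.flip hvs
  obtain ⟨t₁, ht₁⟩ := surjective_ofPt
    (MorphismProperty.comp_mem (W := RepWith (@Surjective : MorphismProperty Scheme.{u})) _ _ hps hfsts) t'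
  obtain ⟨O, hO, ht₁O, -⟩ := exists_isAffineOpen_mem_and_subset (x := t₁) (U := ⊤) trivial
  let A : CommRingCat.{u} := Γ(U₁.left, O)
  let T₁ : Over S := Over.mk (hO.fromSpec ≫ U₁.hom)
  let ι : T₁ ⟶ U₁ := Over.homMk hO.fromSpec rfl
  haveI : Etale ι.left := inferInstanceAs (Etale hO.fromSpec)
  let e₁ : (yon S).obj T₁ ⟶ T' := (yon S).map ι ≫ p ≫ pullback.fst b v
  have he₁ : RepWith @Etale e₁ := repWith_etale_comp ι
    (MorphismProperty.comp_mem (W := RepWith (@Etale : MorphismProperty Scheme.{u})) _ _ hp hfst)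
  obtain ⟨b₁, hb₁⟩ := (yon S).map_surjective ((yon S).map ι ≫ p ≫ pullback.snd b v)
  have heb : e₁ ≫ b = (yon S).map b₁ ≫ v := by
    simp only [e₁, hb₁, Category.assoc, pullback.condition]
  -- the thickening over the chart
  let W₁ : Over S := hi.rep.pullback e₁
  let i₁ : W₁ ⟶ T₁ := hi.rep.snd e₁
  let aW : (yon S).obj W₁ ⟶ T := hi.rep.fst e₁
  have sqi : IsPullback aW ((yon S).map i₁) i e₁ := hi.rep.isPullback e₁
  haveI : IsClosedImmersion i₁.left := (hi.property_snd e₁).1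
  haveI : Surjective i₁.left := (hi.property_snd e₁).2
  haveI : IsAffine T₁.left := inferInstanceAs (IsAffine (Spec A))
  haveI : IsAffine W₁.left := (IsClosedImmersion.isAffine_surjective_of_isAffine i₁.left).1
  -- a chart of `X`
  have sqv : IsPullback (pullback.fst f v) (pullback.snd f v) f v := IsPullback.of_hasPullback f v
  obtain ⟨U, u, hu, hus⟩ := (isAlgSpace_of_isPullback sqv hX (IsAlgSpace.yon_obj V) hY.diag).atlas
  obtain ⟨s, hs⟩ := (yon S).map_surjective (u ≫ pullback.snd f v)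
  let uX : (yon S).obj U ⟶ X := u ≫ pullback.fst f v
  have huX : RepWith @Etale uX := MorphismProperty.comp_mem (W := RepWith (@Etale : MorphismProperty Scheme.{u})) _ _
    hu ((repWith_isStableUnderBaseChange _).of_isPullback sqv.flip hv)
  have hsX : uX ≫ f = (yon S).map s ≫ v := by simp only [uX, hs, Category.assoc, pullback.condition]
  haveI : Smooth s.left := hf uX v s huX hv hsX
  have hWw : (aW ≫ a) ≫ f = (yon S).map (i₁ ≫ b₁) ≫ v := by
    rw [Category.assoc, w, ← Category.assoc, sqi.w, Category.assoc, heb, Functor.map_comp, Category.assoc]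
  let lW : (yon S).obj W₁ ⟶ pullback f v := pullback.lift (aW ≫ a) ((yon S).map (i₁ ≫ b₁)) hWw
  let R : Over S := hu.rep.pullback lW
  let cR : R ⟶ W₁ := hu.rep.snd lW
  haveI : Etale cR.left := hu.property_snd lW
  haveI : Surjective cR.left := hus.property _ _ _ (hu.rep.isPullback lW)
  obtain ⟨lR, hlR⟩ := (yon S).map_surjective (hu.rep.fst lW)
  have hlRu : (yon S).map lR ≫ uX = (yon S).map cR ≫ aW ≫ a := by
    simp only [uX]
    rw [← Category.assoc, hlR, (hu.rep.isPullback lW).w, Category.assoc]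
    simp [lW, cR]
  have hlRs : lR ≫ s = cR ≫ i₁ ≫ b₁ := by
    apply (yon S).map_injective
    rw [Functor.map_comp, hs, ← Category.assoc, hlR, (hu.rep.isPullback lW).w, Category.assoc]
    simp [lW, cR]
  -- points and affine neighbourhoods
  obtain ⟨x₁, hx₁⟩ : t₁ ∈ Set.range ι.left := by
    show t₁ ∈ Set.range hO.fromSpec
    rw [hO.range_fromSpec]; exact ht₁O
  obtain ⟨w₁, hw₁⟩ := i₁.left.surjective x₁
  obtain ⟨r, hr⟩ := cR.left.surjective w₁
  obtain ⟨V₀, hV₀, hrV, -⟩ := exists_isAffineOpen_mem_and_subset (x := s.left (lR.left r)) (U := ⊤) trivial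
  obtain ⟨U₀, hU₀, hrU, hU₀V⟩ := exists_isAffineOpen_mem_and_subset (x := lR.left r) (U := s.left ⁻¹ᵁ V₀) hrV
  obtain ⟨R₀, hR₀, hrR, hR₀U⟩ := exists_isAffineOpen_mem_and_subset (x := r) (U := lR.left ⁻¹ᵁ U₀) hrU
  let K : CommRingCat.{u} := Γ(V.left, V₀)
  let D : CommRingCat.{u} := Γ(U.left, U₀)
  let B : CommRingCat.{u} := Γ(R.left, R₀)
  let Q : CommRingCat.{u} := Γ(W₁.left, ⊤)
  let φKD : K ⟶ D := s.left.appLE V₀ U₀ hU₀V
  have hKD : φKD.hom.Smooth := HasRingHomProperty.appLE (P := @Smooth) s.left inferInstance ⟨V₀, hV₀⟩ ⟨U₀, hU₀⟩ hU₀V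
  let φDB : D ⟶ B := lR.left.appLE U₀ R₀ hR₀U
  have hKD' : Spec.map φKD ≫ hV₀.fromSpec = hU₀.fromSpec ≫ s.left := hV₀.SpecMap_appLE_fromSpec _ hU₀ _
  have hDB' : Spec.map φDB ≫ hU₀.fromSpec = hR₀.fromSpec ≫ lR.left := hU₀.SpecMap_appLE_fromSpec _ hR₀ _
  obtain ⟨φAQ, hAQ⟩ := Spec.map_surjective (W₁.left.isoSpec.inv ≫ i₁.left : Spec Q ⟶ Spec A)
  obtain ⟨φQB, hQB⟩ := Spec.map_surjective (hR₀.fromSpec ≫ cR.left ≫ W₁.left.isoSpec.hom : Spec B ⟶ Spec Q)
  have hQBe : φQB.hom.Etale := (HasRingHomProperty.Spec_iff (P := @Etale)).1 (by rw [hQB]; infer_instance)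
  haveI : IsClosedImmersion (Spec.map φAQ) := by rw [hAQ]; infer_instance
  have hAQs : Function.Surjective φAQ.hom := surjective_of_isClosedImmersion_SpecMap φAQ
  have hAQc : Function.Surjective (PrimeSpectrum.comap φAQ.hom) := fun x => by
    obtain ⟨y, hy⟩ := (W₁.left.isoSpec.inv ≫ i₁.left).surjective x
    rw [← hAQ] at hy
    exact ⟨y, hy⟩
  algebraize [φAQ.hom, φQB.hom, φQB.hom.comp φAQ.hom]
  obtain ⟨C, _, _, g, hC, hg, hgnil, hbij⟩ := exists_etale_lift_of_nil (A := A) (Q := Q) (B := B) hAQs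
    (ker_le_nilradical_of_comap_surjective _ hAQc)
  let T₂ : Over S := Over.mk (Spec.map (CommRingCat.ofHom (algebraMap A C)) ≫ T₁.hom)
  let c₂ : T₂ ⟶ T₁ := Over.homMk (Spec.map (CommRingCat.ofHom (algebraMap A C))) rfl
  haveI : Etale c₂.left := (HasRingHomProperty.Spec_iff (P := @Etale)).2 (RingHom.etale_algebraMap.2 hC)
  let gS : Spec B ⟶ T₂.left := Spec.map (CommRingCat.ofHom g.toRingHom)
  have hgA : gS ≫ c₂.left = hR₀.fromSpec ≫ cR.left ≫ i₁.left := by
    show Spec.map _ ≫ Spec.map _ = _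
    rw [← Spec.map_comp, ← CommRingCat.ofHom_comp]
    refine (congrArg (fun h : A →+* B => Spec.map (CommRingCat.ofHom h)) g.comp_algebraMap).trans ?_
    rw [show CommRingCat.ofHom (algebraMap A B) = φAQ ≫ φQB from rfl, Spec.map_comp, hQB, hAQ]
    simp
  have hgs : Function.Surjective gS := fun (y : PrimeSpectrum C) => by
    obtain ⟨q, hq⟩ : y ∈ Set.range (PrimeSpectrum.comap g.toRingHom) := by
      rw [range_comap_of_surjective _ _ hg]
      intro c hc
      obtain ⟨n, hn⟩ := mem_nilradical.1 (hgnil hc)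
      exact y.2.mem_of_pow_mem n (hn.symm ▸ zero_mem _)
    exact ⟨q, hq⟩
  have hgV : gS ≫ (c₂ ≫ b₁).left = (Spec.map φDB ≫ Spec.map φKD) ≫ hV₀.fromSpec := by
    rw [Category.assoc, hKD', ← Category.assoc, hDB', Category.assoc, ← Over.comp_left, hlRs]
    simp only [Over.comp_left]
    rw [← Category.assoc, hgA]
    simp [Category.assoc]
  have hrange : Set.range (c₂ ≫ b₁).left ⊆ Set.range hV₀.fromSpec := by
    rintro - ⟨y, rfl⟩
    obtain ⟨z, rfl⟩ := hgs y
    exact ⟨(Spec.map φDB ≫ Spec.map φKD) z, by rw [← Scheme.Hom.comp_apply, ← hgV]; rfl⟩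
  obtain ⟨φKC, hKC⟩ := Spec.map_surjective
    (IsOpenImmersion.lift hV₀.fromSpec (c₂ ≫ b₁).left hrange : Spec (CommRingCat.of C) ⟶ Spec K)
  have hKC' : Spec.map φKC ≫ hV₀.fromSpec = (c₂ ≫ b₁).left := by rw [hKC, IsOpenImmersion.lift_fac]
  have hcompat : φKC ≫ CommRingCat.ofHom g.toRingHom = φKD ≫ φDB := by
    apply Spec.map_injective
    rw [← cancel_mono hV₀.fromSpec, Spec.map_comp, Spec.map_comp, Category.assoc, hKC', ← hgV]
  letI : Algebra K D := φKD.hom.toAlgebra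
  letI : Algebra K C := φKC.hom.toAlgebra
  letI : Algebra K B := (φDB.hom.comp φKD.hom).toAlgebra
  haveI : Algebra.Smooth K D := hKD
  let π : C →ₐ[K] B := { g.toRingHom with commutes' := fun k => ConcreteCategory.congr_hom hcompat k }
  let α : D →ₐ[K] B := { φDB.hom with commutes' := fun k => rfl }
  obtain ⟨γ, hγ⟩ := exists_algHom_lift_of_nil π hg hgnil α
  let γS : T₂.left ⟶ U.left := Spec.map (CommRingCat.ofHom γ.toRingHom) ≫ hU₀.fromSpec
  have hγs : γS ≫ s.left = (c₂ ≫ b₁).left := by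
    simp only [γS, Category.assoc]
    rw [← hKD', ← Category.assoc, ← Spec.map_comp,
      show φKD ≫ CommRingCat.ofHom γ.toRingHom = φKC from CommRingCat.hom_ext γ.comp_algebraMap, hKC']
  let γO : T₂ ⟶ U := Over.homMk γS (by rw [← Over.w s, ← Category.assoc, hγs, Over.w (c₂ ≫ b₁)])
  have hγO : γO ≫ s = c₂ ≫ b₁ := Over.OverMorphism.ext hγs
  refine ⟨T₂, (yon S).map c₂ ≫ e₁, (yon S).map γO ≫ uX, repWith_etale_comp c₂ he₁, ?_, ?_, ?_⟩
  · have hr' : r ∈ Set.range hR₀.fromSpec := by rw [hR₀.range_fromSpec]; exact hrR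
    obtain ⟨y, hy⟩ := hr'
    refine ⟨gS y, ?_⟩
    have : c₂.left (gS y) = x₁ := by
      rw [← hw₁, ← hr, ← hy, ← Scheme.Hom.comp_apply, hgA]
      rfl
    rw [ofPt_comp, this, ofPt_comp, hx₁]
    exact ht₁
  · rw [Category.assoc, hsX, ← Category.assoc, ← Functor.map_comp, hγO, Functor.map_comp, Category.assoc,
      Category.assoc, heb]
  · intro P p₁ p₂ sqP
    refine sp_hom_ext fun Z z => ?_
    obtain ⟨z₂, hz₂⟩ := (yon S).map_surjective (z ≫ p₂)
    have hzw : (z ≫ p₁) ≫ i = (yon S).map (z₂ ≫ c₂) ≫ e₁ := by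
      rw [Category.assoc, sqP.w, Functor.map_comp, hz₂]; simp [Category.assoc]
    obtain ⟨z₁, hz₁⟩ := (yon S).map_surjective (sqi.lift (z ≫ p₁) ((yon S).map (z₂ ≫ c₂)) hzw)
    have hz₁a : (yon S).map z₁ ≫ aW = z ≫ p₁ := by rw [hz₁, sqi.lift_fst]
    have hz₁i : z₁ ≫ i₁ = z₂ ≫ c₂ := (yon S).map_injective (by rw [Functor.map_comp, hz₁, sqi.lift_snd])
    let Wo : Over S := Over.mk (W₁.left.isoSpec.inv ≫ W₁.hom)
    let iW : Wo ⟶ T₁ := Over.homMk (Spec.map φAQ) (by rw [hAQ, Category.assoc, Over.w i₁]; rfl)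
    let zW : Z ⟶ Wo := Over.homMk (z₁.left ≫ W₁.left.isoSpec.hom) (by simp [Wo])
    have hzW : zW ≫ iW = z₂ ≫ c₂ := by
      refine Over.OverMorphism.ext ?_
      simp only [Over.comp_left, zW, iW, Over.homMk_left]
      rw [hAQ, Category.assoc, Iso.hom_inv_id_assoc, ← Over.comp_left, hz₁i]
      rfl
    obtain ⟨qR, pr, rr, hpr, hrr, sqR⟩ := isPullback_over_spec (A := A) (B := C) (C := Q) (qA := T₁.hom)
      (qB := T₂.hom) (qC := Wo.hom) c₂ iW rfl rfl
    obtain ⟨k, hk⟩ := (yon S).map_surjective (sqR.lift ((yon S).map z₂) ((yon S).map zW)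
      (by rw [← Functor.map_comp, ← Functor.map_comp, hzW]))
    have hkp : k ≫ pr = z₂ := (yon S).map_injective (by rw [Functor.map_comp, hk, sqR.lift_fst])
    have hkr : k ≫ rr = zW := (yon S).map_injective (by rw [Functor.map_comp, hk, sqR.lift_snd])
    let θ := CommRingCat.ofHom (Algebra.TensorProduct.productMap g (IsScalarTower.toAlgHom A Q B)).toRingHom
    haveI : IsIso θ := (ConcreteCategory.isIso_iff_bijective _).2 hbij
    let kB : Z.left ⟶ Spec B := k.left ≫ inv (Spec.map θ)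
    have hθ₁ : Spec.map θ ≫ pr.left = gS := by
      rw [hpr]; show Spec.map θ ≫ Spec.map _ = Spec.map _
      rw [← Spec.map_comp]; congr 1; ext c; simp [θ]
    have hθ₂ : Spec.map θ ≫ rr.left = Spec.map φQB := by
      rw [hrr, ← Spec.map_comp]; congr 1; ext c; simp [θ]; rfl
    have hk₂ : kB ≫ gS = z₂.left := by rw [← hθ₁]; simp [kB, ← hkp]
    have hk₁ : kB ≫ hR₀.fromSpec ≫ cR.left = z₁.left := by
      rw [← cancel_mono W₁.left.isoSpec.hom]
      simp only [Category.assoc]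
      rw [← hQB, ← hθ₂]
      simpa [kB, zW] using congrArg CommaMorphism.left hkr
    let kO : Z ⟶ R := Over.homMk (kB ≫ hR₀.fromSpec) (by
      rw [← Over.w cR, ← Category.assoc, Category.assoc kB, hk₁, Over.w z₁])
    have hkc : kO ≫ cR = z₁ := Over.OverMorphism.ext (by simpa [kO] using hk₁)
    have hkl : kO ≫ lR = z₂ ≫ γO := by
      refine Over.OverMorphism.ext ?_
      simp only [Over.comp_left, kO, γO, Over.homMk_left, Category.assoc, ← hDB', γS]
      have hgγ : gS ≫ Spec.map (CommRingCat.ofHom γ.toRingHom) = Spec.map φDB := by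
        show Spec.map _ ≫ Spec.map _ = _
        rw [← Spec.map_comp]; congr 1
        ext d; exact DFunLike.congr_fun hγ d
      rw [← hk₂]
      simp only [kB, Category.assoc, ← hgγ]
    calc z ≫ p₂ ≫ (yon S).map γO ≫ uX = (yon S).map (z₂ ≫ γO) ≫ uX := by
          rw [Functor.map_comp, hz₂]; simp [Category.assoc]
      _ = (yon S).map (kO ≫ cR) ≫ aW ≫ a := by
          rw [← hkl, Functor.map_comp, Category.assoc, hlRu, Functor.map_comp, Category.assoc]
      _ = z ≫ p₁ ≫ a := by rw [hkc, ← Category.assoc, hz₁a, Category.assoc]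

end Groth.Agent.SpFP87
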