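import Groth.Agent.SpFP87.InfRep
import Groth.Agent.SpFP87.EtLocInst
import Groth.Agent.SpFP87.EtDescRing
/-!
Descent of infinitesimal lifting properties along representable surjective etale morphisms on top.
-/

set_option autoImplicit false
set_option linter.style.haveILetI false
universe u
open CategoryTheory CategoryTheory.Limits AlgebraicGeometry
open AlgSp
open scoped TensorProduct

namespace Groth.Agent.SpFP87

variable {S : Scheme.{u}}

/-- `Spec C ⟶ Spec A` over `S` attached to a ring map. -/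
noncomputable abbrev specChg {A C : Type u} [CommRing A] [CommRing C] (φ : A →+* C)
    (str : Spec (.of A) ⟶ S) :
    (Over.mk (Spec.map (CommRingCat.ofHom φ) ≫ str) : Over S) ⟶ Over.mk str :=
  Over.homMk (Spec.map (CommRingCat.ofHom φ)) rfl

theorem specMap_square {A B C D : Type u} [CommRing A] [CommRing B] [CommRing C] [CommRing D]
    {f : A →+* B} {g : B →+* D} {f' : A →+* C} {g' : C →+* D} (h : g.comp f = g'.comp f')
    {Z : Scheme.{u}} (str : Spec (.of A) ⟶ Z) :
    Spec.map (CommRingCat.ofHom g) ≫ Spec.map (CommRingCat.ofHom f) ≫ str =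
      Spec.map (CommRingCat.ofHom g') ≫ Spec.map (CommRingCat.ofHom f') ≫ str := by
  rw [← Spec.map_comp_assoc, ← Spec.map_comp_assoc, ← CommRingCat.ofHom_comp,
    ← CommRingCat.ofHom_comp, h]

theorem specMap_comp' {A B D : Type u} [CommRing A] [CommRing B] [CommRing D]
    {f : A →+* B} {g : B →+* D} {k : A →+* D} (h : g.comp f = k) :
    Spec.map (CommRingCat.ofHom g) ≫ Spec.map (CommRingCat.ofHom f) = Spec.map (CommRingCat.ofHom k) := by
  rw [← Spec.map_comp, ← CommRingCat.ofHom_comp, h]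

/-- The map `Spec (C / IC) ⟶ Spec (A / I)` over `S`. -/
noncomputable abbrev specQuotChg {A C : Type u} [CommRing A] [CommRing C] (φ : A →+* C) (I : Ideal A)
    (str : Spec (.of A) ⟶ S) :
    (Over.mk (Spec.map (CommRingCat.ofHom (Ideal.Quotient.mk (I.map φ))) ≫
      Spec.map (CommRingCat.ofHom φ) ≫ str) : Over S) ⟶
      Over.mk (Spec.map (CommRingCat.ofHom (Ideal.Quotient.mk I)) ≫ str) :=
  Over.homMk (Spec.map (CommRingCat.ofHom (Ideal.quotientMap (I.map φ) φ Ideal.le_comap_map)))
    (specMap_square (Ideal.quotientMap_comp_mk _) str)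

theorem specQuotChg_comp {A C : Type u} [CommRing A] [CommRing C] (φ : A →+* C) (I : Ideal A)
    (str : Spec (.of A) ⟶ S) :
    (Over.homMk (Spec.map (CommRingCat.ofHom (Ideal.Quotient.mk (I.map φ)))) rfl :
      (Over.mk (Spec.map (CommRingCat.ofHom (Ideal.Quotient.mk (I.map φ))) ≫
        Spec.map (CommRingCat.ofHom φ) ≫ str) : Over S) ⟶ Over.mk (Spec.map (CommRingCat.ofHom φ) ≫ str))
      ≫ specChg φ str =
    specQuotChg φ I str ≫
      (Over.homMk (Spec.map (CommRingCat.ofHom (Ideal.Quotient.mk I))) rfl :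
        (Over.mk (Spec.map (CommRingCat.ofHom (Ideal.Quotient.mk I)) ≫ str) : Over S) ⟶ Over.mk str) := by
  ext : 1
  exact (specMap_comp' rfl).trans
    (specMap_comp' (Ideal.quotientMap_comp_mk (Ideal.le_comap_map (f := φ)))).symm

variable {F G : Sp S} {f : F ⟶ G}

/-- Restriction of a lifting square along a ring map. -/
@[simps]
noncomputable def infSqPull (sq : InfSq f) {C : Type u} [CommRing C] (φ : sq.A →+* C) : InfSq f where
  A := C
  I := sq.I.map φ
  sq_zero := by rw [← Ideal.map_pow, sq.sq_zero, Ideal.map_bot]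
  str := Spec.map (CommRingCat.ofHom φ) ≫ sq.str
  top := (yon S).map (specQuotChg φ sq.I sq.str) ≫ sq.top
  bot := (yon S).map (specChg φ sq.str) ≫ sq.bot
  comm :=
    (Category.assoc _ _ _).trans ((congrArg (_ ≫ ·) sq.comm).trans
      ((Category.assoc _ _ _).symm.trans ((congrArg (· ≫ sq.bot)
        (((yon S).map_comp _ _).symm.trans ((congrArg (yon S).map (specQuotChg_comp φ sq.I sq.str).symm).trans
          ((yon S).map_comp _ _)))).trans (Category.assoc _ _ _))))

theorem infSqPull_lift (sq : InfSq f) {C : Type u} [CommRing C] (φ : sq.A →+* C)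
    {l : (yon S).obj sq.ptT' ⟶ F} (hl : (yon S).map sq.j ≫ l = sq.top) :
    (yon S).map (infSqPull sq φ).j ≫ (yon S).map (specChg φ sq.str) ≫ l = (infSqPull sq φ).top :=
  ((Category.assoc _ _ _).symm.trans
    ((congrArg (· ≫ l) (((yon S).map_comp _ _).symm.trans
      ((congrArg (yon S).map (specQuotChg_comp φ sq.I sq.str)).trans ((yon S).map_comp _ _)))).trans
    ((Category.assoc _ _ _).trans (congrArg (_ ≫ ·) hl))))

theorem fppfSurj_specMap {A C : Type u} [CommRing A] [CommRing C] (φ : A →+* C) (hφ : φ.Etale)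
    (hs : Function.Surjective (PrimeSpectrum.comap φ)) :
    fppfSurj (Spec.map (CommRingCat.ofHom φ)) := by
  haveI : Etale (Spec.map (CommRingCat.ofHom φ)) :=
    (HasRingHomProperty.Spec_iff (P := @Etale.{u})).2 hφ
  exact etale_surjective_le_fppfSurj _ ⟨inferInstance, ⟨hs⟩⟩

/-- Along a representable surjective etale morphism, points with values in an affine scheme lift
after an affine etale covering. -/
theorem exists_spec_lift (a : F ⟶ G) (ha : RepWith @Etale a) (ha' : RepWith @Surjective a)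
    {A : Type u} [CommRing A] (str : Spec (.of A) ⟶ S) (g : (yon S).obj (Over.mk str) ⟶ G) :
    ∃ (C : Type u) (_ : CommRing C) (φ : A →+* C)
      (m : (yon S).obj (Over.mk (Spec.map (CommRingCat.ofHom φ) ≫ str)) ⟶ F),
      φ.Etale ∧ Function.Surjective (PrimeSpectrum.comap φ) ∧
        m ≫ a = (yon S).map (specChg φ str) ≫ g := by
  let c := ha.rep.snd g
  haveI : Etale c.left := ha.property_snd g
  haveI : Surjective c.left := ha'.property g _ _ (ha.rep.isPullback g)
  haveI : IsAffine (Over.mk str).left := inferInstanceAs (IsAffine (Spec (.of A)))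
  obtain ⟨W, σ, hW, hσ, hσs⟩ := exists_affine_surjective c.left inferInstance inferInstance
  haveI := hW
  obtain ⟨C, ⟨e⟩⟩ : ∃ C : CommRingCat.{u}, Nonempty (Spec C ≅ W) := ⟨_, ⟨W.isoSpec.symm⟩⟩
  obtain ⟨φ, hφ⟩ : ∃ φ : CommRingCat.of A ⟶ C, Spec.map φ = e.hom ≫ σ ≫ c.left :=
    ⟨Spec.preimage _, Spec.map_preimage _⟩
  haveI : Etale (Spec.map φ) := by
    rw [hφ]
    exact MorphismProperty.comp_mem _ _ _ (inferInstance : Etale e.hom)
      (MorphismProperty.comp_mem _ _ _ hσ (inferInstance : Etale c.left))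
  haveI : Surjective (Spec.map φ) := by rw [hφ]; infer_instance
  have key : (e.hom ≫ σ) ≫ (ha.rep.pullback g).hom = Spec.map φ ≫ str := by
    rw [hφ, Category.assoc, Category.assoc, Category.assoc]
    exact congrArg (e.hom ≫ σ ≫ ·) (Over.w c).symm
  let q : (Over.mk (Spec.map (CommRingCat.ofHom φ.hom) ≫ str) : Over S) ⟶ ha.rep.pullback g :=
    Over.homMk (e.hom ≫ σ) key
  refine ⟨C, inferInstance, φ.hom, (yon S).map q ≫ ha.rep.fst g,
    (HasRingHomProperty.Spec_iff (P := @Etale.{u})).1 inferInstance, (Spec.map φ).surjective, ?_⟩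
  rw [Category.assoc, (ha.rep.isPullback g).w, ← Category.assoc, ← Functor.map_comp]
  congr 2
  ext : 1
  exact (Category.assoc _ _ _).trans hφ.symm

variable {H : Sp S}

theorem isFormallyUnramifiedMor_of_comp_cover (a : F ⟶ G) (b : G ⟶ H)
    (ha : RepWith @Etale a) (ha' : RepWith @Surjective a) (h : IsFormallyUnramifiedMor (a ≫ b)) :
    IsFormallyUnramifiedMor b := by
  intro sq l l' h1 h2 h3 h4
  obtain ⟨C, _, φ, m, hφ, hs, hm⟩ := exists_spec_lift a ha ha' sq.str l
  refine cover_hom_ext (specChg φ sq.str) (fppfSurj_specMap φ hφ hs) ?_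
  let sqC := infSqPull sq φ
  have hcomm : ((yon S).map sqC.j ≫ m) ≫ a = (yon S).map sqC.j ≫ (yon S).map (specChg φ sq.str) ≫ l' :=
    (Category.assoc _ _ _).trans ((congrArg (_ ≫ ·) hm).trans
      ((infSqPull_lift sq φ h1).trans (infSqPull_lift sq φ h3).symm))
  obtain ⟨m', hm1, hm2⟩ := (isFormallyEtaleMor_iff a).1 (isFormallyEtaleMor_of_repWith_etale a ha) |>.1
    { A := C, I := sqC.I, sq_zero := sqC.sq_zero, str := sqC.str, top := (yon S).map sqC.j ≫ m,
      bot := (yon S).map (specChg φ sq.str) ≫ l', comm := hcomm }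
  have hb : ∀ {x : (yon S).obj sqC.ptT' ⟶ F} {y : (yon S).obj sq.ptT' ⟶ G},
      x ≫ a = (yon S).map (specChg φ sq.str) ≫ y → y ≫ b = sq.bot →
      x ≫ a ≫ b = (yon S).map (specChg φ sq.str) ≫ sq.bot := fun {x y} e1 e2 =>
    (Category.assoc _ _ _).symm.trans ((congrArg (· ≫ b) e1).trans
      ((Category.assoc _ _ _).trans (congrArg (_ ≫ ·) e2)))
  have hmm : m = m' := h
    { A := C, I := sqC.I, sq_zero := sqC.sq_zero, str := sqC.str, top := (yon S).map sqC.j ≫ m,
      bot := (yon S).map (specChg φ sq.str) ≫ sq.bot,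
      comm := (Category.assoc _ _ _).trans (congrArg (_ ≫ ·) (hb hm h2)) } m m'
    rfl (hb hm h2) hm1 (hb hm2 h4)
  exact hm.symm.trans ((congrArg (· ≫ a) hmm).trans hm2)

theorem isFormallySmoothMor_of_comp_cover (a : F ⟶ G) (b : G ⟶ H)
    (ha : RepWith @Etale a) (ha' : RepWith @Surjective a) (h : IsFormallySmoothMor (a ≫ b))
    (hu : IsFormallyUnramifiedMor b) : IsFormallySmoothMor b := by
  intro sq
  obtain ⟨B, _, φ₀, m, hφ₀, hs₀, hm⟩ := exists_spec_lift a ha ha' sq.ptT.hom sq.top
  letI : Algebra (sq.A ⧸ sq.I) B := φ₀.toAlgebra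
  letI : Algebra sq.A B := (φ₀.comp (Ideal.Quotient.mk sq.I)).toAlgebra
  haveI : IsScalarTower sq.A (sq.A ⧸ sq.I) B := IsScalarTower.of_algebraMap_eq fun _ => rfl
  haveI : Algebra.Etale (sq.A ⧸ sq.I) B := hφ₀
  haveI : Algebra.IsStandardSmoothOfRelativeDimension 0 (sq.A ⧸ sq.I) B :=
    Algebra.Etale.iff_isStandardSmoothOfRelativeDimension_zero.1 inferInstance
  obtain ⟨C, _, _, g, hC, hg, hker⟩ := exists_lift_standardSmooth (P := sq.A) (A := sq.A ⧸ sq.I) (B := B)
    Ideal.Quotient.mk_surjective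
  let φ := algebraMap sq.A C
  have hker' : RingHom.ker g.toRingHom = sq.I.map φ := by
    rw [hker]
    exact congrArg (Ideal.map φ) Ideal.mk_ker
  have hφ : φ.Etale := RingHom.etale_algebraMap.2 hC
  have hs : Function.Surjective (PrimeSpectrum.comap φ) := fun p => by
    have hIp : sq.I ≤ p.asIdeal := fun x hx =>
      p.2.mem_of_pow_mem 2 (by
        have : x ^ 2 ∈ sq.I ^ 2 := Ideal.pow_mem_pow hx 2
        rw [sq.sq_zero, Ideal.mem_bot] at this
        rw [this]; exact zero_mem _)
    obtain ⟨p₀, hp₀⟩ : p ∈ Set.range (PrimeSpectrum.comap (Ideal.Quotient.mk sq.I)) := by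
      rw [range_comap_of_surjective _ _ Ideal.Quotient.mk_surjective, Ideal.mk_ker]
      exact hIp
    obtain ⟨q, hq⟩ := hs₀ p₀
    refine ⟨PrimeSpectrum.comap g.toRingHom q, ?_⟩
    rw [← hp₀, ← hq, ← PrimeSpectrum.comap_comp_apply, ← PrimeSpectrum.comap_comp_apply]
    exact congrArg (fun r => PrimeSpectrum.comap r q) (g.comp_algebraMap)
  let sqC := infSqPull sq φ
  let ρ : B →+* C ⧸ sq.I.map φ :=
    (((Ideal.quotEquivOfEq hker'.symm).trans
      (RingHom.quotientKerEquivOfSurjective (f := g.toRingHom) hg)).symm).toRingHom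
  have hρ : ρ.comp φ₀ = Ideal.quotientMap (sq.I.map φ) φ Ideal.le_comap_map := by
    apply Ideal.Quotient.ringHom_ext
    ext x
    change ((Ideal.quotEquivOfEq hker'.symm).trans
      (RingHom.quotientKerEquivOfSurjective (f := g.toRingHom) hg)).symm
      (φ₀ (Ideal.Quotient.mk sq.I x)) = Ideal.Quotient.mk _ (φ x)
    rw [RingEquiv.symm_apply_eq]
    exact (g.commutes x).symm
  let r : sqC.ptT ⟶ (Over.mk (Spec.map (CommRingCat.ofHom φ₀) ≫ sq.ptT.hom) : Over S) :=
    Over.homMk (Spec.map (CommRingCat.ofHom ρ))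
      ((congrArg (_ ≫ ·) ((Category.assoc _ _ _).symm.trans
        (congrArg (· ≫ sq.str) (specMap_comp' rfl)))).trans (specMap_square
          (show (ρ.comp (φ₀.comp (Ideal.Quotient.mk sq.I))) = (Ideal.Quotient.mk (sq.I.map φ)).comp φ by
            rw [← RingHom.comp_assoc, hρ]; exact Ideal.quotientMap_comp_mk _) sq.str))
  have hr : r ≫ specChg φ₀ sq.ptT.hom = specQuotChg φ sq.I sq.str := by
    ext : 1
    exact specMap_comp' hρ
  have htop : ((yon S).map r ≫ m) ≫ a = sqC.top :=
    (Category.assoc _ _ _).trans ((congrArg (_ ≫ ·) hm).trans ((Category.assoc _ _ _).symm.trans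
      ((congrArg (· ≫ sq.top) ((yon S).map_comp _ _).symm).trans
        (congrArg (fun k => (yon S).map k ≫ sq.top) hr))))
  obtain ⟨n, hn1, hn2⟩ := h
    { A := C, I := sqC.I, sq_zero := sqC.sq_zero, str := sqC.str, top := (yon S).map r ≫ m,
      bot := sqC.bot,
      comm := (Category.assoc _ _ _).symm.trans ((congrArg (· ≫ b) htop).trans sqC.comm) }
  have he1 : (yon S).map sqC.j ≫ n ≫ a = sqC.top :=
    (Category.assoc _ _ _).symm.trans ((congrArg (· ≫ a) hn1).trans htop)
  have he2 : (n ≫ a) ≫ b = sqC.bot := (Category.assoc _ _ _).trans hn2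
  have hdesc : ∀ (Z : Over S) (p₁ p₂ : Z ⟶ sqC.ptT'), p₁ ≫ specChg φ sq.str = p₂ ≫ specChg φ sq.str →
      (yon S).map p₁ ≫ n ≫ a = (yon S).map p₂ ≫ n ≫ a := by
    intro Z p₁ p₂ hp
    let i₁ : C →+* C ⊗[sq.A] C := Algebra.TensorProduct.includeLeftRingHom
    let i₂ : C →+* C ⊗[sq.A] C := (Algebra.TensorProduct.includeRight (R := sq.A) (A := C) (B := C)).toRingHom
    have hii : i₁.comp φ = i₂.comp φ := Algebra.TensorProduct.includeLeftRingHom_comp_algebraMap
    let d : Over S := Over.mk (Spec.map (CommRingCat.ofHom (i₁.comp φ)) ≫ sq.str)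
    let q₁ : d ⟶ sqC.ptT' := Over.homMk (Spec.map (CommRingCat.ofHom i₁)) ((Category.assoc _ _ _).symm.trans (congrArg (· ≫ sq.str) (specMap_comp' rfl)))
    let q₂ : d ⟶ sqC.ptT' := Over.homMk (Spec.map (CommRingCat.ofHom i₂)) ((Category.assoc _ _ _).symm.trans (congrArg (· ≫ sq.str) (specMap_comp' hii.symm)))
    have hq : q₁ ≫ specChg φ sq.str = q₂ ≫ specChg φ sq.str := by
      ext : 1
      exact (specMap_comp' rfl).trans (specMap_comp' hii.symm).symm
    have hpl : p₁.left ≫ Spec.map (CommRingCat.ofHom φ) = p₂.left ≫ Spec.map (CommRingCat.ofHom φ) :=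
      congrArg CommaMorphism.left hp
    let t : Z.left ⟶ Spec (CommRingCat.of (C ⊗[sq.A] C)) :=
      pullback.lift p₁.left p₂.left hpl ≫ (pullbackSpecIso sq.A C C).hom
    have ht₁ : t ≫ Spec.map (CommRingCat.ofHom i₁) = p₁.left := by
      rw [Category.assoc]
      exact (congrArg (_ ≫ ·) (pullbackSpecIso_hom_fst sq.A C C)).trans (pullback.lift_fst _ _ _)
    have ht₂ : t ≫ Spec.map (CommRingCat.ofHom i₂) = p₂.left := by
      rw [Category.assoc]
      exact (congrArg (_ ≫ ·) (pullbackSpecIso_hom_snd sq.A C C)).trans (pullback.lift_snd _ _ _)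
    let t' : Z ⟶ d := Over.homMk t (((congrArg (fun k => t ≫ k ≫ sq.str) (specMap_comp' rfl).symm).trans
      ((congrArg (t ≫ ·) (Category.assoc _ _ _)).trans ((Category.assoc _ _ _).symm.trans
        ((congrArg (· ≫ (Spec.map (CommRingCat.ofHom φ) ≫ sq.str)) ht₁).trans (Over.w p₁))))))
    have e1 : t' ≫ q₁ = p₁ := by ext : 1; exact ht₁
    have e2 : t' ≫ q₂ = p₂ := by ext : 1; exact ht₂
    suffices hh : (yon S).map q₁ ≫ n ≫ a = (yon S).map q₂ ≫ n ≫ a by
      rw [← e1, ← e2, Functor.map_comp, Functor.map_comp, Category.assoc, Category.assoc, hh]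
    -- both are lifts of the restriction of `sq` to `C ⊗ C`
    let sqD := infSqPull sq (i₁.comp φ)
    have hq1 : q₁ ≫ specChg φ sq.str = specChg (i₁.comp φ) sq.str := by
      ext : 1
      exact specMap_comp' rfl
    have side : ∀ (i : C →+* C ⊗[sq.A] C) (hi : i.comp φ = i₁.comp φ) (q : d ⟶ sqC.ptT'),
        q.left = Spec.map (CommRingCat.ofHom i) →
        (yon S).map sqD.j ≫ (yon S).map q ≫ n ≫ a = sqD.top ∧
          ((yon S).map q ≫ n ≫ a) ≫ b = sqD.bot := by
      intro i hi q hqi
      have hqc : q ≫ specChg φ sq.str = specChg (i₁.comp φ) sq.str := by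
        ext : 1
        exact (congrArg (· ≫ _) hqi).trans (specMap_comp' hi)
      constructor
      · let s : sqD.ptT ⟶ sqC.ptT := Over.homMk
          (Spec.map (CommRingCat.ofHom (Ideal.quotientMap (sq.I.map (i₁.comp φ)) i
            (Ideal.map_le_iff_le_comap.1 ((Ideal.map_map φ i).trans (congrArg (fun k => sq.I.map k) hi)).le : sq.I.map φ ≤ _))))
          ((specMap_square (Ideal.quotientMap_comp_mk _) _).trans
            (congrArg (_ ≫ ·) ((Category.assoc _ _ _).symm.trans (congrArg (· ≫ sq.str) (specMap_comp' hi)))))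
        have hs1 : sqD.j ≫ q = s ≫ sqC.j := by
          ext : 1
          exact (congrArg (_ ≫ ·) hqi).trans
            ((specMap_comp' rfl).trans (specMap_comp' (Ideal.quotientMap_comp_mk _)).symm)
        have hs2 : s ≫ specQuotChg φ sq.I sq.str = specQuotChg (i₁.comp φ) sq.I sq.str := by
          ext : 1
          refine specMap_comp' (Ideal.Quotient.ringHom_ext ?_)
          ext x
          exact congrArg (Ideal.Quotient.mk _) (RingHom.congr_fun hi x)
        exact (Category.assoc _ _ _).symm.trans ((congrArg (· ≫ n ≫ a) (((yon S).map_comp _ _).symm.trans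
          ((congrArg (yon S).map hs1).trans ((yon S).map_comp _ _)))).trans ((Category.assoc _ _ _).trans
          ((congrArg (_ ≫ ·) he1).trans ((Category.assoc _ _ _).symm.trans
          (congrArg (· ≫ sq.top) (((yon S).map_comp _ _).symm.trans (congrArg (yon S).map hs2)))))))
      · exact (Category.assoc _ _ _).trans ((congrArg (_ ≫ ·) he2).trans ((Category.assoc _ _ _).symm.trans
          (congrArg (· ≫ sq.bot) (((yon S).map_comp _ _).symm.trans (congrArg (yon S).map hqc)))))
    exact hu sqD _ _ (side i₁ rfl q₁ rfl).1 (side i₁ rfl q₁ rfl).2 (side i₂ hii.symm q₂ rfl).1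
      (side i₂ hii.symm q₂ rfl).2
  obtain ⟨l, hl, -⟩ := cover_existsUnique_desc (specChg φ sq.str) (fppfSurj_specMap φ hφ hs) (n ≫ a) hdesc
  refine ⟨l, ?_, ?_⟩
  · refine cover_hom_ext (W := (Over.mk (Spec.map (CommRingCat.ofHom φ₀) ≫ sq.ptT.hom) : Over S))
      (specChg φ₀ sq.ptT.hom) (fppfSurj_specMap φ₀ hφ₀ hs₀) ?_
    have hi : IsIso r := by
      haveI : IsIso (CommRingCat.ofHom ρ) := by
        rw [ConcreteCategory.isIso_iff_bijective]
        exact (RingEquiv.bijective _)
      haveI : IsIso ((Over.forget S).map r) := inferInstanceAs (IsIso (Spec.map (CommRingCat.ofHom ρ)))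
      exact isIso_of_reflects_iso r (Over.forget S)
    rw [← cancel_epi ((yon S).map r)]
    have p1 : (yon S).map r ≫ (yon S).map (specChg φ₀ sq.ptT.hom) =
        (yon S).map (specQuotChg φ sq.I sq.str) :=
      ((yon S).map_comp _ _).symm.trans (congrArg (yon S).map hr)
    have p2 : (yon S).map (specQuotChg φ sq.I sq.str) ≫ (yon S).map sq.j =
        (yon S).map sqC.j ≫ (yon S).map (specChg φ sq.str) :=
      ((yon S).map_comp _ _).symm.trans ((congrArg (yon S).map (specQuotChg_comp φ sq.I sq.str).symm).trans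
        ((yon S).map_comp _ _))
    exact (Category.assoc _ _ _).symm.trans ((congrArg (· ≫ _) p1).trans
      ((Category.assoc _ _ _).symm.trans ((congrArg (· ≫ l) p2).trans ((Category.assoc _ _ _).trans
        ((congrArg (_ ≫ ·) hl).trans (he1.trans ((congrArg (· ≫ sq.top) p1).symm.trans (Category.assoc _ _ _))))))))
  · refine cover_hom_ext (specChg φ sq.str) (fppfSurj_specMap φ hφ hs) ?_
    exact (Category.assoc _ _ _).symm.trans ((congrArg (· ≫ b) hl).trans he2)

end Groth.Agent.SpFP87
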