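import Groth.Prelude.Def_AlgSpInf
/-!
Formal calculus of the infinitesimal lifting properties `IsFormallySmoothMor`, `IsFormallyUnramifiedMor`,
`IsFormallyEtaleMor` of morphisms of fppf sheaves.
-/

set_option autoImplicit false
universe u
open CategoryTheory CategoryTheory.Limits AlgebraicGeometry
open AlgSp

namespace Groth.Agent.SpFP87

variable {S : Scheme.{u}}

theorem hasUniqLift_iff {F G : Sp S} {f : F ⟶ G} (sq : InfSq f) :
    sq.HasUniqLift ↔ sq.HasLift ∧ sq.HasUniq := by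
  constructor
  · rintro ⟨l, hl, huniq⟩
    exact ⟨⟨l, hl⟩, fun l₁ l₂ h1 h2 h3 h4 => (huniq l₁ ⟨h1, h2⟩).trans (huniq l₂ ⟨h3, h4⟩).symm⟩
  · rintro ⟨⟨l, hl⟩, huniq⟩
    exact ⟨l, hl, fun l' hl' => huniq l' l hl'.1 hl'.2 hl.1 hl.2⟩

theorem isFormallyEtaleMor_iff {F G : Sp S} (f : F ⟶ G) :
    IsFormallyEtaleMor f ↔ IsFormallySmoothMor f ∧ IsFormallyUnramifiedMor f :=
  ⟨fun h => ⟨fun sq => ((hasUniqLift_iff sq).1 (h sq)).1, fun sq => ((hasUniqLift_iff sq).1 (h sq)).2⟩,
    fun h sq => (hasUniqLift_iff sq).2 ⟨h.1 sq, h.2 sq⟩⟩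

/-- Push a lifting square along a morphism after the target: square for `a ≫ b` gives square for `b`. -/
@[simps]
noncomputable def infSqPush {F G H : Sp S} (a : F ⟶ G) (b : G ⟶ H) (sq : InfSq (a ≫ b)) : InfSq b where
  A := sq.A
  I := sq.I
  sq_zero := sq.sq_zero
  str := sq.str
  top := sq.top ≫ a
  bot := sq.bot
  comm := by rw [Category.assoc]; exact sq.comm

/-- From a square for `a` get one for `a ≫ b`. -/
@[simps]
noncomputable def infSqPostcomp {F G H : Sp S} (a : F ⟶ G) (b : G ⟶ H) (sq : InfSq a) : InfSq (a ≫ b) where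
  A := sq.A
  I := sq.I
  sq_zero := sq.sq_zero
  str := sq.str
  top := sq.top
  bot := sq.bot ≫ b
  comm := by rw [← Category.assoc, sq.comm, Category.assoc]

theorem isFormallySmoothMor_comp {F G H : Sp S} (a : F ⟶ G) (b : G ⟶ H)
    (ha : IsFormallySmoothMor a) (hb : IsFormallySmoothMor b) : IsFormallySmoothMor (a ≫ b) := by
  intro sq
  obtain ⟨l, hl1, hl2⟩ := hb (infSqPush a b sq)
  have hcomm : sq.top ≫ a = (yon S).map sq.j ≫ l := hl1.symm
  obtain ⟨m, hm1, hm2⟩ := ha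
    { A := sq.A, I := sq.I, sq_zero := sq.sq_zero, str := sq.str, top := sq.top, bot := l,
      comm := hcomm }
  refine ⟨m, hm1, ?_⟩
  rw [← Category.assoc, hm2]
  exact hl2

theorem isFormallyUnramifiedMor_comp {F G H : Sp S} (a : F ⟶ G) (b : G ⟶ H)
    (ha : IsFormallyUnramifiedMor a) (hb : IsFormallyUnramifiedMor b) :
    IsFormallyUnramifiedMor (a ≫ b) := by
  intro sq l l' h1 h2 h3 h4
  have hla : l ≫ a = l' ≫ a := hb (infSqPush a b sq) (l ≫ a) (l' ≫ a)
    ((Category.assoc _ _ _).symm.trans (congrArg (· ≫ a) h1)) ((Category.assoc _ _ _).trans h2)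
    ((Category.assoc _ _ _).symm.trans (congrArg (· ≫ a) h3)) ((Category.assoc _ _ _).trans h4)
  exact ha
    { A := sq.A, I := sq.I, sq_zero := sq.sq_zero, str := sq.str, top := sq.top, bot := l ≫ a,
      comm := by
        show sq.top ≫ a = (yon S).map sq.j ≫ l ≫ a
        rw [← Category.assoc, h1] } l l' h1 rfl h3 hla.symm

theorem isFormallyUnramifiedMor_of_comp {F G H : Sp S} (a : F ⟶ G) (b : G ⟶ H)
    (h : IsFormallyUnramifiedMor (a ≫ b)) : IsFormallyUnramifiedMor a := by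
  intro sq l l' h1 h2 h3 h4
  exact h (infSqPostcomp a b sq) l l' h1 ((Category.assoc _ _ _).symm.trans (congrArg (· ≫ b) h2)) h3
    ((Category.assoc _ _ _).symm.trans (congrArg (· ≫ b) h4))

theorem isFormallySmoothMor_of_comp {F G H : Sp S} (a : F ⟶ G) (b : G ⟶ H)
    (hb : IsFormallyUnramifiedMor b)
    (h : IsFormallySmoothMor (a ≫ b)) : IsFormallySmoothMor a := by
  intro sq
  obtain ⟨l, hl1, hl2⟩ := h (infSqPostcomp a b sq)
  refine ⟨l, hl1, ?_⟩
  exact hb
    { A := sq.A, I := sq.I, sq_zero := sq.sq_zero, str := sq.str, top := sq.top ≫ a, bot := sq.bot ≫ b,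
      comm := by
        show (sq.top ≫ a) ≫ b = (yon S).map sq.j ≫ sq.bot ≫ b
        rw [← Category.assoc, sq.comm] } (l ≫ a) sq.bot
    ((Category.assoc _ _ _).symm.trans (congrArg (· ≫ a) hl1))
    ((Category.assoc _ _ _).trans hl2) sq.comm.symm rfl

theorem isFormallySmoothMor_baseChange {F G H P : Sp S} (a : F ⟶ G) (b : H ⟶ G)
    (b' : P ⟶ F) (a' : P ⟶ H) (hP : IsPullback b' a' a b) (ha : IsFormallySmoothMor a) :
    IsFormallySmoothMor a' := by
  intro sq
  obtain ⟨l, hl1, hl2⟩ := ha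
    { A := sq.A, I := sq.I, sq_zero := sq.sq_zero, str := sq.str, top := sq.top ≫ b', bot := sq.bot ≫ b,
      comm := by
        show (sq.top ≫ b') ≫ a = (yon S).map sq.j ≫ sq.bot ≫ b
        rw [Category.assoc, hP.w, ← Category.assoc, sq.comm, Category.assoc] }
  refine ⟨hP.lift l sq.bot hl2, ?_, hP.lift_snd _ _ _⟩
  apply hP.hom_ext
  · rw [Category.assoc, hP.lift_fst]; exact hl1
  · rw [Category.assoc, hP.lift_snd]; exact sq.comm.symm

theorem isFormallyUnramifiedMor_baseChange {F G H P : Sp S} (a : F ⟶ G) (b : H ⟶ G)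
    (b' : P ⟶ F) (a' : P ⟶ H) (hP : IsPullback b' a' a b) (ha : IsFormallyUnramifiedMor a) :
    IsFormallyUnramifiedMor a' := by
  intro sq l l' h1 h2 h3 h4
  have := ha
    { A := sq.A, I := sq.I, sq_zero := sq.sq_zero, str := sq.str, top := sq.top ≫ b', bot := sq.bot ≫ b,
      comm := by
        show (sq.top ≫ b') ≫ a = (yon S).map sq.j ≫ sq.bot ≫ b
        rw [Category.assoc, hP.w, ← Category.assoc, sq.comm, Category.assoc] }
    (l ≫ b') (l' ≫ b')
    ((Category.assoc _ _ _).symm.trans (congrArg (· ≫ b') h1))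
    ((Category.assoc _ _ _).trans ((congrArg (l ≫ ·) hP.w).trans
      ((Category.assoc _ _ _).symm.trans (congrArg (· ≫ b) h2))))
    ((Category.assoc _ _ _).symm.trans (congrArg (· ≫ b') h3))
    ((Category.assoc _ _ _).trans ((congrArg (l' ≫ ·) hP.w).trans
      ((Category.assoc _ _ _).symm.trans (congrArg (· ≫ b) h4))))
  exact hP.hom_ext this (h2.trans h4.symm)

end Groth.Agent.SpFP87
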