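import Groth.Agent.SpFP87.InfThick
import Groth.Agent.SpPts86.Quot
/-!
Existence of lifts along first order thickenings of algebraic spaces.
-/

set_option autoImplicit false
set_option linter.style.haveILetI false
universe u
open CategoryTheory CategoryTheory.Limits AlgebraicGeometry
open AlgSp

namespace Groth.Agent.SpFP87

variable {S : Scheme.{u}} {X Y T T' : Sp S} {f : X ⟶ Y} {j : T ⟶ T'}

/-- `m` is a lift over the chart `b` of the problem given by `a`, `y`. -/
def IsLiftOn (f : X ⟶ Y) (j : T ⟶ T') (a : T ⟶ X) (y : T' ⟶ Y) {V : Over S}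
    (b : (yon S).obj V ⟶ T') (m : (yon S).obj V ⟶ X) : Prop :=
  m ≫ f = b ≫ y ∧ ∀ (W : Over S) (t : (yon S).obj W ⟶ T) (x : W ⟶ V),
    t ≫ j = (yon S).map x ≫ b → (yon S).map x ≫ m = t ≫ a

variable {a : T ⟶ X} {y : T' ⟶ Y}

theorem IsLiftOn.restrict {V U : Over S} {b : (yon S).obj V ⟶ T'} {m : (yon S).obj V ⟶ X}
    (h : IsLiftOn f j a y b m) (c : U ⟶ V) :
    IsLiftOn f j a y ((yon S).map c ≫ b) ((yon S).map c ≫ m) := by
  refine ⟨by rw [Category.assoc, Category.assoc, h.1], fun W t x hx => ?_⟩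
  rw [← Functor.map_comp_assoc]
  exact h.2 W t (x ≫ c) (by rw [hx, Functor.map_comp_assoc])

theorem isLiftOn_unique_affine (hf : IsFormallyUnramifiedMor f) (hj : IsFOThickMor j) {V : Over S}
    [IsAffine V.left] {b : (yon S).obj V ⟶ T'} (hb : RepWith @Etale b) {m m' : (yon S).obj V ⟶ X}
    (h : IsLiftOn f j a y b m) (h' : IsLiftOn f j a y b m') : m = m' := by
  obtain ⟨W, t, i, hi1, hi2, ht⟩ := exists_chart_thickening hj b hb
  exact lift_unique_affine hf i hi2 ((h.2 W t i ht).trans (h'.2 W t i ht).symm) (h.1.trans h'.1.symm)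

theorem exists_isLiftOn_affine (hf : IsFormallySmoothMor f) (hj : IsFOThickMor j) (w : a ≫ f = j ≫ y)
    {V : Over S} [IsAffine V.left] {b : (yon S).obj V ⟶ T'} (hb : RepWith @Etale b) :
    ∃ m, IsLiftOn f j a y b m := by
  haveI : IsClosedImmersion (hj.1.rep.snd b).left := (hj.1.property_snd b).1
  have hpb := hj.1.rep.isPullback b
  obtain ⟨m, hm1, hm2⟩ := lift_exists_affine hf (hj.1.rep.snd b)
    (hj.2 b _ _ ‹_› hb hpb) (hj.1.rep.fst b ≫ a) (b ≫ y)
    (by rw [Category.assoc, w, ← Category.assoc, hpb.w, Category.assoc])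
  refine ⟨m, hm2, fun W t x hx => ?_⟩
  rw [← hpb.lift_snd _ _ hx, Category.assoc, hm1, ← Category.assoc, hpb.lift_fst]

/-- The lifting problem has exactly one solution on affine etale charts. -/
def AffineLifts (f : X ⟶ Y) (j : T ⟶ T') (a : T ⟶ X) (y : T' ⟶ Y) : Prop :=
  ∀ (V : Over S), IsAffine V.left → ∀ b : (yon S).obj V ⟶ T', RepWith @Etale b →
    ∃! m, IsLiftOn f j a y b m

theorem isLiftOn_unique (haff : AffineLifts f j a y) {V : Over S}
    {b : (yon S).obj V ⟶ T'} (hb : RepWith @Etale b) {m m' : (yon S).obj V ⟶ X}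
    (h : IsLiftOn f j a y b m) (h' : IsLiftOn f j a y b m') : m = m' := by
  obtain ⟨hc, hs⟩ := affineOpens_cover V
  refine fam_hom_ext _ _ hc hs fun U => ?_
  haveI : IsAffine U.1.toScheme := U.2
  exact (haff _ (inferInstanceAs (IsAffine U.1.toScheme)) _ (etale_openImm_comp hb U.1)).unique
    (h.restrict _) (h'.restrict _)

theorem exists_isLiftOn (haff : AffineLifts f j a y)
    {V : Over S} {b : (yon S).obj V ⟶ T'} (hb : RepWith @Etale b) :
    ∃ m, IsLiftOn f j a y b m := by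
  obtain ⟨hc, hs⟩ := affineOpens_cover V
  let VU : V.left.affineOpens → Over S := fun U => Over.mk (U.1.ι ≫ V.hom)
  let c : ∀ U, VU U ⟶ V := fun U => Over.homMk U.1.ι rfl
  have hex : ∀ U, ∃ m, IsLiftOn f j a y ((yon S).map (c U) ≫ b) m := fun U => by
    haveI : IsAffine U.1.toScheme := U.2
    haveI : IsAffine (VU U).left := inferInstanceAs (IsAffine U.1.toScheme)
    exact (haff _ ‹_› _ (etale_openImm_comp hb U.1)).exists
  choose e he using hex
  obtain ⟨m, hm, -⟩ := fam_existsUnique_desc VU c hc hs e fun U U' Z p q hpq => by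
    let R : Over S := Over.mk ((U.1 ⊓ U'.1).ι ≫ V.hom)
    let rU : R ⟶ VU U := Over.homMk (V.left.homOfLE inf_le_left) (by simp [R, VU])
    let rU' : R ⟶ VU U' := Over.homMk (V.left.homOfLE inf_le_right) (by simp [R, VU])
    have heq : (yon S).map rU ≫ e U = (yon S).map rU' ≫ e U' := by
      refine isLiftOn_unique (b := (yon S).map (Over.homMk (U.1 ⊓ U'.1).ι rfl : R ⟶ V) ≫ b) haff
        (etale_openImm_comp hb _) ?_ ?_
      · convert! (he U).restrict rU using 1
        rw [← Functor.map_comp_assoc]; congr 2; ext : 1; simp [rU, c]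
      · convert! (he U').restrict rU' using 1
        rw [← Functor.map_comp_assoc]; congr 2; ext : 1; simp [rU', c]
    have hrange : Set.range (p ≫ c U).left ⊆ Set.range (U.1 ⊓ U'.1).ι := by
      rintro _ ⟨z, rfl⟩
      rw [Scheme.Opens.range_ι]
      refine ⟨(p.left z).2, ?_⟩
      rw [hpq]
      exact (q.left z).2
    let k : Z ⟶ R := Over.homMk (IsOpenImmersion.lift (U.1 ⊓ U'.1).ι (p ≫ c U).left hrange)
      ((IsOpenImmersion.lift_fac_assoc _ _ hrange V.hom).trans (Over.w (p ≫ c U)))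
    have hk : k.left ≫ (U.1 ⊓ U'.1).ι = (p ≫ c U).left := IsOpenImmersion.lift_fac _ _ hrange
    have hp : k ≫ rU = p := by
      ext : 1
      rw [← cancel_mono U.1.ι]
      simpa [rU, c] using hk
    have hq : k ≫ rU' = q := by
      ext : 1
      rw [← cancel_mono U'.1.ι]
      rw [hpq] at hk
      simpa [rU', c] using hk
    rw [← hp, ← hq, Functor.map_comp_assoc, Functor.map_comp_assoc, heq]
  refine ⟨m, fam_hom_ext VU c hc hs fun U => ?_, fun W t x hx => ?_⟩
  · rw [← Category.assoc, hm, (he U).1, Category.assoc]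
  · obtain ⟨hcW, hsW⟩ : (∀ U : V.left.affineOpens, Flat (x.left ⁻¹ᵁ U.1).ι ∧
        LocallyOfFinitePresentation (x.left ⁻¹ᵁ U.1).ι) ∧
        ∀ z : ↥W.left, ∃ U : V.left.affineOpens, z ∈ Set.range (x.left ⁻¹ᵁ U.1).ι :=
      ⟨fun U => ⟨inferInstance, inferInstance⟩, fun z => by
        obtain ⟨U, hU⟩ := hs (x.left z)
        exact ⟨U, by rw [Scheme.Opens.range_ι]; change x.left z ∈ U.1; rw [← SetLike.mem_coe, ← Scheme.Opens.range_ι]; exact hU⟩⟩
    refine fam_hom_ext (fun U : V.left.affineOpens => Over.mk ((x.left ⁻¹ᵁ U.1).ι ≫ W.hom))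
      (fun U => Over.homMk (x.left ⁻¹ᵁ U.1).ι rfl) hcW hsW fun U => ?_
    let x' : (Over.mk ((x.left ⁻¹ᵁ U.1).ι ≫ W.hom) : Over S) ⟶ VU U :=
      Over.homMk (x.left ∣_ U.1) (by
        show (x.left ∣_ U.1) ≫ U.1.ι ≫ V.hom = _ ≫ W.hom
        rw [← Category.assoc, morphismRestrict_ι, Category.assoc, Over.w x])
    let wU : (Over.mk ((x.left ⁻¹ᵁ U.1).ι ≫ W.hom) : Over S) ⟶ W := Over.homMk (x.left ⁻¹ᵁ U.1).ι rfl
    have hx' : wU ≫ x = x' ≫ c U := by ext : 1; exact (morphismRestrict_ι _ _).symm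
    show (yon S).map wU ≫ (yon S).map x ≫ m = (yon S).map wU ≫ t ≫ a
    rw [← Functor.map_comp_assoc, hx', Functor.map_comp_assoc, hm,
      (he U).2 _ ((yon S).map wU ≫ t) x' (by
        rw [Category.assoc, hx, ← Functor.map_comp_assoc, hx', Functor.map_comp_assoc]),
      Category.assoc]

theorem existsUnique_of_affineLifts (haff : AffineLifts f j a y) (hT : IsAlgSpace T)
    (hT' : IsAlgSpace T') : ∃! l : T' ⟶ X, j ≫ l = a ∧ l ≫ f = y := by
  obtain ⟨V, b, hb, hbs⟩ := hT'.atlas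
  have hL := locLift_of_atlas hb hbs
  obtain ⟨m, hm⟩ := exists_isLiftOn haff hb
  obtain ⟨R, r, s, sq⟩ := exists_isPullback_yon hT'.diag b b
  have hR : RepWith @Etale ((yon S).map r ≫ b) :=
    (repWith_isMultiplicative (@Etale : MorphismProperty Scheme.{u})).comp_mem _ _
      ((repWith_yon_map_iff _ _).2 (etale_snd_of_isPullback sq.flip hb)) hb
  have hrs : (yon S).map r ≫ m = (yon S).map s ≫ m :=
    isLiftOn_unique haff hR (hm.restrict r) (by rw [sq.w]; exact hm.restrict s)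
  obtain ⟨l, hl⟩ := Groth.Agent.SpPts86.exists_desc hL m fun W p q hpq => by
    rw [← sq.lift_fst _ _ hpq, Category.assoc, hrs, ← Category.assoc, sq.lift_snd]
  haveI := hL.epi
  have h2 : l ≫ f = y := (cancel_epi b).1 (by rw [← Category.assoc, hl, hm.1])
  have h1 : j ≫ l = a := by
    obtain ⟨U, p, hp, hps⟩ := hT.atlas
    haveI := (locLift_of_atlas hp hps).epi
    refine (cancel_epi p).1 ?_
    obtain ⟨W, c, x', hc, hl'⟩ := hL U (p ≫ j)
    obtain ⟨x, rfl⟩ := (yon S).map_surjective x'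
    refine cover_hom_ext c hc ?_
    have := hm.2 W ((yon S).map c ≫ p) x (by rw [Category.assoc]; exact hl'.symm)
    calc (yon S).map c ≫ p ≫ j ≫ l = ((yon S).map c ≫ p ≫ j) ≫ l := by simp only [Category.assoc]
      _ = ((yon S).map x ≫ b) ≫ l := congrArg (· ≫ l) hl'.symm
      _ = (yon S).map x ≫ m := (Category.assoc _ _ _).trans (congrArg (_ ≫ ·) hl)
      _ = (yon S).map c ≫ p ≫ a := this.trans (Category.assoc _ _ _)
  refine ⟨l, ⟨h1, h2⟩, fun l' hl' => (cancel_epi b).1 ((isLiftOn_unique haff hb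
    ⟨by rw [Category.assoc, hl'.2], fun W t x hx => ?_⟩ hm).trans hl.symm)⟩
  rw [← Category.assoc, ← hx, Category.assoc, hl'.1]

theorem lift_existsUnique (hf : IsFormallyEtaleMor f) (hj : IsFOThickMor j) (hT : IsAlgSpace T)
    (hT' : IsAlgSpace T') (w : a ≫ f = j ≫ y) : ∃! l : T' ⟶ X, j ≫ l = a ∧ l ≫ f = y := by
  obtain ⟨hfs, hfu⟩ := (isFormallyEtaleMor_iff f).1 hf
  refine existsUnique_of_affineLifts (fun V _ b hb => ?_) hT hT'
  obtain ⟨m, hm⟩ := exists_isLiftOn_affine hfs hj w hb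
  exact ⟨m, hm, fun m' hm' => isLiftOn_unique_affine hfu hj hb hm' hm⟩

end Groth.Agent.SpFP87
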