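import Groth.Agent.SpFP87.SmoothObstruction
import Groth.Agent.SpFP87.FlatMono
import Groth.Agent.SpFP87.DecentAffine
import Groth.Agent.SpFP87.InfCharts
/-!
Smooth morphisms of algebraic spaces are formally smooth.
-/

set_option autoImplicit false
set_option linter.style.haveILetI false
set_option backward.isDefEq.respectTransparency false
universe u
open CategoryTheory CategoryTheory.Limits AlgebraicGeometry TensorProduct
open AlgSp
open Groth.Agent.SpPts86

namespace Groth.Agent.SpFP87

variable {S : Scheme.{u}}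

open Torsor in
/-- A smooth algebraic space over an affine scheme: sections over a square-zero subscheme extend. -/
theorem exists_section_of_smooth {A : Type u} [CommRing A] (I : Ideal A) (hI : I ^ 2 = ⊥)
    (str : Spec (CommRingCat.of A) ⟶ S) {F : Sp S} (hF : IsAlgSpace F) (π : F ⟶ (yon S).obj (Over.mk str))
    (hπ : LocP @Smooth π)
    (σ : (yon S).obj (Over.mk (Spec.map (CommRingCat.ofHom (Ideal.Quotient.mk I)) ≫ str)) ⟶ F)
    (hσ : σ ≫ π = (yon S).map (specChg (Ideal.Quotient.mk I) str)) :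
    ∃ l : (yon S).obj (Over.mk str) ⟶ F,
      (yon S).map (specChg (Ideal.Quotient.mk I) str) ≫ l = σ ∧ l ≫ π = 𝟙 _ := by
  classical
  obtain ⟨U, u₀, hu₀, hu₀s⟩ := hF.atlas
  let strQ := Spec.map (CommRingCat.ofHom (Ideal.Quotient.mk I)) ≫ str
  obtain ⟨B₀, _, φ₀, m, hφ₀, hφ₀s, hm⟩ := exists_spec_lift u₀ hu₀ hu₀s strQ σ
  obtain ⟨m', hm'⟩ := (yon S).map_surjective m
  haveI : CompactSpace (Over.mk (Spec.map (CommRingCat.ofHom φ₀) ≫ strQ)).left :=
    inferInstanceAs (CompactSpace (Spec (CommRingCat.of B₀)))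
  obtain ⟨O, hOc, hmO, -⟩ := exists_compact_open_between (V := U.left)
    (isCompact_range m'.left.continuous) ⊤ (fun _ _ => trivial)
  let OO : Over S := openOver U O
  let ι : OO ⟶ U := openIncl U O
  have hrange : Set.range m'.left ⊆ Set.range O.ι := by rw [Scheme.Opens.range_ι]; exact hmO
  let mO : Over.mk (Spec.map (CommRingCat.ofHom φ₀) ≫ strQ) ⟶ OO :=
    Over.homMk (IsOpenImmersion.lift O.ι m'.left hrange) (by
      show _ ≫ O.ι ≫ U.hom = _
      exact (Category.assoc _ _ _).symm.trans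
        ((congrArg (· ≫ U.hom) (IsOpenImmersion.lift_fac O.ι m'.left hrange)).trans (Over.w m')))
  have hmO : mO ≫ ι = m' := Over.OverMorphism.ext (IsOpenImmersion.lift_fac _ _ _)
  haveI : CompactSpace (Points ((yon S).obj OO)) :=
    haveI : CompactSpace OO.left := isCompact_iff_compactSpace.1 hOc
    (Points.schemeHomeo OO).compactSpace
  obtain ⟨U', a, hU', ha, has⟩ := exists_affine_chart_of_compactSpace (IsAlgSpace.yon_obj OO)
  haveI := hU'
  obtain ⟨B, _, ψ, m'', hψ, hψs, hm''⟩ := exists_spec_lift a ha has _ ((yon S).map mO)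
  let u : (yon S).obj U' ⟶ F := a ≫ (yon S).map ι ≫ u₀
  haveI : Etale ι.left := inferInstanceAs (Etale O.ι)
  have hu : RepWith @Etale u :=
    MorphismProperty.comp_mem (W := RepWith (@Etale : MorphismProperty Scheme.{u})) _ _ ha
      (repWith_etale_comp ι hu₀)
  -- the coordinate ring of the chart
  obtain ⟨h, hh⟩ := (yon S).map_surjective (u ≫ π)
  let D : CommRingCat.{u} := Γ(U'.left, ⊤)
  obtain ⟨χ, hχ⟩ := Spec.map_surjective (U'.left.isoSpec.inv ≫ h.left : Spec D ⟶ Spec (CommRingCat.of A))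
  algebraize [χ.hom, (ψ.comp φ₀).comp (Ideal.Quotient.mk I)]
  let eD : pt str D ⟶ U' := Over.homMk U'.left.isoSpec.inv (by
    show _ = Spec.map χ ≫ str
    rw [hχ, Category.assoc]
    exact congrArg _ (Over.w h).symm)
  haveI : IsIso eD.left := inferInstanceAs (IsIso U'.left.isoSpec.inv)
  let p : (yon S).obj (pt str D) ⟶ F := (yon S).map eD ≫ u
  have hp : RepWith @Etale p := repWith_etale_comp eD hu
  have hpπ : p ≫ π = (yon S).map (specChg (algebraMap A D) str) := by
    rw [Category.assoc, ← hh, ← Functor.map_comp]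
    congr 1
    exact Over.OverMorphism.ext hχ.symm
  haveI : Smooth (specChg (algebraMap A D) str).left :=
    hπ p (𝟙 _) _ hp (repWith_id _ _) (by rw [hpπ]; exact (Category.comp_id _).symm)
  haveI : Algebra.Smooth A D := by
    have h1 : Smooth (Spec.map (CommRingCat.ofHom (algebraMap A D))) := this
    exact (HasRingHomProperty.Spec_iff (P := @Smooth)).1 h1
  -- the point of the chart over the etale covering of the closed subscheme
  let Bo : Over S := Over.mk (Spec.map (CommRingCat.ofHom ψ) ≫ Spec.map (CommRingCat.ofHom φ₀) ≫ strQ)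
  let eB : pt str B ⟶ Bo := Over.homMk (show (pt str B).left ⟶ Bo.left from 𝟙 (Spec (CommRingCat.of B))) (by
    show 𝟙 _ ≫ Spec.map _ ≫ Spec.map _ ≫ Spec.map _ ≫ str = Spec.map _ ≫ str
    rw [Category.id_comp, ← Category.assoc, ← Category.assoc, ← Spec.map_comp, ← Spec.map_comp]
    rfl)
  let τ : pt str B ⟶ Over.mk strQ := eB ≫ specChg ψ _ ≫ specChg φ₀ strQ
  have hτ : τ.left = Spec.map (CommRingCat.ofHom (ψ.comp φ₀)) := by
    simp only [τ, eB, Over.comp_left, specChg, Over.homMk_left]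
    exact (Category.id_comp _).trans ((Spec.map_comp _ _).symm.trans
      (congrArg Spec.map (CommRingCat.ofHom_comp φ₀ ψ).symm))
  obtain ⟨m₁, hm₁⟩ := (yon S).map_surjective m''
  have hub : (yon S).map (eB ≫ m₁) ≫ u = (yon S).map τ ≫ σ := by
    simp only [u, τ, Functor.map_comp, Category.assoc, hm₁]
    rw [← Category.assoc m'' a, hm'', Category.assoc, ← (yon S).map_comp_assoc mO, hmO, hm', hm]
  haveI : IsIso ((Over.forget S).map eD) := inferInstanceAs (IsIso eD.left)
  haveI : IsIso eD := isIso_of_reflects_iso eD (Over.forget S)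
  obtain ⟨ub, hub'⟩ := exists_algHom_of_over str (eB ≫ m₁ ≫ inv eD) (by
    apply (yon S).map_injective
    have : (yon S).map (eB ≫ m₁ ≫ inv eD) ≫ p = (yon S).map τ ≫ σ := by
      rw [← hub, ← Category.assoc, ← Functor.map_comp]; simp
    rw [Functor.map_comp, ← hpπ, ← Category.assoc, this, Category.assoc, hσ, ← Functor.map_comp]
    congr 1
    refine Over.OverMorphism.ext ?_
    show τ.left ≫ Spec.map _ = _
    rw [hτ, ← Spec.map_comp]; rfl)
  have hΦu : Φ str p ub = (yon S).map τ ≫ σ := by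
    rw [← hub]; simp [Φ, hub', p]
  -- lift the covering
  let algQB : Algebra (A ⧸ I) B := (ψ.comp φ₀).toAlgebra
  haveI : IsScalarTower A (A ⧸ I) B := IsScalarTower.of_algebraMap_eq fun _ => rfl
  have hQB : (ψ.comp φ₀).Etale := RingHom.Etale.stableUnderComposition _ _ hφ₀ hψ
  haveI : Algebra.Etale (A ⧸ I) B := hQB
  haveI : Algebra.IsStandardSmoothOfRelativeDimension 0 (A ⧸ I) B :=
    Algebra.Etale.iff_isStandardSmoothOfRelativeDimension_zero.1 inferInstance
  obtain ⟨C, _, _, g, hC, hg, hker⟩ := exists_lift_standardSmooth (P := A) (A := A ⧸ I) (B := B)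
    Ideal.Quotient.mk_surjective
  haveI := hC
  have hker' : RingHom.ker g.toRingHom = I.map (algebraMap A C) :=
    hker.trans (congrArg (Ideal.map (algebraMap A C)) Ideal.mk_ker)
  have hkerI : (I.map (algebraMap A C)) ^ 2 = ⊥ := by rw [← Ideal.map_pow, hI, Ideal.map_bot]
  have hCs : Function.Surjective (PrimeSpectrum.comap (algebraMap A C)) := fun q => by
    have hIq : I ≤ q.asIdeal := fun x hx => q.2.mem_of_pow_mem 2 (by
      have : x ^ 2 ∈ I ^ 2 := Ideal.pow_mem_pow hx 2
      rw [hI, Ideal.mem_bot] at this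
      rw [this]; exact zero_mem _)
    obtain ⟨q₀, hq₀⟩ : q ∈ Set.range (PrimeSpectrum.comap (Ideal.Quotient.mk I)) := by
      rw [range_comap_of_surjective _ _ Ideal.Quotient.mk_surjective, Ideal.mk_ker]
      exact hIq
    obtain ⟨q₁, hq₁⟩ := hφ₀s q₀
    obtain ⟨q₂, hq₂⟩ := hψs q₁
    refine ⟨PrimeSpectrum.comap g.toRingHom q₂, ?_⟩
    rw [← PrimeSpectrum.comap_comp_apply]
    refine (congrArg (fun r : A →+* B => PrimeSpectrum.comap r q₂) g.comp_algebraMap).trans ?_
    rw [← hq₀, ← hq₁, ← hq₂]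
    rfl
  haveI : Module.Flat A C := inferInstance
  haveI : Module.FaithfullyFlat A C := Module.FaithfullyFlat.of_comap_surjective hCs
  let k₀ : D →ₐ[A] C := Algebra.FormallySmooth.liftOfSurjective ub g hg ⟨2, (congrArg (· ^ 2) hker').trans hkerI⟩
  have hk₀ : g.comp k₀ = ub := Algebra.FormallySmooth.comp_liftOfSurjective _ _ _ _
  -- restriction along algebra maps killing `I`
  have hfac : ∀ (R : Type u) [CommRing R] [Algebra A R], (∀ a ∈ I, algebraMap A R a = 0) →
      ∀ γ : C →ₐ[A] R, ∃ γb : B →ₐ[A] R, γb.comp g = γ := fun R _ _ hR γ => by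
    have h : RingHom.ker g.toRingHom ≤ RingHom.ker γ.toRingHom := by
      rw [hker', Ideal.map_le_iff_le_comap]
      intro a ha
      show γ (algebraMap A C a) = 0
      rw [γ.commutes, hR a ha]
    exact ⟨AlgHom.liftOfSurjective g hg γ h, AlgHom.ext fun c => AlgHom.liftOfSurjective_apply g hg γ h c⟩
  have hc : ∀ (R : Type u) [CommRing R] [Algebra A R], (∀ a ∈ I, algebraMap A R a = 0) →
      ∀ γ γ' : C →ₐ[A] R, Φ str p (γ.comp k₀) = Φ str p (γ'.comp k₀) := fun R _ _ hR γ γ' => by
    obtain ⟨γb, rfl⟩ := hfac R hR γ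
    obtain ⟨γb', rfl⟩ := hfac R hR γ'
    rw [AlgHom.comp_assoc, AlgHom.comp_assoc, hk₀, Φ_comp, Φ_comp, hΦu, ← Category.assoc, ← Category.assoc,
      ← Functor.map_comp, ← Functor.map_comp]
    congr 2
    refine Over.OverMorphism.ext ?_
    show Spec.map _ ≫ τ.left = Spec.map _ ≫ τ.left
    rw [hτ, ← Spec.map_comp, ← Spec.map_comp]
    congr 1
    refine CommRingCat.hom_ext (Ideal.Quotient.ringHom_ext (RingHom.ext fun x => ?_))
    exact (γb.commutes x).trans (γb'.commutes x).symm
  obtain ⟨k, hk, hkk⟩ := exists_corrected_lift I hp hpπ hI k₀ hc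
  have hgk : g.comp k = ub := by
    rw [← hk₀]
    refine AlgHom.ext fun d => ?_
    have := Ideal.Quotient.eq.1 (DFunLike.congr_fun hk d)
    rw [← hker', RingHom.mem_ker, map_sub, sub_eq_zero] at this
    exact this
  -- descend
  let c : pt str C ⟶ Over.mk str := specChg (algebraMap A C) str
  have hcov : fppfSurj c.left := fppfSurj_specMap _ (RingHom.etale_algebraMap.2 hC) hCs
  obtain ⟨l, hl, -⟩ := cover_existsUnique_desc c hcov (Φ str p k) (fun Z z₁ z₂ hz => by
    obtain ⟨qR, pr, rr, hpr, hrr, sqR⟩ := isPullback_over_spec (A := CommRingCat.of A) (B := CommRingCat.of C)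
      (C := CommRingCat.of C) (qA := str) (qB := (pt str C).hom) (qC := (pt str C).hom) c c rfl rfl
    obtain ⟨z, hzz⟩ := (yon S).map_surjective (sqR.lift ((yon S).map z₁) ((yon S).map z₂)
      (by rw [← Functor.map_comp, ← Functor.map_comp, hz]))
    let e : Over.mk qR ⟶ pt str (C ⊗[A] C) := Over.homMk
      (show (Over.mk qR).left ⟶ (pt str (C ⊗[A] C)).left from 𝟙 (Spec (CommRingCat.of (C ⊗[A] C)))) (by
      have hw : pr.left ≫ Spec.map (CommRingCat.ofHom (algebraMap A C)) ≫ str = qR := Over.w pr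
      rw [← hw, hpr, ← Category.assoc (Spec.map _) (Spec.map _) str, ← Spec.map_comp, ← CommRingCat.ofHom_comp]
      exact Category.id_comp _)
    have e₁ : pr = e ≫ sp str (Algebra.TensorProduct.includeLeft : C →ₐ[A] C ⊗[A] C) :=
      Over.OverMorphism.ext (hpr.trans (Category.id_comp _).symm)
    have e₂ : rr = e ≫ sp str (Algebra.TensorProduct.includeRight : C →ₐ[A] C ⊗[A] C) :=
      Over.OverMorphism.ext (hrr.trans (Category.id_comp _).symm)
    rw [show (yon S).map z₁ = (yon S).map z ≫ (yon S).map pr by rw [hzz, sqR.lift_fst],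
      show (yon S).map z₂ = (yon S).map z ≫ (yon S).map rr by rw [hzz, sqR.lift_snd], e₁, e₂,
      Functor.map_comp, Functor.map_comp]
    simp only [Category.assoc]
    rw [← Φ_comp, ← Φ_comp, hkk])
  refine ⟨l, ?_, ?_⟩
  · have hτc : fppfSurj τ.left := by
      rw [hτ]; exact fppfSurj_specMap _ hQB (fun x => by
        obtain ⟨y, hy⟩ := hφ₀s x
        obtain ⟨z, hz⟩ := hψs y
        exact ⟨z, by rw [PrimeSpectrum.comap_comp_apply, hz, hy]⟩)
    refine cover_hom_ext τ hτc ?_
    rw [← hΦu, ← hgk, Φ_comp, ← hl, ← Category.assoc, ← Functor.map_comp, ← Category.assoc,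
      ← Functor.map_comp]
    congr 2
    refine Over.OverMorphism.ext ?_
    show τ.left ≫ Spec.map _ = Spec.map _ ≫ Spec.map _
    rw [hτ, ← Spec.map_comp, ← Spec.map_comp]
    congr 1
    exact CommRingCat.hom_ext g.comp_algebraMap.symm
  · refine cover_hom_ext c hcov ?_
    rw [← Category.assoc, hl, Category.comp_id, Category.assoc, hpπ, ← Functor.map_comp, sp_toA]

/-- Smooth morphisms of algebraic spaces are formally smooth. -/
theorem isFormallySmoothMor_of_smooth {X Y : Sp S} (f : X ⟶ Y) (hX : IsAlgSpace X) (hY : IsAlgSpace Y)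
    (hf : LocP @Smooth f) : IsFormallySmoothMor f := by
  intro sq
  have sqF : IsPullback (pullback.fst f sq.bot) (pullback.snd f sq.bot) f sq.bot := IsPullback.of_hasPullback _ _
  have hF := isAlgSpace_of_isPullback sqF hX (IsAlgSpace.yon_obj sq.ptT') hY.diag
  obtain ⟨l, hl₁, hl₂⟩ := exists_section_of_smooth sq.I sq.sq_zero sq.str hF (pullback.snd f sq.bot)
    (locP_baseChange sqF hX hY (IsAlgSpace.yon_obj sq.ptT') hf) (sqF.lift sq.top ((yon S).map sq.j) sq.comm)
    (sqF.lift_snd _ _ _)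
  refine ⟨l ≫ pullback.fst f sq.bot, ?_, ?_⟩
  · rw [← Category.assoc, hl₁, sqF.lift_fst]
  · rw [Category.assoc, pullback.condition, ← Category.assoc, hl₂, Category.id_comp]

end Groth.Agent.SpFP87
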