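import Groth.Agent.SpFP87.InfThickExists
/-!
Universal first order thickenings.
-/

set_option autoImplicit false
set_option linter.style.haveILetI false
universe u
open CategoryTheory CategoryTheory.Limits AlgebraicGeometry
open AlgSp

namespace Groth.Agent.SpFP87

variable {S : Scheme.{u}}

/-- First order thickenings are stable under base change along etale morphisms. -/
theorem isFOThickMor_etale_baseChange {T T' U U' : Sp S} {p : U ⟶ T} {i : U ⟶ U'} {j : T ⟶ T'}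
    {p' : U' ⟶ T'} (sq : IsPullback p i j p') (hp : IsEtaleMor p') (hj : IsFOThickMor j) :
    IsFOThickMor i :=
  ⟨(repWith_isStableUnderBaseChange thick).of_isPullback sq hj.1,
    fun _ _ b _ _ hV hb sq' => hj.2 (b ≫ p') _ _ hV (hp b hb) (sq'.paste_horiz sq)⟩

theorem isFOThickMor_chart {T T' : Sp S} {j : T ⟶ T'} (hj : IsFOThickMor j) {V : Over S}
    {b : (yon S).obj V ⟶ T'} (hb : RepWith @Etale b) :
    IsFOThickMor ((yon S).map (hj.1.rep.snd b)) :=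
  isFOThickMor_etale_baseChange (hj.1.rep.isPullback b) (fun _ φ hφ =>
    (repWith_isMultiplicative (@Etale : MorphismProperty Scheme.{u})).comp_mem φ b hφ hb) hj

theorem isUnivFOThick_of_affine_test {Z Z' X : Sp S} (h : Z ⟶ X) (i : Z ⟶ Z') (h' : Z' ⟶ X)
    (hi : IsFOThickMor i) (w : i ≫ h' = h)
    (H : ∀ (T T' : Over S) (j : T ⟶ T'), IsAffine T'.left → IsFOThickMor ((yon S).map j) →
      ∀ (a : (yon S).obj T ⟶ Z) (b : (yon S).obj T' ⟶ X),
        (yon S).map j ≫ b = a ≫ h →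
        ∃! a' : (yon S).obj T' ⟶ Z', (yon S).map j ≫ a' = a ≫ i ∧ a' ≫ h' = b) :
    IsUnivFOThick h i h' := by
  refine ⟨hi, w, fun T T' hT hT' j a b hj hab => ?_⟩
  refine existsUnique_of_affineLifts (a := a ≫ i) (y := b) (fun V hV c hc => ?_) hT hT'
  have hpb := hj.1.rep.isPullback c
  obtain ⟨m, ⟨hm1, hm2⟩, hu⟩ := H _ _ _ hV (isFOThickMor_chart hj hc) (hj.1.rep.fst c ≫ a) (c ≫ b)
    (by rw [← Category.assoc, ← hpb.w, Category.assoc, hab, Category.assoc])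
  refine ⟨m, ⟨hm2, fun W t x hx => ?_⟩, fun m' hm' => hu m' ⟨?_, hm'.1⟩⟩
  · rw [← hpb.lift_snd _ _ hx, Category.assoc, hm1, Category.assoc (hj.1.rep.fst c),
      ← Category.assoc, hpb.lift_fst]
  · exact (hm'.2 _ _ _ hpb.w).trans (Category.assoc _ _ _).symm

theorem isUnivFOThick_comp_formallyEtale {Z Z' Y X : Sp S} {hZ : Z ⟶ Y} {g : Y ⟶ X} {i : Z ⟶ Z'}
    {h' : Z' ⟶ Y} (HU : IsUnivFOThick hZ i h') (hg : IsFormallyEtaleMor g) :
    IsUnivFOThick (hZ ≫ g) i (h' ≫ g) := by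
  refine ⟨HU.1, by rw [← Category.assoc, HU.2.1], fun T T' hT hT' j a b hj hab => ?_⟩
  obtain ⟨l, ⟨hl1, hl2⟩, hlu⟩ := lift_existsUnique (a := a ≫ hZ) (y := b) hg hj hT hT'
    (by rw [Category.assoc, hab])
  obtain ⟨m, ⟨hm1, hm2⟩, hmu⟩ := HU.2.2 hT hT' j a l hj hl1
  refine ⟨m, ⟨hm1, by rw [← Category.assoc, hm2, hl2]⟩, fun m' hm' => hmu m' ⟨hm'.1, hlu _ ⟨?_, ?_⟩⟩⟩
  · rw [← Category.assoc, hm'.1, Category.assoc, HU.2.1]
  · rw [Category.assoc]; exact hm'.2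

theorem isUnivFOThick_etale_baseChange {Z Y Y' Z' X : Sp S} {e : Z ⟶ Y} {hY : Y ⟶ X} {iY : Y ⟶ Y'}
    {hY' : Y' ⟶ X} (HU : IsUnivFOThick hY iY hY') {iZ : Z ⟶ Z'} {e' : Z' ⟶ Y'}
    (he' : IsEtaleMor e') (hfe' : IsFormallyEtaleMor e') (sq : IsPullback e iZ iY e') :
    IsUnivFOThick (e ≫ hY) iZ (e' ≫ hY') := by
  refine ⟨isFOThickMor_etale_baseChange sq he' HU.1,
    by rw [← Category.assoc, ← sq.w, Category.assoc, HU.2.1], fun T T' hT hT' j a b hj hab => ?_⟩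
  obtain ⟨m, ⟨hm1, hm2⟩, hmu⟩ := HU.2.2 hT hT' j (a ≫ e) b hj (by rw [Category.assoc, hab])
  obtain ⟨l, ⟨hl1, hl2⟩, hlu⟩ := lift_existsUnique (a := a ≫ iZ) (y := m) hfe' hj hT hT'
    (by rw [hm1, Category.assoc, Category.assoc, sq.w])
  refine ⟨l, ⟨hl1, by rw [← Category.assoc, hl2, hm2]⟩, fun l' hl' => hlu l' ⟨hl'.1, ?_⟩⟩
  refine hmu _ ⟨?_, by rw [Category.assoc]; exact hl'.2⟩
  rw [← Category.assoc, hl'.1, Category.assoc, ← sq.w, Category.assoc]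

end Groth.Agent.SpFP87
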