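import Groth.Agent.SpFP87.ClosedIdeal
import Groth.Agent.SpFP87.UnivThick
import Groth.Agent.SpFP87.UnivThickUnram
import Groth.Agent.SpPts86.Basic
/-!
The first order infinitesimal neighbourhood is a universal first order thickening.
-/

set_option autoImplicit false
set_option linter.style.haveILetI false
universe u
open CategoryTheory CategoryTheory.Limits AlgebraicGeometry
open AlgSp

namespace Groth.Agent.SpFP87

variable {S : Scheme.{u}} {Z U Z₁ : Sp S} {c : Z ⟶ U} {j : Z ⟶ Z₁} {k : Z₁ ⟶ U}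

theorem preIdeal_infNbhd_chart (hN : IsInfNbhd 1 c j k) {V : Over S} [IsAffine V.left]
    (b : (yon S).obj V ⟶ U) (hb : RepWith @Etale b) :
    preIdeal hN.2.2.1 b = preIdeal hN.2.1 b * preIdeal hN.2.1 b := by
  haveI : IsClosedImmersion (hN.2.1.rep.snd b).left := hN.2.1.property_snd b
  haveI : IsClosedImmersion (hN.2.2.1.rep.snd b).left := hN.2.2.1.property_snd b
  have h := congrArg (fun J : V.left.IdealSheafData => J.ideal ⟨⊤, isAffineOpen_top _⟩)
    (hN.2.2.2 b _ _ _ _ ‹_› hb (hN.2.1.rep.isPullback b) (hN.2.2.1.rep.isPullback b))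
  simp [Scheme.IdealSheafData.ideal_pow, Scheme.Hom.ker_apply, pow_two, Pi.mul_apply,
    Scheme.Hom.appTop, preIdeal] at h ⊢
  exact h

theorem preIdeal_infNbhd (hU : IsAlgSpace U) (hN : IsInfNbhd 1 c j k) {V : Over S} [IsAffine V.left]
    (g : (yon S).obj V ⟶ U) :
    preIdeal hN.2.2.1 g = preIdeal hN.2.1 g * preIdeal hN.2.1 g := by
  have hloc : ∀ (I I' : Ideal Γ(V.left, ⊤)),
      (∀ {P : Over S} [IsAffine P.left] (w : P ⟶ V) {V₀ : Over S} [IsAffine V₀.left]
        (b : (yon S).obj V₀ ⟶ U) (w₀ : P ⟶ V₀), RepWith @Etale b →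
        (yon S).map w ≫ g = (yon S).map w₀ ≫ b → I.map w.left.appTop.hom ≤ I'.map w.left.appTop.hom) →
      I ≤ I' := by
    intro I I' h x hx
    by_contra hx'
    obtain ⟨M, hM, hxM⟩ := Ideal.exists_le_maximal (I'.colon ({x} : Set Γ(V.left, ⊤))) (by
      intro htop
      apply hx'
      rw [Ideal.eq_top_iff_one, Submodule.mem_colon_singleton] at htop
      simpa using htop)
    obtain ⟨V₀, P, _, _, b, w, w₀, q, hb, hflat, hw, hq⟩ := exists_local_chart hU g ⟨M, hM.isPrime⟩
    obtain ⟨s, hs1, hs2⟩ := exists_notMem_mul_mem _ hflat q (h w b w₀ hb hw (Ideal.mem_map_of_mem _ hx))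
    refine hs1 ?_
    have hsM : s ∈ M := hxM (Submodule.mem_colon_singleton.2 (by simpa using hs2))
    rw [← show (PrimeSpectrum.comap w.left.appTop.hom q).asIdeal = M from congrArg PrimeSpectrum.asIdeal hq] at hsM
    exact hsM
  have key : ∀ {P : Over S} [IsAffine P.left] (w : P ⟶ V) {V₀ : Over S} [IsAffine V₀.left]
      (b : (yon S).obj V₀ ⟶ U) (w₀ : P ⟶ V₀), RepWith @Etale b →
      (yon S).map w ≫ g = (yon S).map w₀ ≫ b →
      (preIdeal hN.2.2.1 g).map w.left.appTop.hom =
        (preIdeal hN.2.1 g * preIdeal hN.2.1 g).map w.left.appTop.hom := by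
    intro P _ w V₀ _ b w₀ hb hw
    rw [Ideal.map_mul, ← preIdeal_comp, ← preIdeal_comp, hw, preIdeal_comp, preIdeal_comp,
      preIdeal_infNbhd_chart hN b hb, Ideal.map_mul]
  exact le_antisymm (hloc _ _ fun {_} _ w {_} _ b w₀ hb hw => (key w b w₀ hb hw).le)
    (hloc _ _ fun {_} _ w {_} _ b w₀ hb hw => (key w b w₀ hb hw).ge)

theorem preIdeal_eq_bot_iff {T T' : Sp S} {c : T ⟶ T'} (hc : RepWith @IsClosedImmersion c) {V : Over S}
    [IsAffine V.left] (g : (yon S).obj V ⟶ T') : preIdeal hc g = ⊥ ↔ ∃ m, m ≫ c = g := by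
  haveI : IsClosedImmersion (hc.rep.snd g).left := hc.property_snd g
  constructor
  · intro h
    have hle : (hc.rep.snd g).left.ker ≤ Scheme.Hom.ker (𝟙 V.left) := by
      refine Scheme.IdealSheafData.le_of_isAffine ?_
      rw [Scheme.Hom.ker_apply]
      exact h.le.trans bot_le
    let m₀ : V ⟶ hc.rep.pullback g :=
      Over.homMk (IsClosedImmersion.lift (hc.rep.snd g).left (𝟙 V.left) hle) (by
        rw [← Over.w (hc.rep.snd g), IsClosedImmersion.lift_fac_assoc, Category.id_comp])
    have hm₀ : m₀ ≫ hc.rep.snd g = 𝟙 V := Over.OverMorphism.ext (IsClosedImmersion.lift_fac _ _ hle)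
    refine ⟨(yon S).map m₀ ≫ hc.rep.fst g, ?_⟩
    rw [Category.assoc, (hc.rep.isPullback g).w, ← Functor.map_comp_assoc, hm₀,
      CategoryTheory.Functor.map_id, Category.id_comp]
  · rintro ⟨m, hm⟩
    obtain ⟨m₀, hm₀⟩ := (yon S).map_surjective ((hc.rep.isPullback g).lift m (𝟙 _) (by rw [hm, Category.id_comp]))
    have e : m₀ ≫ hc.rep.snd g = 𝟙 V := (yon S).map_injective (by
      rw [Functor.map_comp, hm₀, (hc.rep.isPullback g).lift_snd, CategoryTheory.Functor.map_id])
    rw [eq_bot_iff]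
    intro x hx
    have h0 : (hc.rep.snd g).left.appTop x = 0 := hx
    have := congr(Scheme.Hom.appTop $(congrArg CommaMorphism.left e) x)
    simp only [Over.comp_left, Over.id_left, Scheme.Hom.comp_appTop, CommRingCat.comp_apply, h0,
      map_zero, Scheme.Hom.id_appTop, CommRingCat.id_apply] at this
    exact (Ideal.mem_bot).2 this.symm

theorem isFOThickMor_infNbhd (hU : IsAlgSpace U) (hN : IsInfNbhd 1 c j k) : IsFOThickMor j := by
  haveI : Mono k := mono_of_repWith_closed (P := @IsClosedImmersion)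
    (fun _ hf => by haveI := hf; infer_instance) k hN.2.2.1
  have sq : IsPullback (𝟙 Z) j c k :=
    IsPullback.of_isLimit' ⟨by rw [Category.id_comp, hN.1]⟩
      (PullbackCone.IsLimit.mk _ (fun s => s.fst) (fun s => Category.comp_id _)
        (fun s => (cancel_mono k).1 (by rw [Category.assoc, hN.1, s.condition]))
        (fun s m h1 _ => (Category.comp_id m).symm.trans h1))
  have hjc : RepWith @IsClosedImmersion j :=
    (repWith_isStableUnderBaseChange (@IsClosedImmersion : MorphismProperty Scheme.{u})).of_isPullback sq hN.2.1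
  have hker : ∀ {V W : Over S} [IsAffine V.left] (b : (yon S).obj V ⟶ Z₁) (t : (yon S).obj W ⟶ Z) (i : W ⟶ V),
      IsPullback t ((yon S).map i) j b →
      RingHom.ker i.left.appTop.hom * RingHom.ker i.left.appTop.hom = ⊥ := by
    intro V W _ b t i hb
    have sq2 : IsPullback t ((yon S).map i) c (b ≫ k) := by
      simpa using hb.paste_horiz sq
    rw [← preIdeal_eq hN.2.1 (b ≫ k) sq2, ← preIdeal_infNbhd hU hN]
    exact (preIdeal_eq_bot_iff hN.2.2.1 _).2 ⟨b, rfl⟩
  refine ⟨⟨hjc.rep, fun T W g t i sqg => ⟨hjc.property g t i sqg, ⟨fun x => ?_⟩⟩⟩,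
    fun V W b t i hV _ sqb => ?_⟩
  · obtain ⟨O, hO, hxO, -⟩ := exists_isAffineOpen_mem_and_subset (U := (⊤ : T.left.Opens)) (x := x) trivial
    haveI : IsAffine O.toScheme := hO
    let V : Over S := Over.mk (O.ι ≫ T.hom)
    haveI : IsAffine V.left := hO
    let ι : V ⟶ T := Over.homMk O.ι rfl
    obtain ⟨W', r, s, sqV⟩ : ∃ (W' : Over S) (r : W' ⟶ W) (s : W' ⟶ V), IsPullback r s i ι :=
      ⟨_, _, _, IsPullback.of_hasPullback i ι⟩
    have sqy := sqV.map (yon S)
    have h2 := hker _ _ s (sqy.paste_horiz sqg)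
    haveI : IsClosedImmersion s.left := hjc.property _ _ _ (sqy.paste_horiz sqg)
    haveI : IsAffine W'.left := (IsClosedImmersion.isAffine_surjective_of_isAffine s.left).1
    have hsurj := (IsClosedImmersion.isAffine_surjective_of_isAffine s.left).2
    obtain ⟨p, hp⟩ : ∃ p : PrimeSpectrum Γ(V.left, ⊤), V.left.isoSpec.inv p = ⟨x, hxO⟩ :=
      ⟨V.left.isoSpec.hom ⟨x, hxO⟩, congr($(V.left.isoSpec.hom_inv_id) ⟨x, hxO⟩)⟩
    obtain ⟨p', hp'⟩ : p ∈ Set.range (PrimeSpectrum.comap s.left.appTop.hom) := by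
      rw [range_comap_of_surjective _ _ hsurj, PrimeSpectrum.mem_zeroLocus]
      intro y hy
      have h0 : y * y = 0 := (Submodule.eq_bot_iff _).1 h2 _ (Ideal.mul_mem_mul hy hy)
      exact (p.isPrime.mem_or_mem (show y * y ∈ p.asIdeal by rw [h0]; exact zero_mem _)).elim id id
    refine ⟨r.left (W'.left.isoSpec.inv p'), ?_⟩
    have e1 := congr($(congrArg CommaMorphism.left sqV.w) (W'.left.isoSpec.inv p'))
    simp only [Over.comp_left, Scheme.Hom.comp_apply] at e1
    refine e1.trans ?_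
    have e2 := congr($(Scheme.isoSpec_inv_naturality s.left) p')
    change ι.left (s.left (W'.left.isoSpec.inv p')) = x
    refine (congrArg ι.left e2.symm).trans ?_
    change ι.left (V.left.isoSpec.inv (Spec.map s.left.appTop p')) = x
    have : Spec.map s.left.appTop p' = p := hp'
    rw [this, hp]
    rfl
  · haveI := hV
    haveI : IsClosedImmersion i.left := hjc.property b t i sqb
    exact (sqZero_iff_ker_appTop i.left).2 (hker b t i sqb)

theorem isUnivFOThick_infNbhd {X : Sp S} (hU : IsAlgSpace U) {u : U ⟶ X}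
    (hu : RepWith @IsOpenImmersion u) (hN : IsInfNbhd 1 c j k) :
    IsUnivFOThick (c ≫ u) j (k ≫ u) := by
  haveI : Mono k := mono_of_repWith_closed (P := @IsClosedImmersion)
    (fun _ hf => by haveI := hf; infer_instance) k hN.2.2.1
  haveI : Mono u := mono_of_repWith_closed (P := @IsOpenImmersion)
    (fun _ hf => by haveI := hf; infer_instance) u hu
  refine isUnivFOThick_of_affine_test _ _ _ (isFOThickMor_infNbhd hU hN)
    (by rw [← Category.assoc, hN.1]) fun T T' i hT' hi a b hab => ?_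
  haveI := hT'
  obtain ⟨hth, hsz⟩ := isFirstOrderThickening_of_isFOThickMor_yon_map hT' hi
  haveI : IsClosedImmersion i.left := ((thick_iff _).2 hth).1
  haveI : Surjective i.left := ((thick_iff _).2 hth).2
  -- the map to `X` lands in `U`
  obtain ⟨b', hb'⟩ : ∃ b' : (yon S).obj T' ⟶ U, b' ≫ u = b := by
    have hpb := hu.rep.isPullback b
    haveI : IsOpenImmersion (hu.rep.snd b).left := hu.property_snd b
    obtain ⟨t, ht⟩ := (yon S).map_surjective (hpb.lift (a ≫ c) ((yon S).map i) (by rw [Category.assoc, hab]))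
    have ht' : t ≫ hu.rep.snd b = i := (yon S).map_injective (by
      rw [Functor.map_comp, ht, hpb.lift_snd])
    haveI : Epi (hu.rep.snd b).left.base := by
      rw [TopCat.epi_iff_surjective]
      intro x
      obtain ⟨y, rfl⟩ := i.left.surjective x
      exact ⟨t.left y, congr($(congrArg CommaMorphism.left ht') y)⟩
    haveI : IsIso (hu.rep.snd b).left := IsOpenImmersion.isIso _
    haveI : IsIso ((Over.forget S).map (hu.rep.snd b)) := ‹IsIso (hu.rep.snd b).left›
    haveI : IsIso (hu.rep.snd b) := isIso_of_reflects_iso _ (Over.forget S)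
    exact ⟨inv ((yon S).map (hu.rep.snd b)) ≫ hu.rep.fst b, by
      rw [Category.assoc, hpb.w, IsIso.inv_hom_id_assoc]⟩
  have hab' : (yon S).map i ≫ b' = a ≫ c := (cancel_mono u).1 (by
    rw [Category.assoc, Category.assoc, hb', hab])
  -- hence it factors through `Z₁`
  obtain ⟨m, hm⟩ : ∃ m, m ≫ k = b' := by
    rw [← preIdeal_eq_bot_iff hN.2.2.1, preIdeal_infNbhd hU hN, eq_bot_iff]
    have hle : preIdeal hN.2.1 b' ≤ RingHom.ker i.left.appTop.hom := by
      have h := (preIdeal_le_ker_iff hN.2.1 b' (Ideal.Quotient.mk (RingHom.ker i.left.appTop.hom))).1 (by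
        obtain ⟨l, hl⟩ := (exists_factor_iff i (Ideal.Quotient.mk (RingHom.ker i.left.appTop.hom))).2
          (by rw [Ideal.mk_ker])
        exact ⟨(yon S).map l ≫ a, (Category.assoc _ _ _).trans ((congrArg (_ ≫ ·) hab'.symm).trans
          ((Category.assoc _ _ _).symm.trans (congrArg (· ≫ b')
            (((yon S).map_comp _ _).symm.trans (congrArg (yon S).map hl)))))⟩)
      rwa [Ideal.mk_ker] at h
    exact (Ideal.mul_mono hle hle).trans ((sqZero_iff_ker_appTop i.left).1 hsz).le
  refine ⟨m, ⟨(cancel_mono k).1 ?_, by rw [← Category.assoc, hm, hb']⟩, fun m' hm' =>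
    (cancel_mono k).1 ((cancel_mono u).1 ?_)⟩
  · rw [Category.assoc, hm, hab', Category.assoc, hN.1]
  · rw [hm, hb', Category.assoc]
    exact hm'.2

end Groth.Agent.SpFP87
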