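import Groth.Agent.SpFP87.FlatAt
import Groth.Agent.SpFP87.ThickOpen
import Groth.Agent.SpFP87.LocalST
import Groth.Agent.SpFP87.FpqcMono
import Groth.Agent.SpFP87.MonoTfae
import Groth.Agent.SpFP87.OpenMor
import Groth.Agent.SpFP87.Deform
import Groth.Agent.SpPts86.UnramDiag
import Groth.Agent.SpPts86.LocPNear
import Groth.Agent.SpPts86.UnivInj
import Groth.Agent.LimTop61.LciNear
import Groth.Agent.S10312
import Groth.Agent.S10278
import Groth.Agent.S10668
/-!
Open subspaces of the base over which a morphism has a property.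
-/

set_option autoImplicit false
set_option linter.style.haveILetI false
set_option backward.isDefEq.respectTransparency false
universe u
open CategoryTheory CategoryTheory.Limits AlgebraicGeometry
open AlgSp
open Groth.Agent.SpPts86

namespace Groth.Agent.SpFP87

variable {S : Scheme.{u}} {X Y Z : Space S} {f : X ⟶ Y} {q : Y ⟶ Z}

/-- All base changes of `f` along `g` satisfy `Q`. -/
def BCHolds (f : X ⟶ Y) (q : Y ⟶ Z) (Q : MorphismProperty (Sp S)) {Z' : Space S} (g : Z' ⟶ Z) : Prop :=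
  ∀ (Y' : Space S) (gY : Y' ⟶ Y) (q' : Y' ⟶ Z'), IsPullback gY.hom q'.hom q.hom g.hom →
    ∀ (X' : Space S) (gX : X' ⟶ X) (f' : X' ⟶ Y'), IsPullback gX.hom f'.hom f.hom gY.hom → Q f'.hom

/-- `W` is the open set over which `f` has `Q`. -/
def WhereSet (f : X ⟶ Y) (q : Y ⟶ Z) (Q : MorphismProperty (Sp S)) (W : Set (Points Z.obj)) : Prop :=
  IsOpen W ∧ ∀ (Z' : Space S) (g : Z' ⟶ Z), Set.range (Points.map g.hom) ⊆ W ↔ BCHolds f q Q g

theorem WhereSet.exists_open {Q : MorphismProperty (Sp S)} {W : Set (Points Z.obj)} (h : WhereSet f q Q W) :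
    ∃ (V : Space S) (w : V ⟶ Z), RepWith @IsOpenImmersion w.hom ∧
      ∀ (Z' : Space S) (g : Z' ⟶ Z), (∃ k : Z' ⟶ V, k ≫ w = g) ↔ BCHolds f q Q g := by
  refine ⟨⟨_, isAlgSpace_restrictSheaf (W := W) Z.property h.1⟩, ObjectProperty.homMk (restrictι Z.obj W),
    repWith_restrictι h.1, fun Z' g => ?_⟩
  rw [← h.2 Z' g]
  constructor
  · rintro ⟨k, rfl⟩ _ ⟨z, rfl⟩
    have := (range_map_restrictι (F := Z.obj) h.1).le ⟨Points.map k.hom z, rfl⟩
    rwa [← Points.map_comp] at this
  · intro hg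
    obtain ⟨k, hk⟩ := exists_factor_of_range_subset (repWith_restrictι h.1) g.hom
      (by rw [range_map_restrictι h.1]; exact hg)
    exact ⟨ObjectProperty.homMk k, ObjectProperty.hom_ext _ hk⟩

theorem WhereSet.congr {Q Q' : MorphismProperty (Sp S)} {W : Set (Points Z.obj)} (h : WhereSet f q Q W)
    (hQ : ∀ (Z' : Space S) (g : Z' ⟶ Z) (Y' : Space S) (gY : Y' ⟶ Y) (q' : Y' ⟶ Z'),
      IsPullback gY.hom q'.hom q.hom g.hom → ∀ (X' : Space S) (gX : X' ⟶ X) (f' : X' ⟶ Y'),
        IsPullback gX.hom f'.hom f.hom gY.hom → (Q f'.hom ↔ Q' f'.hom)) : WhereSet f q Q' W :=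
  ⟨h.1, fun Z' g => (h.2 Z' g).trans
    ⟨fun H Y' gY q' sY X' gX f' sX => (hQ Z' g Y' gY q' sY X' gX f' sX).1 (H Y' gY q' sY X' gX f' sX),
      fun H Y' gY q' sY X' gX f' sX => (hQ Z' g Y' gY q' sY X' gX f' sX).2 (H Y' gY q' sY X' gX f' sX)⟩⟩

theorem WhereSet.inter {Q Q' : MorphismProperty (Sp S)} {W W' : Set (Points Z.obj)} (h : WhereSet f q Q W)
    (h' : WhereSet f q Q' W') : WhereSet f q (Q ⊓ Q') (W ∩ W') :=
  ⟨h.1.inter h'.1, fun Z' g => by
    rw [Set.subset_inter_iff, h.2, h'.2]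
    exact ⟨fun H Y' gY q' sY X' gX f' sX => ⟨H.1 Y' gY q' sY X' gX f' sX, H.2 Y' gY q' sY X' gX f' sX⟩,
      fun H => ⟨fun Y' gY q' sY X' gX f' sX => (H Y' gY q' sY X' gX f' sX).1,
        fun Y' gY q' sY X' gX f' sX => (H Y' gY q' sY X' gX f' sX).2⟩⟩⟩

/-- A second property, failing exactly over the image of a closed set. -/
theorem WhereSet.refine {Q Q' : MorphismProperty (Sp S)} {W : Set (Points Z.obj)} (h : WhereSet f q Q W)
    {C : Set (Points Z.obj)} (hC : IsClosed C)
    (h' : ∀ (Z' : Space S) (g : Z' ⟶ Z), Set.range (Points.map g.hom) ⊆ W →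
      (Set.range (Points.map g.hom) ⊆ Cᶜ ↔ BCHolds f q Q' g)) : WhereSet f q (Q ⊓ Q') (W ∩ Cᶜ) :=
  ⟨h.1.inter hC.isOpen_compl, fun Z' g => by
    rw [Set.subset_inter_iff]
    exact ⟨fun H Y' gY q' sY X' gX f' sX => ⟨(h.2 Z' g).1 H.1 Y' gY q' sY X' gX f' sX,
        (h' Z' g H.1).1 H.2 Y' gY q' sY X' gX f' sX⟩,
      fun H => by
        have h1 := (h.2 Z' g).2 fun Y' gY q' sY X' gX f' sX => (H Y' gY q' sY X' gX f' sX).1
        exact ⟨h1, (h' Z' g h1).2 fun Y' gY q' sY X' gX f' sX => (H Y' gY q' sY X' gX f' sX).2⟩⟩⟩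

theorem exists_squares (f : X ⟶ Y) (q : Y ⟶ Z) {Z' : Space S} (g : Z' ⟶ Z) :
    ∃ (Y' : Space S) (gY : Y' ⟶ Y) (q' : Y' ⟶ Z'), IsPullback gY.hom q'.hom q.hom g.hom ∧
      ∃ (X' : Space S) (gX : X' ⟶ X) (f' : X' ⟶ Y'), IsPullback gX.hom f'.hom f.hom gY.hom :=
  ⟨⟨pullback q.hom g.hom, isAlgSpace_pullback _ _ Y.property Z'.property Z.property⟩,
    ObjectProperty.homMk (pullback.fst _ _), ObjectProperty.homMk (pullback.snd _ _),
    IsPullback.of_hasPullback _ _,
    ⟨pullback f.hom (pullback.fst q.hom g.hom), isAlgSpace_pullback _ _ X.property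
      (isAlgSpace_pullback _ _ Y.property Z'.property Z.property) Y.property⟩,
    ObjectProperty.homMk (pullback.fst _ _), ObjectProperty.homMk (pullback.snd _ _),
    IsPullback.of_hasPullback _ _⟩

/-- The open set attached to an open locus of the source compatible with base change. -/
theorem whereSet_of_locus {p : X ⟶ Z} (hc : f ≫ q = p) (hp : IsClosedMor p.hom) (G : Set (Points X.obj))
    (hG : IsOpen G) {Q : MorphismProperty (Sp S)}
    (h : ∀ (Z' : Space S) (g : Z' ⟶ Z) (Y' : Space S) (gY : Y' ⟶ Y) (q' : Y' ⟶ Z'),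
      IsPullback gY.hom q'.hom q.hom g.hom → ∀ (X' : Space S) (gX : X' ⟶ X) (f' : X' ⟶ Y'),
        IsPullback gX.hom f'.hom f.hom gY.hom → (Q f'.hom ↔ ∀ x', Points.map gX.hom x' ∈ G)) :
    WhereSet f q Q (Points.map p.hom '' Gᶜ)ᶜ := by
  have hc' : f.hom ≫ q.hom = p.hom := congrArg (fun φ => φ.hom) hc
  refine ⟨(hp _ hG.isClosed_compl).isOpen_compl, fun Z' g => ⟨fun hg Y' gY q' sY X' gX f' sX => ?_, fun H => ?_⟩⟩
  · refine (h Z' g Y' gY q' sY X' gX f' sX).2 fun x' => ?_
    by_contra hx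
    refine hg ⟨Points.map (f'.hom ≫ q'.hom) x', ?_⟩ ⟨_, hx, rfl⟩
    rw [← hc', ← Points.map_comp, ← Points.map_comp, (sX.paste_vert sY).w]
  · rintro _ ⟨z', rfl⟩ ⟨x, hx, e⟩
    obtain ⟨Y', gY, q', sY, X', gX, f', sX⟩ := exists_squares f q g
    have sP := sX.paste_vert sY
    rw [hc'] at sP
    obtain ⟨x', rfl, -⟩ := exists_of_isPullback sP x z' e
    exact hx ((h Z' g Y' gY q' sY X' gX f' sX).1 (H Y' gY q' sY X' gX f' sX) x')

/-- The good points of the source over `W`. -/
theorem mem_of_range_subset {p : X ⟶ Z} (hc : f ≫ q = p) {W : Set (Points Z.obj)} {Z' : Space S} {g : Z' ⟶ Z}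
    (hg : Set.range (Points.map g.hom) ⊆ W) {Y' : Space S} {gY : Y' ⟶ Y} {q' : Y' ⟶ Z'}
    (sY : IsPullback gY.hom q'.hom q.hom g.hom) {X' : Space S} {gX : X' ⟶ X} {f' : X' ⟶ Y'}
    (sX : IsPullback gX.hom f'.hom f.hom gY.hom) (x' : Points X'.obj) :
    Points.map p.hom (Points.map gX.hom x') ∈ W :=
  hg ⟨Points.map (f'.hom ≫ q'.hom) x', by
    rw [← hc, ← Points.map_comp, ← Points.map_comp, ← (sX.paste_vert sY).w]; rfl⟩

section Loci

variable {p : X ⟶ Z} (hc : f ≫ q = p)
include hc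

theorem lft_of_comp (hp : LocP @LocallyOfFiniteType p.hom) : LocP @LocallyOfFiniteType f.hom := by
  have hc' : f.hom ≫ q.hom = p.hom := congrArg (fun φ => φ.hom) hc
  obtain ⟨V, c, hcc, hcs⟩ := Z.property.atlas
  obtain ⟨U, b, k, hb, hbs, wk⟩ := exists_compatible_chart q.hom Y.property Z.property.diag hcc hcs
  obtain ⟨T, a, h, ha, has, wh⟩ := exists_compatible_chart f.hom X.property Y.property.diag hb hbs
  refine locP_of_chart X.property.diag Y.property.diag ha has hb wh ?_
  haveI : LocallyOfFiniteType (h.left ≫ k.left) := by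
    rw [← Over.comp_left]
    exact hp a c (h ≫ k) ha hcc (by rw [← hc', reassoc_of% wh, wk, Functor.map_comp, Category.assoc])
  exact locallyOfFiniteType_of_comp h.left k.left

/-- The unramified locus. -/
theorem exists_whereSet_unramified (hp1 : LocP @LocallyOfFiniteType p.hom) (hp2 : IsClosedMor p.hom) :
    ∃ (G : Set (Points X.obj)), IsOpen G ∧
      G = {x | HasAtMor (NearPt (@LocallyOfFiniteType ⊓ @FormallyUnramified : MorphismProperty Scheme.{u})) f.hom x} ∧
      (∀ x ∈ G, ∃ O : Set (Points X.obj), IsOpen O ∧ x ∈ O ∧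
        LocP (@LocallyOfFiniteType ⊓ @FormallyUnramified) (restrictι X.obj O ≫ f.hom)) ∧
      WhereSet f q (LocP (@LocallyOfFiniteType ⊓ @FormallyUnramified)) (Points.map p.hom '' Gᶜ)ᶜ := by
  let G : Set (Points X.obj) := {x | HasAtMor (NearPt
    (@LocallyOfFiniteType ⊓ @FormallyUnramified : MorphismProperty Scheme.{u})) f.hom x}
  have hZ : IsPullback (𝟙 Y.obj) q.hom q.hom (𝟙 Z.obj) := isPullback_id _
  have hG : IsOpen G := (Groth.Agent.S10312.result f p q hc hp1 (𝟙 Z) (𝟙 Y) q hZ (𝟙 X) f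
    (isPullback_id f.hom)).1
  haveI : IsZariskiLocalAtSource (@LocallyOfFiniteType ⊓ @FormallyUnramified : MorphismProperty Scheme.{u}) := by
    exact (etLoc_zarSource_of_list (P := (@LocallyOfFiniteType ⊓ @FormallyUnramified : MorphismProperty Scheme.{u}))
      (.inr (.inr (.inr (.inr (.inr (.inr fun A B g => Iff.rfl))))))).2
  refine ⟨G, hG, rfl, fun x hx => exists_open_subspace_of_near X.property Y.property hx,
    whereSet_of_locus hc hp2 G hG fun Z' g Y' gY q' sY X' gX f' sX => ?_⟩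
  have hb := (Groth.Agent.S10312.result f p q hc hp1 g gY q' sY gX f' sX).2
  rw [locP_iff_forall_near X'.property Y'.property]
  exact forall_congr' fun x' => Set.ext_iff.1 hb x'

/-- The diagonal image over the unramified locus. -/
theorem exists_whereSet_unramified_univInjective (hp1 : LocP @LocallyOfFiniteType p.hom) (hp2 : IsClosedMor p.hom)
    (hp3 : IsClosedMor (pullback.snd f.hom f.hom ≫ p.hom)) :
    ∃ W, WhereSet f q (LocP (@LocallyOfFiniteType ⊓ @FormallyUnramified) ⊓ IsUnivInjectiveMor) W := by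
  have hc' : f.hom ≫ q.hom = p.hom := congrArg (fun φ => φ.hom) hc
  obtain ⟨G, hG, hGeq, hGO, hW⟩ := exists_whereSet_unramified hc hp1 hp2
  let W₁ := (Points.map p.hom '' Gᶜ)ᶜ
  let π := pullback.snd f.hom f.hom ≫ p.hom
  let Δ := pullback.diagonal f.hom
  have hopen : IsOpen (Points.map Δ '' G) := by
    refine isOpen_iff_forall_mem_open.2 ?_
    rintro _ ⟨x, hx, rfl⟩
    obtain ⟨O, hO, hxO, hOf⟩ := hGO x hx
    have hOG : O ⊆ G := fun y hy => by
      obtain ⟨z, rfl⟩ := (range_map_restrictι (F := X.obj) hO).ge hy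
      rw [hGeq]
      exact near_of_open_subspace X.property Y.property (isAlgSpace_restrictSheaf X.property hO)
        (repWith_restrictι hO) hOf z
    let j := restrictι X.obj O
    let m := pullback.map (j ≫ f.hom) (j ≫ f.hom) f.hom f.hom j j (𝟙 _) (by simp) (by simp)
    have sm : RepWith @IsOpenImmersion m := by
      let a := pullback.map (j ≫ f.hom) (j ≫ f.hom) f.hom (j ≫ f.hom) j (𝟙 _) (𝟙 _) (by simp) (by simp)
      let b := pullback.map f.hom (j ≫ f.hom) f.hom f.hom (𝟙 _) j (𝟙 _) (by simp) (by simp)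
      have ha : IsPullback a (pullback.fst _ _) (pullback.fst f.hom (j ≫ f.hom)) j := by
        refine IsPullback.of_right (h₁₂ := pullback.snd f.hom (j ≫ f.hom)) (v₁₃ := j ≫ f.hom) (h₂₂ := f.hom) ?_
          (by simp [a]) (IsPullback.of_hasPullback f.hom (j ≫ f.hom)).flip
        simp only [a, pullback.map, pullback.lift_snd, Category.comp_id]
        exact (IsPullback.of_hasPullback (j ≫ f.hom) (j ≫ f.hom)).flip
      have hb : IsPullback b (pullback.snd _ _) (pullback.snd f.hom f.hom) j := by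
        refine IsPullback.of_right (h₁₂ := pullback.fst f.hom f.hom) (v₁₃ := f.hom) (h₂₂ := f.hom) ?_
          (by simp [b]) (IsPullback.of_hasPullback f.hom f.hom)
        simp only [b, pullback.map, pullback.lift_fst, Category.comp_id]
        exact IsPullback.of_hasPullback f.hom (j ≫ f.hom)
      have e : m = a ≫ b := by
        refine pullback.hom_ext ?_ ?_ <;> simp [m, a, b]
      rw [e]
      exact (repWith_isMultiplicative (S := S) @IsOpenImmersion).comp_mem _ _
        ((repWith_isStableUnderBaseChange _).of_isPullback ha.flip (repWith_restrictι hO))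
        ((repWith_isStableUnderBaseChange _).of_isPullback hb.flip (repWith_restrictι hO))
    have hd : RepWith @IsOpenImmersion (pullback.diagonal (j ≫ f.hom) ≫ m) :=
      (repWith_isMultiplicative (S := S) @IsOpenImmersion).comp_mem _ _
        (repWith_openImm_diagonal_of_unramified (isAlgSpace_restrictSheaf X.property hO) Y.property hOf) sm
    have e : pullback.diagonal (j ≫ f.hom) ≫ m = j ≫ Δ := by
      refine pullback.hom_ext ?_ ?_ <;> simp [m, Δ]
    rw [e] at hd
    refine ⟨Points.map Δ '' O, Set.image_mono hOG, ?_, ⟨x, hxO, rfl⟩⟩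
    have := isOpen_range_map hd
    rwa [map_comp_eq, Set.range_comp, range_map_restrictι hO] at this
  let C := Points.map π '' (Points.map Δ '' G ∩ Points.map π ⁻¹' W₁)ᶜ
  have hC : IsClosed C := hp3 _ (hopen.inter (hW.1.preimage (Points.continuous_map π))).isClosed_compl
  refine ⟨_, hW.refine (Q' := IsUnivInjectiveMor) hC fun Z' g hg => ?_⟩
  have hmem : ∀ (Y' : Space S) (gY : Y' ⟶ Y) (q' : Y' ⟶ Z'), IsPullback gY.hom q'.hom q.hom g.hom →
      ∀ (X' : Space S) (gX : X' ⟶ X) (f' : X' ⟶ Y') (sX : IsPullback gX.hom f'.hom f.hom gY.hom),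
      IsUnivInjectiveMor f'.hom ↔
        ∀ w, Points.map (pullback.map f'.hom f'.hom f.hom f.hom gX.hom gX.hom gY.hom sX.w.symm sX.w.symm) w ∈
          Set.range (Points.map Δ) := by
    intro Y' gY q' sY X' gX f' sX
    rw [isUnivInjectiveMor_iff_surjective_diagonal X'.property]
    let m := pullback.map f'.hom f'.hom f.hom f.hom gX.hom gX.hom gY.hom sX.w.symm sX.w.symm
    have sm : IsPullback m (pullback.fst f'.hom f'.hom) (pullback.fst f.hom f.hom) gX.hom := by
      refine IsPullback.of_right (h₁₂ := pullback.snd f.hom f.hom) (v₁₃ := f.hom) (h₂₂ := f.hom) ?_ ?_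
        (IsPullback.of_hasPullback f.hom f.hom).flip
      · rw [pullback.lift_snd, sX.w]
        exact (IsPullback.of_hasPullback f'.hom f'.hom).flip.paste_horiz sX
      · exact pullback.lift_fst _ _ _
    have sd : IsPullback gX.hom (pullback.diagonal f'.hom) Δ m := by
      refine IsPullback.of_bot ?_ (by refine pullback.hom_ext ?_ ?_ <;> simp [Δ, m]) sm
      simp only [Δ, pullback.diagonal_fst]
      exact IsPullback.of_vert_isIso ⟨by simp⟩
    constructor
    · intro hs w
      obtain ⟨x', rfl⟩ := hs w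
      exact ⟨Points.map gX.hom x', by rw [← Points.map_comp, ← Points.map_comp, sd.w]⟩
    · intro H w
      obtain ⟨x, hx⟩ := H w
      obtain ⟨x', -, hx'⟩ := exists_of_isPullback sd x w hx
      exact ⟨x', hx'⟩
  constructor
  · intro hgC Y' gY q' sY X' gX f' sX
    refine (hmem Y' gY q' sY X' gX f' sX).2 fun w => ?_
    let m := pullback.map f'.hom f'.hom f.hom f.hom gX.hom gX.hom gY.hom sX.w.symm sX.w.symm
    have e : m ≫ π = (pullback.snd f'.hom f'.hom ≫ f'.hom ≫ q'.hom) ≫ g.hom := by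
      simp only [π, m, pullback.map, pullback.lift_snd_assoc, Category.assoc, ← hc', ← sY.w, reassoc_of% sX.w]
    by_contra hw
    refine hgC ⟨Points.map (pullback.snd f'.hom f'.hom ≫ f'.hom ≫ q'.hom) w, ?_⟩
      ⟨Points.map m w, fun hh => hw ?_, rfl⟩
    · rw [← Points.map_comp, ← Points.map_comp, e]
    · obtain ⟨⟨x, -, hx⟩, -⟩ := hh
      exact ⟨x, hx⟩
  · rintro H _ ⟨z', rfl⟩ ⟨v, hv, e⟩
    obtain ⟨Y', gY, q', sY, X', gX, f', sX⟩ := exists_squares f q g
    let m := pullback.map f'.hom f'.hom f.hom f.hom gX.hom gX.hom gY.hom sX.w.symm sX.w.symm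
    have sm : IsPullback m (pullback.snd f'.hom f'.hom ≫ f'.hom ≫ q'.hom) π g.hom := by
      have s1 : IsPullback m (pullback.snd f'.hom f'.hom) (pullback.snd f.hom f.hom) gX.hom := by
        refine IsPullback.of_right (h₁₂ := pullback.fst f.hom f.hom) (v₁₃ := f.hom) (h₂₂ := f.hom) ?_ ?_
          (IsPullback.of_hasPullback f.hom f.hom)
        · rw [pullback.lift_fst, sX.w]
          exact (IsPullback.of_hasPullback f'.hom f'.hom).paste_horiz sX
        · exact pullback.lift_snd _ _ _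
      simp only [π, ← hc']
      exact s1.paste_vert (sX.paste_vert sY)
    obtain ⟨w, hw, -⟩ := exists_of_isPullback sm v z' e
    obtain ⟨x, hx⟩ := (hmem Y' gY q' sY X' gX f' sX).1 (H Y' gY q' sY X' gX f' sX) w
    have hxv : Points.map Δ x = v := hx.trans hw
    have hvW : Points.map π v ∈ W₁ := e ▸ hg ⟨z', rfl⟩
    refine hv ⟨⟨x, ?_, hxv⟩, hvW⟩
    by_contra hxG
    have h2 : Points.map π v = Points.map p.hom x := by
      rw [← hxv, ← Points.map_comp]
      simp [π, Δ]
    exact hvW ⟨x, hxG, h2.symm⟩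

theorem univClosed_bc (hp : IsUnivClosedMor p.hom) (hq : IsSeparatedMor q.hom) : IsUnivClosedMor f.hom :=
  ((Groth.Agent.S10278.result f p q hc hq).1 hp).1

theorem exists_whereSet_closedImmersion (hp1 : LocP @LocallyOfFiniteType p.hom) (hp2 : IsUnivClosedMor p.hom)
    (hq : IsSeparatedMor q.hom) : ∃ W, WhereSet f q (RepWith @IsClosedImmersion) W := by
  have hc' : f.hom ≫ q.hom = p.hom := congrArg (fun φ => φ.hom) hc
  have hpc : IsClosedMor p.hom := hp2 Z.property (𝟙 _) (𝟙 _) p.hom (isPullback_id _)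
  have hf := univClosed_bc hc hp2 hq
  have h2 : IsClosedMor (pullback.snd f.hom f.hom) := hf X.property _ _ _ (IsPullback.of_hasPullback f.hom f.hom)
  have hp3 : IsClosedMor (pullback.snd f.hom f.hom ≫ p.hom) := by
    show IsClosedMap (Points.map (pullback.snd f.hom f.hom ≫ p.hom))
    rw [map_comp_eq]
    exact hpc.comp h2
  obtain ⟨W, hW⟩ := exists_whereSet_unramified_univInjective hc hp1 hpc hp3
  refine ⟨W, hW.congr fun Z' g Y' gY q' sY X' gX f' sX => ?_⟩
  have hf' : IsUnivClosedMor f'.hom := fun A A' hA a fst snd sq =>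
    hf hA (a ≫ gY.hom) (fst ≫ gX.hom) snd (sq.paste_horiz sX)
  rw [(closedImmersion_tfae X'.property Y'.property).2.1]
  exact ⟨fun H => ⟨hf', H.1, H.2⟩, fun H => ⟨H.2.1, H.2.2⟩⟩

/-- The flat locus. -/
theorem exists_whereSet_flat (hp1 : LocP @LocallyOfFinitePresentation p.hom) (hp2 : LocP @Flat p.hom)
    (hp3 : IsClosedMor p.hom) (hq : LocP @LocallyOfFiniteType q.hom) :
    WhereSet f q (LocP @Flat) (Points.map p.hom '' {x | IsFlatAtMor f.hom x}ᶜ)ᶜ := by
  have hc' : f.hom ≫ q.hom = p.hom := congrArg (fun φ => φ.hom) hc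
  rw [← hc'] at hp1 hp2
  refine whereSet_of_locus hc hp3 _ (isOpen_isFlatAtMor X.property Y.property Z.property hp1 hp2 hq)
    fun Z' g Y' gY q' sY X' gX f' sX => ?_
  have key := fun x' => isFlatAtMor_baseChange_iff X.property Y.property Z.property X'.property Y'.property
    Z'.property hp1 hp2 hq sY sX x'
  constructor
  · intro H x'
    refine (key x').1 fun U V a b h u ha hb w _ => ?_
    haveI : Flat h.left := H a b h ha hb w
    exact Flat.stalkMap _ u
  · intro H U V a b h ha hb w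
    exact Flat.of_stalkMap _ fun u => (key _).2 (H (Points.ofPt a u)) a b h u ha hb w rfl

theorem exists_whereSet_flat_surjective (hp1 : LocP @LocallyOfFinitePresentation p.hom) (hp2 : LocP @Flat p.hom)
    (hp3 : IsClosedMor p.hom) (hq : LocP @LocallyOfFiniteType q.hom) (hq2 : IsClosedMor q.hom) :
    ∃ W, WhereSet f q (LocP @Flat ⊓ IsSurjectiveMor) W := by
  have hc' : f.hom ≫ q.hom = p.hom := congrArg (fun φ => φ.hom) hc
  have hW := exists_whereSet_flat hc hp1 hp2 hp3 hq
  rw [← hc'] at hp1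
  let W₁ := (Points.map p.hom '' {x | IsFlatAtMor f.hom x}ᶜ)ᶜ
  have hO : IsOpen (Points.map p.hom ⁻¹' W₁) := hW.1.preimage (Points.continuous_map _)
  let O := Points.map p.hom ⁻¹' W₁
  have hjO := isAlgSpace_restrictSheaf (W := O) X.property hO
  have hje : RepWith @Etale (restrictι X.obj O) := Groth.Agent.SpPts86.repWith_mono
    (fun _ _ g (_ : IsOpenImmersion g) => (inferInstance : Etale g)) (repWith_restrictι hO)
  have hfl : LocP @Flat (restrictι X.obj O ≫ f.hom) := fun U V a b h ha hb w => Flat.of_stalkMap _ fun u => by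
    have hu : Points.map p.hom (Points.ofPt (a ≫ restrictι X.obj O) u) ∈ W₁ := by
      rw [← Points.map_ofPt]
      exact (range_map_restrictι (F := X.obj) hO).le ⟨_, rfl⟩
    have : IsFlatAtMor f.hom (Points.ofPt (a ≫ restrictι X.obj O) u) := by
      by_contra hh
      exact hu ⟨_, hh, rfl⟩
    exact this _ b h u ((repWith_isMultiplicative (S := S) @Etale).comp_mem _ _ ha hje) hb
      (by rw [Category.assoc, w]) rfl
  have hfp : LocP @LocallyOfFinitePresentation (restrictι X.obj O ≫ f.hom) :=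
    locP_comp hjO X.property Y.property
      (locP_of_repWith hjO.diag X.property (Groth.Agent.SpPts86.repWith_mono
        (fun _ _ g (_ : IsOpenImmersion g) => (inferInstance : LocallyOfFinitePresentation g)) (repWith_restrictι hO)))
      (lfp_deform_FP X.property Y.property Z.property hq hp1)
  have hfO : IsOpen (Points.map f.hom '' O) := by
    have := (isOpenMap_of_locP_flat_lfp hjO Y.property hfl hfp).isOpen_range
    rwa [map_comp_eq, Set.range_comp, range_map_restrictι hO] at this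
  let C := Points.map q.hom '' (Points.map f.hom '' O)ᶜ
  refine ⟨_, hW.refine (Q' := IsSurjectiveMor) (C := C) (hq2 _ hfO.isClosed_compl) fun Z' g hg => ⟨?_, ?_⟩⟩
  · intro hgC Y' gY q' sY X' gX f' sX y'
    by_cases h : Points.map gY.hom y' ∈ Points.map f.hom '' O
    · obtain ⟨x, -, hx⟩ := h
      obtain ⟨x', -, hx'⟩ := exists_of_isPullback sX x y' hx
      exact ⟨x', hx'⟩
    · refine absurd ⟨_, h, ?_⟩ (hgC ⟨Points.map q'.hom y', rfl⟩)
      rw [← Points.map_comp, ← Points.map_comp, sY.w]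
  · rintro H _ ⟨z', rfl⟩ ⟨y, hy, e⟩
    obtain ⟨Y', gY, q', sY, X', gX, f', sX⟩ := exists_squares f q g
    obtain ⟨y', rfl, -⟩ := exists_of_isPullback sY y z' e
    obtain ⟨x', rfl⟩ := H Y' gY q' sY X' gX f' sX y'
    refine hy ⟨Points.map gX.hom x', mem_of_range_subset hc hg sY sX x', ?_⟩
    rw [← Points.map_comp, ← Points.map_comp, sX.w]

theorem exists_whereSet_iso (hp1 : LocP @LocallyOfFinitePresentation p.hom) (hp2 : LocP @Flat p.hom)
    (hp3 : IsUnivClosedMor p.hom) (hq1 : LocP @LocallyOfFiniteType q.hom) (hq2 : IsClosedMor q.hom)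
    (hq3 : IsSeparatedMor q.hom) : ∃ W, WhereSet f q (fun _ _ φ => IsIso φ) W := by
  have hc' : f.hom ≫ q.hom = p.hom := congrArg (fun φ => φ.hom) hc
  have hpc : IsClosedMor p.hom := hp3 Z.property (𝟙 _) (𝟙 _) p.hom (isPullback_id _)
  obtain ⟨W₁, h1⟩ := exists_whereSet_flat_surjective hc hp1 hp2 hpc hq1 hq2
  obtain ⟨W₂, h2⟩ := exists_whereSet_closedImmersion hc
    (LocP.of_le (fun _ _ φ hφ => by haveI : LocallyOfFinitePresentation φ := hφ; infer_instance) hp1) hp3 hq3
  refine ⟨_, (h1.inter h2).congr fun Z' g Y' gY q' sY X' gX f' sX => ⟨fun H => ?_, fun H => ?_⟩⟩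
  · haveI : Mono f'.hom := ((closedImmersion_tfae X'.property Y'.property).1.1 H.2).2.2
    refine isIso_of_mono_of_etale_of_surjective f'.hom X'.property Y'.property
      (fun U V a b h ha hb w => ?_) H.1.2
    have hfp : LocP @LocallyOfFinitePresentation f.hom :=
      lfp_deform_FP X.property Y.property Z.property hq1 (hc'.symm ▸ hp1)
    haveI : LocallyOfFinitePresentation h.left :=
      locP_baseChange sX X.property Y.property Y'.property hfp a b h ha hb w
    haveI : Flat h.left := H.1.1 a b h ha hb w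
    haveI : FormallyUnramified h.left := (((closedImmersion_tfae X'.property Y'.property).1.1 H.2).2.1 a b h ha hb w).2
    exact Etale.of_formallyUnramified_of_flat h.left
  · haveI : IsIso f'.hom := H
    refine ⟨⟨locP_of_isIso f'.hom X'.property Y'.property, surjective_map_of_isIso f'.hom⟩, ?_⟩
    exact Groth.Agent.SpPts86.repWith_mono
      (fun _ _ φ (hφ : IsIso φ) => (inferInstance : IsClosedImmersion φ)) (isomorphisms_of_isIso f'.hom)

/-- The lci locus. -/
theorem exists_whereSet_lci (hp1 : LocP @Flat p.hom) (hp2 : LocP @LocallyOfFinitePresentation p.hom)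
    (hp3 : IsClosedMor p.hom) (hq1 : LocP @Flat q.hom) (hq2 : LocP @LocallyOfFinitePresentation q.hom) :
    WhereSet f q IsLCIMor (Points.map p.hom '' {x | LocPNear lci f.hom x}ᶜ)ᶜ := by
  refine whereSet_of_locus hc hp3 _ (isOpen_iff_forall_mem_open.2 ?_) fun Z' g Y' gY q' sY X' gX f' sX => ?_
  · rintro x ⟨W, j, hj, hx, hP⟩
    exact ⟨_, fun y hy => ⟨W, j, hj, hy, hP⟩, isOpen_range_map hj, hx⟩
  · have hb := Groth.Agent.S10668.result f p q hc hp1 hp2 hq1 hq2 g gY q' sY gX f' sX
    constructor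
    · intro H x'
      refine (Set.ext_iff.1 hb x').1 ⟨X'.obj, 𝟙 _, Groth.Agent.SpPts86.repWith_mono
        (fun _ _ φ (hφ : IsIso φ) => (inferInstance : IsOpenImmersion φ)) (isomorphisms_of_isIso _), ?_, ?_⟩
      · exact ⟨x', Points.map_id x'⟩
      · rw [Category.id_comp]; exact H
    · intro H U V a b h ha hb' w
      have key : ∀ u, NearPt lci U.left V.left h.left u := fun u =>
        (Groth.Agent.LimTop61.LciNear.locPNear_iff_chart X'.property Y'.property ha hb' w u).1
          ((Set.ext_iff.1 hb _).2 (H _))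
      choose N hN hPN using key
      exact (IsZariskiLocalAtSource.iff_of_iSup_eq_top (P := AlgSp.lci) N
        (top_le_iff.1 fun t _ => TopologicalSpace.Opens.mem_iSup.2 ⟨t, hN t⟩)).2 hPN

end Loci

end Groth.Agent.SpFP87
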