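import Groth.Agent.SpFP87.NormSplit
import Groth.Agent.SpFP87.EtLocInst
import Groth.Agent.SpFP87.FpqcMono
import Groth.Agent.SpProper61.EtaleSplit
/-!
The quasi-finite locus maps isomorphically to an open of the normalization of the target.
-/

set_option autoImplicit false
set_option linter.style.haveILetI false
set_option backward.isDefEq.respectTransparency false
universe u
open CategoryTheory CategoryTheory.Limits AlgebraicGeometry
open AlgSp
open Groth.Agent.SpPts86
open Groth.Agent.SpProper61 (QfAt exists_split_one)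

namespace Groth.Agent.SpFP87

variable {S : Scheme.{u}}

/-- An etale piece of the normalization over which the source is unchanged. -/
theorem exists_piece {X Y Y' : Space S} (f : X ⟶ Y) (ν : Y' ⟶ Y) (f' : X ⟶ Y') (hf1 : IsFiniteTypeMor f.hom)
    (hf2 : IsSeparatedMor f.hom) (hn : IsRelNormalization f.hom ν.hom f'.hom) (x : Points X.obj)
    (hx : HasAtMor QfAt f.hom x) :
    ∃ (VS : Over S) (ax : (yon S).obj VS ⟶ X.obj) (c : (yon S).obj VS ⟶ Y'.obj), RepWith @Etale c ∧
      IsPullback ax (𝟙 _) f'.hom c ∧ x ∈ Set.range (Points.map ax) ∧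
      ∀ w, HasAtMor QfAt f.hom (Points.map ax w) := by
  have hqs : IsQuasiSeparatedMor f.hom :=
    repWith_mono (fun _ _ k hk => by have : IsClosedImmersion k := hk; infer_instance) hf2
  obtain ⟨U, a, u₀, ha, -, H⟩ := exists_split_one f x hf1.1 hf2 hx
  obtain ⟨U₁, e, he, hes⟩ := U.property.atlas
  obtain ⟨u₁, hu₁⟩ := surjective_ofPt hes u₀
  let P₀ : Space S := ⟨pullback f.hom a.hom, isAlgSpace_pullback _ _ X.property U.property Y.property⟩
  let prX : P₀ ⟶ X := ObjectProperty.homMk (pullback.fst f.hom a.hom)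
  let prU : P₀ ⟶ U := ObjectProperty.homMk (pullback.snd f.hom a.hom)
  obtain ⟨V, jV, hjo, hjc, hfin, v, hvx, hvu⟩ := H P₀ prX prU (IsPullback.of_hasPullback f.hom a.hom)
  let a₁ := e ≫ a.hom
  have sq₁ : IsPullback (pullback.fst f.hom a₁) (pullback.snd f.hom a₁) f.hom a₁ := IsPullback.of_hasPullback _ _
  let π : pullback f.hom a₁ ⟶ P₀.obj := pullback.lift (pullback.fst _ _) (pullback.snd _ _ ≫ e)
    (by rw [pullback.condition, Category.assoc])
  have sqπ : IsPullback π (pullback.snd f.hom a₁) prU.hom e :=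
    IsPullback.of_right (by
      show IsPullback (π ≫ pullback.fst f.hom a.hom) _ _ _
      rw [pullback.lift_fst]; exact sq₁) (pullback.lift_snd _ _ _) (IsPullback.of_hasPullback f.hom a.hom)
  have hr := (isFiniteMor_iff _).1 hfin
  let aS := hr.rep.fst e
  let s := hr.rep.snd e
  have hs : IsFinite s.left := hr.property_snd e
  have sqS : IsPullback aS ((yon S).map s) (jV ≫ prU).hom e := hr.rep.isPullback e
  have sqS' : IsPullback aS ((yon S).map s) (jV.hom ≫ prU.hom) e := sqS
  let j : (yon S).obj (hr.rep.pullback e) ⟶ pullback f.hom a₁ :=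
    sqπ.lift (aS ≫ jV.hom) ((yon S).map s) (by rw [Category.assoc]; exact sqS'.w)
  have sqj : IsPullback aS j jV.hom π :=
    IsPullback.of_bot (by rw [sqπ.lift_snd]; exact sqS') (sqπ.lift_fst _ _ _).symm sqπ
  have hjo' : RepWith @IsOpenImmersion j := (repWith_isStableUnderBaseChange _).of_isPullback sqj hjo
  have hjc' : RepWith @IsClosedImmersion j := (repWith_isStableUnderBaseChange _).of_isPullback sqj hjc
  -- the normalization over the chart
  have hU₁ : RepWith @Etale a₁ := ha e he
  have hνr := (isIntegralMor_iff ν.hom).1 hn.2.1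
  let νN := hνr.rep.snd a₁
  let b := hνr.rep.fst a₁
  have sqN : IsPullback b ((yon S).map νN) ν.hom a₁ := hνr.rep.isPullback a₁
  let k := sqN.lift (pullback.fst f.hom a₁ ≫ f'.hom) (pullback.snd f.hom a₁)
    (by rw [Category.assoc, hn.1, pullback.condition])
  have hsm : LocP @Smooth a₁ := LocP.of_le (P := @Etale) (fun _ _ k (hk : Etale k) => (inferInstance : Smooth k))
    (locP_of_repWith (IsAlgSpace.yon_obj U₁).diag Y.property hU₁)
  have hnU := univBC_of_isRelNormalization Y.property X.property hf1.2 hqs Y'.property hn (IsAlgSpace.yon_obj U₁)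
    hsm (pullback.fst f.hom a₁) (pullback.snd f.hom a₁) b ((yon S).map νN) sq₁ sqN k (sqN.lift_snd _ _ _)
    (sqN.lift_fst _ _ _)
  haveI := hs
  obtain ⟨c, hc, hco, sqc⟩ := exists_split_of_normalization
    (isAlgSpace_pullback _ _ X.property (IsAlgSpace.yon_obj U₁) Y.property) (hνr.property_snd a₁) hnU hjo' hjc'
    (s := s) (inferInstanceAs (IsIntegralHom s.left)) (sqπ.lift_snd _ _ _)
  have sqk : IsPullback (pullback.fst f.hom a₁) k f'.hom b :=
    IsPullback.of_bot (by
      rw [hn.1, show k ≫ (yon S).map νN = pullback.snd f.hom a₁ from sqN.lift_snd _ _ _]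
      exact sq₁) (sqN.lift_fst _ _ _).symm sqN
  have hb : RepWith @Etale b := (repWith_isStableUnderBaseChange _).of_isPullback sqN.flip hU₁
  refine ⟨_, j ≫ pullback.fst f.hom a₁, (yon S).map c ≫ b, (by haveI := hco; exact repWith_etale_comp c hb),
    sqc.paste_horiz sqk, ?_, fun w => ?_⟩
  · obtain ⟨z, hz1, -⟩ := exists_of_isPullback sqS' v (Points.ofScheme U₁ u₁) (by
      rw [← Points.ofPt_eq_map_ofScheme, hu₁]
      exact hvu)
    refine ⟨z, ?_⟩
    have hj : j ≫ pullback.fst f.hom a₁ = aS ≫ jV.hom ≫ prX.hom := by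
      have e1 : π ≫ prX.hom = pullback.fst f.hom a₁ := pullback.lift_fst _ _ _
      rw [← e1, sqj.w_assoc]
    rw [hj, Points.map_comp, hz1]
    exact hvx
  · obtain ⟨w, rfl⟩ := (Points.schemeHomeo _).surjective w
    refine ⟨_, U₁, j ≫ pullback.fst f.hom a₁, a₁, s, w, ?_, hU₁, ?_, ?_, ⊤, trivial, ?_⟩
    · refine (repWith_isMultiplicative (S := S) @Etale).comp_mem _ _ ?_
        ((repWith_isStableUnderBaseChange _).of_isPullback sq₁.flip hU₁)
      exact repWith_mono (fun _ _ k hk => by haveI : IsOpenImmersion k := hk; exact inferInstanceAs (Etale k)) hjo'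
    · rw [Category.assoc, pullback.condition, ← Category.assoc, sqπ.lift_snd]
    · exact Points.ofPt_eq_map_ofScheme _ _
    · exact ⟨inferInstanceAs (LocallyQuasiFinite (Scheme.Opens.ι ⊤ ≫ s.left)),
        inferInstanceAs (LocallyOfFiniteType (Scheme.Opens.ι ⊤ ≫ s.left))⟩

theorem normalization_iso_over_qfLocus {X Y Y' : Space S} (f : X ⟶ Y) (ν : Y' ⟶ Y) (f' : X ⟶ Y')
    (hf1 : IsFiniteTypeMor f.hom) (hf2 : IsSeparatedMor f.hom) (hn : IsRelNormalization f.hom ν.hom f'.hom) :
    ∃ (U' : Space S) (j : U' ⟶ Y'), RepWith @IsOpenImmersion j.hom ∧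
      ∀ (P : Space S) (fst : P ⟶ X) (snd : P ⟶ U'), IsPullback fst.hom snd.hom f'.hom j.hom →
        IsIso snd.hom ∧ Set.range (Points.map fst.hom) = {x | HasAtMor QfAt f.hom x} := by
  choose VS ax c hc sqx hxa hqf using fun x : {x : Points X.obj // HasAtMor QfAt f.hom x} =>
    exists_piece f ν f' hf1 hf2 hn x.1 x.2
  let O : Set (Points Y'.obj) := ⋃ x, Set.range (Points.map (c x))
  have hO : IsOpen O := isOpen_iUnion fun x => (isOpenMap_map_of_repWith
    (repWith_mono (fun _ _ k hk => by haveI : Etale k := hk; exact inferInstanceAs (UniversallyOpen k)) (hc x))).isOpen_range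
  let U' : Space S := ⟨restrictSheaf Y'.obj O, isAlgSpace_restrictSheaf Y'.property hO⟩
  let j : U' ⟶ Y' := ObjectProperty.homMk (restrictι Y'.obj O)
  have hj : RepWith @IsOpenImmersion j.hom := repWith_restrictι hO
  refine ⟨U', j, hj, fun P fst snd sq => ?_⟩
  have hc' : ∀ x, ∃ c' : (yon S).obj (VS x) ⟶ U'.obj, c' ≫ j.hom = c x := fun x =>
    exists_factor_of_range_subset hj (c x) (by
      rintro y hy
      exact (range_map_restrictι hO).ge (Set.mem_iUnion_of_mem x hy))
  choose c' hc' using hc'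
  haveI : Mono j.hom := mono_of_repWith_le isOpenImmersion_le_monomorphisms hj
  let aP : ∀ x, (yon S).obj (VS x) ⟶ P.obj := fun x =>
    sq.lift (ax x) (c' x) (by rw [hc', (sqx x).w, Category.id_comp])
  have sqP : ∀ x, IsPullback (aP x) (𝟙 _) snd.hom (c' x) := fun x =>
    IsPullback.of_right (by rw [hc', sq.lift_fst]; exact sqx x) (by rw [sq.lift_snd, Category.id_comp]) sq
  refine ⟨?_, ?_⟩
  · obtain ⟨A, p, hp, hps⟩ := U'.property.atlas
    have hsel : ∀ t : ↥A.left, ∃ x, Points.ofPt p t ∈ Set.range (Points.map (c' x)) := fun t => by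
      have : Points.map j.hom (Points.ofPt p t) ∈ O := (range_map_restrictι hO).le ⟨_, rfl⟩
      obtain ⟨x, w, hw⟩ := Set.mem_iUnion.1 this
      refine ⟨x, w, injective_map_of_mono j.hom ?_⟩
      rw [← Points.map_comp, hc', hw]
    choose sel hsel using hsel
    have hje : IsEtaleMor j.hom := Groth.Agent.SpPts86.isEtaleMor_of_repWith_etale
      (repWith_mono (fun _ _ k hk => by haveI : IsOpenImmersion k := hk; exact inferInstanceAs (Etale k)) hj)
    have hce : ∀ t, RepWith @Etale (c' (sel t)) := fun t => by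
      have := (Groth.Agent.SpPts86.isEtaleMor_of_comp U'.property hje
        (f := c' (sel t)) (by rw [hc']; exact Groth.Agent.SpPts86.isEtaleMor_of_repWith_etale (hc _)))
        (𝟙 _) (repWith_id _ _)
      rwa [Category.id_comp] at this
    have hcov : IsFppfCover (fun t : ↥A.left => (yon S).obj (VS (sel t))) (fun t => c' (sel t)) :=
      ⟨fun t => ⟨LocP.of_le (P := @Etale) (fun _ _ k (hk : Etale k) => (inferInstance : Flat k))
          (locP_of_repWith (IsAlgSpace.yon_obj _).diag U'.property (hce t)),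
        LocP.of_le (P := @Etale) (fun _ _ k (hk : Etale k) => (inferInstance : LocallyOfFinitePresentation k))
          (locP_of_repWith (IsAlgSpace.yon_obj _).diag U'.property (hce t))⟩,
        fun y => by
          obtain ⟨t, rfl⟩ := surjective_ofPt hps y
          exact ⟨t, hsel t⟩⟩
    have hfc := isFpqcCover_of_isFppfCover _ _ U'.property (fun _ => IsAlgSpace.yon_obj _) hcov
    have ho : RepWith @IsOpenImmersion snd.hom :=
      (isLocalOnBase_fpqc_openImmersion _ _ U'.property (fun _ => IsAlgSpace.yon_obj _) hfc snd.hom P.property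
        (fun t => (yon S).obj (VS (sel t))) (fun t => 𝟙 _) (fun t => aP (sel t))
        (fun _ => IsAlgSpace.yon_obj _) (fun t => sqP (sel t))).2
        fun t => (repWith_isMultiplicative (S := S) @IsOpenImmersion).id_mem _
    haveI : Mono snd.hom := mono_of_repWith_le isOpenImmersion_le_monomorphisms ho
    obtain ⟨σ, hσ⟩ := exists_factor_of_range_subset ho (𝟙 U'.obj) (by
      rintro y -
      obtain ⟨t, rfl⟩ := surjective_ofPt hps y
      obtain ⟨w, hw⟩ := hsel t
      refine ⟨Points.map (aP (sel t)) w, ?_⟩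
      rw [← Points.map_comp, (sqP (sel t)).w, Category.id_comp, hw])
    haveI : IsSplitEpi snd.hom := IsSplitEpi.mk' ⟨σ, hσ⟩
    exact isIso_of_mono_of_isSplitEpi _
  · ext x
    constructor
    · rintro ⟨z, rfl⟩
      have : Points.map j.hom (Points.map snd.hom z) ∈ O := (range_map_restrictι hO).le ⟨_, rfl⟩
      obtain ⟨x, w, hw⟩ := Set.mem_iUnion.1 this
      obtain ⟨w', hw', -⟩ := exists_of_isPullback (sqP x) z w (injective_map_of_mono j.hom (by
        rw [← Points.map_comp (c' x), hc', hw]))
      rw [← hw', ← Points.map_comp, sq.lift_fst]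
      exact hqf x w'
    · intro hx
      obtain ⟨w, hw⟩ := hxa ⟨x, hx⟩
      refine ⟨Points.map (aP ⟨x, hx⟩) w, ?_⟩
      rw [← Points.map_comp, sq.lift_fst]
      exact hw

end Groth.Agent.SpFP87
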