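import Mathlib
/-!
A quasi-compact open of an affine scheme stays open in the spectrum of a large enough finitely generated subalgebra.
-/

set_option autoImplicit false
set_option backward.isDefEq.respectTransparency false
universe u
open CategoryTheory CategoryTheory.Limits AlgebraicGeometry

namespace Groth.Agent.SpFP87.ModSys

theorem bijective_away_map {A B C : Type u} [CommRing A] [CommRing B] [CommRing C] (m : A →+* B) (φ : B →+* C)
    (hφ : Function.Injective φ) (b : B) {B' C' : Type u} [CommRing B'] [CommRing C'] [Algebra B B'] [Algebra C C']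
    [IsLocalization.Away b B'] [IsLocalization.Away (φ b) C'] (F : Set C) (hF : ∀ x ∈ F, x ∈ φ.range)
    (hgen : ∀ R : Subring C', (∀ a, algebraMap C C' (φ (m a)) ∈ R) → (∀ x ∈ F, algebraMap C C' x ∈ R) →
      (∀ u, u * algebraMap C C' (φ b) = 1 → u ∈ R) → R = ⊤) :
    Function.Bijective (IsLocalization.Away.map B' C' φ b) := by
  have hmap : ∀ x, IsLocalization.Away.map B' C' φ b (algebraMap B B' x) = algebraMap C C' (φ x) := fun x => by
    rw [IsLocalization.Away.map, IsLocalization.map_eq]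
  constructor
  · rw [injective_iff_map_eq_zero]
    intro z hz
    obtain ⟨x, ⟨_, n, rfl⟩, rfl⟩ := IsLocalization.exists_mk'_eq (Submonoid.powers b) z
    rw [IsLocalization.mk'_eq_zero_iff]
    rw [IsLocalization.Away.map, IsLocalization.map_mk', IsLocalization.mk'_eq_zero_iff] at hz
    obtain ⟨⟨_, k, rfl⟩, hk⟩ := hz
    refine ⟨⟨_, k, rfl⟩, hφ ?_⟩
    rw [map_zero, ← hk, map_mul, map_pow]
  · have hR := hgen (IsLocalization.Away.map B' C' φ b).range (fun a => ⟨_, hmap (m a)⟩)
      (fun x hx => by obtain ⟨y, rfl⟩ := hF x hx; exact ⟨_, hmap y⟩) (fun u hu => ?_)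
    · exact fun y => hR.ge trivial
    · obtain ⟨v, hv⟩ := (IsLocalization.Away.algebraMap_isUnit (S := B') b).exists_left_inv
      refine ⟨v, ?_⟩
      have h1 := congrArg (IsLocalization.Away.map B' C' φ b) hv
      rw [map_mul, hmap, map_one] at h1
      calc IsLocalization.Away.map B' C' φ b v
          = IsLocalization.Away.map B' C' φ b v * (u * algebraMap C C' (φ b)) := by rw [hu, mul_one]
        _ = u := by rw [mul_left_comm, h1, mul_one]

/-- Generators of an open of finite type. -/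
theorem exists_numerators {N U : Scheme.{u}} [IsAffine N] [IsAffine U] (g : N ⟶ U) (c : Γ(N, ⊤))
    (hc : LocallyOfFiniteType ((N.basicOpen c).ι ≫ g)) :
    ∃ F : Finset Γ(N, ⊤), ∀ R : Subring Γ(N, N.basicOpen c),
      (∀ a, algebraMap Γ(N, ⊤) Γ(N, N.basicOpen c) (g.appTop a) ∈ R) →
      (∀ x ∈ F, algebraMap Γ(N, ⊤) Γ(N, N.basicOpen c) x ∈ R) →
      (∀ u, u * algebraMap Γ(N, ⊤) Γ(N, N.basicOpen c) c = 1 → u ∈ R) → R = ⊤ := by
  classical
  haveI : IsAffine (N.basicOpen c).toScheme := (isAffineOpen_top N).basicOpen c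
  have h1 := ((N.basicOpen c).ι ≫ g).finiteType_appLE (isAffineOpen_top U) (isAffineOpen_top _)
    (by simp : (⊤ : (N.basicOpen c).toScheme.Opens) ≤ ((N.basicOpen c).ι ≫ g) ⁻¹ᵁ ⊤)
  let ψ : Γ(U, ⊤) →+* Γ(N, N.basicOpen c) := (algebraMap Γ(N, ⊤) Γ(N, N.basicOpen c)).comp g.appTop.hom
  have h2 : ψ.FiniteType := by
    have e : ψ = (N.basicOpen c).topIso.hom.hom.comp
        (Scheme.Hom.appLE ((N.basicOpen c).ι ≫ g) ⊤ ⊤ (by simp)).hom := by
      have : g.appTop ≫ N.presheaf.map (homOfLE (le_top : N.basicOpen c ≤ ⊤)).op =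
          Scheme.Hom.appLE ((N.basicOpen c).ι ≫ g) ⊤ ⊤ (by simp) ≫ (N.basicOpen c).topIso.hom := by
        simp [Scheme.Hom.appLE, ← Functor.map_comp]
        erw [Category.id_comp]
        rw [← Functor.map_comp]
        rfl
      exact congrArg CommRingCat.Hom.hom this
    rw [e]
    exact (RingHom.FiniteType.of_surjective _
      (CategoryTheory.Iso.commRingCatIsoToRingEquiv (N.basicOpen c).topIso).surjective).comp h1
  algebraize [ψ]
  obtain ⟨G, hG⟩ := (inferInstance : Algebra.FiniteType Γ(U, ⊤) Γ(N, N.basicOpen c)).out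
  choose a ha using fun y => IsLocalization.surj (Submonoid.powers c) (S := Γ(N, N.basicOpen c)) y
  refine ⟨G.image fun y => (a y).1, fun R hA hF hinv => eq_top_iff.2 fun y hy₀ => ?_⟩
  clear hy₀
  have hy : y ∈ Algebra.adjoin Γ(U, ⊤) (G : Set Γ(N, N.basicOpen c)) := hG.ge trivial
  induction hy using Algebra.adjoin_induction with
  | mem z hz =>
    obtain ⟨n, hn⟩ := (a z).2.2
    obtain ⟨v, hv⟩ := (IsLocalization.Away.algebraMap_isUnit (S := Γ(N, N.basicOpen c)) c).exists_left_inv
    have : z = algebraMap Γ(N, ⊤) _ (a z).1 * v ^ n := by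
      rw [← ha z, ← hn, map_pow, mul_assoc, ← mul_pow, mul_comm _ v, hv, one_pow, mul_one]
    rw [this]
    exact R.mul_mem (hF _ (Finset.mem_image_of_mem (fun y => (a y).1) hz)) (R.pow_mem (hinv v hv) n)
  | algebraMap r => exact hA r
  | add y z _ _ hy hz => exact R.add_mem hy hz
  | mul y z _ _ hy hz => exact R.mul_mem hy hz

/-- The open stays open below a large enough subalgebra. -/
theorem exists_generators {N U W : Scheme.{u}} [IsAffine N] [IsAffine U] [CompactSpace W] (g : N ⟶ U) (i : W ⟶ N)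
    [IsOpenImmersion i] [LocallyOfFiniteType (i ≫ g)] :
    ∃ F : Set Γ(N, ⊤), F.Finite ∧ ∀ (T : Scheme.{u}) [IsAffine T] (φ : N ⟶ T) (m : T ⟶ U), φ ≫ m = g →
      Function.Injective φ.appTop.hom → (∀ x ∈ F, x ∈ φ.appTop.hom.range) → IsOpenImmersion (i ≫ φ) := by
  classical
  obtain ⟨s, hs⟩ := (isCompact_range i.continuous).elim_finite_subcover
    (fun c : {c : Γ(N, ⊤) // (N.basicOpen c : Set N) ⊆ Set.range i} => (N.basicOpen c.1 : Set N))
    (fun c => (N.basicOpen c.1).isOpen) fun x hx => by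
      obtain ⟨c, hc, hxc⟩ := (isAffineOpen_top N).exists_basicOpen_le (V := i.opensRange) ⟨x, hx⟩ trivial
      exact Set.mem_iUnion.2 ⟨⟨c, hc⟩, hxc⟩
  have hlft : ∀ c : {c : Γ(N, ⊤) // (N.basicOpen c : Set N) ⊆ Set.range i},
      LocallyOfFiniteType ((N.basicOpen c.1).ι ≫ g) := fun c => by
    rw [← IsOpenImmersion.lift_fac i (N.basicOpen c.1).ι (by rw [Scheme.Opens.range_ι]; exact c.2), Category.assoc]
    infer_instance
  choose F hF using fun c => exists_numerators g (c := (c : {c : Γ(N, ⊤) // (N.basicOpen c : Set N) ⊆ Set.range i}).1)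
    (hlft c)
  refine ⟨((s : Set {c : Γ(N, ⊤) // (N.basicOpen c : Set N) ⊆ Set.range i}).image Subtype.val) ∪
      ⋃ c ∈ s, (F c : Set Γ(N, ⊤)), (s.finite_toSet.image _).union
        (s.finite_toSet.biUnion fun c _ => (F c).finite_toSet), fun T _ φ m hm hinj hrange => ?_⟩
  choose b hb using fun c : {c // c ∈ s} => hrange c.1.1 (Or.inl ⟨c.1, c.2, rfl⟩)
  let V : T.Opens := ⨆ c : {c // c ∈ s}, T.basicOpen (b c)
  have hpre : φ ⁻¹ᵁ V = i.opensRange := by
    simp only [V, Scheme.Hom.preimage_iSup, Scheme.preimage_basicOpen_top]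
    ext x
    simp only [TopologicalSpace.Opens.coe_iSup, Set.mem_iUnion, SetLike.mem_coe]
    constructor
    · rintro ⟨c, hc⟩
      change x ∈ N.basicOpen (φ.appTop (b c)) at hc
      rw [show φ.appTop (b c) = c.1.1 from hb c] at hc
      exact c.1.2 hc
    · intro hx
      obtain ⟨c, hc, hxc⟩ := Set.mem_iUnion₂.1 (hs hx)
      refine ⟨⟨c, hc⟩, ?_⟩
      rw [show φ.appTop (b ⟨c, hc⟩) = c.1 from hb ⟨c, hc⟩]
      exact hxc
  have hiso : IsIso (φ ∣_ V) := by
    have hV : ∀ c, T.basicOpen (b c) ≤ V := fun c => le_iSup (fun c => T.basicOpen (b c)) c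
    refine (IsZariskiLocalAtTarget.iff_of_iSup_eq_top (P := MorphismProperty.isomorphisms Scheme.{u})
      (fun c => V.ι ⁻¹ᵁ T.basicOpen (b c)) ?_).2 fun c => ?_
    · rw [← Scheme.Hom.preimage_iSup]
      ext x
      simpa [V] using x.2
    refine ((MorphismProperty.isomorphisms Scheme.{u}).arrow_mk_iso_iff
      (morphismRestrictRestrict φ V _ ≪≫ morphismRestrictEq φ (show V.ι ''ᵁ V.ι ⁻¹ᵁ T.basicOpen (b c) = T.basicOpen (b c) by
        rw [Scheme.Hom.image_preimage_eq_opensRange_inf, Scheme.Opens.opensRange_ι, inf_eq_right.2 (hV c)]))).2 ?_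
    haveI : IsAffine (T.basicOpen (b c)).toScheme := (isAffineOpen_top T).basicOpen _
    refine (HasAffineProperty.iff_of_isAffine (P := MorphismProperty.isomorphisms Scheme.{u})).2 ⟨?_, ?_⟩
    · change IsAffineOpen (φ ⁻¹ᵁ T.basicOpen (b c))
      rw [Scheme.preimage_basicOpen_top]
      exact (isAffineOpen_top N).basicOpen _
    · haveI : IsAffineOpen (φ ⁻¹ᵁ (⊤ : T.Opens)) := isAffineOpen_top N
      haveI := (isAffineOpen_top T).isLocalization_basicOpen (b c)
      haveI := (isAffineOpen_top N).isLocalization_basicOpen (φ.app ⊤ (b c))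
      have hbij : Function.Bijective (φ.app (T.basicOpen (b c))).hom := by
        have key : Function.Bijective (IsLocalization.Away.map Γ(T, T.basicOpen (b c))
            Γ(N, N.basicOpen (φ.app ⊤ (b c))) (φ.app ⊤).hom (b c)) := by
          refine bijective_away_map m.appTop.hom (φ.app ⊤).hom hinj (b c) (F c.1 : Set Γ(N, ⊤))
            (fun x hx => hrange x (Or.inr (Set.mem_biUnion c.2 hx))) ?_
          have e : φ.app ⊤ (b c) = c.1.1 := hb c
          have hA : ∀ a, φ.app ⊤ (m.appTop a) = g.appTop a := fun a => by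
            rw [← hm, Scheme.Hom.comp_appTop]
            rfl
          revert e
          generalize φ.app ⊤ (b c) = d
          rintro rfl R h1 h2 h3
          exact hF c.1 R (fun a => by rw [← hA]; exact h1 a) h2 h3
        have := IsAffineOpen.app_basicOpen_eq_away_map φ (isAffineOpen_top T) (isAffineOpen_top N) (b c)
        rw [this, CommRingCat.hom_comp]
        exact (ConcreteCategory.bijective_of_isIso (N.presheaf.map _)).comp key
      rw [morphismRestrict_appTop]
      haveI : IsIso (φ.app ((T.basicOpen (b c)).ι ''ᵁ ⊤)) := by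
        rw [Scheme.Opens.ι_image_top]
        exact (ConcreteCategory.isIso_iff_bijective _).2 hbij
      infer_instance
  haveI := hiso
  have hfac : (IsOpenImmersion.lift (φ ⁻¹ᵁ V).ι i (by rw [Scheme.Opens.range_ι, hpre]; rfl)) ≫ (φ ∣_ V) ≫ V.ι =
      i ≫ φ := by
    rw [morphismRestrict_ι, IsOpenImmersion.lift_fac_assoc]
  rw [← hfac]
  haveI : IsOpenImmersion (IsOpenImmersion.lift (φ ⁻¹ᵁ V).ι i (by rw [Scheme.Opens.range_ι, hpre]; rfl)) := by
    haveI : IsOpenImmersion (IsOpenImmersion.lift (φ ⁻¹ᵁ V).ι i (by rw [Scheme.Opens.range_ι, hpre]; rfl) ≫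
        (φ ⁻¹ᵁ V).ι) := by rw [IsOpenImmersion.lift_fac]; infer_instance
    exact IsOpenImmersion.of_comp _ (φ ⁻¹ᵁ V).ι
  infer_instance

end Groth.Agent.SpFP87.ModSys
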