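import Groth.Agent.SpFP87.ModDescend
import Groth.Agent.SpFP87.ModGen
import Groth.Agent.SpFP87.NormZMT
import Groth.Agent.S10268
/-!
A quasi-compact open of a space integral over a quasi-compact quasi-separated space is open in a finite one.
-/

set_option autoImplicit false
set_option linter.style.haveILetI false
set_option backward.isDefEq.respectTransparency false
universe u
open CategoryTheory CategoryTheory.Limits AlgebraicGeometry
open AlgSp Groth.Agent.SpPts86

namespace Groth.Agent.SpFP87.ModSys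

variable {S : Scheme.{u}}

theorem exists_finite_factor [QuasiSeparatedSpace ↥S] {X N Y : Sp S} (hX : IsAlgSpace X) (hY : IsAlgSpace Y)
    (hqc : IsQuasiCompactSp Y) (hqs : IsQuasiSeparatedSp Y) {ν : N ⟶ Y} (hν : IsIntegralMor ν) {f' : X ⟶ N}
    (ho : RepWith @IsOpenImmersion f') (hfqc : IsQuasiCompactMor f')
    (hlft : LocP (@LocallyQuasiFinite ⊓ @LocallyOfFiniteType) (f' ≫ ν)) :
    ∃ (T : Sp S) (π : T ⟶ Y) (j : X ⟶ T), IsAlgSpace T ∧ j ≫ π = f' ≫ ν ∧
      RepWith @IsOpenImmersion j ∧ IsQuasiCompactMor j ∧ IsFiniteMor π := by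
  haveI := compactSpace_points_of_isQuasiCompactSp hqc
  obtain ⟨U₀, u, hU, hu₀, hus₀⟩ := exists_affine_chart_of_compactSpace hY
  obtain ⟨U, hus⟩ : ∃ U : Ch Y, RepWith @Surjective U.map := ⟨⟨U₀, hU, u, hu₀⟩, hus₀⟩
  have hu := U.et
  obtain ⟨W, i, a, sqW⟩ : ∃ (W : Over S) (i : W ⟶ NN hν U) (a : (yon S).obj W ⟶ X),
      IsPullback a ((yon S).map i) f' (nfst hν U) :=
    ⟨_, _, _, ho.rep.isPullback (nfst hν U)⟩
  have hi : IsOpenImmersion i.left := ho.property (nfst hν U) _ i sqW
  haveI : QuasiCompact i.left := quasiCompact_of_isQuasiCompactMor_yon (isQuasiCompactMor_baseChange hfqc sqW)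
  haveI : CompactSpace W.left := QuasiCompact.compactSpace_of_compactSpace i.left
  have sqU : IsPullback a ((yon S).map (i ≫ nι hν U)) (f' ≫ ν) U.map := by
    rw [Functor.map_comp]
    exact sqW.paste_vert (nsq hν U)
  haveI : LocallyOfFiniteType (i.left ≫ (nι hν U).left) :=
    ((locP_yon_map_iff (i ≫ nι hν U)).1 (locP_baseChange sqU hX hY (IsAlgSpace.yon_obj _) hlft)).2
  haveI : IsAffine U.obj.left := U.aff
  obtain ⟨F, hF, hFo⟩ := exists_generators (nι hν U).left i.left
  obtain ⟨A, hA, hMA⟩ := exists_sys hν hY hqc hqs U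
    (Submodule.span Γ(U.obj.left, ⊤) (F : Set (C hν U))) (Submodule.fg_span hF)
  obtain ⟨D⟩ := exists_model (hν := hν) A U
  obtain ⟨T, π, jN, q, hT, sqT, hπ, hq⟩ := exists_descent hY hA D hus
  have hopen : IsOpenImmersion (i ≫ D.φ).left := by
    rw [Over.comp_left]
    exact hFo D.obj.left D.φ.left D.m.left (congrArg (fun m : NN hν U ⟶ U.obj => m.left) D.fac) D.inj fun x hx =>
      RingHom.mem_range.2 ((D.range x).1 (Algebra.subset_adjoin (hMA (Submodule.subset_span hx))))
  have sqj : IsPullback a ((yon S).map (i ≫ D.φ)) (f' ≫ jN) q := by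
    refine IsPullback.of_bot ?_ ?_ sqT
    · rw [← Functor.map_comp, Category.assoc, D.fac, Category.assoc, hπ]
      exact sqU
    · rw [← Category.assoc, sqW.w, Category.assoc, ← hq, Functor.map_comp, Category.assoc]
  obtain ⟨hqe, hqs'⟩ := etale_surj_of_isPullback sqT hu hus
  have hcov : IsFppfCover (fun _ : PUnit.{u + 1} => (yon S).obj D.obj) (fun _ => q) :=
    ⟨fun _ => ⟨LocP.of_le (P := @Etale) (fun _ _ k hk => by haveI : Etale k := hk; exact inferInstanceAs (Flat k))
        (Groth.Agent.SpPts86.locP_etale_of_isEtaleMor (Groth.Agent.SpPts86.isEtaleMor_of_repWith_etale hqe)),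
      LocP.of_le (P := @Etale) (fun _ _ k hk => by
        haveI : Etale k := hk; exact inferInstanceAs (LocallyOfFinitePresentation k))
        (Groth.Agent.SpPts86.locP_etale_of_isEtaleMor (Groth.Agent.SpPts86.isEtaleMor_of_repWith_etale hqe))⟩,
      fun x => ⟨⟨⟩, isSurjectiveMor_of_repWith hqs' x⟩⟩
  have hfc := isFpqcCover_of_isFppfCover _ _ hT (fun _ => IsAlgSpace.yon_obj _) hcov
  have hjo : RepWith @IsOpenImmersion (f' ≫ jN) :=
    (isLocalOnBase_fpqc_openImmersion (fun _ : PUnit.{u + 1} => (yon S).obj D.obj) (fun _ => q) hT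
      (fun _ => IsAlgSpace.yon_obj _) hfc (f' ≫ jN) hX (fun _ => (yon S).obj W) (fun _ => (yon S).map (i ≫ D.φ))
      (fun _ => a) (fun _ => IsAlgSpace.yon_obj _) (fun _ => sqj)).2 fun _ => (repWith_yon_map_iff _ _).2 hopen
  have hjq : QuasiCompact (i ≫ D.φ).left := by
    haveI : QuasiCompact (i.left ≫ D.φ.left) := by infer_instance
    rw [Over.comp_left]; infer_instance
  haveI := Groth.Agent.Unr55.quasiCompact
  refine ⟨T, π, f' ≫ jN, hT, by rw [Category.assoc, hπ], hjo,
    isQuasiCompactMor_of_repWith hT (repWith_of_fpqc hfc (fun _ => sqj) hjo.rep fun _ =>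
      (repWith_yon_map_iff _ _).2 hjq), ?_⟩
  refine (Groth.Agent.S10268.result (X := ⟨T, hT⟩) (Y := ⟨Y, hY⟩) (ObjectProperty.homMk π) U.obj U.map hu hus q
    ((yon S).map D.m) sqT).2 ?_
  refine (isFiniteMor_iff _).2 ((repWith_yon_map_iff _ _).2 ?_)
  haveI : IsAffine D.obj.left := D.aff
  have hfin : (D.φ.left.appTop.hom.comp D.m.left.appTop.hom) = algebraMap Γ(U.obj.left, ⊤) (C hν U) := by
    have := congrArg (fun f : NN hν U ⟶ U.obj => f.left.appTop.hom) D.fac
    simp only [Over.comp_left, Scheme.Hom.comp_appTop, CommRingCat.hom_comp] at this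
    exact this
  haveI := alg_finite hA U
  refine (HasAffineProperty.iff_of_isAffine (P := @IsFinite)).2 ⟨inferInstance, ?_⟩
  let ψ : Γ(D.obj.left, ⊤) →+* alg hν A U :=
    RingHom.codRestrict (D.φ.left.appTop.hom : Γ(D.obj.left, ⊤) →+* C hν U) (alg hν A U).toSubring
      fun b => (D.range _).2 ⟨b, rfl⟩
  have hψ : Function.Bijective ψ := ⟨fun b b' h => D.inj (congrArg Subtype.val h),
    fun y => by obtain ⟨b, hb⟩ := (D.range _).1 y.2; exact ⟨b, Subtype.ext hb⟩⟩
  let e := RingEquiv.ofBijective ψ hψ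
  have : D.m.left.appTop.hom = e.symm.toRingHom.comp (algebraMap Γ(U.obj.left, ⊤) (alg hν A U)) := by
    ext r
    apply e.injective
    change ψ _ = e (e.symm _)
    rw [RingEquiv.apply_symm_apply]
    exact Subtype.ext (congr($hfin r))
  rw [this]
  exact RingHom.Finite.comp (RingHom.Finite.of_surjective _ e.symm.surjective)
    (RingHom.finite_algebraMap.2 inferInstance)

end Groth.Agent.SpFP87.ModSys
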