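import Groth.Agent.SpFP87.FpqcMono
import Groth.Agent.SpFP87.LocPRep
import Groth.Agent.SpFP87.LocalST
import Groth.Agent.SpFP87.Deform
import Groth.Agent.SpPts86.QCMor
import Groth.Agent.SpPts86.Boot
import Groth.Agent.Dominant62.Dense
import Groth.Agent.S0449
import Groth.Agent.S0451
import Groth.Agent.S10260
import Groth.Agent.S9905
/-!
Morphisms over a schematically dense open subspace.
-/

set_option autoImplicit false
set_option linter.style.haveILetI false
set_option backward.isDefEq.respectTransparency false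
universe u
open CategoryTheory CategoryTheory.Limits AlgebraicGeometry
open AlgSp
open Groth.Agent.SpPts86

namespace Groth.Agent.SpFP87

variable {S : Scheme.{u}}

theorem isSchemeTheoreticallyDominant_of_schDense {X : Scheme.{u}} (U : X.Opens) [QuasiCompact U.ι]
    (h : CInt.IsSchematicallyDense U) : IsSchemeTheoreticallyDominant U.ι := by
  refine ⟨Scheme.IdealSheafData.ext (funext fun V => ?_)⟩
  rw [Scheme.Hom.ker_apply, Scheme.IdealSheafData.ideal_bot, Pi.bot_apply, eq_bot_iff]
  intro t ht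
  have := (Groth.Agent.Dominant62.app_eq_zero_iff U.ι U (Scheme.Opens.opensRange_ι U) V.1 t).1 ht
  exact h V.1 (this.trans (map_zero _).symm)

variable {X Y V P : Sp S} {f : X ⟶ Y} {j : V ⟶ Y} {fst : P ⟶ X} {snd : P ⟶ V}

/-- The data of a schematically dense quasi-compact open subspace on a chart. -/
theorem exists_dense_chart {Y V : Space S} (j : V ⟶ Y) (hqc : IsQuasiCompactMor j.hom) (hj : IsSchDense j.hom) :
    ∃ (Vc : Over S) (φ : (yon S).obj Vc ⟶ Y.obj) (W : Vc.left.Opens) (We : Over S) (ι : We ⟶ Vc)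
      (b : (yon S).obj We ⟶ V.obj), RepWith @Etale φ ∧ RepWith @Surjective φ ∧
      IsPullback b ((yon S).map ι) j.hom φ ∧ RepWith @Etale b ∧ QuasiCompact W.ι ∧
      IsSchemeTheoreticallyDominant W.ι ∧ ∃ e : We.left ≅ W.toScheme, e.hom ≫ W.ι = ι.left := by
  obtain ⟨hjo, Vc, φ, W, b, hφ, hφs, sq, hd⟩ := hj
  let ι : Over.mk (W.ι ≫ Vc.hom) ⟶ Vc := Over.homMk W.ι rfl
  have hq : QuasiCompact ι.left :=
    (repWith_quasiCompact_of_isQuasiCompactMor hjo.rep hqc).property φ b ι sq
  haveI : QuasiCompact W.ι := hq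
  exact ⟨Vc, φ, W, _, ι, b, hφ, hφs, sq, (repWith_isStableUnderBaseChange _).of_isPullback sq.flip hφ, hq,
    isSchemeTheoreticallyDominant_of_schDense W hd, Iso.refl _, by simp [ι]⟩

/-- Restriction of a chart over an open of the base chart. -/
theorem exists_restrict_chart (hP : IsPullback fst snd f j) {T Vc We : Over S} {a : (yon S).obj T ⟶ X}
    {φ : (yon S).obj Vc ⟶ Y} {h : T ⟶ Vc} {ι : We ⟶ Vc} {b : (yon S).obj We ⟶ V}
    (sqb : IsPullback b ((yon S).map ι) j φ) (w : a ≫ f = (yon S).map h ≫ φ) :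
    ∃ (T₀ : Over S) (r : T₀ ⟶ We) (i : T₀ ⟶ T) (a' : (yon S).obj T₀ ⟶ P),
      IsPullback r.left i.left ι.left h.left ∧ a' ≫ snd = (yon S).map r ≫ b ∧ a' ≫ fst = (yon S).map i ≫ a ∧
      IsPullback a' ((yon S).map i) fst a := by
  obtain ⟨T₀, r, i, sq⟩ := exists_isPullback_yon (IsAlgSpace.yon_obj Vc).diag ((yon S).map ι) ((yon S).map h)
  have hw : ((yon S).map i ≫ a) ≫ f = ((yon S).map r ≫ b) ≫ j := by
    rw [Category.assoc, w, ← Category.assoc, ← sq.w, Category.assoc, Category.assoc, sqb.w]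
  refine ⟨T₀, r, i, hP.lift _ _ hw, isPullback_left sq, hP.lift_snd _ _ _, hP.lift_fst _ _ _, ?_⟩
  refine IsPullback.of_right (h₁₂ := snd) (v₁₃ := j) (h₂₂ := f) ?_ (hP.lift_fst _ _ _) hP.flip
  rw [hP.lift_snd, w]
  exact sq.paste_horiz sqb

theorem restrict_property {Q : MorphismProperty Scheme.{u}} [Q.RespectsIso] {T Vc We T₀ : Over S}
    {W : Vc.left.Opens} {h : T ⟶ Vc} {ι : We ⟶ Vc} {r : T₀ ⟶ We} {i : T₀ ⟶ T}
    (e : We.left ≅ W.toScheme) (he : e.hom ≫ W.ι = ι.left)
    (sq : IsPullback r.left i.left ι.left h.left) (hr : Q r.left) : Q (h.left ∣_ W) := by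
  have sq' : IsPullback (r.left ≫ e.hom) i.left W.ι h.left :=
    sq.of_iso (Iso.refl _) e (Iso.refl _) (Iso.refl _) (by simp) (by simp) (by simp [he]) (by simp)
  have e2 := (sq'.isoIsPullback _ _ (isPullback_morphismRestrict h.left W))
  have : (h.left ∣_ W) = (sq'.isoIsPullback _ _ (isPullback_morphismRestrict h.left W)).inv ≫ r.left ≫ e.hom :=
    (IsPullback.isoIsPullback_inv_fst _ _ sq' _).symm
  rw [this]
  exact (Q.cancel_left_of_respectsIso _ _).2 ((Q.cancel_right_of_respectsIso _ _).2 hr)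

theorem locP_lfp_of_schDense {X Y V P : Space S} {f : X ⟶ Y} {j : V ⟶ Y} {fst : P ⟶ X} {snd : P ⟶ V}
    (hf1 : LocP @LocallyOfFiniteType f.hom) (hf2 : LocP @Flat f.hom) (hj1 : IsQuasiCompactMor j.hom)
    (hj2 : IsSchDense j.hom) (hP : IsPullback fst.hom snd.hom f.hom j.hom)
    (hV : LocP @LocallyOfFinitePresentation snd.hom) : LocP @LocallyOfFinitePresentation f.hom := by
  obtain ⟨Vc, φ, W, We, ι, b, hφ, hφs, sqb, hb, hWq, hWd, e, he⟩ := exists_dense_chart j hj1 hj2
  obtain ⟨T, a, h, ha, has, w⟩ := exists_compatible_chart f.hom X.property Y.property.diag hφ hφs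
  obtain ⟨T₀, r, i, a', sq, w', -, sqa⟩ := exists_restrict_chart hP sqb w
  haveI : LocallyOfFiniteType h.left := hf1 a φ h ha hφ w
  haveI : Flat h.left := hf2 a φ h ha hφ w
  haveI : MorphismProperty.RespectsIso (@LocallyOfFinitePresentation.{u} : MorphismProperty Scheme.{u}) :=
    inferInstance
  haveI : LocallyOfFinitePresentation (h.left ∣_ W) := restrict_property e he sq
    (hV a' b r ((repWith_isStableUnderBaseChange _).of_isPullback sqa.flip ha) hb w')
  exact locP_of_chart X.property.diag Y.property.diag ha has hφ w (Groth.Agent.S0451.result h.left W)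

theorem mono_of_schDense {X Y V P : Space S} {f : X ⟶ Y} {j : V ⟶ Y} {fst : P ⟶ X} {snd : P ⟶ V}
    (hf1 : IsSeparatedMor f.hom) (hf3 : LocP @Flat f.hom) (hj1 : IsQuasiCompactMor j.hom)
    (hj2 : IsSchDense j.hom) (hP : IsPullback fst.hom snd.hom f.hom j.hom) (hV : IsIso snd.hom) : Mono f.hom := by
  obtain ⟨Vc, φ, W, We, ι, b, hφ, hφs, sqb, hb, hWq, hWd, e, he⟩ := exists_dense_chart j hj1 hj2
  let π := pullback.fst f.hom f.hom ≫ f.hom
  have hPP := isAlgSpace_pullback f.hom f.hom X.property X.property Y.property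
  have hπ : LocP @Flat π := locP_comp hPP X.property Y.property
    (locP_baseChange (IsPullback.of_hasPullback f.hom f.hom).flip X.property Y.property X.property hf3) hf3
  obtain ⟨T, a, h, ha, has, w⟩ := exists_compatible_chart π hPP Y.property.diag hφ hφs
  haveI : Flat h.left := hπ a φ h ha hφ w
  let Δ := pullback.diagonal f.hom
  have hΔ : RepWith @IsClosedImmersion Δ := hf1
  obtain ⟨T₀, r, i, sq⟩ := exists_isPullback_yon (IsAlgSpace.yon_obj Vc).diag ((yon S).map ι) ((yon S).map h)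
  let x₁ := (yon S).map i ≫ a ≫ pullback.fst f.hom f.hom
  let x₂ := (yon S).map i ≫ a ≫ pullback.snd f.hom f.hom
  have hx₁ : x₁ ≫ f.hom = ((yon S).map r ≫ b) ≫ j.hom := by
    simp only [x₁, Category.assoc]
    rw [show a ≫ pullback.fst f.hom f.hom ≫ f.hom = (yon S).map h ≫ φ from w, ← Category.assoc, ← sq.w,
      Category.assoc, sqb.w]
  have hx₂ : x₂ ≫ f.hom = ((yon S).map r ≫ b) ≫ j.hom := by
    rw [← hx₁]; simp only [x₁, x₂, Category.assoc, pullback.condition]
  have hx : x₁ = x₂ := by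
    have : hP.lift x₁ _ hx₁ = hP.lift x₂ _ hx₂ := (cancel_mono snd.hom).1 (by rw [hP.lift_snd, hP.lift_snd])
    rw [← hP.lift_fst x₁ _ hx₁, this, hP.lift_fst]
  have hrep : Representable Δ := hΔ.rep
  have sqZ := hrep.isPullback a
  let z : hrep.pullback a ⟶ T := hrep.snd a
  haveI : IsClosedImmersion z.left := hΔ.property_snd a
  obtain ⟨s, hs⟩ := (yon S).map_surjective (sqZ.lift x₁ ((yon S).map i) (by
    refine pullback.hom_ext ?_ ?_
    · simp [Δ, x₁]
    · simpa [Δ] using hx.trans (by simp [x₂])))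
  have hsz : s ≫ z = i := (yon S).map_injective (by rw [Functor.map_comp, hs, sqZ.lift_snd])
  haveI : QuasiCompact ι.left := by rw [← he]; infer_instance
  haveI : IsSchemeTheoreticallyDominant ι.left := by rw [← he]; infer_instance
  haveI : IsSchemeTheoreticallyDominant i.left :=
    IsSchemeTheoreticallyDominant.of_isPullback (isPullback_left sq)
  haveI : IsIso z.left := Groth.Agent.LimTop61.isIso_of_factor z.left i.left s.left
    (by rw [← Over.comp_left, hsz])
  haveI : IsIso Δ := isIso_of_repWith_isomorphisms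
    (repWith_of_baseChange sqZ (locLift_of_atlas ha has) hrep ((repWith_yon_map_iff _ z).2 ‹_›))
  exact (pullback.isIso_diagonal_iff f.hom).1 ‹_›

theorem openImm_of_schDense {X Y V P : Space S} {f : X ⟶ Y} {j : V ⟶ Y} {fst : P ⟶ X} {snd : P ⟶ V}
    (hf1 : IsSeparatedMor f.hom) (hf2 : LocP @LocallyOfFiniteType f.hom) (hf3 : LocP @Flat f.hom)
    (hj1 : IsQuasiCompactMor j.hom) (hj2 : IsSchDense j.hom) (hP : IsPullback fst.hom snd.hom f.hom j.hom)
    (hV : IsIso snd.hom) : RepWith @IsOpenImmersion f.hom := by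
  haveI : Mono f.hom := mono_of_schDense hf1 hf3 hj1 hj2 hP hV
  have hrep := Groth.Agent.S10260.result f (locP_lqf_of_mono X.property hf2) hf1
  obtain ⟨Vc, φ, W, We, ι, b, hφ, hφs, sqb, hb, hWq, hWd, e, he⟩ := exists_dense_chart j hj1 hj2
  obtain ⟨T, h, a, sqT⟩ := hrep φ
  have ha : RepWith @Etale a := (repWith_isStableUnderBaseChange _).of_isPullback sqT.flip hφ
  obtain ⟨T₀, r, i, a', sq, w', wf, sqa⟩ := exists_restrict_chart hP sqb sqT.w
  haveI : IsIso r.left := by
    have s1 : IsPullback (a' ≫ fst.hom) ((yon S).map r) f.hom (b ≫ j.hom) := by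
      rw [wf, sqb.w]
      exact (isPullback_yon_of_left (p := i) (q := r) (r := h) (s := ι) sq.flip).paste_horiz sqT
    have s2 : IsPullback a' ((yon S).map r) snd.hom b := IsPullback.of_right s1 w' hP
    haveI : IsIso ((yon S).map r) := MorphismProperty.of_isPullback
      (P := MorphismProperty.isomorphisms (Sp S)) s2 hV
    haveI : IsIso r := isIso_of_fully_faithful (yon S) r
    exact inferInstanceAs (IsIso ((Over.forget S).map r))
  haveI : IsIso (h.left ∣_ W) := restrict_property (Q := MorphismProperty.isomorphisms Scheme.{u}) e he sq ‹_›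
  haveI : LocallyOfFiniteType h.left := hf2 a φ h ha hφ sqT.w
  haveI : Flat h.left := hf3 a φ h ha hφ sqT.w
  haveI : IsSeparated h.left := ((Groth.Agent.S9905.result f hrep).1.1 hf1).property φ a h sqT
  haveI : MorphismProperty.DescendsAlong (@IsOpenImmersion.{u} : MorphismProperty Scheme.{u}) fppfSurj :=
    inferInstanceAs (MorphismProperty.DescendsAlong (@IsOpenImmersion.{u} : MorphismProperty Scheme.{u})
      (@Surjective ⊓ @Flat ⊓ @LocallyOfFinitePresentation))
  exact repWith_of_baseChange sqT (locLift_of_atlas hφ hφs) hrep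
    ((repWith_yon_map_iff _ h).2 (Groth.Agent.S0449.result h.left W))

end Groth.Agent.SpFP87
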