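import Groth.Agent.SpFP87.ProjStage
import Groth.Agent.SpFP87.FinChow
import Groth.Agent.SpPts86.ImmDescent
import Groth.Agent.S7383
import Groth.Agent.S9199
/-!
Chow's lemma, projective form, for separated finite type morphisms to quasi-compact separated spaces.
-/

set_option autoImplicit false
set_option linter.style.haveILetI false
set_option backward.isDefEq.respectTransparency false
universe u
open CategoryTheory CategoryTheory.Limits AlgebraicGeometry Opposite
open AlgSp Groth.Agent.SpPts86

attribute [local instance] CategoryTheory.isConnected_of_hasTerminal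

namespace Groth.Agent.SpFP87

variable {S : Scheme.{u}}

theorem isSeparatedMor_to_terminal {X : Sp S} (h : IsSeparatedSp X) {T : Over S}
    (hT : IsTerminal ((yon S).obj T)) (π : X ⟶ (yon S).obj T) : IsSeparatedMor π := by
  let e : pullback π π ⟶ X ⨯ X := prod.lift (pullback.fst π π) (pullback.snd π π)
  have : IsIso e := ⟨pullback.lift prod.fst prod.snd (hT.hom_ext _ _),
    by apply pullback.hom_ext <;> simp [e], by apply Limits.prod.hom_ext <;> simp [e]⟩
  have hd : Limits.diag X = pullback.diagonal π ≫ e := by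
    apply Limits.prod.hom_ext <;> simp [e]
  change RepWith @IsClosedImmersion (Limits.diag X) at h
  rw [hd, MorphismProperty.cancel_right_of_respectsIso (RepWith @IsClosedImmersion)] at h
  exact h

theorem isQuasiSeparatedSp_of_isSeparatedSp {X : Sp S} (h : IsSeparatedSp X) : IsQuasiSeparatedSp X :=
  repWith_mono (fun _ _ g (hg : IsClosedImmersion g) => inferInstance) h

theorem isSeparated_of_isSeparatedMor_to [S.IsSeparated] {Z : Over S} {Y : Sp S} (g : (yon S).obj Z ⟶ Y)
    (hg : IsSeparatedMor g) (hY : IsSeparatedSp Y) : Z.left.IsSeparated := by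
  let t : Z ⟶ Over.mk (𝟙 S) := Over.homMk Z.hom (Category.comp_id _)
  have hT : IsTerminal ((yon S).obj (Over.mk (𝟙 S))) := IsTerminal.isTerminalObj (yon S) _ Over.mkIdTerminal
  have h : IsSeparatedMor ((yon S).map t) := by
    rw [show (yon S).map t = g ≫ hT.from Y from hT.hom_ext _ _]
    exact isSeparatedMor_comp hg (isSeparatedMor_to_terminal hY hT _)
  haveI : IsSeparated Z.hom := (isSeparatedMor_yon_map_iff t).1 h
  refine ⟨?_⟩
  rw [← terminal.comp_from Z.hom]
  infer_instance

set_option maxHeartbeats 1000000 in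
/-- A finite type scheme over the space maps by a closed immersion to the product with a finite type stage. -/
theorem exists_stage [S.IsSeparated] {Y : AlgSp.Space S} (hY : IsSeparatedSp Y.obj) {Z U Q : Over S}
    [CompactSpace Z.left] [Z.left.IsSeparated] [CompactSpace U.left]
    {g : (yon S).obj Z ⟶ Y.obj} {u : (yon S).obj U ⟶ Y.obj} {p : Q ⟶ Z} {q : Q ⟶ U}
    (sq : IsPullback ((yon S).map p) ((yon S).map q) g u) [LocallyOfFiniteType q.left] :
    ∃ (A : Scheme.{u}) (a : Z.left ⟶ A), A.IsSeparated ∧ CompactSpace A ∧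
      LocallyOfFiniteType (terminal.from A) ∧ IsClosedImmersion (absLift (p.left ≫ a) q.left) := by
  haveI : IsClosedImmersion (schLift p q) := schLift_of_repWith_diag @IsClosedImmersion hY sq
  haveI := isClosedImmersion_toAbs Z U
  haveI : IsClosedImmersion (absLift p.left q.left) := by rw [← schLift_toAbs]; infer_instance
  obtain ⟨I, _, _, _, D, c, hc, hD, hDaff, ⟨e⟩⟩ := Groth.Agent.S7383.result (terminal.from Z.left)
  haveI : IsCofiltered Iᵒᵖ := inferInstance
  haveI : IsConnected Iᵒᵖ := IsCofiltered.isConnected Iᵒᵖ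
  let D' : Iᵒᵖ ⥤ Scheme.{u} := D ⋙ Over.forget _
  let c' : Cone D' := (Over.forget _).mapCone c
  have hc' : IsLimit c' := isLimitOfPreserves (Over.forget _) hc
  haveI : ∀ (i j : Iᵒᵖ) (a : i ⟶ j), IsAffineHom (D'.map a) := hDaff
  haveI : ∀ i, CompactSpace (D'.obj i) := fun i => by
    haveI := (hD i).2.1
    exact QuasiCompact.compactSpace_of_compactSpace (D.obj i).hom
  haveI : ∀ i, QuasiSeparatedSpace (D'.obj i) := fun i => by
    haveI := (hD i).2.2
    exact quasiSeparatedSpace_of_quasiSeparated (D.obj i).hom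
  let i₀ : Iᵒᵖ := Classical.arbitrary _
  let t : D' ⟶ (Functor.const _).obj (⊤_ Scheme.{u}) :=
    { app := fun i => (D.obj i).hom, naturality := fun _ _ _ => terminal.hom_ext _ _ }
  let el : Z.left ≅ c'.pt := ((Over.forget _).mapIso e).symm
  haveI : IsSeparated (c'.π.app i₀ ≫ t.app i₀) := by
    rw [show c'.π.app i₀ ≫ t.app i₀ = el.inv ≫ terminal.from Z.left from terminal.hom_ext _ _]
    haveI : IsSeparated (terminal.from Z.left) := Scheme.IsSeparated.isSeparated_terminal_from
    infer_instance
  obtain ⟨i₁, hi₁⟩ := Groth.Agent.S9199.result (⊤_ Scheme.{u}) D' t c' hc' i₀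
  haveI : IsClosedImmersion (absLift (p.left ≫ el.hom) q.left) := by
    have : absLift (p.left ≫ el.hom) q.left =
        absLift p.left q.left ≫ absLift (pullback.fst _ _ ≫ el.hom) (pullback.snd _ _) := by
      apply pullback.hom_ext <;> simp [absLift_fst, absLift_snd, absLift_fst_assoc, absLift_snd_assoc]
    rw [this]
    haveI : IsClosedImmersion (absLift (pullback.fst (terminal.from Z.left) (terminal.from U.left) ≫ el.hom)
        (pullback.snd _ _)) :=
      MorphismProperty.of_isPullback (P := @IsClosedImmersion) (isPullback_absLift_fst el.hom U.left).flip inferInstance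
    infer_instance
  obtain ⟨j, f, hj⟩ := exists_isClosedImmersion_absLift D' c' hc' i₁ (p.left ≫ el.hom) q.left
  haveI := (hD j).1
  refine ⟨D'.obj j, el.hom ≫ c'.π.app j, ⟨?_⟩, inferInstance, ?_, by rwa [← Category.assoc]⟩
  · rw [show terminal.from (D'.obj j) = t.app j from terminal.hom_ext _ _]; exact hi₁ j f
  · rw [show terminal.from (D'.obj j) = (D.obj j).hom from terminal.hom_ext _ _]; infer_instance

set_option maxHeartbeats 1000000 in
theorem chow_projective [S.IsSeparated] {X Y : AlgSp.Space S} (f : X ⟶ Y)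
    (hY1 : AlgSp.IsQuasiCompactSp Y.obj) (hY2 : AlgSp.IsSeparatedSp Y.obj)
    (hf1 : AlgSp.IsSeparatedMor f.hom) (hf2 : AlgSp.IsFiniteTypeMor f.hom) :
    ∃ (n : ℕ) (X' : AlgSp.Space S) (a : X' ⟶ X)
      (b : X'.obj ⟶ (AlgSp.yon S).obj (Over.mk (CohB1.ProjSpaceOver.toBase n S)) ⨯ Y.obj),
      b ≫ prod.snd = (a ≫ f).hom ∧
        AlgSp.IsProperMor a.hom ∧ AlgSp.IsSurjectiveMor a.hom ∧ AlgSp.RepWith @IsImmersion b := by
  haveI : QuasiSeparatedSpace ↥S := inferInstance
  haveI := compactSpace_points_of_isQuasiCompactSp hY1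
  haveI : CompactSpace (Points X.obj) := compactSpace_of_qcMor' Y.property hf2.2
  -- the finite cover
  obtain ⟨Z, φ, hφ, hφs⟩ := ModSys.exists_scheme_finite_surjective X (isQuasiCompactSp_of_compactSpace X.property)
    (Groth.Agent.SpProper61.qsSp_of_mor f.hom (isQuasiSeparatedMor_of_isSeparatedMor hf1)
      (isQuasiSeparatedSp_of_isSeparatedSp hY2))
  have hφp := isProperMor_of_isFiniteMor (IsAlgSpace.yon_obj Z) X.property hφ
  haveI : CompactSpace (Points ((yon S).obj Z)) := compactSpace_of_qcMor' X.property hφp.2.1.2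
  haveI : CompactSpace Z.left := (Points.schemeHomeo Z).symm.compactSpace
  haveI : Z.left.IsSeparated :=
    isSeparated_of_isSeparatedMor_to (φ ≫ f.hom) (isSeparatedMor_comp hφp.1 hf1) hY2
  have hgft : IsFiniteTypeMor (φ ≫ f.hom) :=
    isFiniteTypeMor_comp (IsAlgSpace.yon_obj Z) X.property Y.property hφp.2.1 hf2
  -- an atlas
  obtain ⟨U, u, hU, hue, hus⟩ := exists_affine_chart_of_compactSpace Y.property
  haveI := hU
  haveI : CompactSpace U.left := inferInstance
  obtain ⟨Q, p, q, sq⟩ := exists_isPullback_yon Y.property.diag (φ ≫ f.hom) u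
  haveI : LocallyOfFiniteType q.left := (locP_yon_map_iff q).1
    (isFiniteTypeMor_baseChange (IsAlgSpace.yon_obj Z) Y.property (IsAlgSpace.yon_obj U) hgft sq).1
  obtain ⟨A, a, hAsep, hAc, hAft, hcl⟩ := exists_stage hY2 sq
  -- Chow over the integers
  haveI := quasiCompact_terminal_from A
  haveI : IsSeparated (terminal.from A) := hAsep.isSeparated_terminal_from
  obtain ⟨n, P, π, j, hj, hjπ, hπ, hπs⟩ := Groth.Agent.S7409.result (terminal.from A)
  haveI := hj
  haveI := hπ
  haveI := hπs
  -- the modification
  let Z' : Over S := Over.mk (pullback.fst a π ≫ Z.hom)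
  let α : Z' ⟶ Z := Over.homMk (pullback.fst a π) rfl
  let m : P ⟶ CohB1.ProjSpace n (ULift.{u} ℤ) := j ≫ pullback.fst _ _
  haveI : IsImmersion m := by
    haveI : IsIso (specULiftZIsTerminal.{u}.from (⊤_ Scheme.{u})) :=
      ⟨terminal.from _, terminal.hom_ext _ _, specULiftZIsTerminal.hom_ext _ _⟩
    haveI : IsIso (pullback.fst (CohB1.ProjSpace.toSpec n (ULift.{u} ℤ))
      (specULiftZIsTerminal.from (⊤_ Scheme.{u}))) := inferInstance
    infer_instance
  let β : Z' ⟶ Over.mk (CohB1.ProjSpaceOver.toBase n S) :=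
    Over.homMk (pullback.lift (pullback.snd a π ≫ m) Z'.hom (specULiftZIsTerminal.hom_ext _ _))
      (pullback.lift_snd _ _ _)
  let b : (yon S).obj Z' ⟶ (yon S).obj (Over.mk (CohB1.ProjSpaceOver.toBase n S)) ⨯ Y.obj :=
    prod.lift ((yon S).map β) ((yon S).map α ≫ φ ≫ f.hom)
  -- pull back along the atlas
  let R : Over S := pullback α p
  have sqR : IsPullback ((yon S).map (pullback.fst α p)) ((yon S).map (pullback.snd α p ≫ q))
      ((yon S).map α ≫ φ ≫ f.hom) u := by
    have := ((IsPullback.of_hasPullback α p).map (yon S)).flip.paste_horiz sq.flip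
    rw [Functor.map_comp]
    exact this.flip
  let P' : Over S := Over.mk (CohB1.ProjSpaceOver.toBase n S)
  let T : Over S := P' ⨯ U
  let s : R ⟶ T := prod.lift (pullback.fst α p ≫ β) (pullback.snd α p ≫ q)
  haveI : IsImmersion s.left := by
    have h1 : IsPullback (pullback.snd α p).left ((pullback.fst α p).left ≫ pullback.snd a π) (p.left ≫ a) π :=
      (((IsPullback.of_hasPullback α p).map (Over.forget S)).flip).paste_vert (IsPullback.of_hasPullback a π)
    haveI := isClosedImmersion_absLift_of_isPullback (b := q.left) h1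
    haveI : IsImmersion (absLift ((pullback.fst α p).left ≫ pullback.snd a π ≫ m)
        ((pullback.snd α p).left ≫ q.left)) := by
      have : absLift ((pullback.fst α p).left ≫ pullback.snd a π ≫ m) ((pullback.snd α p).left ≫ q.left) =
          absLift ((pullback.fst α p).left ≫ pullback.snd a π) ((pullback.snd α p).left ≫ q.left) ≫
            absLift (pullback.fst _ _ ≫ m) (pullback.snd _ _) := by
        apply pullback.hom_ext <;> simp [absLift_fst, absLift_snd, absLift_fst_assoc, absLift_snd_assoc]
      rw [this]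
      haveI : IsImmersion (absLift (pullback.fst (terminal.from P) (terminal.from U.left) ≫ m) (pullback.snd _ _)) :=
        MorphismProperty.of_isPullback (P := @IsImmersion) (isPullback_absLift_fst m U.left).flip inferInstance
      infer_instance
    have e : (s.left ≫ (Over.prodLeftIsoPullback P' U).hom) ≫
        absLift (pullback.fst P'.hom U.hom ≫ pullback.fst _ _) (pullback.snd P'.hom U.hom) =
        absLift ((pullback.fst α p).left ≫ pullback.snd a π ≫ m) ((pullback.snd α p).left ≫ q.left) := by
      have es1 : s.left ≫ (prod.fst : P' ⨯ U ⟶ P').left = (pullback.fst α p).left ≫ β.left := by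
        rw [← Over.comp_left, ← Over.comp_left, prod.lift_fst]
      have es2 : s.left ≫ (prod.snd : P' ⨯ U ⟶ U).left = (pullback.snd α p).left ≫ q.left := by
        rw [← Over.comp_left, ← Over.comp_left, prod.lift_snd]
      apply pullback.hom_ext
      · simp only [Category.assoc, absLift_fst, Over.prodLeftIsoPullback_hom_fst_assoc]
        rw [reassoc_of% es1]
        exact congrArg ((pullback.fst α p).left ≫ ·) (pullback.lift_fst _ _ _)
      · simp only [Category.assoc, absLift_snd, Over.prodLeftIsoPullback_hom_snd]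
        exact es2
    haveI : IsImmersion ((s.left ≫ (Over.prodLeftIsoPullback P' U).hom) ≫
        absLift (pullback.fst P'.hom U.hom ≫ pullback.fst _ _) (pullback.snd P'.hom U.hom)) := by
      rw [e]; infer_instance
    haveI : IsImmersion (s.left ≫ (Over.prodLeftIsoPullback P' U).hom) :=
      IsImmersion.of_comp _ (absLift (pullback.fst P'.hom U.hom ≫ pullback.fst _ _) (pullback.snd P'.hom U.hom))
    exact IsImmersion.of_comp _ (Over.prodLeftIsoPullback P' U).hom
  -- the chart of the product
  let g : (yon S).obj T ⟶ (yon S).obj P' ⨯ Y.obj := prodComparison (yon S) P' U ≫ prod.map (𝟙 _) u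
  have sqm : IsPullback (prod.map (𝟙 ((yon S).obj P')) u) prod.snd
      (prod.snd : (yon S).obj P' ⨯ Y.obj ⟶ Y.obj) u := by
    refine ⟨⟨Limits.prod.map_snd _ _⟩, ⟨PullbackCone.IsLimit.mk _
      (fun c => prod.lift (c.fst ≫ prod.fst) c.snd) (fun c => ?_) (fun c => prod.lift_snd _ _)
      (fun c m h₁ h₂ => ?_)⟩⟩
    · apply Limits.prod.hom_ext
      · simp
      · simp [c.condition]
    · apply Limits.prod.hom_ext
      · simp [← h₁]
      · simp [← h₂]
  have hge : RepWith @Etale g :=
    (MorphismProperty.cancel_left_of_respectsIso (RepWith @Etale) (prodComparison (yon S) P' U) _).2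
      ((repWith_isStableUnderBaseChange _).of_isPullback sqm.flip hue)
  have hgs : RepWith @Surjective g :=
    (MorphismProperty.cancel_left_of_respectsIso (RepWith @Surjective) (prodComparison (yon S) P' U) _).2
      ((repWith_isStableUnderBaseChange _).of_isPullback sqm.flip hus)
  have sqb : IsPullback ((yon S).map (pullback.fst α p)) ((yon S).map s) b g := by
    have h1 : (yon S).map s ≫ g = prod.lift ((yon S).map (pullback.fst α p ≫ β))
        ((yon S).map (pullback.snd α p ≫ q) ≫ u) := by
      apply Limits.prod.hom_ext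
      · rw [Category.assoc, Category.assoc, prod.map_fst, Category.comp_id, prodComparison_fst,
          ← Functor.map_comp, prod.lift_fst, prod.lift_fst]
      · rw [Category.assoc, Category.assoc, prod.map_snd, prodComparison_snd_assoc,
          ← Functor.map_comp_assoc, prod.lift_snd, prod.lift_snd]
    have hw : (yon S).map s ≫ g = (yon S).map (pullback.fst α p) ≫ b := by
      rw [h1]
      apply Limits.prod.hom_ext
      · rw [prod.lift_fst, Category.assoc, prod.lift_fst, Functor.map_comp]
      · rw [prod.lift_snd, Category.assoc, prod.lift_snd]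
        exact sqR.w.symm
    have sqc : IsPullback g ((yon S).map (prod.snd : P' ⨯ U ⟶ U)) (prod.snd : (yon S).obj P' ⨯ Y.obj ⟶ Y.obj) u := by
      refine IsPullback.of_iso sqm (asIso (prodComparison (yon S) P' U)).symm (Iso.refl _) (Iso.refl _)
        (Iso.refl _) ?_ ?_ (by simp) (by simp)
      · rw [Iso.refl_hom, Category.comp_id, Iso.symm_hom, Iso.eq_inv_comp]
        rfl
      · rw [Iso.refl_hom, Category.comp_id, Iso.symm_hom, Iso.eq_inv_comp, asIso_hom, prodComparison_snd]
    refine (IsPullback.of_right ?_ hw sqc.flip).flip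
    have e1 : b ≫ prod.snd = (yon S).map α ≫ φ ≫ f.hom := prod.lift_snd _ _
    rw [e1, ← Functor.map_comp, prod.lift_snd]
    exact sqR.flip
  refine ⟨n, ⟨(yon S).obj Z', IsAlgSpace.yon_obj _⟩, ObjectProperty.homMk ((yon S).map α ≫ φ), b,
    ?_, ?_, ?_, repWith_isImmersion_of_chart hge hgs sqb⟩
  · show b ≫ prod.snd = ((yon S).map α ≫ φ) ≫ f.hom
    rw [Category.assoc]
    exact prod.lift_snd _ _
  · exact isProperMor_comp (IsAlgSpace.yon_obj _) (IsAlgSpace.yon_obj _) X.property
      ((isProperMor_yon_map_iff α).2 (inferInstanceAs (IsProper (pullback.fst a π)))) hφp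
  · intro x
    obtain ⟨z, hz⟩ := hφs x
    obtain ⟨z, rfl⟩ := (Points.schemeHomeo Z).surjective z
    haveI : Surjective (pullback.fst a π) := MorphismProperty.pullback_fst _ _ ‹Surjective π›
    obtain ⟨z', hz'⟩ := (pullback.fst a π).surjective z
    refine ⟨Points.schemeHomeo Z' z', ?_⟩
    show Points.map ((yon S).map α ≫ φ) _ = x
    rw [Points.map_comp, Points.map_yon_map_apply, show α.left z' = z from hz', hz]

end Groth.Agent.SpFP87
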