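import Groth.Agent.SpFP87.ThickSep
import Groth.Agent.SpFP87.ThickTop
import Groth.Agent.SpPts86.Proper
import Groth.Agent.SpPts86.Subspace
import Groth.Agent.S10277
/-!
Closed subspaces proper over a base.
-/

set_option autoImplicit false
set_option linter.style.haveILetI false
universe u
open CategoryTheory CategoryTheory.Limits AlgebraicGeometry
open AlgSp
open Groth.Agent.SpPts86

namespace Groth.Agent.SpFP87

variable {S : Scheme.{u}}

theorem range_map_snd_of_isPullback {Z X X' Z' : Sp S} {q : Z' ⟶ Z} {i' : Z' ⟶ X'} {i : Z ⟶ X} {g : X' ⟶ X}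
    (sq : IsPullback q i' i g) :
    Set.range (Points.map i') = Points.map g ⁻¹' Set.range (Points.map i) := by
  refine Set.Subset.antisymm ?_ fun x ⟨z, hz⟩ => ?_
  · rintro - ⟨w, rfl⟩
    exact ⟨Points.map q w, by rw [← Points.map_comp, ← Points.map_comp, sq.w]⟩
  · obtain ⟨w, -, hw⟩ := exists_of_isPullback sq z x hz
    exact ⟨w, hw⟩

theorem isProperMor_of_points_eq {X Y Z Z' : Sp S} (hX : IsAlgSpace X) (hY : IsAlgSpace Y) (hZ : IsAlgSpace Z)
    (hZ' : IsAlgSpace Z') (f : X ⟶ Y) (hf : LocP @LocallyOfFiniteType f) (i : Z ⟶ X) (i' : Z' ⟶ X)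
    (hi : RepWith @IsClosedImmersion i) (hi' : RepWith @IsClosedImmersion i')
    (heq : Set.range (Points.map i) = Set.range (Points.map i')) (hp : IsProperMor (i ≫ f)) :
    IsProperMor (i' ≫ f) := by
  let W := pullback i i'
  have sq := IsPullback.of_hasPullback i i'
  have hW : IsAlgSpace W := isAlgSpace_pullback i i' hZ hZ' hX
  have h1 : RepWith @IsClosedImmersion (pullback.snd i i') :=
    (repWith_isStableUnderBaseChange _).of_isPullback sq hi
  have h2 : RepWith @IsClosedImmersion (pullback.fst i i') :=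
    (repWith_isStableUnderBaseChange _).of_isPullback sq.flip hi'
  have s1 : Function.Surjective (Points.map (pullback.snd i i')) := fun z => by
    obtain ⟨y, hy⟩ := heq.ge ⟨z, rfl⟩
    obtain ⟨w, -, hw⟩ := exists_of_isPullback sq y z hy
    exact ⟨w, hw⟩
  have ht : IsThickMor (pullback.snd i i') :=
    ⟨h1.rep, fun _ _ g a b c => ⟨h1.property g a b c,
      ((repWith_surjective_iff h1.rep).2 s1).property g a b c⟩⟩
  have htY : IsThickMor (𝟙 Y) := by
    haveI : thick.{u}.IsMultiplicative :=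
      { id_mem := fun A => ⟨(inferInstance : IsClosedImmersion (𝟙 A)), (inferInstance : Surjective (𝟙 A))⟩
        comp_mem := fun a b ha hb => ⟨MorphismProperty.comp_mem (W := @IsClosedImmersion) a b ha.1 hb.1,
          MorphismProperty.comp_mem (W := @Surjective) a b ha.2 hb.2⟩ }
    exact (repWith_isMultiplicative thick).id_mem Y
  let a := pullback.fst i i' ≫ i ≫ f
  have hWp : IsProperMor a :=
    isProperMor_comp hW hZ hY (S10277.result (X := ⟨W, hW⟩) (Y := ⟨Z, hZ⟩) ⟨pullback.fst i i'⟩ h2) hp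
  have w : pullback.snd i i' ≫ i' ≫ f = a ≫ 𝟙 Y := by
    rw [Category.comp_id, ← pullback.condition_assoc]
  obtain ⟨-, tq, tc, -, -⟩ := thickening_topological_iff hW hZ' hY hY ht htY w
  exact ⟨(thickening_separated_iff hW hZ' hY hY ht htY w).1.1 hWp.1,
    ⟨locP_comp hZ' hX hY (locP_of_repWith hZ'.diag hX
      (repWith_mono (fun _ _ _ h => by haveI := h; exact inferInstance) hi')) hf, tq.1 hWp.2.1.2⟩, tc.1 hWp.2.2⟩

end Groth.Agent.SpFP87
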