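import Groth.Agent.SpFP87.FinScheme
import Groth.Agent.SpFP87.YonProper
import Groth.Agent.SpFP87.ProperSub
import Groth.Agent.S1366
/-!
Splitting off the proper part over a henselian pair, through a finite cover by a scheme.
-/

set_option autoImplicit false
set_option linter.style.haveILetI false
set_option backward.isDefEq.respectTransparency false
universe u
open CategoryTheory CategoryTheory.Limits AlgebraicGeometry Topology
open AlgSp Groth.Agent.SpPts86

namespace Groth.Agent.SpFP87

theorem compactSpace_of_qcMor {S : Scheme.{u}} {X : Sp S} {V : Over S} [CompactSpace V.left]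
    {s : X ⟶ (yon S).obj V} (hs : IsQuasiCompactMor s) : CompactSpace (Points X) := by
  haveI := compactSpace_points_yon V
  exact compactSpace_of_isQuasiCompactMor hs (IsAlgSpace.yon_obj V)
    (IsPullback.of_horiz_isIso ⟨by simp⟩ : IsPullback (𝟙 X) s s (𝟙 _))

theorem isClosedMap_of_isUnivClosedMor {S : Scheme.{u}} {X Y : Sp S} (hY : IsAlgSpace Y) {f : X ⟶ Y}
    (h : IsUnivClosedMor f) : IsClosedMap (Points.map f) :=
  h hY (𝟙 Y) (𝟙 X) f (IsPullback.of_horiz_isIso ⟨by simp⟩)

theorem isFiniteMor_of_closedImmersion {S : Scheme.{u}} {X Y : Sp S} {f : X ⟶ Y}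
    (h : RepWith @IsClosedImmersion f) : IsFiniteMor f :=
  (isFiniteMor_iff f).2 (repWith_mono (fun _ _ g (hg : IsClosedImmersion g) => inferInstance) h)

theorem isClosedImmersion_restrictι {S : Scheme.{u}} {X : Sp S} {W : Set (Points X)} (hW : IsOpen W)
    (hc : IsClosed W) : RepWith @IsClosedImmersion (restrictι X W) := by
  refine MorphismProperty.relative.of_exists fun T g => ?_
  obtain ⟨V, snd, fst, sq, hO, hr⟩ := exists_isPullback_restrict hW g
  refine ⟨V, fst, snd, sq, ?_⟩
  exact IsClosedImmersion.of_isPreimmersion snd.left (hr ▸ hc.preimage (Points.continuous_ofPt g))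

set_option maxHeartbeats 1000000 in
theorem split_off_proper_part (A : Type u) [CommRing A] (I : Ideal A) [HenselianRing A I]
    {X X0 Y : AlgSp.Space (Spec (CommRingCat.of A))}
    (s : X.obj ⟶ (AlgSp.yon (Spec (CommRingCat.of A))).obj (Over.mk (𝟙 _)))
    (hs1 : AlgSp.IsSeparatedMor s) (hs2 : AlgSp.IsFiniteTypeMor s)
    (i0 : X0 ⟶ X)
    (s0 : X0.obj ⟶ (AlgSp.yon (Spec (CommRingCat.of A))).obj
      (Over.mk (Spec.map (CommRingCat.ofHom (Ideal.Quotient.mk I)))))
    (hX0 : IsPullback i0.hom s0 s ((AlgSp.yon (Spec (CommRingCat.of A))).map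
      (Over.homMk (Spec.map (CommRingCat.ofHom (Ideal.Quotient.mk I))) (Category.comp_id _) :
        Over.mk (Spec.map (CommRingCat.ofHom (Ideal.Quotient.mk I))) ⟶ Over.mk (𝟙 _))))
    (jY : Y ⟶ X0) (hY1 : AlgSp.RepWith @IsOpenImmersion jY.hom) (hY2 : AlgSp.RepWith @IsClosedImmersion jY.hom)
    (hY3 : AlgSp.IsProperMor (jY.hom ≫ s0)) :
    ∃ (W : AlgSp.Space (Spec (CommRingCat.of A))) (w : W ⟶ X) (k : Y ⟶ W),
      AlgSp.RepWith @IsOpenImmersion w.hom ∧ AlgSp.RepWith @IsClosedImmersion w.hom ∧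
        AlgSp.IsProperMor (w.hom ≫ s) ∧ IsPullback k.hom jY.hom w.hom i0.hom := by
  obtain ⟨B, hB⟩ : ∃ B : Scheme.{u}, B = Spec (CommRingCat.of A) := ⟨_, rfl⟩
  let q : Spec (CommRingCat.of (A ⧸ I)) ⟶ Spec (CommRingCat.of A) :=
    Spec.map (CommRingCat.ofHom (Ideal.Quotient.mk I))
  haveI : IsClosedImmersion q := IsClosedImmersion.spec_of_surjective _ Ideal.Quotient.mk_surjective
  let q₀ : Over.mk q ⟶ Over.mk (𝟙 (Spec (CommRingCat.of A))) := Over.homMk q (Category.comp_id _)
  have hqs : IsQuasiSeparatedSp X.obj := isQuasiSeparatedSp_of_toBase s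
    (repWith_mono (fun _ _ g (hg : IsClosedImmersion g) => inferInstance) hs1)
  haveI : CompactSpace (Over.mk (𝟙 (Spec (CommRingCat.of A)))).left :=
    inferInstanceAs (CompactSpace (Spec (CommRingCat.of A)))
  haveI := compactSpace_of_qcMor hs2.2
  obtain ⟨T, g, hg, hgs⟩ := ModSys.exists_scheme_finite_surjective X
    (isQuasiCompactSp_of_compactSpace X.property) hqs
  have hgp := isProperMor_of_isFiniteMor (IsAlgSpace.yon_obj T) X.property hg
  let t : T ⟶ Over.mk (𝟙 (Spec (CommRingCat.of A))) := Over.homMk T.hom (Category.comp_id _)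
  have hT : IsTerminal ((yon (Spec (CommRingCat.of A))).obj (Over.mk (𝟙 (Spec (CommRingCat.of A))))) :=
    IsTerminal.isTerminalObj (yon _) _ Over.mkIdTerminal
  have hgt : g ≫ s = (yon _).map t := hT.hom_ext _ _
  have hsep : IsSeparatedMor ((yon _).map t) := hgt ▸ isSeparatedMor_comp hgp.1 hs1
  have hft : IsFiniteTypeMor ((yon _).map t) :=
    hgt ▸ isFiniteTypeMor_comp (IsAlgSpace.yon_obj T) X.property (IsAlgSpace.yon_obj _) hgp.2.1 hs2
  haveI : IsSeparated T.hom := (isSeparatedMor_yon_map_iff t).1 hsep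
  haveI : LocallyOfFiniteType T.hom := (locP_yon_map_iff t).1 hft.1
  haveI : QuasiCompact T.hom := quasiCompact_of_isQuasiCompactMor_yon hft.2
  -- the special fibre of the cover
  let P : Over (Spec (CommRingCat.of A)) := Over.mk (pullback.snd T.hom q ≫ q)
  let p₀ : P ⟶ T := Over.homMk (pullback.fst T.hom q) pullback.condition
  let r₀ : P ⟶ Over.mk q := Over.homMk (pullback.snd T.hom q) rfl
  have hw₀ : p₀ ≫ t = r₀ ≫ q₀ := Over.OverMorphism.ext pullback.condition
  have sqP : IsPullback ((yon _).map p₀) ((yon _).map r₀) ((yon _).map t) ((yon _).map q₀) :=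
    (IsPullback.of_map (Over.forget _) hw₀ (IsPullback.of_hasPullback T.hom q)).map (yon _)
  let l := hX0.lift ((yon _).map p₀ ≫ g) ((yon _).map r₀) (by rw [Category.assoc, hgt]; exact sqP.w)
  have sqL : IsPullback ((yon _).map p₀) l g i0.hom :=
    IsPullback.of_bot (by rw [show l ≫ s0 = (yon _).map r₀ from hX0.lift_snd _ _ _, hgt]; exact sqP)
      (hX0.lift_fst _ _ _).symm hX0
  have hl : IsFiniteMor l :=
    (isFiniteMor_iff l).2 ((repWith_isStableUnderBaseChange _).of_isPullback sqL ((isFiniteMor_iff g).1 hg))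
  have hcl := isClosedEmbedding_map_of_closedImmersion X0.property hY2
  let YT : P.left.Opens := ⟨Points.ofPt l ⁻¹' Set.range (Points.map jY.hom),
    (isOpen_range_map hY1).preimage (Points.continuous_ofPt l)⟩
  have hYTp : IsProper (YT.ι ≫ pullback.snd T.hom q) := by
    have hι : RepWith @IsOpenImmersion ((yon _).map (openIncl P YT)) :=
      (repWith_yon_map_iff _ _).2 (inferInstanceAs (IsOpenImmersion YT.ι))
    have hsnd : RepWith @IsOpenImmersion (pullback.snd jY.hom l) :=
      (repWith_isStableUnderBaseChange _).of_isPullback (IsPullback.of_hasPullback jY.hom l) hY1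
    obtain ⟨e, he⟩ := exists_iso_of_range_eq hι hsnd (by
      rw [range_map_snd_of_isPullback (IsPullback.of_hasPullback jY.hom l)]
      ext x
      obtain ⟨x, rfl⟩ := (Points.schemeHomeo P).surjective x
      constructor
      · rintro ⟨v, hv⟩
        obtain ⟨v, rfl⟩ := (Points.schemeHomeo _).surjective v
        rw [Points.map_yon_map_apply] at hv
        have : x ∈ YT := by
          rw [← (Points.schemeHomeo P).injective hv]; exact v.2
        rw [Set.mem_preimage]
        exact (Points.ofPt_eq_map_ofScheme l x) ▸ this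
      · intro hx
        rw [Set.mem_preimage] at hx
        have hx' : x ∈ YT := by
          show Points.ofPt l x ∈ Set.range (Points.map jY.hom)
          rw [Points.ofPt_eq_map_ofScheme]
          exact hx
        exact ⟨Points.schemeHomeo (openOver P YT) ⟨x, hx'⟩, by rw [Points.map_yon_map_apply]; rfl⟩)
    have h1 : IsProperMor (e.hom ≫ pullback.fst jY.hom l ≫ jY.hom ≫ s0) := by
      have hQ : IsAlgSpace (pullback jY.hom l) := isAlgSpace_pullback _ _ Y.property (IsAlgSpace.yon_obj P) X0.property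
      refine isProperMor_comp (IsAlgSpace.yon_obj _) hQ (IsAlgSpace.yon_obj _)
        (isProperMor_of_isFiniteMor (IsAlgSpace.yon_obj _) hQ ((isFiniteMor_iff _).2
          (repWith_mono (fun _ _ g (hg : IsIso g) => inferInstance) (repWith_isomorphisms_of_isIso e.hom)))) ?_
      exact isProperMor_comp hQ Y.property (IsAlgSpace.yon_obj _)
        (isProperMor_of_isFiniteMor hQ Y.property ((isFiniteMor_iff _).2
          ((repWith_isStableUnderBaseChange _).of_isPullback (IsPullback.of_hasPullback jY.hom l).flip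
            ((isFiniteMor_iff l).1 hl)))) hY3
    have h2 : e.hom ≫ pullback.fst jY.hom l ≫ jY.hom ≫ s0 = (yon _).map (openIncl P YT ≫ r₀) := by
      rw [pullback.condition_assoc, show l ≫ s0 = (yon _).map r₀ from hX0.lift_snd _ _ _, ← Category.assoc, he,
        Functor.map_comp]
    exact (isProperMor_yon_map_iff _).1 (h2 ▸ h1)
  obtain ⟨W', hW'c, hW'p, hW'pre⟩ := Groth.Agent.S1366.result I T.hom YT
    (hcl.isClosed_range.preimage (Points.continuous_ofPt l)) hYTp
  -- membership over the closed fibre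
  have hgof : ∀ x, Points.ofPt g x = Points.map g (Points.schemeHomeo T x) :=
    fun x => Points.ofPt_eq_map_ofScheme g x
  have hmem : ∀ p : P.left, (pullback.fst T.hom q p ∈ W') ↔ Points.ofPt l p ∈ Set.range (Points.map jY.hom) :=
    fun p => SetLike.ext_iff.1 hW'pre p
  have hlg : ∀ p : P.left, Points.map i0.hom (Points.ofPt l p) = Points.ofPt g (pullback.fst T.hom q p) := fun p => by
    rw [Points.map_ofPt, ← sqL.w, ofPt_comp]; rfl
  have hi0 : Function.Injective (Points.map i0.hom) :=
    (isClosedEmbedding_map_of_closedImmersion X.property ((repWith_isStableUnderBaseChange _).of_isPullback hX0.flip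
      ((repWith_yon_map_iff _ q₀).2 (inferInstanceAs (IsClosedImmersion q))))).injective
  have hgc : IsClosedMap (Points.ofPt g) := by
    have : Points.ofPt g = Points.map g ∘ Points.schemeHomeo T := funext hgof
    rw [this]
    exact (isClosedMap_of_isUnivClosedMor X.property hgp.2.2).comp (Points.schemeHomeo T).isClosedMap
  let Ω := Points.ofPt g '' (W' : Set T.left)
  let Ω' := Points.ofPt g '' (W' : Set T.left)ᶜ
  have hΩc : IsClosed Ω := hgc _ hW'c
  have hΩ'c : IsClosed Ω' := hgc _ W'.isOpen.isClosed_compl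
  have hdisj : Disjoint Ω Ω' := by
    rw [Set.disjoint_iff]
    intro x hx
    let K : Set W'.toScheme := W'.ι ⁻¹' (Points.ofPt g ⁻¹' Ω')
    have hKc : IsClosed ((W'.ι ≫ T.hom) '' K) :=
      (W'.ι ≫ T.hom).isClosedMap _ ((hΩ'c.preimage (Points.continuous_ofPt g)).preimage W'.ι.continuous)
    obtain ⟨⟨w, hw, rfl⟩, hx'⟩ := hx
    obtain ⟨J, hJ⟩ := (PrimeSpectrum.isClosed_iff_zeroLocus_ideal _).1 hKc
    have hne : J ≠ ⊤ := by
      rintro rfl
      have : T.hom w ∈ (W'.ι ≫ T.hom) '' K := ⟨⟨w, hw⟩, hx', rfl⟩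
      rw [hJ] at this
      exact (PrimeSpectrum.mem_zeroLocus _ _).1 this |>.trans_eq rfl |> fun h =>
        (show PrimeSpectrum A from T.hom w).isPrime.ne_top (top_le_iff.1 h)
    obtain ⟨m, hm, hJm⟩ := Ideal.exists_le_maximal J hne
    have hmK : (⟨m, hm.isPrime⟩ : PrimeSpectrum A) ∈ (W'.ι ≫ T.hom) '' K := by
      rw [hJ]; exact hJm
    obtain ⟨⟨t₁, ht₁⟩, ⟨t₂, ht₂, hg₁₂⟩, ht₁m⟩ := hmK
    have hmq : (⟨m, hm.isPrime⟩ : PrimeSpectrum A) ∈ Set.range q := by
      change _ ∈ Set.range (PrimeSpectrum.comap (Ideal.Quotient.mk I))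
      rw [range_comap_of_surjective _ _ Ideal.Quotient.mk_surjective, PrimeSpectrum.mem_zeroLocus, Ideal.mk_ker]
      refine le_trans HenselianRing.jac ?_
      show Ideal.jacobson (⊥ : Ideal A) ≤ m
      exact sInf_le (show m ∈ {J : Ideal A | ⊥ ≤ J ∧ J.IsMaximal} from ⟨bot_le, hm⟩)
    have hover : ∀ a b : T.left, Points.ofPt g a = Points.ofPt g b → T.hom a = T.hom b := fun a b h => by
      have h' := congrArg (Points.map s) h
      rw [Points.map_ofPt, Points.map_ofPt, hgt] at h'
      have key : ∀ c, Points.ofPt ((yon _).map t) c = Points.schemeHomeo _ (T.hom c) := fun c => by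
        rw [Points.ofPt_eq_map_ofScheme]
        exact Points.map_yon_map_apply t c
      rw [key, key] at h'
      exact (Points.schemeHomeo _).injective h'
    have ht₂m : T.hom t₂ = (⟨m, hm.isPrime⟩ : PrimeSpectrum A) := (hover _ _ hg₁₂).trans ht₁m
    obtain ⟨y, hy⟩ := hmq
    obtain ⟨p₁, hp₁, -⟩ := Scheme.Pullback.exists_preimage_pullback (f := T.hom) (g := q) t₁ y (ht₁m.trans hy.symm)
    obtain ⟨p₂, hp₂, -⟩ := Scheme.Pullback.exists_preimage_pullback (f := T.hom) (g := q) t₂ y (ht₂m.trans hy.symm)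
    have e : Points.ofPt l p₁ = Points.ofPt l p₂ := hi0 (by
      rw [hlg, hlg, hp₁, hp₂]; exact hg₁₂.symm)
    have : pullback.fst T.hom q p₁ ∈ W' := by rw [hp₁]; exact ht₁
    rw [hmem, e, ← hmem, hp₂] at this
    exact ht₂ this
  have huniv : Ω ∪ Ω' = Set.univ := by
    rw [← Set.image_union, Set.union_compl_self, Set.image_univ]
    refine Set.range_eq_univ.2 fun x => ?_
    obtain ⟨z, hz⟩ := hgs x
    obtain ⟨z, rfl⟩ := (Points.schemeHomeo T).surjective z
    exact ⟨z, (hgof z).trans hz⟩
  have hΩo : IsOpen Ω := by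
    have : Ω = Ω'ᶜ := (IsCompl.mk hdisj (codisjoint_iff.2 huniv)).eq_compl
    rw [this]; exact hΩ'c.isOpen_compl
  let Wsp : AlgSp.Space (Spec (CommRingCat.of A)) := ⟨restrictSheaf X.obj Ω, isAlgSpace_restrictSheaf X.property hΩo⟩
  have hwo := repWith_restrictι (F := X.obj) hΩo
  have hwc := isClosedImmersion_restrictι (X := X.obj) hΩo hΩc
  haveI := mono_of_repWith_le isOpenImmersion_le_monomorphisms hwo
  -- the map from the subspace
  have hjY : Set.range (Points.map (jY.hom ≫ i0.hom)) ⊆ Set.range (Points.map (restrictι X.obj Ω)) := by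
    rw [range_map_restrictι hΩo]
    rintro _ ⟨y, rfl⟩
    rw [Points.map_comp]
    obtain ⟨z, hz⟩ := hgs (Points.map i0.hom (Points.map jY.hom y))
    obtain ⟨p, hp1, hp2⟩ := exists_of_isPullback sqL z (Points.map jY.hom y) hz
    obtain ⟨p, rfl⟩ := (Points.schemeHomeo P).surjective p
    rw [Points.map_yon_map_apply] at hp1
    have hp : Points.ofPt l p = Points.map jY.hom y := (Points.ofPt_eq_map_ofScheme l p).trans hp2
    exact ⟨pullback.fst T.hom q p, (hmem p).2 ⟨y, hp.symm⟩, by rw [← hlg, hp]⟩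
  obtain ⟨k, hk⟩ := exists_factor_of_range_subset hwo _ hjY
  refine ⟨Wsp, ObjectProperty.homMk (restrictι X.obj Ω), ObjectProperty.homMk k, hwo, hwc, ?_, ?_⟩
  · have hfin := isProperMor_of_isFiniteMor Wsp.property X.property (isFiniteMor_of_closedImmersion hwc)
    refine ⟨isSeparatedMor_comp hfin.1 hs1,
      isFiniteTypeMor_comp Wsp.property X.property (IsAlgSpace.yon_obj _) hfin.2.1 hs2, ?_⟩
    obtain ⟨a, ha⟩ := exists_restrict_lift (W := Ω) ((yon _).map (openIncl T W') ≫ g) (by
      rintro _ ⟨w, rfl⟩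
      rw [ofPt_comp]
      exact ⟨_, w.2, rfl⟩)
    have hp : IsProperMor (a ≫ restrictι X.obj Ω ≫ s) := by
      rw [reassoc_of% ha, hgt, ← Functor.map_comp]
      exact (isProperMor_yon_map_iff _).2 hW'p
    refine isUnivClosedMor_of_surjective_comp hp.2.2 fun x => ?_
    obtain ⟨w, hw, hwx⟩ := (range_map_restrictι (F := X.obj) hΩo).le ⟨x, rfl⟩
    refine ⟨Points.schemeHomeo (openOver T W') ⟨w, hw⟩, injective_map_of_mono (restrictι X.obj Ω) ?_⟩
    rw [← Points.map_comp, ha, Points.map_comp, Points.map_yon_map_apply, ← hwx]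
    exact (hgof w).symm
  · have hsnd : RepWith @IsOpenImmersion (pullback.snd (restrictι X.obj Ω) i0.hom) :=
      (repWith_isStableUnderBaseChange _).of_isPullback (IsPullback.of_hasPullback _ _) hwo
    obtain ⟨e, he⟩ := exists_iso_of_range_eq hY1 hsnd (by
      rw [range_map_snd_of_isPullback (IsPullback.of_hasPullback _ _), range_map_restrictι hΩo]
      refine Set.Subset.antisymm ?_ ?_
      · rintro _ ⟨y, rfl⟩
        have := hjY ⟨y, rfl⟩
        rw [range_map_restrictι hΩo, Points.map_comp] at this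
        exact this
      · rintro z ⟨w, hw, hwz⟩
        obtain ⟨p, hp1, hp2⟩ := exists_of_isPullback sqL (Points.schemeHomeo T w) z ((hgof w).symm.trans hwz)
        obtain ⟨p, rfl⟩ := (Points.schemeHomeo P).surjective p
        rw [Points.map_yon_map_apply] at hp1
        have hpw : pullback.fst T.hom q p = w := (Points.schemeHomeo T).injective hp1
        have hp : Points.ofPt l p = z := (Points.ofPt_eq_map_ofScheme l p).trans hp2
        exact hp ▸ (hmem p).1 (hpw.symm ▸ hw))
    refine (IsPullback.of_hasPullback (restrictι X.obj Ω) i0.hom).of_iso e.symm (Iso.refl _) (Iso.refl _) (Iso.refl _)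
      ?_ ?_ (by simp) (by simp)
    · simp only [Iso.symm_hom, Iso.refl_hom, Category.comp_id, ObjectProperty.homMk_hom]
      rw [← cancel_mono (restrictι X.obj Ω), Category.assoc, hk, pullback.condition, ← he]
      simp
    · simp only [Iso.symm_hom, Iso.refl_hom, Category.comp_id]
      rw [← he, e.inv_hom_id_assoc]

end Groth.Agent.SpFP87
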