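import Groth.Prelude.Def_AlgSpSub
import Groth.Agent.SpPts86.Quot
import Groth.Agent.SpPts86.CovSigma
import Groth.Agent.SpPts86.UnramDiag
import Groth.Agent.SpPts86.Subspace
/-!
Elementary distinguished squares glue morphisms.
-/

set_option autoImplicit false
set_option backward.isDefEq.respectTransparency false
universe u
open CategoryTheory CategoryTheory.Limits AlgebraicGeometry Topology
open AlgSp
open Groth.Agent.SpPts86

namespace Groth.Agent.SpFP87

variable {S : Scheme.{u}}

theorem hom_ext_of_locLift {F G H : Sp S} {p : F ⟶ G} (hp : LocLift p) {a b : G ⟶ H}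
    (h : p ≫ a = p ≫ b) : a = b :=
  sp_hom_ext fun T g => by
    obtain ⟨R, c, l, hc, hl⟩ := hp T g
    refine cover_hom_ext c hc ?_
    rw [← Category.assoc, ← Category.assoc, ← hl, Category.assoc, Category.assoc, h]

/-- Morphisms from an open piece of a scheme. -/
noncomputable abbrev openOver (T : Over S) (O : T.left.Opens) : Over S := Over.mk (O.ι ≫ T.hom)

noncomputable abbrev openOverι (T : Over S) (O : T.left.Opens) : openOver T O ⟶ T :=
  Over.homMk O.ι rfl

/-- A lift through an open immersion. -/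
theorem exists_lift_of_range_subset {T V R : Over S} (c : V ⟶ R) [IsOpenImmersion c.left]
    (l : T ⟶ R) (h : Set.range l.left ⊆ Set.range c.left) : ∃ x : T ⟶ V, x ≫ c = l := by
  refine ⟨Over.homMk (IsOpenImmersion.lift c.left l.left h) ?_, ?_⟩
  · rw [← Over.w c, ← Category.assoc, IsOpenImmersion.lift_fac, Over.w l]
  · exact Over.OverMorphism.ext (IsOpenImmersion.lift_fac _ _ _)

variable {U V W : Sp S} {j : U ⟶ W} {f : V ⟶ W}

theorem range_union_eq_univ (hsq : IsElemDistSq j f) (x : Points W) :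
    x ∈ Set.range (Points.map j) ∨ x ∈ Set.range (Points.map f) := by
  obtain ⟨-, -, T, P, i, p₁, p₂, ⟨-, hr, -⟩, sq, _⟩ := hsq
  by_cases hx : x ∈ Set.range (Points.map j)
  · exact Or.inl hx
  · have hx' : x ∈ Set.range (Points.map i) := by rw [hr]; exact hx
    obtain ⟨t, rfl⟩ := hx'
    refine Or.inr ⟨Points.map p₂ (Points.map (inv p₁) t), ?_⟩
    rw [← Points.map_comp, ← Points.map_comp, ← sq.w, IsIso.inv_hom_id_assoc]

/-- Two maps into `V` with the same image in `W` agree near the points outside the open piece. -/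
theorem exists_opens_agree (hV : IsAlgSpace V) (hW : IsAlgSpace W) (hsq : IsElemDistSq j f)
    {T : Over S} (x y : (yon S).obj T ⟶ V) (h : x ≫ f = y ≫ f) :
    ∀ t : ↥T.left, Points.ofPt (x ≫ f) t ∈ Set.range (Points.map j) ∨
      ∃ (E : Over S) (e : E ⟶ T), IsOpenImmersion e.left ∧ t ∈ Set.range e.left ∧
        (yon S).map e ≫ x = (yon S).map e ≫ y := by
  obtain ⟨-, hf, Z, P, i, p₁, p₂, ⟨hi, hr, -⟩, sq, _⟩ := hsq
  intro t
  by_cases ht : Points.ofPt (x ≫ f) t ∈ Set.range (Points.map j)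
  · exact Or.inl ht
  refine Or.inr ?_
  have hΔ : RepWith @IsOpenImmersion (pullback.diagonal f) :=
    repWith_openImm_diagonal_of_unramified hV hW (LocP.of_le (P := @Etale) (fun A B g hg => by
      have : Etale g := hg
      exact ⟨inferInstance, inferInstance⟩) (locP_etale_of_isEtaleMor hf))
  let xy : (yon S).obj T ⟶ pullback f f := pullback.lift x y h
  let e := hΔ.rep.snd xy
  have he : IsOpenImmersion e.left := hΔ.property_snd xy
  have we := (hΔ.rep.isPullback xy).w
  have hex : (yon S).map e ≫ x = (yon S).map e ≫ y := by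
    have h1 := congrArg (· ≫ pullback.fst f f) we
    have h2 := congrArg (· ≫ pullback.snd f f) we
    simp only [Category.assoc, xy, pullback.lift_fst, pullback.lift_snd, pullback.diagonal_fst,
      pullback.diagonal_snd, Category.comp_id] at h1 h2
    exact h1.symm.trans h2
  refine ⟨_, e, he, ?_, hex⟩
  let K : Over S := Over.mk (T.left.fromSpecResidueField t ≫ T.hom)
  let k : K ⟶ T := Over.homMk (T.left.fromSpecResidueField t) rfl
  let pt : ↥K.left := IsLocalRing.closedPoint (T.left.residueField t)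
  have hk : ∀ s : ↥K.left, k.left s = t := fun s => Scheme.fromSpecResidueField_apply t s
  let g : (yon S).obj K ⟶ W := (yon S).map k ≫ x ≫ f
  have hg : Points.ofPt g pt ∈ Set.range (Points.map i) := by
    rw [hr]
    show ¬ Points.ofPt g pt ∈ Set.range (Points.map j)
    rw [show Points.ofPt g pt = Points.ofPt (x ≫ f) t by
      rw [← hk pt]; exact ofPt_comp _ _ _]
    exact ht
  obtain ⟨z, hz⟩ := hg
  let m := hi.rep.snd g
  have hm : IsClosedImmersion m.left := hi.property_snd g
  obtain ⟨v, -, hv⟩ := exists_pt_of_isPullback (hi.rep.isPullback g) z pt hz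
  have : IsIso m.left := by
    have : Surjective m.left := ⟨fun s => ⟨v, by
      have : Subsingleton ↥(Spec (T.left.residueField t)) :=
        inferInstanceAs (Subsingleton (PrimeSpectrum (T.left.residueField t)))
      exact this.elim _ _⟩⟩
    haveI : IsReduced K.left := inferInstanceAs (IsReduced (Spec (T.left.residueField t)))
    exact isIso_of_isClosedImmersion_of_surjective m.left
  have : IsIso m := by
    haveI : IsIso ((Over.forget S).map m) := ‹IsIso m.left›
    exact isIso_of_reflects_iso m (Over.forget S)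
  let ζ : (yon S).obj K ⟶ Z := (yon S).map (inv m) ≫ hi.rep.fst g
  have hζ : ζ ≫ i = g := by
    rw [Category.assoc, (hi.rep.isPullback g).w, ← Functor.map_comp_assoc, IsIso.inv_hom_id]
    simp
  let lx := sq.lift ζ ((yon S).map k ≫ x) (by rw [hζ, Category.assoc])
  let ly := sq.lift ζ ((yon S).map k ≫ y) (by rw [hζ, Category.assoc, ← h])
  have hxy : (yon S).map k ≫ x = (yon S).map k ≫ y := by
    have h1 : lx = ly := by
      rw [← cancel_mono p₁, sq.lift_fst, sq.lift_fst]
    have h2 := congrArg (· ≫ p₂) h1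
    simpa [lx, ly] using h2
  obtain ⟨n, -, hn⟩ : ∃ n, n ≫ hΔ.rep.fst xy = (yon S).map k ≫ x ∧ n ≫ (yon S).map e = (yon S).map k :=
    ⟨(hΔ.rep.isPullback xy).lift ((yon S).map k ≫ x) ((yon S).map k) (by
      apply pullback.hom_ext
      · show _ = ((yon S).map k ≫ pullback.lift x y h) ≫ _
        simp only [Category.assoc]
        rw [pullback.lift_fst, pullback.diagonal_fst, Category.comp_id]
      · show _ = ((yon S).map k ≫ pullback.lift x y h) ≫ _
        simp only [Category.assoc]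
        rw [pullback.lift_snd, pullback.diagonal_snd, Category.comp_id, hxy]),
      IsPullback.lift_fst _ _ _ _, IsPullback.lift_snd _ _ _ _⟩
  obtain ⟨n, rfl⟩ := (yon S).map_surjective n
  rw [← Functor.map_comp] at hn
  have hne : n ≫ e = k := (yon S).map_injective hn
  exact ⟨n.left pt, by rw [← hk pt, ← hne]; rfl⟩

/-- Maps out of the pieces that agree on the overlap glue uniquely. -/
theorem existsUnique_glue (hU : IsAlgSpace U) (hV : IsAlgSpace V) (hW : IsAlgSpace W)
    (hsq : IsElemDistSq j f) {P H : Sp S} {p : P ⟶ U} {q : P ⟶ V} (hP : IsPullback p q j f)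
    (a : U ⟶ H) (b : V ⟶ H) (hab : p ≫ a = q ≫ b) :
    ∃! d : W ⟶ H, j ≫ d = a ∧ f ≫ d = b := by
  have hj := hsq.1
  have hf := hsq.2.1
  haveI : Mono j := mono_of_repWith_le isOpenImmersion_le_monomorphisms hj
  have hjE : IsEtaleMor j := isEtaleMor_of_repWith_etale (repWith_mono (fun A B g hg => by
    have : IsOpenImmersion g := hg
    exact (inferInstance : Etale g)) hj)
  obtain ⟨U₁, a₁, ha₁, ha₁s⟩ := hU.atlas
  obtain ⟨V₁, b₁, hb₁, hb₁s⟩ := hV.atlas
  have hUV : ∀ {T : Over S} (x : (yon S).obj T ⟶ U) (y : (yon S).obj T ⟶ V), x ≫ j = y ≫ f →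
      x ≫ a = y ≫ b := fun x y h => by
    have := congrArg (hP.lift x y h ≫ ·) hab
    simpa [IsPullback.lift_fst_assoc, IsPullback.lift_snd_assoc] using this
  have hVV : ∀ {T : Over S} (x y : (yon S).obj T ⟶ V), x ≫ f = y ≫ f → x ≫ b = y ≫ b := by
    intro T x y h
    have key : ∀ t : ↥T.left, ∃ (E : Over S) (e : E ⟶ T), IsOpenImmersion e.left ∧ t ∈ Set.range e.left ∧
        (yon S).map e ≫ x ≫ b = (yon S).map e ≫ y ≫ b := by
      intro t
      rcases exists_opens_agree hV hW hsq x y h t with ht | ⟨E, e, he, hte, hexy⟩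
      · obtain ⟨u, hu⟩ := ht
        obtain ⟨w, -, hw⟩ := exists_pt_of_isPullback (hj.rep.isPullback (x ≫ f)) u t hu
        refine ⟨_, hj.rep.snd (x ≫ f), hj.property_snd _, ⟨w, hw⟩, ?_⟩
        have hz := (hj.rep.isPullback (x ≫ f)).w
        have e1 := hUV (hj.rep.fst (x ≫ f)) ((yon S).map (hj.rep.snd (x ≫ f)) ≫ x) (by
          rw [hz, Category.assoc])
        have e2 := hUV (hj.rep.fst (x ≫ f)) ((yon S).map (hj.rep.snd (x ≫ f)) ≫ y) (by
          rw [hz, Category.assoc, ← h])
        rw [Category.assoc] at e1 e2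
        exact e1.symm.trans e2
      · exact ⟨E, e, he, hte, by rw [← Category.assoc, hexy, Category.assoc]⟩
    choose E e he hte hexy using key
    exact open_cover_hom_ext E e he (fun t => ⟨t, hte t⟩) hexy
  let R : ULift.{u} Bool → Over S := fun i => cond i.down U₁ V₁
  let q₀ : ∀ i, (yon S).obj (R i) ⟶ W := fun i => match i with
    | ⟨true⟩ => a₁ ≫ j
    | ⟨false⟩ => b₁ ≫ f
  let e₀ : ∀ i, (yon S).obj (R i) ⟶ H := fun i => match i with
    | ⟨true⟩ => a₁ ≫ a
    | ⟨false⟩ => b₁ ≫ b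
  have hq₀ : ∀ i, RepWith @Etale (q₀ i) := fun i => match i with
    | ⟨true⟩ => hjE a₁ ha₁
    | ⟨false⟩ => hf b₁ hb₁
  have hq₀s : ∀ w : Points W, ∃ (i : ULift.{u} Bool) (r : ↥(R i).left), Points.ofPt (q₀ i) r = w := by
    intro w
    rcases range_union_eq_univ hsq w with ⟨z, rfl⟩ | ⟨z, rfl⟩
    · obtain ⟨r, rfl⟩ := surjective_ofPt ha₁s z
      exact ⟨⟨true⟩, r, (Points.map_ofPt _ _ _).symm⟩
    · obtain ⟨r, rfl⟩ := surjective_ofPt hb₁s z
      exact ⟨⟨false⟩, r, (Points.map_ofPt _ _ _).symm⟩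
  have hcompat : ∀ (i k : ULift.{u} Bool) {T : Over S} (x : T ⟶ R i) (y : T ⟶ R k),
      (yon S).map x ≫ q₀ i = (yon S).map y ≫ q₀ k → (yon S).map x ≫ e₀ i = (yon S).map y ≫ e₀ k := by
    intro i k T x y h
    rcases i with ⟨_ | _⟩ <;> rcases k with ⟨_ | _⟩ <;> simp only [q₀, e₀, ← Category.assoc] at h ⊢
    · exact hVV _ _ h
    · exact (hUV _ _ h.symm).symm
    · exact hUV _ _ h
    · rw [(cancel_mono j).1 h]
  obtain ⟨L, hL⟩ := sigma_glue R q₀
  obtain ⟨M, hM⟩ := sigma_glue R e₀
  have hin : ∀ i, IsOpenImmersion (sigmaIn R i).left := fun i =>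
    inferInstanceAs (IsOpenImmersion (Sigma.ι (fun i => (R i).left) i))
  have hcov : ∀ s : ↥(sigmaOver R).left, ∃ i, s ∈ Set.range (sigmaIn R i).left := fun s => by
    obtain ⟨⟨i, v⟩, hv⟩ := (sigmaMk (fun i => (R i).left)).surjective s
    exact ⟨i, v, by rw [← hv, sigmaMk_mk]; rfl⟩
  have hLl : LocLift L := fun T g => by
    let c : ∀ i, (hq₀ i).rep.pullback g ⟶ T := fun i => (hq₀ i).rep.snd g
    choose m hm using fun i => (yon S).map_surjective ((hq₀ i).rep.fst g)
    refine ⟨sigmaOver _, sigmaOut c, (yon S).map (sigmaOut fun i => m i ≫ sigmaIn R i),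
      fppfSurj_sigmaOut c (fun i => ?_) (fun t => ?_), ?_⟩
    · have : Etale (c i).left := (hq₀ i).property_snd g
      exact ⟨inferInstance, inferInstance⟩
    · obtain ⟨i, r, hr⟩ := hq₀s (Points.ofPt g t)
      obtain ⟨w, -, hw⟩ := exists_pt_of_isPullback ((hq₀ i).rep.isPullback g) (Points.ofPt (𝟙 _) r) t (by
        rw [Points.map_ofPt, Category.id_comp]; exact hr)
      exact ⟨i, w, hw⟩
    · refine open_cover_hom_ext _ (sigmaIn _)
        (fun i => inferInstanceAs (IsOpenImmersion (Sigma.ι (fun i => ((hq₀ i).rep.pullback g).left) i))) (fun s => ?_) fun i => ?_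
      · obtain ⟨⟨i, v⟩, hv⟩ := (sigmaMk (fun i => ((hq₀ i).rep.pullback g).left)).surjective s
        exact ⟨i, v, by rw [← hv, sigmaMk_mk]; rfl⟩
      · rw [← Functor.map_comp_assoc, sigmaIn_out, ← Functor.map_comp_assoc, sigmaIn_out, Functor.map_comp_assoc,
          hL, hm, ((hq₀ i).rep.isPullback g).w]
  obtain ⟨d, hd⟩ := exists_desc hLl M fun T l l' h => by
    have key : ∀ t : ↥T.left, ∃ (E : Over S) (e : E ⟶ T), IsOpenImmersion e.left ∧ t ∈ Set.range e.left ∧
        (yon S).map e ≫ (yon S).map l ≫ M = (yon S).map e ≫ (yon S).map l' ≫ M := by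
      intro t
      obtain ⟨i, hi⟩ := hcov (l.left t)
      obtain ⟨k, hk⟩ := hcov (l'.left t)
      let O : T.left.Opens := l.left ⁻¹ᵁ (sigmaIn R i).left.opensRange ⊓ l'.left ⁻¹ᵁ (sigmaIn R k).left.opensRange
      haveI := hin i
      haveI := hin k
      obtain ⟨x, hx⟩ := exists_lift_of_range_subset (sigmaIn R i) (openOverι T O ≫ l) (by
        rintro _ ⟨o, rfl⟩; exact o.2.1)
      obtain ⟨y, hy⟩ := exists_lift_of_range_subset (sigmaIn R k) (openOverι T O ≫ l') (by
        rintro _ ⟨o, rfl⟩; exact o.2.2)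
      refine ⟨openOver T O, openOverι T O, inferInstanceAs (IsOpenImmersion O.ι), ⟨⟨t, hi, hk⟩, rfl⟩, ?_⟩
      simp only [← Functor.map_comp_assoc, ← hx, ← hy]
      rw [Functor.map_comp_assoc, Functor.map_comp_assoc, hM, hM]
      refine hcompat i k x y ?_
      rw [← hL i, ← hL k, ← Functor.map_comp_assoc, ← Functor.map_comp_assoc, hx, hy, Functor.map_comp_assoc,
        Functor.map_comp_assoc, h]
    choose E e he hte hexy using key
    exact open_cover_hom_ext E e he (fun t => ⟨t, hte t⟩) hexy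
  have h1 : ∀ i, q₀ i ≫ d = e₀ i := fun i => by rw [← hL i, Category.assoc, hd, hM]
  refine ⟨d, ⟨hom_ext_of_locLift (locLift_of_atlas ha₁ ha₁s) ?_, hom_ext_of_locLift (locLift_of_atlas hb₁ hb₁s) ?_⟩,
    fun d' ⟨hd1, hd2⟩ => hom_ext_of_locLift hLl ?_⟩
  · have := h1 ⟨true⟩
    simpa [q₀, e₀] using this
  · have := h1 ⟨false⟩
    simpa [q₀, e₀] using this
  · refine open_cover_hom_ext R (sigmaIn R) hin hcov fun i => ?_
    rw [← Category.assoc, ← Category.assoc, hL, h1]
    rcases i with ⟨_ | _⟩ <;> simp [q₀, e₀, hd1, hd2]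

end Groth.Agent.SpFP87
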