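import Groth.Agent.SpFP87.EffCartier
import Groth.Agent.SpPts86.ImmDescent
import Groth.Prelude.Def_W4stk3spdivLocPr
/-!
Complements of locally principal closed subspaces.
-/

set_option autoImplicit false
set_option linter.style.haveILetI false
set_option backward.isDefEq.respectTransparency false
universe u
open CategoryTheory CategoryTheory.Limits AlgebraicGeometry Opposite
open AlgSp
open Groth.Agent.SpPts86

namespace Groth.Agent.SpFP87

variable {S : Scheme.{u}} {Z U X : Sp S}

theorem exists_square_compl (i : Z ⟶ X) (j : U ⟶ X) (hj : RepWith @IsOpenImmersion j)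
    (hU : Set.range (Points.map j) = (Set.range (Points.map i))ᶜ) {V : Over S} (φ : (yon S).obj V ⟶ X)
    (I : V.left.IdealSheafData) {fst : (yon S).obj (Over.mk (I.subschemeι ≫ V.hom)) ⟶ Z}
    (sq : IsPullback fst ((yon S).map (Over.homMk I.subschemeι rfl : Over.mk (I.subschemeι ≫ V.hom) ⟶ V)) i φ) :
    ∃ p : (yon S).obj (Over.mk ((Scheme.Opens.ι (X := V.left) I.support.compl) ≫ V.hom)) ⟶ U,
      IsPullback p ((yon S).map (Over.homMk (Scheme.Opens.ι (X := V.left) I.support.compl) rfl :
        Over.mk ((Scheme.Opens.ι (X := V.left) I.support.compl) ≫ V.hom) ⟶ V)) j φ := by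
  haveI : IsOpenImmersion (hj.rep.snd φ).left := hj.property_snd φ
  have hr : Set.range (hj.rep.snd φ).left = Set.range (Scheme.Opens.ι (X := V.left) I.support.compl) := by
    rw [← preimage_ofPt_range_map (hj.rep.isPullback φ), hU, Set.preimage_compl,
      preimage_ofPt_range_map sq, Scheme.Opens.range_ι]
    show (Set.range I.subschemeι)ᶜ = _
    rw [Scheme.IdealSheafData.range_subschemeι]
    rfl
  let e := IsOpenImmersion.isoOfRangeEq (hj.rep.snd φ).left (Scheme.Opens.ι (X := V.left) I.support.compl) hr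
  have he : e.hom ≫ (Scheme.Opens.ι (X := V.left) I.support.compl) = (hj.rep.snd φ).left := IsOpenImmersion.isoOfRangeEq_hom_fac _ _ hr
  let W : Over S := Over.mk ((Scheme.Opens.ι (X := V.left) I.support.compl) ≫ V.hom)
  let k : hj.rep.pullback φ ≅ W := Over.isoMk e (by
    show e.hom ≫ (Scheme.Opens.ι (X := V.left) I.support.compl) ≫ V.hom = _
    rw [← Category.assoc, he, Over.w])
  refine ⟨(yon S).map k.inv ≫ hj.rep.fst φ, (hj.rep.isPullback φ).of_iso ((yon S).mapIso k) (Iso.refl _)
    (Iso.refl _) (Iso.refl _) ?_ ?_ (by simp) (by simp)⟩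
  · simp
  · rw [Iso.refl_hom, Category.comp_id, Functor.mapIso_hom, ← Functor.map_comp]
    congr 1
    exact Over.OverMorphism.ext he.symm

theorem isAffineMor_compl (i : Z ⟶ X) (j : U ⟶ X) (hj : RepWith @IsOpenImmersion j)
    (hU : Set.range (Points.map j) = (Set.range (Points.map i))ᶜ) {V : Over S} (φ : (yon S).obj V ⟶ X)
    (he : RepWith @Etale φ) (hs : RepWith @Surjective φ)
    (I : V.left.IdealSheafData) {fst : (yon S).obj (Over.mk (I.subschemeι ≫ V.hom)) ⟶ Z}
    (sq : IsPullback fst ((yon S).map (Over.homMk I.subschemeι rfl : Over.mk (I.subschemeι ≫ V.hom) ⟶ V)) i φ)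
    (hI : ∀ x, ∃ U : V.left.affineOpens, x ∈ U.1 ∧ ∃ f : Γ(V.left, U.1), I.ideal U = Ideal.span {f}) :
    IsAffineMor j := by
  obtain ⟨p, sq'⟩ := exists_square_compl i j hj hU φ I sq
  haveI := Groth.Agent.Div89.isAffineHom_compl_support hI
  let s : Over.mk ((Scheme.Opens.ι (X := V.left) I.support.compl) ≫ V.hom) ⟶ V :=
    Over.homMk (Scheme.Opens.ι (X := V.left) I.support.compl) rfl
  haveI : IsAffineHom s.left := inferInstanceAs (IsAffineHom (Scheme.Opens.ι (X := V.left) I.support.compl))
  exact isAffineMor_of_repWith (repWith_isAffineHom_of_cover (s := s) (locLift_of_atlas he hs) sq')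

theorem isAffineMor_isSchDense_compl (i : Z ⟶ X) (hi : IsEffCartierSub i) (j : U ⟶ X)
    (hj : RepWith @IsOpenImmersion j) (hU : Set.range (Points.map j) = (Set.range (Points.map i))ᶜ) :
    IsAffineMor j ∧ IsSchDense j := by
  obtain ⟨-, V, φ, I, fst, he, hs, sq, hI⟩ := hi
  refine ⟨isAffineMor_compl i j hj hU φ he hs I sq fun x => ?_, hj, V, φ, I.support.compl, ?_⟩
  · obtain ⟨W, hx, f, -, hf⟩ := hI x
    exact ⟨W, hx, f, hf⟩
  · obtain ⟨p, sq'⟩ := exists_square_compl i j hj hU φ I sq
    exact ⟨p, he, hs, sq', Groth.Agent.Div89.res_injective_compl_support hI⟩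

end Groth.Agent.SpFP87
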