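import Groth.Agent.SpFP87.EffCartier
import Groth.Agent.Div89.Pullback
import Groth.Prelude.Def_AlgSpModX
/-!
Weakly associated points of the structure sheaf on affine charts.
-/

set_option autoImplicit false
set_option linter.style.haveILetI false
set_option backward.isDefEq.respectTransparency false
universe u
open CategoryTheory CategoryTheory.Limits AlgebraicGeometry Opposite
open AlgSp
open Groth.Agent.SpPts86

namespace Groth.Agent.SpFP87

variable {S : Scheme.{u}} {X : Sp S}

theorem primeAt_top_eq {U : Scheme.{u}} [IsAffine U] (u : U) :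
    Groth.Agent.Div89.primeAt ⟨⊤, isAffineOpen_top U⟩ u trivial = primeAtPt U u := by
  show ((isAffineOpen_top U).primeIdealOf ⟨u, trivial⟩).asIdeal = _
  rw [IsAffineOpen.primeIdealOf_eq_map_closedPoint]
  rfl

theorem mem_minimalPrimes_ulift {A : Type u} [CommRing A] (m : A) :
    Ideal.comap (ULift.ringEquiv.symm.toRingHom : A →+* ULift.{u + 1} A)
        (LinearMap.ker (LinearMap.toSpanSingleton (ULift.{u + 1} A) (ULift.{u + 1} A) (ULift.up m))) =
      (Submodule.span A {m}).annihilator := by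
  ext a
  rw [Submodule.mem_annihilator_span_singleton, Ideal.mem_comap, LinearMap.mem_ker,
    LinearMap.toSpanSingleton_apply]
  exact ⟨fun h => congrArg ULift.down h, fun h => congrArg ULift.up h⟩

theorem isWeakAssOn_unit_iff (E : EtOver X) [IsAffine E.obj.left.left] (u : E.obj.left.left) :
    IsWeakAssOn (unitModEt X) E u ↔
      primeAtPt E.obj.left.left u ∈ FlatCA.weakAss Γ(E.obj.left.left, ⊤) Γ(E.obj.left.left, ⊤) := by
  refine ⟨?_, ?_⟩
  · rintro ⟨⟨m⟩, hm⟩
    refine ⟨m, ?_⟩
    rw [← mem_minimalPrimes_ulift]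
    exact hm
  · rintro ⟨m, hm⟩
    refine ⟨ULift.up m, ?_⟩
    rw [← mem_minimalPrimes_ulift] at hm
    exact hm

theorem isAssociatedPrime_maximalIdeal_of_ringEquiv {A B : Type u} [CommRing A] [CommRing B] [IsLocalRing A]
    [IsLocalRing B] (e : A ≃+* B) (h : IsAssociatedPrime (IsLocalRing.maximalIdeal A) A) :
    IsAssociatedPrime (IsLocalRing.maximalIdeal B) B := by
  obtain ⟨-, m, hm⟩ := h
  refine ⟨inferInstance, e m, ?_⟩
  ext b
  have h1 : b ∈ IsLocalRing.maximalIdeal B ↔ e.symm b ∈ IsLocalRing.maximalIdeal A := by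
    simp [IsLocalRing.mem_maximalIdeal, mem_nonunits_iff]
  rw [h1, hm]
  simp only [Ideal.mem_radical_iff, Submodule.mem_colon_singleton, Submodule.mem_bot, smul_eq_mul]
  refine exists_congr fun n => ?_
  rw [← e.map_eq_zero_iff (x := e.symm b ^ n * m), map_mul, map_pow, e.apply_symm_apply]

theorem mem_weakAssEt_unit_of_isWeakAssPoint (E : EtOver X) [IsAffine E.obj.left.left] (u : E.obj.left.left)
    (h : Curv2.IsWeakAssPoint (Coh.structureModule E.obj.left.left) u) :
    Points.ofPt E.obj.hom u ∈ WeakAssEt (unitModEt X) := by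
  refine ⟨E, inferInstance, u, rfl, (isWeakAssOn_unit_iff E u).2 ?_⟩
  rw [← primeAt_top_eq]
  exact (Groth.Agent.Div89.isWeakAssPoint_structureModule_iff ⟨⊤, isAffineOpen_top _⟩ u trivial).1 h

theorem isEffCartierSub_pullback_of_weakAss {Y D P : Sp S} (hX : IsAlgSpace X) (hY : IsAlgSpace Y) (f : X ⟶ Y)
    (i : D ⟶ Y) (hD : IsEffCartierSub i)
    (h : ∀ x ∈ WeakAssEt (unitModEt X), Points.map f x ∉ Set.range (Points.map i))
    (fst : P ⟶ D) (snd : P ⟶ X) (sq : IsPullback fst snd i f) : IsEffCartierSub snd := by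
  have hi : RepWith @IsClosedImmersion i := hD.1
  have hs : RepWith @IsClosedImmersion snd := (repWith_isStableUnderBaseChange _).of_isPullback sq hi
  obtain ⟨V, b, hb, hbs, hc⟩ := (isEffCartierSub_iff hi).1 hD
  obtain ⟨U, a, t, ha, has, w⟩ := exists_compatible_chart f hX hY.diag hb hbs
  refine (isEffCartierSub_iff hs).2 ⟨U, a, ha, has, ?_⟩
  show BlowUp.IsEffCartierIdeal _
  have e : idealOf hs a = idealOf hi ((yon S).map t ≫ b) := by
    rw [← w]
    exact (idealOf_eq hi (a ≫ f) ((hs.rep.isPullback a).paste_horiz sq)).symm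
  rw [e, idealOf_comp]
  refine Groth.Agent.Div89.isEffCartier_comap_of_weakAss t.left hc fun u hu hmem => ?_
  obtain ⟨W, hW, hu', -⟩ := exists_isAffineOpen_mem_and_subset (U := (⊤ : U.left.Opens)) (x := u) trivial
  let W' : Over S := Over.mk (W.ι ≫ U.hom)
  let j : W' ⟶ U := Over.homMk W.ι rfl
  haveI : IsAffine W'.left := hW
  haveI : Etale j.left := inferInstanceAs (Etale W.ι)
  have haj : RepWith @Etale ((yon S).map j ≫ a) :=
    MorphismProperty.comp_mem (W := RepWith (@Etale : MorphismProperty Scheme.{u})) _ _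
      ((repWith_yon_map_iff _ _).2 inferInstance) ha
  haveI : IsAffine (EtOver.mk _ haj).obj.left.left := hW
  have h1 : Curv2.IsWeakAssPoint (Coh.structureModule W.toScheme) (⟨u, hu'⟩ : W.toScheme) := by
    haveI : IsAffine W.toScheme := hW
    rw [Groth.Agent.Div89.isWeakAssPoint_structureModule_iff'] at hu ⊢
    have : IsIso (W.ι.stalkMap ⟨u, hu'⟩) := inferInstance
    exact isAssociatedPrime_maximalIdeal_of_ringEquiv (asIso (W.ι.stalkMap ⟨u, hu'⟩)).commRingCatIsoToRingEquiv hu
  have h2 := h _ (mem_weakAssEt_unit_of_isWeakAssPoint (EtOver.mk _ haj) ⟨u, hu'⟩ h1)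
  apply h2
  haveI : IsClosedImmersion (hi.rep.snd b).left := hi.property_snd b
  have hr : t.left u ∈ Set.range (hi.rep.snd b).left := by
    have h3 : t.left u ∈ ((hi.rep.snd b).left.ker.support : Set ↥V.left) := hmem
    rwa [Scheme.Hom.support_ker, (hi.rep.snd b).left.isClosedEmbedding.isClosed_range.closure_eq] at h3
  rw [← preimage_ofPt_range_map (hi.rep.isPullback b), Set.mem_preimage] at hr
  show Points.map f (Points.ofPt ((yon S).map j ≫ a) _) ∈ _
  rw [ofPt_comp, Points.map_ofPt, w, ofPt_comp]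
  exact hr

end Groth.Agent.SpFP87
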