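import Groth.Agent.SpFP87.EffCartier
import Groth.Agent.S1662
/-!
Base change of relative effective Cartier divisors.
-/

set_option autoImplicit false
set_option linter.style.haveILetI false
set_option backward.isDefEq.respectTransparency false
universe u
open CategoryTheory CategoryTheory.Limits AlgebraicGeometry Opposite
open AlgSp
open Groth.Agent.SpPts86

namespace Groth.Agent.SpFP87

variable {S : Scheme.{u}}

theorem isEffCartierSub_baseChange_relative {X Y D Y' X' D' : Sp S} (hX : IsAlgSpace X) (hY : IsAlgSpace Y)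
    (hY' : IsAlgSpace Y') (f : X ⟶ Y) (i : D ⟶ X) (hD : IsEffCartierSub i) (hflat : LocP @Flat (i ≫ f))
    (g : Y' ⟶ Y) (g' : X' ⟶ X) (f' : X' ⟶ Y') (hX' : IsPullback g' f' f g)
    (k : D' ⟶ D) (i' : D' ⟶ X') (hD' : IsPullback k i' i g') : IsEffCartierSub i' := by
  have hi : RepWith @IsClosedImmersion i := hD.1
  have hi' : RepWith @IsClosedImmersion i' := (repWith_isStableUnderBaseChange _).of_isPullback hD' hi
  have bcES := repWith_isStableUnderBaseChange (S := S) (@Etale ⊓ @Surjective : MorphismProperty Scheme.{u})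
  obtain ⟨V, b, hb, hbs⟩ := hY.atlas
  obtain ⟨U, e, he, hes⟩ := (isAlgSpace_pullback f b hX (IsAlgSpace.yon_obj V) hY).atlas
  obtain ⟨V', b', t, hb', hbs', wt⟩ := exists_compatible_chart g hY' hY.diag hb hbs
  obtain ⟨s, hs⟩ := (yon S).map_surjective (e ≫ pullback.snd f b)
  let R : Over S := Over.mk (pullback.fst s.left t.left ≫ U.hom)
  let p : R ⟶ U := Over.homMk (pullback.fst s.left t.left) rfl
  let q : R ⟶ V' := Over.homMk (pullback.snd s.left t.left) (by
    show pullback.snd _ _ ≫ V'.hom = pullback.fst _ _ ≫ U.hom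
    rw [← Over.w t, ← Over.w s, pullback.condition_assoc])
  have hR : IsPullback p q s t :=
    IsPullback.of_map (Over.forget S) (Over.OverMorphism.ext pullback.condition)
      (IsPullback.of_hasPullback s.left t.left)
  let pr₁ := pullback.fst f' b'
  let pr₂ := pullback.snd f' b'
  have hQ : IsPullback (pr₁ ≫ g') pr₂ f ((yon S).map t ≫ b) :=
    wt ▸ (IsPullback.of_hasPullback f' b').paste_horiz hX'
  let kk : pullback f' b' ⟶ pullback f b := pullback.lift (pr₁ ≫ g') (pr₂ ≫ (yon S).map t)
    (by rw [hQ.w, Category.assoc])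
  have hk : IsPullback kk pr₂ (pullback.snd f b) ((yon S).map t) :=
    IsPullback.of_right (h₁₂ := pullback.fst f b) (v₁₃ := f) (h₂₂ := b)
      (by rw [pullback.lift_fst]; exact hQ) (pullback.lift_snd _ _ _) (IsPullback.of_hasPullback f b)
  let l : (yon S).obj R ⟶ pullback f' b' := hk.lift ((yon S).map p ≫ e) ((yon S).map q)
    (by rw [Category.assoc, ← hs, ← Functor.map_comp, ← Functor.map_comp, hR.w])
  have hl : IsPullback ((yon S).map p) l e kk := by
    refine IsPullback.of_bot ?_ (hk.lift_fst _ _ _).symm hk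
    rw [hk.lift_snd, ← hs]
    exact hR.map (yon S)
  have hlES : RepWith (@Etale ⊓ @Surjective) l := bcES.of_isPullback hl ((repWith_inf_iff e).2 ⟨he, hes⟩)
  have hp1 : RepWith (@Etale ⊓ @Surjective) pr₁ :=
    bcES.of_isPullback (IsPullback.of_hasPullback f' b').flip ((repWith_inf_iff b').2 ⟨hb', hbs'⟩)
  have hφ := (repWith_inf_iff _).1
    (MorphismProperty.comp_mem (W := RepWith (@Etale ⊓ @Surjective : MorphismProperty Scheme.{u})) _ _ hlES hp1)
  have ha : RepWith @Etale (e ≫ pullback.fst f b) :=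
    MorphismProperty.comp_mem (W := RepWith (@Etale : MorphismProperty Scheme.{u})) _ _ he
      ((repWith_isStableUnderBaseChange (@Etale : MorphismProperty Scheme.{u})).of_isPullback
        (IsPullback.of_hasPullback f b).flip hb)
  obtain ⟨fst, sq⟩ := exists_square_idealOf hi (e ≫ pullback.fst f b)
  have hc : BlowUp.IsEffCartierIdeal (idealOf hi (e ≫ pullback.fst f b)) :=
    cartierOn_of_isEffCartierSub hi hX hD _ ha
  let w : Over.mk ((idealOf hi (e ≫ pullback.fst f b)).subschemeι ≫ U.hom) ⟶ U :=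
    Over.homMk (idealOf hi (e ≫ pullback.fst f b)).subschemeι rfl
  have hfl : Flat (w ≫ s).left := hflat fst b (w ≫ s)
    ((repWith_isStableUnderBaseChange (@Etale : MorphismProperty Scheme.{u})).of_isPullback sq.flip ha) hb (by
      rw [reassoc_of% sq.w, Functor.map_comp, hs]
      simp only [Category.assoc, pullback.condition]
      rfl)
  haveI : Flat ((idealOf hi (e ≫ pullback.fst f b)).subschemeι ≫ s.left) := hfl
  refine (isEffCartierSub_iff hi').2 ⟨R, _, hφ.1, hφ.2, ?_⟩
  show BlowUp.IsEffCartierIdeal _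
  have eqa : (l ≫ pr₁) ≫ g' = (yon S).map p ≫ e ≫ pullback.fst f b := by
    rw [reassoc_of% hl.w, pullback.lift_fst, Category.assoc]
  have e1 : idealOf hi' (l ≫ pr₁) = idealOf hi ((l ≫ pr₁) ≫ g') :=
    (idealOf_eq hi ((l ≫ pr₁) ≫ g') ((hi'.rep.isPullback (l ≫ pr₁)).paste_horiz hD')).symm
  rw [e1, eqa, idealOf_comp]
  exact Groth.Agent.S1662.result s.left _ hc t.left

end Groth.Agent.SpFP87
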