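import Groth.Agent.SpFP87.EffCartier
import Groth.Agent.SpFP87.NoethDesc
import Groth.Agent.Div89.UFD
import Groth.Agent.EGA4Alg4.Depth
import Groth.Agent.CAlg1.SerreNormal
import Groth.Agent.Unr55.EtStalk
import Groth.Prelude.Def_Pi1
/-!
Serre's conditions on effective Cartier divisors.
-/

set_option autoImplicit false
set_option linter.style.haveILetI false
set_option backward.isDefEq.respectTransparency false
universe u
open CategoryTheory CategoryTheory.Limits AlgebraicGeometry Opposite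
open AlgSp
open Groth.Agent.SpPts86

namespace Groth.Agent.SpFP87

open RingTheory.Sequence in
/-- Cutting a local ring by a regular element lowers depth and dimension by at least one. -/
theorem min_le_depth_of_surjective {A B : Type u} [CommRing A] [IsLocalRing A] [IsNoetherianRing A]
    [CommRing B] [IsLocalRing B] [IsNoetherianRing B] (φ : A →+* B) (hφ : Function.Surjective φ) {g : A}
    (hg : g ∈ nonZeroDivisors A) (hker : RingHom.ker φ = Ideal.span {g}) (k : ℕ)
    (h : min ((k : ℕ) : WithBot ℕ∞) (ringKrullDim A) ≤ ((LocCoh.depth A A : ℕ∞) : WithBot ℕ∞)) :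
    min ((k - 1 : ℕ) : WithBot ℕ∞) (ringKrullDim B) ≤ ((LocCoh.depth B B : ℕ∞) : WithBot ℕ∞) := by
  algebraize [φ]
  haveI : Module.Finite A B := Module.Finite.of_surjective (Algebra.linearMap A B) hφ
  have hm : g ∈ IsLocalRing.maximalIdeal A := by
    intro hu
    have : Ideal.span {g} = ⊤ := Ideal.span_singleton_eq_top.2 hu
    rw [← hker] at this
    exact RingHom.ker_ne_top φ this
  have hreg : IsSMulRegular A g := isSMulRegular_iff_right_eq_zero_of_smul.2
    fun (x : A) (hx : g • x = 0) => mem_nonZeroDivisors_iff_left.1 hg x hx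
  have hd := EGA4Alg4.depth_quotSMulTop_add_one (M := A) hm hreg
  let f : QuotSMulTop g A ≃ₗ[A] B := LinearEquiv.ofBijective
    (Submodule.liftQ _ (Algebra.linearMap A B) (fun x hx => by
      obtain ⟨y, -, rfl⟩ := Submodule.mem_smul_pointwise_iff_exists _ _ _ |>.1 hx
      rw [LinearMap.mem_ker, Algebra.linearMap_apply, smul_eq_mul]
      show φ (g * y) = 0
      rw [← RingHom.mem_ker, hker]
      exact Ideal.mem_span_singleton.2 (Dvd.intro y rfl))) ⟨?_, ?_⟩
  rotate_left
  · rw [← LinearMap.ker_eq_bot, Submodule.ker_liftQ_eq_bot']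
    ext x
    rw [LinearMap.mem_ker, Algebra.linearMap_apply]
    show _ ↔ φ x = 0
    rw [← RingHom.mem_ker, hker, Submodule.mem_smul_pointwise_iff_exists, Ideal.mem_span_singleton]
    constructor
    · rintro ⟨y, -, rfl⟩
      exact Dvd.intro y rfl
    · rintro ⟨y, rfl⟩
      exact ⟨y, trivial, rfl⟩
  · intro b
    obtain ⟨a, rfl⟩ := hφ b
    exact ⟨Submodule.Quotient.mk a, rfl⟩
  haveI := f.toEquiv.nontrivial
  obtain ⟨e, he⟩ := EGA4Alg4.exists_depth_eq (A := A) (M := QuotSMulTop g A)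
  obtain ⟨rs, hlen, hmem, hr⟩ := (EGA4Alg4.natCast_le_depth_iff e).mp he.ge
  have hB : (e : ℕ∞) ≤ LocCoh.depth B B := by
    refine (EGA4Alg4.natCast_le_depth_iff e).mpr ⟨rs.map φ, by simpa, fun r hr' => ?_, ?_⟩
    · obtain ⟨a, ha, rfl⟩ := List.mem_map.1 hr'
      by_contra hu
      rw [IsLocalRing.mem_maximalIdeal, mem_nonunits_iff, not_not] at hu
      haveI := IsLocalHom.of_surjective φ hφ
      exact hmem a ha (IsUnit.of_map φ a hu)
    · refine (isWeaklyRegular_map_algebraMap_iff B B rs).2 ?_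
      exact (f.isWeaklyRegular_congr rs).1 hr
  have hdim : ringKrullDim B + 1 ≤ ringKrullDim A := by
    rw [ringKrullDim_eq_of_ringEquiv
      ((RingHom.quotientKerEquivOfSurjective hφ).symm.trans (Ideal.quotEquivOfEq hker))]
    exact ringKrullDim_quotient_succ_le_of_nonZeroDivisor hg
  rw [← hd, he] at h
  refine le_trans ?_ (WithBot.coe_le_coe.2 hB)
  have h' : min ((k : ℕ) : WithBot ℕ∞) (ringKrullDim A) ≤ (e : WithBot ℕ∞) + 1 := by exact_mod_cast h
  rcases min_le_iff.1 h' with hk | hA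
  · refine (min_le_left _ _).trans ?_
    have hk' : k ≤ e + 1 := by exact_mod_cast hk
    exact WithBot.coe_le_coe.2 (Nat.cast_le.2 (by omega : k - 1 ≤ e))
  · exact (min_le_right _ _).trans (ENat.WithBot.add_le_add_one_right_iff.1 (hdim.trans hA))

variable {S : Scheme.{u}}

theorem etaleLocally_Sk_divisor {X D : Sp S} (hX : IsAlgSpace X) (i : D ⟶ X) (hD : IsEffCartierSub i) (k : ℕ)
    {U : Over S} (a : (yon S).obj U ⟶ X) (ha : RepWith @Etale a) (has : RepWith @Surjective a)
    [IsLocallyNoetherian U.left]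
    (hk : ∀ x : ↥U.left, min ((k : ℕ) : WithBot ℕ∞) (ringKrullDim ↥(U.left.presheaf.stalk x)) ≤
      ((LocCoh.depth ↥(U.left.presheaf.stalk x) ↥(U.left.presheaf.stalk x) : ℕ∞) : WithBot ℕ∞)) :
    EtaleLocally (fun V => IsLocallyNoetherian V ∧ ∀ v : ↥V,
        min ((k - 1 : ℕ) : WithBot ℕ∞) (ringKrullDim ↥(V.presheaf.stalk v)) ≤
          ((LocCoh.depth ↥(V.presheaf.stalk v) ↥(V.presheaf.stalk v) : ℕ∞) : WithBot ℕ∞)) D := by
  have hi : RepWith @IsClosedImmersion i := hD.1
  obtain ⟨fst, sq⟩ := exists_square_idealOf hi a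
  have hc : BlowUp.IsEffCartierIdeal (idealOf hi a) := cartierOn_of_isEffCartierSub hi hX hD a ha
  let I := idealOf hi a
  haveI : IsLocallyNoetherian I.subscheme := LocallyOfFiniteType.isLocallyNoetherian I.subschemeι
  refine ⟨_, fst, (repWith_isStableUnderBaseChange _).of_isPullback sq.flip ha,
    (repWith_isStableUnderBaseChange _).of_isPullback sq.flip has, inferInstanceAs (IsLocallyNoetherian I.subscheme), fun v => ?_⟩
  obtain ⟨g, hg, hgI⟩ := Groth.Agent.Div89.exists_stalk_generator hc (I.subschemeι v)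
  refine min_le_depth_of_surjective (I.subschemeι.stalkMap v).hom (I.subschemeι.stalkMap_surjective v) hg ?_ k (hk _)
  rw [← hgI]
  ext e
  exact Groth.Agent.Div89.stalkMap_subschemeι_eq_zero_iff I v e

theorem two_le_depth_of_normal {U : Scheme.{u}} [IsLocallyNoetherian U] (h : Pi1.IsNormalScheme U) (x : U) :
    min ((2 : ℕ) : WithBot ℕ∞) (ringKrullDim ↥(U.presheaf.stalk x)) ≤
      ((LocCoh.depth ↥(U.presheaf.stalk x) ↥(U.presheaf.stalk x) : ℕ∞) : WithBot ℕ∞) := by
  obtain ⟨_, _⟩ := h x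
  by_cases h2 : 2 ≤ ringKrullDim ↥(U.presheaf.stalk x)
  · exact (min_le_left _ _).trans (WithBot.coe_le_coe.2 (CAlg1.two_le_depth_of_isIntegrallyClosed _ h2))
  · rw [not_le] at h2
    refine (min_le_right _ _).trans ?_
    rcases eq_or_ne (IsLocalRing.maximalIdeal ↥(U.presheaf.stalk x)) ⊥ with hb | hb
    · rw [ringKrullDim_eq_zero_of_isField (IsLocalRing.isField_iff_maximalIdeal_eq.mpr hb)]
      exact WithBot.coe_le_coe.2 zero_le
    · obtain ⟨b, hbm, hb0⟩ := Submodule.exists_mem_ne_zero_of_ne_bot hb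
      have h1 : ringKrullDim ↥(U.presheaf.stalk x) ≤ 1 :=
        (ENat.WithBot.lt_add_one_iff (m := 1)).1 (lt_of_lt_of_eq h2 (by norm_num))
      refine h1.trans (WithBot.coe_le_coe.2 ?_)
      refine le_trans le_add_self (EGA4Alg4.depth_quotSMulTop_add_one (M := ↥(U.presheaf.stalk x)) hbm ?_).le
      exact isSMulRegular_iff_right_eq_zero_of_smul.2 fun y hy => (mul_eq_zero.1 hy).resolve_left hb0

end Groth.Agent.SpFP87
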