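import Groth.Agent.SpFP87.WeakAssUnit
import Groth.Agent.SpFP87.Reduced
/-!
Weakly associated points of reduced spaces.
-/

set_option autoImplicit false
set_option linter.style.haveILetI false
set_option backward.isDefEq.respectTransparency false
universe u
open CategoryTheory CategoryTheory.Limits AlgebraicGeometry Opposite
open AlgSp
open Groth.Agent.SpPts86

namespace Groth.Agent.SpFP87

theorem mem_weakAss_iff_height_eq_zero {A : Type u} [CommRing A] [_root_.IsReduced A] (p : Ideal A) [p.IsPrime] :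
    p ∈ FlatCA.weakAss A A ↔ p.height = 0 := by
  rw [Ideal.height_eq_zero_iff]
  constructor
  · rintro ⟨m, hm⟩
    have hmem : ∀ a : A, a ∈ (Submodule.span A {m}).annihilator ↔ a * m = 0 := fun a => by
      rw [Submodule.mem_annihilator_span_singleton, smul_eq_mul]
    refine ⟨⟨inferInstance, bot_le⟩, fun r hr hle => ?_⟩
    haveI := hr.1
    by_cases hmr : m ∈ r
    · exfalso
      have hall : ∀ q : Ideal A, q.IsPrime → q ≤ p → m ∈ q := fun q hq hqp => by
        by_contra hmq
        have hqp' : p ≤ q := hm.2 ⟨hq, fun a ha => (hq.mem_or_mem (by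
          rw [(hmem a).1 ha]; exact q.zero_mem)).resolve_right hmq⟩ hqp
        exact hmq (hqp' (hle hmr))
      have hnil : IsNilpotent (algebraMap A (Localization.AtPrime p) m) := by
        rw [nilpotent_iff_mem_prime]
        intro q hq
        refine hall (q.comap (algebraMap A (Localization.AtPrime p))) (hq.comap _) ?_
        exact ((IsLocalization.AtPrime.orderIsoOfPrime (Localization.AtPrime p) p) ⟨q, hq⟩).2.2
      obtain ⟨n, hn⟩ := hnil
      rw [← map_pow, IsLocalization.map_eq_zero_iff p.primeCompl] at hn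
      obtain ⟨⟨s, hs⟩, hsm⟩ := hn
      refine hs (hm.1.2 ((hmem s).2 ?_))
      refine IsReduced.eq_zero _ ⟨n + 1, ?_⟩
      rw [mul_pow, pow_succ s, mul_comm (s ^ n) s, mul_assoc, pow_succ m, mul_comm (m ^ n) m,
        ← mul_assoc, ← mul_assoc]
      have : s * m ^ n = 0 := hsm
      linear_combination (s ^ n * m) * this
    · exact hm.2 ⟨hr.1, fun a ha => (hr.1.mem_or_mem (by
        rw [(hmem a).1 ha]; exact r.zero_mem)).resolve_right hmr⟩ hle
  · intro h
    refine ⟨1, ?_⟩
    have h0 : (Submodule.span A {(1 : A)}).annihilator = ⊥ := by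
      ext a
      rw [Submodule.mem_annihilator_span_singleton, smul_eq_mul, mul_one, Ideal.mem_bot]
    rw [h0]
    exact h

variable {S : Scheme.{u}} {X : Sp S}

theorem mem_weakAssEt_unit_iff (hX : IsAlgSpace X) (hred : IsReducedSp X) (x : Points X) :
    x ∈ WeakAssEt (unitModEt X) ↔ HasAt (fun U u => ringKrullDim ↥(U.presheaf.stalk u) = 0) X x := by
  have key : ∀ (E : EtOver X) [IsAffine E.obj.left.left] (u : E.obj.left.left),
      IsWeakAssOn (unitModEt X) E u ↔ ringKrullDim ↥(E.obj.left.left.presheaf.stalk u) = 0 := by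
    intro E _ u
    haveI : IsReduced E.obj.left.left := isReduced_chart hX hred E.property
    haveI := Groth.Agent.Div89.primeAt_isPrime ⟨⊤, isAffineOpen_top E.obj.left.left⟩ u trivial
    rw [isWeakAssOn_unit_iff, ← primeAt_top_eq,
      mem_weakAss_iff_height_eq_zero (Groth.Agent.Div89.primeAt ⟨⊤, isAffineOpen_top E.obj.left.left⟩ u trivial),
      Groth.Agent.Div89.ringKrullDim_stalk_eq_height ⟨⊤, isAffineOpen_top _⟩ u trivial]
    exact ⟨fun h => by rw [h]; rfl, fun h => WithBot.coe_eq_coe.1 (h.trans rfl)⟩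
  constructor
  · rintro ⟨E, hE, u, hu, h⟩
    exact ⟨E.obj.left, E.obj.hom, u, E.property, hu, (key E u).1 h⟩
  · rintro ⟨U, a, u, ha, hu, h⟩
    obtain ⟨W, hW, huW, -⟩ := exists_isAffineOpen_mem_and_subset (U := (⊤ : U.left.Opens)) (x := u) trivial
    let W' : Over S := Over.mk (W.ι ≫ U.hom)
    let j : W' ⟶ U := Over.homMk W.ι rfl
    haveI : Etale j.left := inferInstanceAs (Etale W.ι)
    have haj : RepWith @Etale ((yon S).map j ≫ a) :=
      MorphismProperty.comp_mem (W := RepWith (@Etale : MorphismProperty Scheme.{u})) _ _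
        ((repWith_yon_map_iff _ _).2 inferInstance) ha
    haveI : IsAffine (EtOver.mk _ haj).obj.left.left := hW
    refine ⟨EtOver.mk _ haj, hW, (⟨u, huW⟩ : W.toScheme), ?_, (key _ _).2 ?_⟩
    · show Points.ofPt ((yon S).map j ≫ a) _ = x
      rw [ofPt_comp]
      exact hu
    · show ringKrullDim ↥(W.toScheme.presheaf.stalk ⟨u, huW⟩) = 0
      rw [ringKrullDim_eq_of_ringEquiv (asIso (W.ι.stalkMap ⟨u, huW⟩)).commRingCatIsoToRingEquiv.symm]
      exact h

end Groth.Agent.SpFP87
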