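import Groth.Agent.SpFP87.InfDesc
/-!
A lifting square has a solution when it has one etale locally and solutions are unique.
-/

set_option autoImplicit false
set_option linter.style.haveILetI false
universe u
open CategoryTheory CategoryTheory.Limits AlgebraicGeometry
open AlgSp
open scoped TensorProduct

namespace Groth.Agent.SpFP87

variable {S : Scheme.{u}}

theorem hasLift_of_local {F G H : Sp S} (a : F ⟶ G) (b : G ⟶ H) (sq : InfSq b)
    {B : Type u} [CommRing B] (φ₀ : sq.A ⧸ sq.I →+* B)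
    (m : (yon S).obj (Over.mk (Spec.map (CommRingCat.ofHom φ₀) ≫ sq.ptT.hom)) ⟶ F)
    (hφ₀ : φ₀.Etale) (hs₀ : Function.Surjective (PrimeSpectrum.comap φ₀))
    (hm : m ≫ a = (yon S).map (specChg φ₀ sq.ptT.hom) ≫ sq.top)
    (h : ∀ (C : Type u) [CommRing C] (φ : sq.A →+* C)
      (r : (infSqPull sq φ).ptT ⟶ (Over.mk (Spec.map (CommRingCat.ofHom φ₀) ≫ sq.ptT.hom) : Over S))
      (hc : ((yon S).map r ≫ m) ≫ a ≫ b = (yon S).map (infSqPull sq φ).j ≫ (infSqPull sq φ).bot),
      InfSq.HasLift (f := a ≫ b)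
        { A := C, I := (infSqPull sq φ).I, sq_zero := (infSqPull sq φ).sq_zero,
          str := (infSqPull sq φ).str, top := (yon S).map r ≫ m, bot := (infSqPull sq φ).bot,
          comm := hc })
    (hu : ∀ (C : Type u) [CommRing C] (φ : sq.A →+* C), (infSqPull sq φ).HasUniq) :
    sq.HasLift := by
  letI : Algebra (sq.A ⧸ sq.I) B := φ₀.toAlgebra
  letI : Algebra sq.A B := (φ₀.comp (Ideal.Quotient.mk sq.I)).toAlgebra
  haveI : IsScalarTower sq.A (sq.A ⧸ sq.I) B := IsScalarTower.of_algebraMap_eq fun _ => rfl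
  haveI : Algebra.Etale (sq.A ⧸ sq.I) B := hφ₀
  haveI : Algebra.IsStandardSmoothOfRelativeDimension 0 (sq.A ⧸ sq.I) B :=
    Algebra.Etale.iff_isStandardSmoothOfRelativeDimension_zero.1 inferInstance
  obtain ⟨C, _, _, g, hC, hg, hker⟩ := exists_lift_standardSmooth (P := sq.A) (A := sq.A ⧸ sq.I) (B := B)
    Ideal.Quotient.mk_surjective
  let φ := algebraMap sq.A C
  have hker' : RingHom.ker g.toRingHom = sq.I.map φ := by
    rw [hker]
    exact congrArg (Ideal.map φ) Ideal.mk_ker
  have hφ : φ.Etale := RingHom.etale_algebraMap.2 hC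
  have hs : Function.Surjective (PrimeSpectrum.comap φ) := fun p => by
    have hIp : sq.I ≤ p.asIdeal := fun x hx =>
      p.2.mem_of_pow_mem 2 (by
        have : x ^ 2 ∈ sq.I ^ 2 := Ideal.pow_mem_pow hx 2
        rw [sq.sq_zero, Ideal.mem_bot] at this
        rw [this]; exact zero_mem _)
    obtain ⟨p₀, hp₀⟩ : p ∈ Set.range (PrimeSpectrum.comap (Ideal.Quotient.mk sq.I)) := by
      rw [range_comap_of_surjective _ _ Ideal.Quotient.mk_surjective, Ideal.mk_ker]
      exact hIp
    obtain ⟨q, hq⟩ := hs₀ p₀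
    refine ⟨PrimeSpectrum.comap g.toRingHom q, ?_⟩
    rw [← hp₀, ← hq, ← PrimeSpectrum.comap_comp_apply, ← PrimeSpectrum.comap_comp_apply]
    exact congrArg (fun r => PrimeSpectrum.comap r q) (g.comp_algebraMap)
  let sqC := infSqPull sq φ
  let ρ : B →+* C ⧸ sq.I.map φ :=
    (((Ideal.quotEquivOfEq hker'.symm).trans
      (RingHom.quotientKerEquivOfSurjective (f := g.toRingHom) hg)).symm).toRingHom
  have hρ : ρ.comp φ₀ = Ideal.quotientMap (sq.I.map φ) φ Ideal.le_comap_map := by
    apply Ideal.Quotient.ringHom_ext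
    ext x
    change ((Ideal.quotEquivOfEq hker'.symm).trans
      (RingHom.quotientKerEquivOfSurjective (f := g.toRingHom) hg)).symm
      (φ₀ (Ideal.Quotient.mk sq.I x)) = Ideal.Quotient.mk _ (φ x)
    rw [RingEquiv.symm_apply_eq]
    exact (g.commutes x).symm
  let r : sqC.ptT ⟶ (Over.mk (Spec.map (CommRingCat.ofHom φ₀) ≫ sq.ptT.hom) : Over S) :=
    Over.homMk (Spec.map (CommRingCat.ofHom ρ))
      ((congrArg (_ ≫ ·) ((Category.assoc _ _ _).symm.trans
        (congrArg (· ≫ sq.str) (specMap_comp' rfl)))).trans (specMap_square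
          (show (ρ.comp (φ₀.comp (Ideal.Quotient.mk sq.I))) = (Ideal.Quotient.mk (sq.I.map φ)).comp φ by
            rw [← RingHom.comp_assoc, hρ]; exact Ideal.quotientMap_comp_mk _) sq.str))
  have hr : r ≫ specChg φ₀ sq.ptT.hom = specQuotChg φ sq.I sq.str := by
    ext : 1
    exact specMap_comp' hρ
  have htop : ((yon S).map r ≫ m) ≫ a = sqC.top :=
    (Category.assoc _ _ _).trans ((congrArg (_ ≫ ·) hm).trans ((Category.assoc _ _ _).symm.trans
      ((congrArg (· ≫ sq.top) ((yon S).map_comp _ _).symm).trans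
        (congrArg (fun k => (yon S).map k ≫ sq.top) hr))))
  obtain ⟨n, hn1, hn2⟩ := h C φ r ((Category.assoc _ _ _).symm.trans ((congrArg (· ≫ b) htop).trans sqC.comm))
  have he1 : (yon S).map sqC.j ≫ n ≫ a = sqC.top :=
    (Category.assoc _ _ _).symm.trans ((congrArg (· ≫ a) hn1).trans htop)
  have he2 : (n ≫ a) ≫ b = sqC.bot := (Category.assoc _ _ _).trans hn2
  have hdesc : ∀ (Z : Over S) (p₁ p₂ : Z ⟶ sqC.ptT'), p₁ ≫ specChg φ sq.str = p₂ ≫ specChg φ sq.str →
      (yon S).map p₁ ≫ n ≫ a = (yon S).map p₂ ≫ n ≫ a := by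
    intro Z p₁ p₂ hp
    let i₁ : C →+* C ⊗[sq.A] C := Algebra.TensorProduct.includeLeftRingHom
    let i₂ : C →+* C ⊗[sq.A] C := (Algebra.TensorProduct.includeRight (R := sq.A) (A := C) (B := C)).toRingHom
    have hii : i₁.comp φ = i₂.comp φ := Algebra.TensorProduct.includeLeftRingHom_comp_algebraMap
    let d : Over S := Over.mk (Spec.map (CommRingCat.ofHom (i₁.comp φ)) ≫ sq.str)
    let q₁ : d ⟶ sqC.ptT' := Over.homMk (Spec.map (CommRingCat.ofHom i₁)) ((Category.assoc _ _ _).symm.trans (congrArg (· ≫ sq.str) (specMap_comp' rfl)))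
    let q₂ : d ⟶ sqC.ptT' := Over.homMk (Spec.map (CommRingCat.ofHom i₂)) ((Category.assoc _ _ _).symm.trans (congrArg (· ≫ sq.str) (specMap_comp' hii.symm)))
    have hq : q₁ ≫ specChg φ sq.str = q₂ ≫ specChg φ sq.str := by
      ext : 1
      exact (specMap_comp' rfl).trans (specMap_comp' hii.symm).symm
    have hpl : p₁.left ≫ Spec.map (CommRingCat.ofHom φ) = p₂.left ≫ Spec.map (CommRingCat.ofHom φ) :=
      congrArg CommaMorphism.left hp
    let t : Z.left ⟶ Spec (CommRingCat.of (C ⊗[sq.A] C)) :=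
      pullback.lift p₁.left p₂.left hpl ≫ (pullbackSpecIso sq.A C C).hom
    have ht₁ : t ≫ Spec.map (CommRingCat.ofHom i₁) = p₁.left := by
      refine (Category.assoc _ _ _).trans ?_
      exact (congrArg (_ ≫ ·) (pullbackSpecIso_hom_fst sq.A C C)).trans (pullback.lift_fst _ _ _)
    have ht₂ : t ≫ Spec.map (CommRingCat.ofHom i₂) = p₂.left := by
      refine (Category.assoc _ _ _).trans ?_
      exact (congrArg (_ ≫ ·) (pullbackSpecIso_hom_snd sq.A C C)).trans (pullback.lift_snd _ _ _)
    let t' : Z ⟶ d := Over.homMk t (((congrArg (fun k => t ≫ k ≫ sq.str) (specMap_comp' rfl).symm).trans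
      ((congrArg (t ≫ ·) (Category.assoc _ _ _)).trans ((Category.assoc _ _ _).symm.trans
        ((congrArg (· ≫ (Spec.map (CommRingCat.ofHom φ) ≫ sq.str)) ht₁).trans (Over.w p₁))))))
    have e1 : t' ≫ q₁ = p₁ := by ext : 1; exact ht₁
    have e2 : t' ≫ q₂ = p₂ := by ext : 1; exact ht₂
    suffices hh : (yon S).map q₁ ≫ n ≫ a = (yon S).map q₂ ≫ n ≫ a by
      rw [← e1, ← e2, Functor.map_comp, Functor.map_comp, Category.assoc, Category.assoc, hh]
    -- both are lifts of the restriction of `sq` to `C ⊗ C`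
    let sqD := infSqPull sq (i₁.comp φ)
    have hq1 : q₁ ≫ specChg φ sq.str = specChg (i₁.comp φ) sq.str := by
      ext : 1
      exact specMap_comp' rfl
    have side : ∀ (i : C →+* C ⊗[sq.A] C) (hi : i.comp φ = i₁.comp φ) (q : d ⟶ sqC.ptT'),
        q.left = Spec.map (CommRingCat.ofHom i) →
        (yon S).map sqD.j ≫ (yon S).map q ≫ n ≫ a = sqD.top ∧
          ((yon S).map q ≫ n ≫ a) ≫ b = sqD.bot := by
      intro i hi q hqi
      have hqc : q ≫ specChg φ sq.str = specChg (i₁.comp φ) sq.str := by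
        ext : 1
        exact (congrArg (· ≫ _) hqi).trans (specMap_comp' hi)
      constructor
      · let s : sqD.ptT ⟶ sqC.ptT := Over.homMk
          (Spec.map (CommRingCat.ofHom (Ideal.quotientMap (sq.I.map (i₁.comp φ)) i
            (Ideal.map_le_iff_le_comap.1 ((Ideal.map_map φ i).trans (congrArg (fun k => sq.I.map k) hi)).le : sq.I.map φ ≤ _))))
          ((specMap_square (Ideal.quotientMap_comp_mk _) _).trans
            (congrArg (_ ≫ ·) ((Category.assoc _ _ _).symm.trans (congrArg (· ≫ sq.str) (specMap_comp' hi)))))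
        have hs1 : sqD.j ≫ q = s ≫ sqC.j := by
          ext : 1
          exact (congrArg (_ ≫ ·) hqi).trans ((specMap_comp' rfl).trans (specMap_comp'
            (f := Ideal.Quotient.mk (sq.I.map φ))
            (g := Ideal.quotientMap (sq.I.map (i₁.comp φ)) i
              (Ideal.map_le_iff_le_comap.1 ((Ideal.map_map φ i).trans (congrArg (fun k => sq.I.map k) hi)).le))
            (k := (Ideal.Quotient.mk (sq.I.map (i₁.comp φ))).comp i) (RingHom.ext fun _ => rfl)).symm)
        have hs2 : s ≫ specQuotChg φ sq.I sq.str = specQuotChg (i₁.comp φ) sq.I sq.str := by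
          ext : 1
          refine specMap_comp' (Ideal.Quotient.ringHom_ext ?_)
          ext x
          exact congrArg (Ideal.Quotient.mk _) (RingHom.congr_fun hi x)
        exact (Category.assoc _ _ _).symm.trans ((congrArg (· ≫ n ≫ a) (((yon S).map_comp _ _).symm.trans
          ((congrArg (yon S).map hs1).trans ((yon S).map_comp _ _)))).trans ((Category.assoc _ _ _).trans
          ((congrArg (_ ≫ ·) he1).trans ((Category.assoc _ _ _).symm.trans
          (congrArg (· ≫ sq.top) (((yon S).map_comp _ _).symm.trans (congrArg (yon S).map hs2)))))))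
      · exact (Category.assoc _ _ _).trans ((congrArg (_ ≫ ·) he2).trans ((Category.assoc _ _ _).symm.trans
          (congrArg (· ≫ sq.bot) (((yon S).map_comp _ _).symm.trans (congrArg (yon S).map hqc)))))
    exact hu _ (i₁.comp φ) _ _ (side i₁ rfl q₁ rfl).1 (side i₁ rfl q₁ rfl).2 (side i₂ hii.symm q₂ rfl).1
      (side i₂ hii.symm q₂ rfl).2
  obtain ⟨l, hl, -⟩ := cover_existsUnique_desc (specChg φ sq.str) (fppfSurj_specMap φ hφ hs) (n ≫ a) hdesc
  refine ⟨l, ?_, ?_⟩
  · refine cover_hom_ext (W := (Over.mk (Spec.map (CommRingCat.ofHom φ₀) ≫ sq.ptT.hom) : Over S))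
      (specChg φ₀ sq.ptT.hom) (fppfSurj_specMap φ₀ hφ₀ hs₀) ?_
    have hi : IsIso r := by
      haveI : IsIso (CommRingCat.ofHom ρ) := by
        rw [ConcreteCategory.isIso_iff_bijective]
        exact (RingEquiv.bijective _)
      haveI : IsIso ((Over.forget S).map r) := inferInstanceAs (IsIso (Spec.map (CommRingCat.ofHom ρ)))
      exact isIso_of_reflects_iso r (Over.forget S)
    rw [← cancel_epi ((yon S).map r)]
    have p1 : (yon S).map r ≫ (yon S).map (specChg φ₀ sq.ptT.hom) =
        (yon S).map (specQuotChg φ sq.I sq.str) :=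
      ((yon S).map_comp _ _).symm.trans (congrArg (yon S).map hr)
    have p2 : (yon S).map (specQuotChg φ sq.I sq.str) ≫ (yon S).map sq.j =
        (yon S).map sqC.j ≫ (yon S).map (specChg φ sq.str) :=
      ((yon S).map_comp _ _).symm.trans ((congrArg (yon S).map (specQuotChg_comp φ sq.I sq.str).symm).trans
        ((yon S).map_comp _ _))
    exact (Category.assoc _ _ _).symm.trans ((congrArg (· ≫ _) p1).trans
      ((Category.assoc _ _ _).symm.trans ((congrArg (· ≫ l) p2).trans ((Category.assoc _ _ _).trans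
        ((congrArg (_ ≫ ·) hl).trans (he1.trans ((congrArg (· ≫ sq.top) p1).symm.trans (Category.assoc _ _ _))))))))
  · refine cover_hom_ext (specChg φ sq.str) (fppfSurj_specMap φ hφ hs) ?_
    exact (Category.assoc _ _ _).symm.trans ((congrArg (· ≫ b) hl).trans he2)

end Groth.Agent.SpFP87
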