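import Groth.Agent.SpFP87.LargestOpen
import Groth.Agent.SpPts86.GrpdSp
/-!
Invariance of largest opens for groupoids.
-/

set_option autoImplicit false
set_option linter.style.haveILetI false
set_option backward.isDefEq.respectTransparency false
universe u
open CategoryTheory CategoryTheory.Limits AlgebraicGeometry Opposite TopologicalSpace
open AlgSp Groth.Agent.SpPts86

namespace Groth.Agent.SpFP87

variable {S : Scheme.{u}} {B : Sp S} {M P : MorphismProperty (Sp S)}

theorem isPullback_conj (G : GroupoidSp B) :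
    ∃ y : pullback G.stabilizerToU G.s ⟶ G.stabilizer,
      IsPullback y (pullback.snd G.stabilizerToU G.s) G.stabilizerToU G.t := by
  have hιt : G.stabilizerι ≫ G.t = G.stabilizerToU := by
    have := congrArg (· ≫ pullback.fst G.pU G.pU) (pullback.condition (f := G.j) (g := G.diag))
    simp only [GroupoidSp.diag, Category.assoc, G.j_fst, pullback.lift_fst, Category.comp_id] at this
    exact this
  have hιs : G.stabilizerι ≫ G.s = G.stabilizerToU := by
    have := congrArg (· ≫ pullback.snd G.pU G.pU) (pullback.condition (f := G.j) (g := G.diag))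
    simp only [GroupoidSp.diag, Category.assoc, G.j_snd, pullback.lift_snd, Category.comp_id] at this
    exact this
  have hm : ∀ {Z : Sp S} (a b : Z ⟶ G.stabilizer), a ≫ G.stabilizerι = b ≫ G.stabilizerι → a = b := fun a b e => by
    refine pullback.hom_ext e ?_
    show a ≫ G.stabilizerToU = b ≫ G.stabilizerToU
    rw [← hιt, ← Category.assoc, ← Category.assoc, e]
  let x := pullback.fst G.stabilizerToU G.s ≫ G.stabilizerι
  let r := pullback.snd G.stabilizerToU G.s
  have hxt : r ≫ G.s = x ≫ G.t := by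
    rw [Category.assoc, hιt]; exact pullback.condition.symm
  have hxs : x ≫ G.s = r ≫ G.s := by
    rw [Category.assoc, hιs]; exact pullback.condition
  have h1 : (pullback.lift r x hxt ≫ G.c) ≫ G.s = (r ≫ G.i) ≫ G.t := by
    rw [G.comp_s, hxs, Category.assoc, G.i_t]
  let k := pullback.lift (pullback.lift r x hxt ≫ G.c) (r ≫ G.i) h1 ≫ G.c
  have hks : k ≫ G.s = r ≫ G.t := by rw [G.comp_s, Category.assoc, G.i_s]
  have hkt : k ≫ G.t = r ≫ G.t := by rw [G.comp_t, G.comp_t]
  let y : pullback G.stabilizerToU G.s ⟶ G.stabilizer := pullback.lift k (r ≫ G.t) (by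
    apply pullback.hom_ext
    · simp only [GroupoidSp.diag, Category.assoc, G.j_fst, pullback.lift_fst, Category.comp_id]
      exact hkt
    · simp only [GroupoidSp.diag, Category.assoc, G.j_snd, pullback.lift_snd, Category.comp_id]
      exact hks)
  have hy : y ≫ G.stabilizerι = k := pullback.lift_fst _ _ _
  refine ⟨y, IsPullback.mk' (pullback.lift_snd _ _ _) (fun Z a b e1 e2 => ?_) fun Z h q w => ?_⟩
  · refine pullback.hom_ext (hm _ _ ?_) e2
    have e3 : a ≫ k = b ≫ k := by rw [← hy, ← Category.assoc, ← Category.assoc, e1]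
    have hcomp : ∀ {T : Sp S} (g : T ⟶ pullback G.stabilizerToU G.s),
        g ≫ k = pullback.lift (g ≫ pullback.lift r x hxt ≫ G.c) (g ≫ r ≫ G.i)
          (by simp only [Category.assoc] at h1 ⊢; rw [h1]) ≫ G.c := fun g => by
      rw [← Category.assoc]
      congr 1
      apply pullback.hom_ext <;> simp
    rw [hcomp, hcomp] at e3
    have e4 : a ≫ r ≫ G.i = b ≫ r ≫ G.i := by rw [← Category.assoc, ← Category.assoc, e2]
    simp only [← e4] at e3
    have e5 := comp_right_cancel G _ _ _ _ _ e3
    have hcomp' : ∀ {T : Sp S} (g : T ⟶ pullback G.stabilizerToU G.s),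
        g ≫ pullback.lift r x hxt ≫ G.c = pullback.lift (g ≫ r) (g ≫ x)
          (by simp only [Category.assoc] at hxt ⊢; rw [hxt]) ≫ G.c := fun g => by
      rw [← Category.assoc]
      congr 1
      apply pullback.hom_ext <;> simp
    rw [hcomp', hcomp'] at e5
    obtain ⟨_, c1⟩ := cancel_comp G (a ≫ r) (a ≫ x) (by simp only [Category.assoc] at hxt ⊢; rw [hxt])
    obtain ⟨_, c2⟩ := cancel_comp G (b ≫ r) (b ≫ x) (by simp only [Category.assoc] at hxt ⊢; rw [hxt])
    have e6 : a ≫ x = b ≫ x := by
      rw [← c1, ← c2]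
      have er : a ≫ r = b ≫ r := e2
      congr 1
      apply pullback.hom_ext
      · simp [er]
      · simp only [pullback.lift_snd]; exact e5
    simpa [x, Category.assoc] using e6
  · have ht1 : (h ≫ G.stabilizerι) ≫ G.t = q ≫ G.t := by rw [Category.assoc, hιt, w]
    have hs1 : (h ≫ G.stabilizerι) ≫ G.s = q ≫ G.t := by rw [Category.assoc, hιs, w]
    have p1 : (q ≫ G.i) ≫ G.s = (h ≫ G.stabilizerι) ≫ G.t := by rw [Category.assoc, G.i_s, ht1]
    let α := pullback.lift (q ≫ G.i) (h ≫ G.stabilizerι) p1 ≫ G.c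
    have p2 : α ≫ G.s = q ≫ G.t := by rw [G.comp_s, hs1]
    let β := pullback.lift α q p2 ≫ G.c
    have hβs : β ≫ G.s = q ≫ G.s := G.comp_s _ _ _
    have hβt : β ≫ G.t = q ≫ G.s := by rw [G.comp_t, G.comp_t, Category.assoc, G.i_t]
    let l : Z ⟶ G.stabilizer := pullback.lift β (q ≫ G.s) (by
      apply pullback.hom_ext
      · simp only [GroupoidSp.diag, Category.assoc, G.j_fst, pullback.lift_fst, Category.comp_id]
        exact hβt
      · simp only [GroupoidSp.diag, Category.assoc, G.j_snd, pullback.lift_snd, Category.comp_id]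
        exact hβs)
    let m : Z ⟶ pullback G.stabilizerToU G.s := pullback.lift l q (pullback.lift_snd _ _ _)
    refine ⟨m, hm _ _ ?_, pullback.lift_snd _ _ _⟩
    rw [Category.assoc, hy]
    have hmr : m ≫ r = q := pullback.lift_snd _ _ _
    have hmx : m ≫ x = β := by
      show m ≫ pullback.fst _ _ ≫ G.stabilizerι = β
      rw [← Category.assoc, pullback.lift_fst]
      exact pullback.lift_fst _ _ _
    have i1 : (pullback.lift q β hβt.symm ≫ G.c) ≫ G.s = (q ≫ G.i) ≫ G.t := by
      rw [G.comp_s, hβs, Category.assoc, G.i_t]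
    have ek : m ≫ k = pullback.lift (pullback.lift q β hβt.symm ≫ G.c) (q ≫ G.i) i1 ≫ G.c := by
      show m ≫ pullback.lift _ _ _ ≫ G.c = _
      rw [← Category.assoc]
      congr 1
      apply pullback.hom_ext
      · rw [Category.assoc, pullback.lift_fst, pullback.lift_fst, ← Category.assoc]
        congr 1
        apply pullback.hom_ext
        · rw [Category.assoc, pullback.lift_fst, pullback.lift_fst, hmr]
        · rw [Category.assoc, pullback.lift_snd, pullback.lift_snd, hmx]
      · rw [Category.assoc, pullback.lift_snd, pullback.lift_snd, ← Category.assoc, hmr]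
    rw [ek]
    have hqα : q ≫ G.s = α ≫ G.t := by rw [G.comp_t, Category.assoc, G.i_t]
    have e7 : pullback.lift q α hqα ≫ G.c = h ≫ G.stabilizerι := by
      rw [← G.assoc q (q ≫ G.i) (h ≫ G.stabilizerι) (by rw [Category.assoc, G.i_t]) p1]
      have e : pullback.lift q (q ≫ G.i) (by rw [Category.assoc, G.i_t]) ≫ G.c =
          (h ≫ G.stabilizerι) ≫ G.t ≫ G.e := by
        rw [G.comp_i, ← Category.assoc, ← ht1, Category.assoc]
      simp only [e]
      exact G.e_comp _
    have e8 : pullback.lift q β hβt.symm ≫ G.c =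
        pullback.lift (h ≫ G.stabilizerι) q hs1 ≫ G.c := by
      rw [← G.assoc q α q hqα p2]
      simp only [e7]
    simp only [e8]
    rw [G.assoc (h ≫ G.stabilizerι) q (q ≫ G.i) hs1 (by rw [Category.assoc, G.i_t])]
    have e9 : pullback.lift q (q ≫ G.i) (by rw [Category.assoc, G.i_t]) ≫ G.c =
        (h ≫ G.stabilizerι) ≫ G.s ≫ G.e := by
      rw [G.comp_i, ← Category.assoc, ← hs1, Category.assoc]
    simp only [e9]
    exact G.comp_e _

theorem isInvariant_largest_open (hM : CoverClass M) (hP : IsLocalOnBase (fun _ _ Y g => IsCover M Y g) P)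
    (G : GroupoidSp B) (hU : IsAlgSpace G.U) (hR : IsAlgSpace G.R) (hs : M G.s) (ht : M G.t)
    {X : Sp S} (hX : IsAlgSpace X) (f : X ⟶ G.U) {X' : Sp S} {f' : X' ⟶ G.R} {a b : X' ⟶ X}
    (hX' : IsAlgSpace X') (sqs : IsPullback a f' f G.s) (sqt : IsPullback b f' f G.t)
    {W : Sp S} (hW : IsAlgSpace W) (w : W ⟶ G.U) (hw : RepWith @IsOpenImmersion w)
    (hmax : ∀ (W' : Sp S) (w' : W' ⟶ G.U), IsAlgSpace W' → RepWith @IsOpenImmersion w' →
      (P (pullback.snd f w') ↔ ∃ k : W' ⟶ W, k ≫ w = w')) :
    G.IsInvariant w := by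
  let Us : Space S := ⟨G.U, hU⟩
  let Rs : Space S := ⟨G.R, hR⟩
  let fX : (⟨X, hX⟩ : Space S) ⟶ Us := ObjectProperty.homMk f
  let fR : (⟨X', hX'⟩ : Space S) ⟶ Rs := ObjectProperty.homMk f'
  obtain ⟨W₀, hW₀, -, hsub, hpre⟩ := exists_largest_open hM hP fX
  obtain ⟨W₁, hW₁, hmax₁, -, -⟩ := exists_largest_open hM hP fR
  have es := hpre Rs ⟨X', hX'⟩ (ObjectProperty.homMk G.s) (ObjectProperty.homMk a) fR hs sqs W₁ hW₁ hmax₁
  have et := hpre Rs ⟨X', hX'⟩ (ObjectProperty.homMk G.t) (ObjectProperty.homMk b) fR ht sqt W₁ hW₁ hmax₁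
  have hr : Set.range (Points.map w) = (W₀ : Set (Points G.U)) := by
    refine Set.Subset.antisymm ?_ ?_
    · exact hsub ⟨W, hW⟩ ⟨pullback f w, isAlgSpace_pullback _ _ hX hW hU⟩ (ObjectProperty.homMk w)
        (ObjectProperty.homMk (pullback.fst f w)) (ObjectProperty.homMk (pullback.snd f w))
        (hM.of_openImmersion w hW hU hw) (IsPullback.of_hasPullback _ _)
        ((hmax W w hW hw).2 ⟨𝟙 W, Category.id_comp w⟩)
    · let V : Set (Points G.U) := W₀
      have hV : IsOpen V := W₀.isOpen
      have hj : RepWith @IsOpenImmersion (restrictι G.U V) := repWith_restrictι hV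
      have hVs : IsAlgSpace (restrictSheaf G.U V) := isAlgSpace_restrictSheaf hU hV
      have h0 := hW₀ ⟨_, hVs⟩ ⟨pullback f (restrictι G.U V), isAlgSpace_pullback _ _ hX hVs hU⟩
        (ObjectProperty.homMk (restrictι G.U V)) (ObjectProperty.homMk (pullback.fst f (restrictι G.U V)))
        (ObjectProperty.homMk (pullback.snd f (restrictι G.U V))) hj (range_map_restrictι hV)
        (IsPullback.of_hasPullback _ _)
      obtain ⟨k, hk⟩ := (hmax _ _ hVs hj).1 h0
      intro y hy
      obtain ⟨z, rfl⟩ := (range_map_restrictι (F := G.U) hV).ge hy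
      exact ⟨Points.map k z, by rw [← Points.map_comp, hk]⟩
  intro T r
  rw [factors_iff_range_subset hw, factors_iff_range_subset hw, hr]
  simp only [Set.range_subset_iff, Points.map_comp]
  exact forall_congr' fun z => (Set.ext_iff.1 (et.symm.trans es) (Points.map r z))

end Groth.Agent.SpFP87
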