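import Groth.Agent.SpFP87.FOBase
/-!
Ideals of preimages of closed subspaces in affine schemes, and their comparison on etale charts.
-/

set_option autoImplicit false
set_option linter.style.haveILetI false
universe u
open CategoryTheory CategoryTheory.Limits AlgebraicGeometry
open AlgSp

namespace Groth.Agent.SpFP87

variable {S : Scheme.{u}}

/-- An element going into an extended ideal under a flat map goes into it after multiplication. -/
theorem exists_notMem_mul_mem {A C : Type u} [CommRing A] [CommRing C] (ψ : A →+* C) (hψ : ψ.Flat)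
    (q : PrimeSpectrum C) {I : Ideal A} {x : A} (hx : ψ x ∈ I.map ψ) :
    ∃ s, ψ s ∉ q.asIdeal ∧ s * x ∈ I := by
  letI := ψ.toAlgebra
  haveI : Module.Flat A C := hψ
  obtain ⟨n, c, z, hz⟩ := (Submodule.mem_span_set' (R := C) (s := ψ '' (I : Set A))).1 hx
  choose w hw hwz using fun i => (z i).2
  obtain ⟨k, a, y, hy, ha⟩ := Module.Flat.isTrivialRelation_of_sum_smul_eq_zero (R := A) (M := C)
    (f := fun o : Option (Fin n) => o.elim x (fun i => - w i)) (x := fun o => o.elim 1 c) (by
      rw [Fintype.sum_option]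
      simp only [Option.elim_none, Option.elim_some, Algebra.smul_def, RingHom.algebraMap_toAlgebra,
        map_neg, neg_mul, Finset.sum_neg_distrib, mul_one]
      rw [← hz, ← sub_eq_add_neg, sub_eq_zero]
      exact Finset.sum_congr rfl fun i _ => by rw [hwz, smul_eq_mul, mul_comm])
  by_contra hne
  push Not at hne
  refine q.isPrime.ne_top ((Ideal.eq_top_iff_one _).2 ?_)
  have h1 : (1 : C) = ∑ j, a none j • y j := hy none
  rw [h1]
  refine Ideal.sum_mem _ fun j _ => ?_
  rw [Algebra.smul_def, RingHom.algebraMap_toAlgebra]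
  refine Ideal.mul_mem_right _ _ ?_
  by_contra hmem
  refine hne (a none j) hmem ?_
  have h2 := ha j
  rw [Fintype.sum_option] at h2
  simp only [Option.elim_none, Option.elim_some] at h2
  rw [mul_comm, eq_neg_of_add_eq_zero_left h2]
  exact I.neg_mem (Ideal.sum_mem _ fun i _ => by
    simpa using I.neg_mem (I.mul_mem_right (a (some i) j) (hw i)))

variable {T T' : Sp S}

/-- The ideal in `Γ(V)` of the preimage of `c` under a map from an affine scheme. -/
noncomputable def preIdeal {c : T ⟶ T'} (hc : RepWith @IsClosedImmersion c) {V : Over S}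
    (g : (yon S).obj V ⟶ T') : Ideal Γ(V.left, ⊤) :=
  RingHom.ker (hc.rep.snd g).left.appTop.hom

variable {c : T ⟶ T'} (hc : RepWith @IsClosedImmersion c)

theorem preIdeal_le_ker_iff {V : Over S} [IsAffine V.left] (g : (yon S).obj V ⟶ T') {C : Type u} [CommRing C]
    (ψ : Γ(V.left, ⊤) →+* C) :
    (∃ m, m ≫ c = (yon S).map (specPt V ψ) ≫ g) ↔ preIdeal hc g ≤ RingHom.ker ψ := by
  haveI : IsClosedImmersion (hc.rep.snd g).left := hc.property_snd g
  exact factor_iff_of_isPullback (hc.rep.isPullback g) ψ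

theorem preIdeal_eq {V W : Over S} [IsAffine V.left] (g : (yon S).obj V ⟶ T')
    {t : (yon S).obj W ⟶ T} {i : W ⟶ V} (sq : IsPullback t ((yon S).map i) c g) :
    preIdeal hc g = RingHom.ker i.left.appTop.hom := by
  haveI : IsClosedImmersion i.left := hc.property g _ _ sq
  refine le_antisymm ?_ ?_
  · have h := (preIdeal_le_ker_iff hc g (Ideal.Quotient.mk (RingHom.ker i.left.appTop.hom))).1
      ((factor_iff_of_isPullback sq _).2 (by rw [Ideal.mk_ker]))
    rwa [Ideal.mk_ker] at h
  · have h := (factor_iff_of_isPullback sq (Ideal.Quotient.mk (preIdeal hc g))).1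
      ((preIdeal_le_ker_iff hc g _).2 (by rw [Ideal.mk_ker]))
    rwa [Ideal.mk_ker] at h

theorem preIdeal_comp {V P : Over S} [IsAffine V.left] [IsAffine P.left] (g : (yon S).obj V ⟶ T') (w : P ⟶ V) :
    preIdeal hc ((yon S).map w ≫ g) = (preIdeal hc g).map w.left.appTop.hom := by
  have key : ∀ (C : Type u) [CommRing C] (ψ : Γ(P.left, ⊤) →+* C),
      (preIdeal hc ((yon S).map w ≫ g) ≤ RingHom.ker ψ ↔
        preIdeal hc g ≤ RingHom.ker (ψ.comp w.left.appTop.hom)) := fun C _ ψ => by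
    rw [← preIdeal_le_ker_iff hc, ← preIdeal_le_ker_iff hc]
    have e : (specPt V (ψ.comp w.left.appTop.hom)).left = (specPt P ψ).left ≫ w.left := by
      change Spec.map (w.left.appTop ≫ CommRingCat.ofHom ψ) ≫ V.left.isoSpec.inv =
        (Spec.map (CommRingCat.ofHom ψ) ≫ P.left.isoSpec.inv) ≫ w.left
      rw [Spec.map_comp, Category.assoc, Category.assoc, Scheme.isoSpec_inv_naturality]
    let v : (Over.mk ((specPt V (ψ.comp w.left.appTop.hom)).left ≫ V.hom) : Over S) ≅
        Over.mk ((specPt P ψ).left ≫ P.hom) :=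
      Over.isoMk (Iso.refl _) ((Category.id_comp _).trans (by
        show (specPt P ψ).left ≫ P.hom = (specPt V (ψ.comp w.left.appTop.hom)).left ≫ V.hom
        exact (congrArg (_ ≫ ·) (Over.w w).symm).trans ((Category.assoc _ _ _).symm.trans (congrArg (· ≫ V.hom) e.symm))))
    have hv : v.hom ≫ specPt P ψ ≫ w = specPt V (ψ.comp w.left.appTop.hom) :=
      Over.OverMorphism.ext ((Category.id_comp _).trans e.symm)
    constructor
    · rintro ⟨m, hm⟩
      refine ⟨(yon S).map v.hom ≫ m, ?_⟩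
      refine (Category.assoc _ _ _).trans ((congrArg (_ ≫ ·) hm).trans ?_)
      refine ((congrArg (_ ≫ ·) (Category.assoc _ _ _).symm).trans (Category.assoc _ _ _).symm).trans ?_
      exact congrArg (· ≫ g) ((congrArg (_ ≫ ·) ((yon S).map_comp _ _).symm).trans
        (((yon S).map_comp _ _).symm.trans (congrArg (yon S).map hv)))
    · rintro ⟨m, hm⟩
      refine ⟨(yon S).map v.inv ≫ m, ?_⟩
      refine (Category.assoc _ _ _).trans ((congrArg (_ ≫ ·) hm).trans ?_)
      have hv' : v.inv ≫ specPt V (ψ.comp w.left.appTop.hom) = specPt P ψ ≫ w :=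
        (Iso.inv_comp_eq v).2 hv.symm
      exact (Category.assoc _ _ _).symm.trans ((congrArg (· ≫ g) (((yon S).map_comp _ _).symm.trans
        ((congrArg (yon S).map hv').trans ((yon S).map_comp _ _)))).trans (Category.assoc _ _ _))
  refine le_antisymm ?_ (Ideal.map_le_iff_le_comap.2 ?_)
  · have h := (key _ (Ideal.Quotient.mk ((preIdeal hc g).map w.left.appTop.hom))).2 fun x hx =>
      Ideal.Quotient.eq_zero_iff_mem.2 (Ideal.mem_map_of_mem _ hx)
    rwa [Ideal.mk_ker] at h
  · intro x hx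
    exact Ideal.mem_comap.2 (Ideal.Quotient.eq_zero_iff_mem.1
      (show Ideal.Quotient.mk _ (w.left.appTop.hom x) = 0 from
        (key _ (Ideal.Quotient.mk (preIdeal hc ((yon S).map w ≫ g)))).1 (by rw [Ideal.mk_ker]) hx))

/-- Locally, a map from an affine scheme factors through an affine etale chart. -/
theorem exists_local_chart (hT' : IsAlgSpace T') {V : Over S} [IsAffine V.left]
    (g : (yon S).obj V ⟶ T') (p : PrimeSpectrum Γ(V.left, ⊤)) :
    ∃ (V₀ P : Over S) (_ : IsAffine V₀.left) (_ : IsAffine P.left) (b : (yon S).obj V₀ ⟶ T')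
      (w : P ⟶ V) (w₀ : P ⟶ V₀) (q : PrimeSpectrum Γ(P.left, ⊤)),
      RepWith @Etale b ∧ w.left.appTop.hom.Flat ∧ (yon S).map w ≫ g = (yon S).map w₀ ≫ b ∧
      PrimeSpectrum.comap w.left.appTop.hom q = p := by
  obtain ⟨U, b, hb, hbs⟩ := hT'.atlas
  let e := hb.rep.snd g
  haveI : Etale e.left := hb.property_snd g
  haveI : Surjective e.left := hbs.property g _ _ (hb.rep.isPullback g)
  obtain ⟨r, hr⟩ : ∃ r : hb.rep.pullback g ⟶ U, (yon S).map r = hb.rep.fst g := (yon S).map_surjective _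
  obtain ⟨z, hz⟩ := e.left.surjective (V.left.isoSpec.inv p)
  obtain ⟨U₀, hU₀, hzU, -⟩ := exists_isAffineOpen_mem_and_subset (U := (⊤ : U.left.Opens)) (x := r.left z) trivial
  obtain ⟨O, hO, hzO, hOU⟩ := exists_isAffineOpen_mem_and_subset (U := r.left ⁻¹ᵁ U₀) (x := z) hzU
  haveI : IsAffine U₀.toScheme := hU₀
  haveI : IsAffine O.toScheme := hO
  let V₀ : Over S := Over.mk (U₀.ι ≫ U.hom)
  let P : Over S := Over.mk (O.ι ≫ (hb.rep.pullback g).hom)
  haveI : IsAffine V₀.left := hU₀
  haveI : IsAffine P.left := hO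
  let ι₀ : V₀ ⟶ U := Over.homMk U₀.ι rfl
  let ιP : P ⟶ hb.rep.pullback g := Over.homMk O.ι rfl
  let w₀ : P ⟶ V₀ := Over.homMk (r.left.resLE U₀ O hOU) (by
    show r.left.resLE U₀ O hOU ≫ U₀.ι ≫ U.hom = O.ι ≫ (hb.rep.pullback g).hom
    exact ((Category.assoc _ _ _).symm.trans (congrArg (· ≫ U.hom) (Scheme.Hom.resLE_comp_ι _ _))).trans
      ((Category.assoc _ _ _).trans (congrArg (O.ι ≫ ·) (Over.w r))))
  have h0 : w₀ ≫ ι₀ = ιP ≫ r := Over.OverMorphism.ext (Scheme.Hom.resLE_comp_ι _ _)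
  haveI : Etale (ιP ≫ e).left := inferInstanceAs (Etale (O.ι ≫ e.left))
  have hflat : (ιP ≫ e).left.appTop.hom.Flat :=
    HasRingHomProperty.appTop (P := @Flat.{u}) (ιP ≫ e).left inferInstance
  refine ⟨V₀, P, ‹_›, ‹_›, (yon S).map ι₀ ≫ b, ιP ≫ e, w₀, P.left.isoSpec.hom ⟨z, hzO⟩,
    etale_openImm_comp hb U₀, hflat, ?_, ?_⟩
  · rw [Functor.map_comp, Category.assoc, ← (hb.rep.isPullback g).w, ← hr,
      ← Functor.map_comp_assoc, ← h0, Functor.map_comp, Category.assoc]
  · have h1 := congr($(Scheme.isoSpec_hom_naturality (ιP ≫ e).left) ⟨z, hzO⟩)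
    simp only [Scheme.Hom.comp_apply] at h1
    refine h1.trans ?_
    change V.left.isoSpec.hom ((ιP ≫ e).left ⟨z, hzO⟩) = p
    have h2 : (ιP ≫ e).left ⟨z, hzO⟩ = V.left.isoSpec.inv p := hz
    rw [h2]
    exact congr($(V.left.isoSpec.inv_hom_id) p)

end Groth.Agent.SpFP87
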