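import Groth.Agent.Desc59.EtaleDim
import Mathlib.AlgebraicGeometry.AlgClosed.Basic
import Mathlib.AlgebraicGeometry.Morphisms.QuasiFinite
import Mathlib.FieldTheory.PrimitiveElement
import Mathlib.FieldTheory.PurelyInseparable.Basic
import Mathlib.RingTheory.Etale.StandardEtale
import Mathlib.RingTheory.Polynomial.ScaleRoots

/-!
Etale neighbourhoods separating the embeddings of a finite extension of a residue field, and
descent of field-valued points to finite extensions.
-/

set_option autoImplicit false
set_option linter.style.haveILetI false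
set_option backward.isDefEq.respectTransparency false
universe u

open CategoryTheory CategoryTheory.Limits AlgebraicGeometry Polynomial

namespace Groth.Agent.SpFP87

variable {U V : Scheme.{u}}

theorem finite_left {k F E : Type u} [Field k] [Field F] [Field E] (a : k →+* F) (b : F →+* E)
    (h : (b.comp a).Finite) : a.Finite := by
  algebraize [a, b, b.comp a]
  haveI : Module.Finite k E := h
  exact Module.Finite.of_injective (IsScalarTower.toAlgHom k F E).toLinearMap (algebraMap F E).injective

/-- Some point of every nonempty fibre has finite residue extension. -/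
theorem exists_point_finite_residueFieldMap (π : U ⟶ V) [LocallyOfFiniteType π] (u : U) :
    ∃ w, π w = π u ∧ (π.residueFieldMap w).hom.Finite := by
  let v := π u
  haveI : JacobsonSpace ↥(Spec (V.residueField v)) := inferInstanceAs (JacobsonSpace (PrimeSpectrum (V.residueField v)))
  haveI : LocallyOfFiniteType (π.fiberToSpecResidueField v) :=
    MorphismProperty.pullback_snd (P := @LocallyOfFiniteType) _ _ inferInstance
  haveI : JacobsonSpace ↥(π.fiber v) := LocallyOfFiniteType.jacobsonSpace (π.fiberToSpecResidueField v)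
  haveI : Nonempty ↥(π.fiber v) := ⟨π.asFiber u⟩
  obtain ⟨x, -, hx⟩ := nonempty_inter_closedPoints (X := ↥(π.fiber v)) (Z := Set.univ) ⟨π.asFiber u, trivial⟩
    isClosed_univ.isLocallyClosed
  have hfin : IsFinite ((π.fiber v).fromSpecResidueField x ≫ π.fiberToSpecResidueField v) := by
    rw [mem_closedPoints_iff, isClosed_singleton_iff_isClosedImmersion] at hx
    rw [isFinite_iff_locallyOfFiniteType_of_jacobsonSpace]
    infer_instance
  let w : U := π.fiberι v x
  have hw : π w = v := (π.range_fiberι v).le ⟨x, rfl⟩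
  have key : Spec.map ((π.fiberι v).residueFieldMap x) ≫ Spec.map (π.residueFieldMap w) =
      ((π.fiber v).fromSpecResidueField x ≫ π.fiberToSpecResidueField v) ≫
        Spec.map (V.residueFieldCongr hw).hom := by
    rw [← cancel_mono (V.fromSpecResidueField (π w))]
    have e1 : Spec.map (π.residueFieldMap w) ≫ V.fromSpecResidueField (π w) = U.fromSpecResidueField w ≫ π :=
      Scheme.Hom.SpecMap_residueFieldMap_fromSpecResidueField π w
    have e2 : Spec.map ((π.fiberι v).residueFieldMap x) ≫ U.fromSpecResidueField w =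
        (π.fiber v).fromSpecResidueField x ≫ π.fiberι v :=
      Scheme.Hom.SpecMap_residueFieldMap_fromSpecResidueField (π.fiberι v) x
    have e3 : π.fiberι v ≫ π = π.fiberToSpecResidueField v ≫ V.fromSpecResidueField v := pullback.condition
    rw [Category.assoc, Category.assoc, Category.assoc, e1, Scheme.residueFieldCongr_fromSpecResidueField,
      reassoc_of% e2, e3]
  haveI : IsFinite (Spec.map ((π.fiberι v).residueFieldMap x) ≫ Spec.map (π.residueFieldMap w)) := by
    rw [key]; infer_instance
  rw [← Spec.map_comp] at this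
  have h2 := (IsFinite.SpecMap_iff _).1 this
  refine ⟨w, hw, ?_⟩
  exact finite_left (π.residueFieldMap w).hom ((π.fiberι v).residueFieldMap x).hom h2

/-- Finite residue extensions propagate along two etale maps with equal composite. -/
theorem finite_residueFieldMap_propagate {R : Scheme.{u}} (π : U ⟶ V) (t s : R ⟶ U) [Etale t]
    (h : t ≫ π = s ≫ π) (r : R) (hf : (π.residueFieldMap (t r)).hom.Finite) :
    (π.residueFieldMap (s r)).hom.Finite := by
  have h1 : ((t ≫ π).residueFieldMap r).hom.Finite := by
    rw [Scheme.residueFieldMap_comp]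
    exact RingHom.Finite.comp (Desc59.EtaleDim.finite_residueFieldMap t r) hf
  rw [Scheme.Hom.residueFieldMap_congr h, Scheme.residueFieldMap_comp] at h1
  obtain ⟨h1', -⟩ : (π.residueFieldMap (s r) ≫ s.residueFieldMap r).hom.Finite ∧ True := by
    have h3 := RingHom.Finite.comp h1 (RingHom.Finite.of_surjective
      (V.residueFieldCongr (show (t ≫ π) r = (s ≫ π) r by rw [h])).inv.hom
      (ConcreteCategory.bijective_of_isIso _).2)
    rw [← CommRingCat.hom_comp, Iso.inv_hom_id_assoc] at h3
    exact ⟨h3, trivial⟩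
  exact finite_left _ (s.residueFieldMap r).hom h1'

/-- Two field-valued points with the same image downstairs and finite residue extensions descend
to a common finite extension of the residue field of that image. -/
theorem exists_finite_factor (π : U ⟶ V) {K : Type u} [Field K] (α β : Spec (CommRingCat.of K) ⟶ U)
    (h : α ≫ π = β ≫ π) (ha : (π.residueFieldMap (α (IsLocalRing.closedPoint K))).hom.Finite)
    (hb : (π.residueFieldMap (β (IsLocalRing.closedPoint K))).hom.Finite) :
    ∃ (v : V) (L : Type u) (_ : Field L) (χ : V.residueField v →+* L) (ι : L →+* K)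
      (α₀ β₀ : Spec (CommRingCat.of L) ⟶ U), χ.Finite ∧
        Spec.map (CommRingCat.ofHom ι) ≫ α₀ = α ∧ Spec.map (CommRingCat.ofHom ι) ≫ β₀ = β ∧
        α₀ ≫ π = Spec.map (CommRingCat.ofHom χ) ≫ V.fromSpecResidueField v ∧
        β₀ ≫ π = Spec.map (CommRingCat.ofHom χ) ≫ V.fromSpecResidueField v := by
  have key : ∀ (γ : Spec (CommRingCat.of K) ⟶ U), ∃ φ : U.residueField (γ (IsLocalRing.closedPoint K)) ⟶ CommRingCat.of K,
      Spec.map φ ≫ U.fromSpecResidueField _ = γ := fun γ =>
    ⟨_, Scheme.descResidueField_stalkClosedPointTo_fromSpecResidueField K U γ⟩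
  obtain ⟨φa, hφa⟩ := key α
  obtain ⟨φb, hφb⟩ := key β
  generalize α (IsLocalRing.closedPoint K) = a at ha φa hφa
  generalize hbpt : β (IsLocalRing.closedPoint K) = b at hb φb hφb
  have hva : (α ≫ π) (IsLocalRing.closedPoint K) = π a := by
    rw [← hφa, Scheme.Hom.comp_apply, Scheme.Hom.comp_apply, Scheme.fromSpecResidueField_apply]
  have hv : π a = π b := by
    rw [← hva, h, Scheme.Hom.comp_apply, hbpt]
  let ψa := π.residueFieldMap a
  let ψb := (V.residueFieldCongr hv).hom ≫ π.residueFieldMap b
  have e0 : ψa ≫ φa = ψb ≫ φb := by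
    apply Spec.map_injective
    rw [← cancel_mono (V.fromSpecResidueField (π a))]
    simp only [ψa, ψb, Spec.map_comp, Category.assoc, Scheme.residueFieldCongr_fromSpecResidueField]
    rw [Scheme.Hom.SpecMap_residueFieldMap_fromSpecResidueField, reassoc_of% hφa,
      Scheme.Hom.SpecMap_residueFieldMap_fromSpecResidueField, reassoc_of% hφb, h]
  have hψb : ψb.hom.Finite := hb.comp (RingHom.Finite.of_surjective _ (ConcreteCategory.bijective_of_isIso _).2)
  letI := (φa.hom.comp ψa.hom).toAlgebra
  letI := ψa.hom.toAlgebra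
  letI := ψb.hom.toAlgebra
  haveI : Module.Finite (V.residueField (π a)) (U.residueField a) := ha
  haveI : Module.Finite (V.residueField (π a)) (U.residueField b) := hψb
  let fa : U.residueField a →ₐ[V.residueField (π a)] K := { φa.hom with commutes' := fun _ => rfl }
  let fb : U.residueField b →ₐ[V.residueField (π a)] K :=
    { φb.hom with commutes' := fun c => (ConcreteCategory.congr_hom e0 c).symm }
  let M : IntermediateField (V.residueField (π a)) K := fa.fieldRange ⊔ fb.fieldRange
  haveI : FiniteDimensional (V.residueField (π a)) fa.fieldRange := Module.Finite.range fa.toLinearMap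
  haveI : FiniteDimensional (V.residueField (π a)) fb.fieldRange := Module.Finite.range fb.toLinearMap
  let ga : U.residueField a →+* M :=
    φa.hom.codRestrict M.toSubfield fun z => SetLike.le_def.1 (le_sup_left (b := fb.fieldRange)) ⟨z, rfl⟩
  let gb : U.residueField b →+* M :=
    φb.hom.codRestrict M.toSubfield fun z => SetLike.le_def.1 (le_sup_right (a := fa.fieldRange)) ⟨z, rfl⟩
  refine ⟨π a, M, inferInstance, algebraMap _ M, algebraMap M K,
    Spec.map (CommRingCat.ofHom ga) ≫ U.fromSpecResidueField a,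
    Spec.map (CommRingCat.ofHom gb) ≫ U.fromSpecResidueField b,
    (RingHom.finite_algebraMap).2 inferInstance, ?_, ?_, ?_, ?_⟩
  · rw [← Spec.map_comp_assoc]; exact hφa
  · rw [← Spec.map_comp_assoc]; exact hφb
  · rw [Category.assoc, ← Scheme.Hom.SpecMap_residueFieldMap_fromSpecResidueField, ← Spec.map_comp_assoc]
    rfl
  · rw [Category.assoc, ← Scheme.Hom.SpecMap_residueFieldMap_fromSpecResidueField,
      ← Scheme.residueFieldCongr_fromSpecResidueField hv.symm, ← Spec.map_comp_assoc,
      ← Spec.map_comp_assoc]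
    congr 2
    ext c
    show φb.hom (π.residueFieldMap b c) = φa.hom (ψa.hom ((V.residueFieldCongr hv.symm).hom c))
    have := ConcreteCategory.congr_hom e0 ((V.residueFieldCongr hv.symm).hom c)
    refine Eq.trans ?_ this.symm
    show φb.hom (π.residueFieldMap b c) =
      φb.hom (π.residueFieldMap b (((V.residueFieldCongr hv.symm).hom ≫ (V.residueFieldCongr hv).hom) c))
    rw [Scheme.residueFieldCongr_trans_hom]
    simp

/-- The etale neighbourhood separating embeddings. -/
theorem exists_etale_separating {v : V} {L : Type u} [Field L]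
    (χ : V.residueField v →+* L) (hχ : χ.Finite) :
    ∃ (V' : Scheme.{u}) (e : V' ⟶ V) (l : Spec (CommRingCat.of L) ⟶ V'), Etale e ∧
      l ≫ e = Spec.map (CommRingCat.ofHom χ) ≫ V.fromSpecResidueField v ∧
      ∀ (Ω : Type u) [Field Ω] (j₁ j₂ : L →+* Ω),
        Spec.map (CommRingCat.ofHom j₁) ≫ l = Spec.map (CommRingCat.ofHom j₂) ≫ l → j₁ = j₂ := by
  obtain ⟨_, ⟨O, hO, rfl⟩, hv, -⟩ :=
    V.isBasis_affineOpens.exists_subset_of_mem_open (Set.mem_univ v) isOpen_univ
  let A := Γ(V, O)
  let κ := (V.residueField v : Type u)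
  let χA : A →+* κ := (V.evaluation O v hv).hom
  letI : Algebra κ L := χ.toAlgebra
  haveI : Module.Finite κ L := hχ
  letI : Algebra A L := (χ.comp χA).toAlgebra
  letI algst : Algebra A (V.presheaf.stalk v) := (V.presheaf.germ O v hv).hom.toAlgebra
  haveI : IsLocalization.AtPrime (V.presheaf.stalk v) (hO.primeIdealOf ⟨v, hv⟩).asIdeal :=
    hO.isLocalization_stalk ⟨v, hv⟩
  have hnz : ∀ s : (hO.primeIdealOf ⟨v, hv⟩).asIdeal.primeCompl, χA s ≠ 0 := fun s =>
    ((IsLocalization.map_units (V.presheaf.stalk v) s).map (V.residue v).hom).ne_zero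
  have hfrac : ∀ (T : Finset ℕ) (c : ℕ → κ), ∃ s : A, χA s ≠ 0 ∧ ∀ i ∈ T, ∃ b : A, χA b = χA s * c i := by
    intro T c
    choose y hy using fun i => V.residue_surjective v (c i)
    obtain ⟨s, hs⟩ := IsLocalization.exist_integer_multiples
      (hO.primeIdealOf ⟨v, hv⟩).asIdeal.primeCompl T y
    refine ⟨s, hnz s, fun i hi => ?_⟩
    obtain ⟨b, hb⟩ := hs i hi
    refine ⟨b, ?_⟩
    have h := congrArg (V.residue v).hom hb
    rw [Algebra.smul_def, map_mul, hy i] at h
    exact h
  obtain ⟨α, hα⟩ := Field.exists_primitive_element κ (separableClosure κ L)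
  obtain ⟨s, hs, hsb⟩ := hfrac (Finset.range (minpoly κ α).natDegree) (minpoly κ α).coeff
  let θ : separableClosure κ L := algebraMap κ _ (χA s) * α
  have hθint : IsIntegral κ θ := Algebra.IsIntegral.isIntegral θ
  have hmin : minpoly κ θ = scaleRoots (minpoly κ α) (χA s) := by
    refine (minpoly.unique κ θ ((monic_scaleRoots_iff _).2 (minpoly.monic (Algebra.IsIntegral.isIntegral α)))
      (scaleRoots_aeval_eq_zero (minpoly.aeval κ α)) fun q hq hqθ => ?_).symm
    have h := scaleRoots_aeval_eq_zero (r := (χA s)⁻¹) hqθ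
    rw [show algebraMap κ (separableClosure κ L) (χA s)⁻¹ * θ = α by
      rw [← mul_assoc, ← map_mul, inv_mul_cancel₀ hs, map_one, one_mul]] at h
    rw [degree_scaleRoots, ← degree_scaleRoots q (s := (χA s)⁻¹)]
    exact minpoly.min κ α ((monic_scaleRoots_iff _).2 hq) h
  have hlifts : scaleRoots (minpoly κ α) (χA s) ∈ lifts χA := by
    rw [lifts_iff_coeff_lifts]
    intro i
    rw [coeff_scaleRoots]
    rcases lt_trichotomy i (minpoly κ α).natDegree with hi | hi | hi
    · obtain ⟨b, hb⟩ := hsb i (Finset.mem_range.2 hi)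
      refine ⟨b * s ^ ((minpoly κ α).natDegree - i - 1), ?_⟩
      rw [map_mul, map_pow, hb, mul_comm (χA s), mul_assoc, ← pow_succ']
      congr 2
      omega
    · subst hi
      exact ⟨1, by rw [map_one, (minpoly.monic (Algebra.IsIntegral.isIntegral α)).coeff_natDegree, Nat.sub_self, pow_zero, one_mul]⟩
    · exact ⟨0, by rw [coeff_eq_zero_of_natDegree_lt hi, zero_mul, map_zero]⟩
  obtain ⟨f, hf, -, hfm⟩ := lifts_and_degree_eq_and_monic hlifts
    ((monic_scaleRoots_iff _).2 (minpoly.monic (Algebra.IsIntegral.isIntegral α)))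
  let P : StandardEtalePair A := ⟨f, hfm, derivative f, 1, 0, 1, by simp⟩
  have haev : ∀ p : A[X], aeval (θ : L) p = ((aeval θ (p.map χA) : separableClosure κ L) : L) := fun p => by
    rw [← IntermediateField.aeval_coe, aeval_def, aeval_def, eval₂_map]
    rfl
  have hmap : P.HasMap (θ : L) := by
    refine ⟨?_, ?_⟩
    · show aeval (θ : L) f = 0
      rw [haev, hf, ← hmin, minpoly.aeval, ZeroMemClass.coe_zero]
    · show IsUnit (aeval (θ : L) (derivative f))
      rw [isUnit_iff_ne_zero, haev, ← derivative_map, hf, ← hmin, ne_eq, ZeroMemClass.coe_eq_zero]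
      exact (Algebra.IsSeparable.isSeparable κ θ).aeval_derivative_ne_zero (minpoly.aeval κ θ)
  let ψ : P.Ring →ₐ[A] L := P.lift (θ : L) hmap
  let e : Spec (CommRingCat.of P.Ring) ⟶ V :=
    Spec.map (CommRingCat.ofHom (algebraMap A P.Ring)) ≫ hO.fromSpec
  have he : Etale e := by
    haveI : Etale (Spec.map (CommRingCat.ofHom (algebraMap A P.Ring))) :=
      (HasRingHomProperty.Spec_iff (P := @Etale)).2 (RingHom.etale_algebraMap.2 inferInstance)
    exact inferInstanceAs (Etale (_ ≫ _))
  have hl : Spec.map (CommRingCat.ofHom ψ.toRingHom) ≫ e =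
      Spec.map (CommRingCat.ofHom χ) ≫ V.fromSpecResidueField v := by
    have h1 : Spec.map (CommRingCat.ofHom χA) ≫ hO.fromSpec = V.fromSpecResidueField v := by
      rw [Scheme.fromSpecResidueField, ← hO.fromSpecStalk_eq_fromSpecStalk hv, IsAffineOpen.fromSpecStalk,
        ← Spec.map_comp_assoc]
      rfl
    rw [← h1, ← Spec.map_comp_assoc, ← Spec.map_comp_assoc]
    congr 2
    ext a
    exact ψ.commutes a
  refine ⟨_, e, Spec.map (CommRingCat.ofHom ψ.toRingHom), he, hl, fun Ω _ j₁ j₂ hj => ?_⟩
  rw [← Spec.map_comp, ← Spec.map_comp] at hj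
  have hj' : ∀ r, j₁ (ψ r) = j₂ (ψ r) := fun r =>
    ConcreteCategory.congr_hom (Spec.map_injective hj) r
  have hA : ∀ a : A, j₁ (χ (χA a)) = j₂ (χ (χA a)) := fun a => by
    have := hj' (algebraMap A P.Ring a)
    rwa [ψ.commutes] at this
  have hκ : ∀ c : κ, j₁ (χ c) = j₂ (χ c) := by
    intro c
    obtain ⟨t, ht, hb⟩ := hfrac {0} fun _ => c
    obtain ⟨b, hb⟩ := hb 0 (Finset.mem_singleton_self 0)
    have h := hA b
    rw [hb, map_mul, map_mul, map_mul, hA t] at h
    exact mul_left_cancel₀ ((_root_.map_ne_zero j₂).2 ((_root_.map_ne_zero χ).2 ht)) h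
  let E := (RingHom.eqLocusField j₁ j₂).toIntermediateField (K := κ) hκ
  have hθE : (θ : L) ∈ E := by
    have := hj' P.X
    rwa [P.lift_X] at this
  have hαE : (α : L) ∈ E := by
    have h : ((algebraMap κ L (χA s))⁻¹ * (θ : L)) ∈ E := mul_mem (inv_mem (E.algebraMap_mem _)) hθE
    have e1 : (θ : L) = algebraMap κ L (χA s) * (α : L) := rfl
    rwa [e1, ← mul_assoc, inv_mul_cancel₀ ((_root_.map_ne_zero _).2 hs), one_mul] at h
  have hle : separableClosure κ L ≤ E := by
    have := congrArg IntermediateField.lift hα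
    rw [IntermediateField.lift_adjoin_simple, IntermediateField.lift_top] at this
    rw [← this, IntermediateField.adjoin_simple_le_iff]
    exact hαE
  exact IsPurelyInseparable.injective_comp_algebraMap (separableClosure κ L) L Ω
    (RingHom.ext fun c => hle c.2)

end Groth.Agent.SpFP87
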