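import Groth.Agent.SpFP87.Covers
/-!
Descent of morphisms out of representable sheaves along fppf families.
-/

set_option autoImplicit false
universe u
open CategoryTheory CategoryTheory.Limits AlgebraicGeometry Opposite

namespace Groth.Agent.SpFP87
open AlgSp

variable {S : Scheme.{u}}

theorem fam_existsUnique_desc {F : Sp S} {T : Over S} {ι : Type u} (V : ι → Over S) (c : ∀ i, V i ⟶ T)
    (hc : ∀ i, Flat (c i).left ∧ LocallyOfFinitePresentation (c i).left)
    (hsurj : ∀ t : ↥T.left, ∃ i, t ∈ Set.range (c i).left) (e : ∀ i, (yon S).obj (V i) ⟶ F)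
    (h : ∀ (i j : ι) (Z : Over S) (p : Z ⟶ V i) (q : Z ⟶ V j), p ≫ c i = q ≫ c j →
      (yon S).map p ≫ e i = (yon S).map q ≫ e j) :
    ∃! a : (yon S).obj T ⟶ F, ∀ i, (yon S).map (c i) ≫ a = e i := by
  have hsh : Presieve.IsSheafFor F.obj (Presieve.ofArrows V c) :=
    (Presieve.isSheafFor_iff_generate _).2
      (((isSheaf_iff_isSheaf_of_type _ _).1 F.property) _ (ofArrows_mem_of_fppf V c hc hsurj))
  obtain ⟨y, hy, huniq⟩ := (Presieve.isSheafFor_arrows_iff _ _).1 hsh (fun i => (uE (S := S)) (e i))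
    (fun i j Z p q hpq => by
      rw [GrothendieckTopology.uliftYonedaEquiv_naturality, GrothendieckTopology.uliftYonedaEquiv_naturality,
        h i j Z p q hpq])
  have key : ∀ (a : (yon S).obj T ⟶ F) (i : ι), (yon S).map (c i) ≫ a = e i ↔
      F.obj.map (c i).op ((uE (S := S)) a) = (uE (S := S)) (e i) := fun a i => by
    rw [GrothendieckTopology.uliftYonedaEquiv_naturality]
    exact ((uE (S := S)).injective.eq_iff).symm
  exact ⟨(uE (S := S)).symm y, fun i => (key _ i).2 (by rw [Equiv.apply_symm_apply]; exact hy i),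
    fun a ha => (Equiv.eq_symm_apply _).2 (huniq _ fun i => (key a i).1 (ha i))⟩

theorem fam_hom_ext {F : Sp S} {T : Over S} {ι : Type u} (V : ι → Over S) (c : ∀ i, V i ⟶ T)
    (hc : ∀ i, Flat (c i).left ∧ LocallyOfFinitePresentation (c i).left)
    (hsurj : ∀ t : ↥T.left, ∃ i, t ∈ Set.range (c i).left) {a b : (yon S).obj T ⟶ F}
    (h : ∀ i, (yon S).map (c i) ≫ a = (yon S).map (c i) ≫ b) : a = b :=
  (fam_existsUnique_desc V c hc hsurj (fun i => (yon S).map (c i) ≫ b) fun i j Z p q hpq => by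
    rw [← Functor.map_comp_assoc, hpq, Functor.map_comp_assoc]).unique h (fun _ => rfl)

/-- The affine opens of a scheme over `S`, as a covering family. -/
theorem affineOpens_cover (T : Over S) :
    let V : T.left.affineOpens → Over S := fun U => Over.mk (U.1.ι ≫ T.hom)
    let c : ∀ U, V U ⟶ T := fun U => Over.homMk U.1.ι rfl
    (∀ U, Flat (c U).left ∧ LocallyOfFinitePresentation (c U).left) ∧
      ∀ t : ↥T.left, ∃ U, t ∈ Set.range (c U).left := by
  refine ⟨fun U => ⟨inferInstanceAs (Flat U.1.ι), inferInstanceAs (LocallyOfFinitePresentation U.1.ι)⟩,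
    fun t => ?_⟩
  obtain ⟨U, hU, ht, -⟩ := exists_isAffineOpen_mem_and_subset (U := (⊤ : T.left.Opens)) (x := t) trivial
  exact ⟨⟨U, hU⟩, ⟨t, ht⟩, rfl⟩

end Groth.Agent.SpFP87
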