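import Groth.Agent.SpPts86.Basic
import Groth.Agent.SpPts86.FieldBase
import Mathlib.AlgebraicGeometry.Geometrically.Connected
import Mathlib.AlgebraicGeometry.Morphisms.Integral
/-!
Topology of representable morphisms: open and closed maps, connected fibres, connected components.
-/

set_option autoImplicit false
set_option linter.style.haveILetI false
set_option backward.isDefEq.respectTransparency false
universe u
open CategoryTheory CategoryTheory.Limits AlgebraicGeometry Opposite Topology
open AlgSp
open Groth.Agent.SpPts86

namespace Groth.Agent.SpFP87.GC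

/-- An open surjection with connected fibres is a bijection on connected components. -/
theorem bijective_connectedComponentsMap {A B : Type*} [TopologicalSpace A] [TopologicalSpace B] {p : A → B}
    (hc : Continuous p) (ho : IsOpenMap p) (hf : ∀ b, IsConnected (p ⁻¹' {b})) :
    Function.Bijective hc.connectedComponentsMap := by
  have hq : IsQuotientMap p := ho.isQuotientMap hc fun b => (hf b).nonempty
  constructor
  · intro c c' h
    obtain ⟨a, rfl⟩ := ConnectedComponents.surjective_coe c
    obtain ⟨a', rfl⟩ := ConnectedComponents.surjective_coe c'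
    have h' : connectedComponent (p a) = connectedComponent (p a') := ConnectedComponents.coe_eq_coe.1 h
    refine ConnectedComponents.coe_eq_coe'.2 ?_
    rw [← hq.preimage_connectedComponent hf a']
    exact h'.symm ▸ mem_connectedComponent
  · intro c
    obtain ⟨b, rfl⟩ := ConnectedComponents.surjective_coe c
    obtain ⟨a, rfl⟩ := hq.surjective b
    exact ⟨a, rfl⟩

/-- A space mapping openly onto a connected space with connected fibres is connected. -/
theorem connectedSpace_of_fibres {A B : Type*} [TopologicalSpace A] [TopologicalSpace B] [ConnectedSpace B]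
    {p : A → B} (hc : Continuous p) (ho : IsOpenMap p) (hf : ∀ b, IsConnected (p ⁻¹' {b})) :
    ConnectedSpace A := by
  have hq : IsQuotientMap p := ho.isQuotientMap hc fun b => (hf b).nonempty
  obtain ⟨a, -⟩ := (hf (Classical.arbitrary B)).nonempty
  refine connectedSpace_iff_connectedComponent.2 ⟨a, Set.eq_univ_of_forall fun x => ?_⟩
  rw [← hq.preimage_connectedComponent hf a, Set.mem_preimage, PreconnectedSpace.connectedComponent_eq_univ]
  trivial

variable {S : Scheme.{u}} {F G : Sp S}

theorem isOpenMap_of_repWith {f : F ⟶ G} (hf : RepWith @UniversallyOpen f) : IsOpenMap (Points.map f) := by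
  intro O hO
  refine Points.isOpen_iff.2 fun T g => ?_
  rw [preimage_ofPt_image_map (hf.rep.isPullback g)]
  haveI : UniversallyOpen (hf.rep.snd g).left := hf.property_snd g
  exact (hf.rep.snd g).left.isOpenMap _ (hO.preimage (Points.continuous_ofPt _))

theorem isClosedMap_of_repWith {f : F ⟶ G} (hf : RepWith @UniversallyClosed f) : IsClosedMap (Points.map f) := by
  intro Z hZ
  rw [← isOpen_compl_iff]
  refine Points.isOpen_iff.2 fun T g => ?_
  rw [Set.preimage_compl, isOpen_compl_iff, preimage_ofPt_image_map (hf.rep.isPullback g)]
  haveI : UniversallyClosed (hf.rep.snd g).left := hf.property_snd g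
  exact (hf.rep.snd g).left.isClosedMap _ (hZ.preimage (Points.continuous_ofPt _))

theorem surjective_of_repWith {f : F ⟶ G} (hf : RepWith @Surjective f) : Function.Surjective (Points.map f) :=
  isSurjectiveMor_of_repWith hf

/-- A representable geometrically connected morphism has connected fibres on points. -/
theorem isConnected_fibre_of_repWith {f : F ⟶ G} (hf : RepWith @GeometricallyConnected f) (y : Points G) :
    IsConnected (Points.map f ⁻¹' {y}) := by
  induction y using Points.ind with
  | h q =>
    have sq := hf.rep.isPullback q.toHom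
    haveI : GeometricallyConnected (hf.rep.snd q.toHom).left := hf.property_snd q.toHom
    haveI : Subsingleton ↥q.pt.left := inferInstanceAs (Subsingleton (PrimeSpectrum q.K))
    haveI : ConnectedSpace ↥q.pt.left := inferInstanceAs (ConnectedSpace (PrimeSpectrum q.K))
    haveI : ConnectedSpace ↥(hf.rep.pullback q.toHom).left :=
      GeometricallyConnected.connectedSpace (f := (hf.rep.snd q.toHom).left) fun _ _ => isOpen_discrete _
    suffices Points.map f ⁻¹' {Points.mk q} = Set.range (Points.ofPt (hf.rep.fst q.toHom)) by
      rw [this]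
      exact isConnected_range (Points.continuous_ofPt _)
    ext x
    constructor
    · intro hx
      obtain ⟨v, hv, -⟩ := exists_pt_of_isPullback sq x (IsLocalRing.closedPoint q.K)
        (hx.trans (Points.ofPt_toHom q _).symm)
      exact ⟨v, hv⟩
    · rintro ⟨v, rfl⟩
      exact (map_ofPt_fst sq v).trans (Points.ofPt_toHom q _)

/-! Products. -/

variable {X Y : Sp S}

theorem isPullback_prod_map (g : F ⟶ G) :
    IsPullback (prod.map (𝟙 X) g) (prod.snd : X ⨯ F ⟶ F) (prod.snd : X ⨯ G ⟶ G) g := by
  refine ⟨⟨by simp⟩, ⟨PullbackCone.IsLimit.mk _ (fun s => prod.lift (s.fst ≫ prod.fst) s.snd)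
    (fun s => ?_) (fun s => prod.lift_snd _ _) (fun s m h1 h2 => ?_)⟩⟩
  · apply Limits.prod.hom_ext <;> simp [s.condition]
  · apply Limits.prod.hom_ext
    · simp [← h1]
    · simp [h2]

theorem isPullback_prod_snd (T : Sp S) (hT : IsTerminal T) :
    IsPullback (prod.fst : X ⨯ Y ⟶ X) prod.snd (hT.from X) (hT.from Y) :=
  IsPullback.of_is_product (prodIsProd X Y) hT

theorem repWith_prod_map (P : MorphismProperty Scheme.{u}) [P.IsStableUnderBaseChange] {L' L : Over S}
    (g : L' ⟶ L) (h : P g.left) :
    RepWith P (prod.map (𝟙 X) ((yon S).map g)) :=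
  (repWith_isStableUnderBaseChange _).of_isPullback (isPullback_prod_map ((yon S).map g)).flip
    ((repWith_yon_map_iff _ _).2 h)

theorem repWith_fst (P : MorphismProperty Scheme.{u}) [P.IsStableUnderBaseChange] (L : Over S) (h : P L.hom) :
    RepWith P (prod.fst : X ⨯ (yon S).obj L ⟶ X) := by
  let hT : IsTerminal ((yon S).obj (Over.mk (𝟙 S))) := IsTerminal.isTerminalObj (yon S) _ Over.mkIdTerminal
  refine (repWith_isStableUnderBaseChange _).of_isPullback (isPullback_prod_snd _ hT).flip ?_
  have e : hT.from ((yon S).obj L) = (yon S).map (Over.homMk L.hom (Category.comp_id _) : L ⟶ Over.mk (𝟙 S)) :=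
    hT.hom_ext _ _
  rw [e]
  exact (repWith_yon_map_iff _ _).2 h

end Groth.Agent.SpFP87.GC
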