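import Groth.Agent.SpFP87.GoodLocus
import Mathlib.RingTheory.Etale.StandardEtale
import Mathlib.RingTheory.Unramified.LocalStructure
import Mathlib.FieldTheory.IsAlgClosed.AlgebraicClosure
/-!
Goodness descends along etale morphisms: induction on the number of geometric points of the fibres.
-/

set_option autoImplicit false
set_option linter.style.haveILetI false
set_option backward.isDefEq.respectTransparency false
universe u
open CategoryTheory CategoryTheory.Limits AlgebraicGeometry

namespace Groth.Agent.SpFP87

/-- At most `N` geometric points in every fibre of `g`. -/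
def GeomBdd (N : ℕ) {V' V : Scheme.{u}} (g : V' ⟶ V) : Prop :=
  ∀ (k : Type u) [Field k] [IsAlgClosed k] (p : Fin (N + 1) → (Spec (CommRingCat.of k) ⟶ V')),
    (∀ i j, p i ≫ g = p j ≫ g) → ∃ i j, i ≠ j ∧ p i = p j

variable {S : Scheme.{u}} {R : ∀ ⦃T V : Scheme.{u}⦄, (T ⟶ V) → (V ⟶ S) → Prop}

theorem BaseLocal.descGood_of_geomBdd (hR : BaseLocal R) : ∀ (N : ℕ) {V' V : Scheme.{u}} (g : V' ⟶ V)
    [Etale g] [IsSeparated g], GeomBdd N g → DescGood R g := by
  intro N
  induction N with
  | zero =>
    intro V' V g _ _ hN T T' a h' h sq v t' _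
    let y := h' t'
    obtain ⟨i, j, hij, -⟩ := hN (AlgebraicClosure (V'.residueField y))
      (fun _ => Spec.map (CommRingCat.ofHom (algebraMap (V'.residueField y) (AlgebraicClosure (V'.residueField y)))) ≫
        V'.fromSpecResidueField y) (fun _ _ => rfl)
    exact absurd (Subsingleton.elim (α := Fin 1) i j) hij
  | succ N ih =>
    intro V' V g _ _ hN
    refine hR.descGood_of_sameFib fun T T' a h' h sq v t' t'' e ht' => ?_
    obtain ⟨z, hz', hz''⟩ := Scheme.Pullback.exists_preimage_pullback (f := a) (g := a) t' t'' e.symm
    have sqA : IsPullback (pullback.fst a a) (pullback.snd a a) a a := IsPullback.of_hasPullback _ _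
    have sqV : IsPullback (pullback.fst g g) (pullback.snd g g) g g := IsPullback.of_hasPullback _ _
    let m : pullback a a ⟶ pullback g g := pullback.lift (pullback.fst a a ≫ h') (pullback.snd a a ≫ h')
      (by simp only [Category.assoc, ← sq.w, sqA.w_assoc])
    have hm1 : m ≫ pullback.fst g g = pullback.fst a a ≫ h' := pullback.lift_fst _ _ _
    have hm2 : m ≫ pullback.snd g g = pullback.snd a a ≫ h' := pullback.lift_snd _ _ _
    have sqm1 : IsPullback (pullback.fst a a) m h' (pullback.fst g g) := by
      have big : IsPullback (pullback.fst a a) (pullback.snd a a ≫ h') (a ≫ h) g := sqA.paste_vert sq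
      refine (IsPullback.of_right (h₁₁ := m) (t := sqV.flip) ?_ hm1).flip
      rw [hm2, ← sq.w]
      exact big.flip
    have sqm2 : IsPullback (pullback.snd a a) m h' (pullback.snd g g) := by
      have big : IsPullback (pullback.snd a a) (pullback.fst a a ≫ h') (a ≫ h) g := sqA.flip.paste_vert sq
      refine (IsPullback.of_right (h₁₁ := m) (t := sqV) ?_ hm2).flip
      rw [hm1, ← sq.w]
      exact big.flip
    have hg1 : Good R m (pullback.fst g g ≫ g ≫ v) z := hR.good_pullback sqm1 inferInstance (by rwa [hz'])
    by_cases hΔ : m z ∈ Set.range (pullback.diagonal g)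
    · obtain ⟨y, hy⟩ := hΔ
      obtain ⟨ζ, hζ, -⟩ := Scheme.Pullback.exists_preimage_pullback (f := m) (g := pullback.diagonal g) z y hy.symm
      have hc : pullback.fst m (pullback.diagonal g) ≫ pullback.fst a a =
          pullback.fst m (pullback.diagonal g) ≫ pullback.snd a a := by
        refine sq.hom_ext (by simp only [Category.assoc, sqA.w]) ?_
        simp only [Category.assoc, ← hm1, ← hm2, pullback.condition_assoc, pullback.diagonal_fst,
          pullback.diagonal_snd]
      have := congrArg (fun f => f ζ) hc
      simp only [Scheme.Hom.comp_apply, hζ, hz', hz''] at this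
      rwa [← this]
    · let D : (pullback g g).Opens := ⟨(Set.range (pullback.diagonal g))ᶜ,
        (pullback.diagonal g).isClosedEmbedding.isClosed_range.isOpen_compl⟩
      have hbd : GeomBdd N (D.ι ≫ pullback.snd g g) := fun k _ _ q hq => by
        let p : Fin (N + 1 + 1) → (Spec (CommRingCat.of k) ⟶ V') :=
          Fin.cons (q 0 ≫ D.ι ≫ pullback.snd g g) (fun i => q i ≫ D.ι ≫ pullback.fst g g)
        have hp : ∀ i, p i ≫ g = q 0 ≫ D.ι ≫ pullback.snd g g ≫ g := Fin.cases (by simp [p]) fun i => by
          simp only [p, Fin.cons_succ, Category.assoc, pullback.condition]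
          simpa only [Category.assoc] using (congrArg (· ≫ g) (hq i 0))
        have hdiag : ∀ i, q i ≫ D.ι ≫ pullback.fst g g ≠ q 0 ≫ D.ι ≫ pullback.snd g g := fun i hi => by
          have hfac : q i ≫ D.ι = (q i ≫ D.ι ≫ pullback.snd g g) ≫ pullback.diagonal g := by
            refine pullback.hom_ext ?_ ?_
            · simp only [Category.assoc, pullback.diagonal_fst, Category.comp_id, hi]
              simpa only [Category.assoc] using (hq i 0).symm
            · simp only [Category.assoc, pullback.diagonal_snd, Category.comp_id]
          let x : Spec (CommRingCat.of k) := IsLocalRing.closedPoint k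
          have : (q i ≫ D.ι) x ∈ Set.range (pullback.diagonal g) := by rw [hfac]; exact ⟨_, rfl⟩
          exact (q i x).2 this
        obtain ⟨i, j, hij, e'⟩ := hN k p (fun i j => by rw [hp, hp])
        cases i using Fin.cases with
        | zero => cases j using Fin.cases with
          | zero => exact absurd rfl hij
          | succ j => exact absurd e'.symm (hdiag j)
        | succ i => cases j using Fin.cases with
          | zero => exact absurd e' (hdiag i)
          | succ j =>
            refine ⟨i, j, fun h => hij (by rw [h]), (cancel_mono D.ι).1 (pullback.hom_ext ?_ ?_)⟩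
            · simpa only [p, Fin.cons_succ, Category.assoc] using e'
            · simpa only [Category.assoc] using hq i j
      have hd := ih (D.ι ≫ pullback.snd g g) hbd
      have sqD : IsPullback (pullback.fst m D.ι) (pullback.snd m D.ι) m D.ι := IsPullback.of_hasPullback _ _
      obtain ⟨ζ, hζ, -⟩ := Scheme.Pullback.exists_preimage_pullback (f := m) (g := D.ι) z
        ⟨m z, hΔ⟩ rfl
      have h2 : Good R (pullback.snd m D.ι) ((D.ι ≫ pullback.snd g g) ≫ g ≫ v) ζ := by
        have := hR.good_pullback sqD (inferInstanceAs (Smooth D.ι)) (hζ ▸ hg1)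
        simpa only [Category.assoc, pullback.condition_assoc] using this
      have := hd _ _ _ (sqD.paste_horiz sqm2) (g ≫ v) ζ h2
      rwa [Scheme.Hom.comp_apply, hζ, hz''] at this

/-- A standard etale algebra has at most `deg f` points over a given one. -/
theorem geomBdd_of_isStandardEtale (A B : Type u) [CommRing A] [CommRing B] [Algebra A B]
    [Algebra.IsStandardEtale A B] :
    ∃ N, GeomBdd N (Spec.map (CommRingCat.ofHom (algebraMap A B))) := by
  classical
  obtain ⟨P⟩ := Algebra.IsStandardEtale.nonempty_standardEtalePresentation (R := A) (S := B)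
  refine ⟨P.f.natDegree, fun k _ _ p hp => ?_⟩
  choose φ hφ using fun i => Spec.map_surjective (p i)
  let _ : Algebra A k := ((φ 0).hom.comp (algebraMap A B)).toAlgebra
  have hA : ∀ i, (φ i).hom.comp (algebraMap A B) = algebraMap A k := fun i => by
    have h1 := hp i 0
    rw [← hφ, ← hφ 0, ← Spec.map_comp, ← Spec.map_comp] at h1
    exact congrArg CommRingCat.Hom.hom (Spec.map_injective h1)
  let ψ : Fin (P.f.natDegree + 1) → (B →ₐ[A] k) := fun i =>
    { (φ i).hom with commutes' := fun r => RingHom.congr_fun (hA i) r }
  let F := fun i => ψ i P.x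
  obtain ⟨i, j, hij, e⟩ : ∃ i j, i ≠ j ∧ F i = F j := by
    by_contra hne
    push Not at hne
    have hinj : Function.Injective F := fun i j e => by_contra fun h => hne i j h e
    have hsub : Finset.univ.image F ⊆ (P.f.map (algebraMap A k)).roots.toFinset := fun x hx => by
      obtain ⟨i, -, rfl⟩ := Finset.mem_image.1 hx
      have h0 := P.hasMap.map (ψ i)
      rw [Multiset.mem_toFinset, Polynomial.mem_roots ((P.monic_f.map _).ne_zero), Polynomial.IsRoot.def,
        Polynomial.eval_map_algebraMap]
      exact h0.1
    have := Finset.card_le_card hsub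
    rw [Finset.card_image_of_injective _ hinj, Finset.card_fin] at this
    have h2 := (this.trans (Multiset.toFinset_card_le _)).trans (Polynomial.card_roots' _)
    rw [P.monic_f.natDegree_map] at h2
    omega
  refine ⟨i, j, hij, ?_⟩
  have h1 : (ψ i).comp (P.lift P.x P.hasMap) = (ψ j).comp (P.lift P.x P.hasMap) :=
    StandardEtalePair.hom_ext (by simpa [F] using e)
  have h2 : φ i = φ j := by
    ext b
    obtain ⟨c, rfl⟩ := P.lift_bijective.surjective b
    exact AlgHom.congr_fun h1 c
  rw [← hφ i, h2, hφ j]

theorem BaseLocal.descGood_standardEtale (hR : BaseLocal R) (A B : Type u) [CommRing A] [CommRing B]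
    [Algebra A B] [Algebra.IsStandardEtale A B] :
    DescGood R (Spec.map (CommRingCat.ofHom (algebraMap A B))) := by
  obtain ⟨N, hN⟩ := geomBdd_of_isStandardEtale A B
  haveI : Etale (Spec.map (CommRingCat.ofHom (algebraMap A B))) := by
    rw [HasRingHomProperty.Spec_iff (P := @Etale)]
    exact RingHom.etale_algebraMap.2 inferInstance
  exact hR.descGood_of_geomBdd N _ hN

end Groth.Agent.SpFP87
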