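import Mathlib.AlgebraicGeometry.Morphisms.Etale
import Mathlib.AlgebraicGeometry.Morphisms.Smooth
import Mathlib.AlgebraicGeometry.Morphisms.UniversallyOpen
import Mathlib.AlgebraicGeometry.Morphisms.Separated
import Mathlib.AlgebraicGeometry.PullbackCarrier
/-!
The good locus of a property of morphisms of schemes over `S` that is local on the source, local on the
base for smooth coverings and stable under composition with open immersions, and its behaviour under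
smooth morphisms of the base.
-/

set_option autoImplicit false
set_option linter.style.haveILetI false
set_option backward.isDefEq.respectTransparency false
universe u
open CategoryTheory CategoryTheory.Limits AlgebraicGeometry

namespace Groth.Agent.SpFP87

/-- A property of morphisms `h : T ⟶ V`, for `V` over `S`, with the locality used in this file. -/
structure BaseLocal {S : Scheme.{u}} (R : ∀ ⦃T V : Scheme.{u}⦄, (T ⟶ V) → (V ⟶ S) → Prop) : Prop where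
  precomp : ∀ ⦃T' T V : Scheme.{u}⦄ (e : T' ⟶ T) (h : T ⟶ V) (v : V ⟶ S), Etale e → R h v → R (e ≫ h) v
  cover : ∀ ⦃T V : Scheme.{u}⦄ (h : T ⟶ V) (v : V ⟶ S),
    (∀ t : T, ∃ U : T.Opens, t ∈ U ∧ R (U.ι ≫ h) v) → R h v
  descSource : ∀ ⦃T' T V : Scheme.{u}⦄ (e : T' ⟶ T) (h : T ⟶ V) (v : V ⟶ S),
    Etale e → Surjective e → R (e ≫ h) v → R h v
  bc : ∀ ⦃T V T' V' : Scheme.{u}⦄ (a : T' ⟶ T) (h' : T' ⟶ V') (h : T ⟶ V) (g : V' ⟶ V),
    IsPullback a h' h g → Smooth g → ∀ (v : V ⟶ S), R h v → R h' (g ≫ v)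
  desc : ∀ ⦃T V T' V' : Scheme.{u}⦄ (a : T' ⟶ T) (h' : T' ⟶ V') (h : T ⟶ V) (g : V' ⟶ V),
    IsPullback a h' h g → Smooth g → Surjective g → ∀ (v : V ⟶ S), R h' (g ≫ v) → R h v
  post : ∀ ⦃T V V' : Scheme.{u}⦄ (h : T ⟶ V) (j : V ⟶ V') (v : V' ⟶ S), IsOpenImmersion j →
    R h (j ≫ v) → R (h ≫ j) v

variable {S : Scheme.{u}} {R : ∀ ⦃T V : Scheme.{u}⦄, (T ⟶ V) → (V ⟶ S) → Prop}

/-- Points near which `h` has `R`. -/
def Good (R : ∀ ⦃T V : Scheme.{u}⦄, (T ⟶ V) → (V ⟶ S) → Prop) {T V : Scheme.{u}} (h : T ⟶ V) (v : V ⟶ S)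
    (t : T) : Prop :=
  ∃ U : T.Opens, t ∈ U ∧ R (U.ι ≫ h) v

theorem BaseLocal.good_of (hR : BaseLocal R) {T V : Scheme.{u}} {h : T ⟶ V} {v : V ⟶ S} (H : R h v) (t : T) :
    Good R h v t := ⟨⊤, trivial, hR.precomp _ h v inferInstance H⟩

theorem BaseLocal.good_pullback (hR : BaseLocal R) {T V T' V' : Scheme.{u}} {a : T' ⟶ T} {h' : T' ⟶ V'}
    {h : T ⟶ V} {g : V' ⟶ V} (sq : IsPullback a h' h g) (hg : Smooth g) {v : V ⟶ S} {t' : T'}
    (H : Good R h v (a t')) : Good R h' (g ≫ v) t' := by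
  obtain ⟨U, hU, H⟩ := H
  exact ⟨a ⁻¹ᵁ U, hU, hR.bc _ _ _ g
    ((isPullback_morphismRestrict a U).paste_vert sq) hg v H⟩

theorem BaseLocal.good_of_etale (hR : BaseLocal R) {T' T V : Scheme.{u}} {e : T' ⟶ T} [Etale e] {h : T ⟶ V}
    {v : V ⟶ S} {t' : T'} (H : Good R (e ≫ h) v t') : Good R h v (e t') := by
  obtain ⟨U, hU, H⟩ := H
  let O : T.Opens := ⟨e '' U.1, e.isOpenMap _ U.2⟩
  have hO : Set.range (U.ι ≫ e) ⊆ Set.range O.ι := by
    rintro _ ⟨x, rfl⟩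
    rw [Scheme.Opens.range_ι]
    exact ⟨_, x.2, rfl⟩
  refine ⟨O, ⟨t', hU, rfl⟩, hR.descSource (IsOpenImmersion.lift O.ι (U.ι ≫ e) hO) _ v ?_ ?_ ?_⟩
  · haveI : Etale (IsOpenImmersion.lift O.ι (U.ι ≫ e) hO ≫ O.ι) := by
      rw [IsOpenImmersion.lift_fac]; infer_instance
    exact Etale.of_comp _ O.ι
  · refine ⟨fun y => ?_⟩
    obtain ⟨x, hx, hxy⟩ := y.2
    refine ⟨⟨x, hx⟩, O.ι.isOpenEmbedding.injective ?_⟩
    rw [← Scheme.Hom.comp_apply, IsOpenImmersion.lift_fac]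
    exact hxy
  · rw [← Category.assoc, IsOpenImmersion.lift_fac, Category.assoc]; exact H

theorem isPullback_of_comp_mono {T V T' V' W : Scheme.{u}} {a : T' ⟶ T} {h' : T' ⟶ V'}
    {h : T ⟶ V} {g : V' ⟶ V} (i : V ⟶ W) [Mono i] (sq : IsPullback a h' (h ≫ i) (g ≫ i)) :
    IsPullback a h' h g :=
  ⟨⟨by simpa [cancel_mono, ← Category.assoc] using sq.w⟩,
    ⟨PullbackCone.IsLimit.mk _ (fun s => sq.lift s.fst s.snd (by rw [← Category.assoc, s.condition, Category.assoc]))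
      (fun s => sq.lift_fst _ _ _) (fun s => sq.lift_snd _ _ _)
      (fun s m h₁ h₂ => sq.hom_ext (by rw [sq.lift_fst]; exact h₁) (by rw [sq.lift_snd]; exact h₂))⟩⟩

theorem BaseLocal.saturate (hR : BaseLocal R) {T V T' V' : Scheme.{u}} {a : T' ⟶ T} {h' : T' ⟶ V'}
    {h : T ⟶ V} {g : V' ⟶ V} (sq : IsPullback a h' h g) [Smooth g] {v : V ⟶ S}
    (Sg : T.Opens) (hs : (Sg : Set T) ⊆ Set.range a) (H : ∀ t', a t' ∈ Sg → Good R h' (g ≫ v) t')
    {t : T} (ht : t ∈ Sg) : Good R h v t := by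
  refine ⟨Sg, ht, ?_⟩
  let O : V.Opens := ⟨Set.range g, g.isOpenMap.isOpen_range⟩
  have h1 : Set.range (Sg.ι ≫ h) ⊆ Set.range O.ι := by
    rintro _ ⟨x, rfl⟩
    rw [Scheme.Opens.range_ι]
    obtain ⟨t', ht'⟩ := hs x.2
    refine ⟨h' t', ?_⟩
    rw [Scheme.Hom.comp_apply, ← Scheme.Hom.comp_apply h' g, ← sq.w, Scheme.Hom.comp_apply, ht']
    rfl
  have h2 : Set.range g ⊆ Set.range O.ι := by rw [Scheme.Opens.range_ι]; rfl
  let hO := IsOpenImmersion.lift O.ι _ h1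
  let g0 := IsOpenImmersion.lift O.ι g h2
  have e0 : g0 ≫ O.ι = g := IsOpenImmersion.lift_fac _ _ _
  have sqO : IsPullback g0 (𝟙 V') O.ι g :=
    ⟨⟨by simp [e0]⟩, ⟨PullbackCone.IsLimit.mk _ (fun s => s.snd)
      (fun s => by rw [← cancel_mono O.ι, Category.assoc, e0]; exact s.condition.symm)
      (fun s => Category.comp_id _) (fun s m _ h₂ => by simpa using h₂)⟩⟩
  haveI : Smooth g0 := MorphismProperty.of_isPullback sqO.flip ‹Smooth g›
  haveI : Surjective g0 := ⟨fun y => by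
    obtain ⟨x, hx⟩ := y.2
    refine ⟨x, O.ι.isOpenEmbedding.injective ?_⟩
    rw [← Scheme.Hom.comp_apply, e0]
    exact hx⟩
  have sqS : IsPullback (a ∣_ Sg) ((a ⁻¹ᵁ Sg).ι ≫ h') hO g0 := by
    refine isPullback_of_comp_mono O.ι ?_
    rw [e0, IsOpenImmersion.lift_fac]
    exact (isPullback_morphismRestrict a Sg).paste_vert sq
  have h3 : R ((a ⁻¹ᵁ Sg).ι ≫ h') (g0 ≫ O.ι ≫ v) := by
    rw [← Category.assoc g0, e0]
    refine hR.cover _ _ fun t' => ?_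
    obtain ⟨U, hU, hR'⟩ := H t'.1 t'.2
    refine ⟨(a ⁻¹ᵁ Sg).ι ⁻¹ᵁ U, hU, ?_⟩
    rw [← Category.assoc, ← morphismRestrict_ι, Category.assoc]
    exact hR.precomp _ _ _ inferInstance hR'
  have h4 := hR.post _ O.ι v inferInstance (hR.desc _ _ _ g0 sqS inferInstance inferInstance _ h3)
  rwa [IsOpenImmersion.lift_fac] at h4

/-- Goodness descends along `g`. -/
def DescGood (R : ∀ ⦃T V : Scheme.{u}⦄, (T ⟶ V) → (V ⟶ S) → Prop) {V' V : Scheme.{u}} (g : V' ⟶ V) : Prop :=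
  ∀ ⦃T T' : Scheme.{u}⦄ (a : T' ⟶ T) (h' : T' ⟶ V') (h : T ⟶ V), IsPullback a h' h g →
    ∀ (v : V ⟶ S) (t' : T'), Good R h' (g ≫ v) t' → Good R h v (a t')

theorem BaseLocal.descGood_of_sameFib (hR : BaseLocal R) {V' V : Scheme.{u}} {g : V' ⟶ V} [Smooth g]
    (H : ∀ ⦃T T' : Scheme.{u}⦄ (a : T' ⟶ T) (h' : T' ⟶ V') (h : T ⟶ V), IsPullback a h' h g →
      ∀ (v : V ⟶ S) (t' t'' : T'), a t'' = a t' → Good R h' (g ≫ v) t' → Good R h' (g ≫ v) t'') :
    DescGood R g := by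
  intro T T' a h' h sq v t' ht'
  haveI : Smooth a := MorphismProperty.of_isPullback sq.flip ‹Smooth g›
  obtain ⟨U, hU, hRU⟩ := ht'
  refine hR.saturate sq ⟨a '' U.1, a.isOpenMap _ U.2⟩ (Set.image_subset_range _ _) (fun t'' ht'' => ?_)
    ⟨t', hU, rfl⟩
  obtain ⟨t₀, h₀, e₀⟩ := ht''
  exact H a h' h sq v t₀ t'' e₀.symm ⟨U, h₀, hRU⟩

theorem descGood_comp {V'' V' V : Scheme.{u}} {g₁ : V'' ⟶ V'} {g₂ : V' ⟶ V} (h₁ : DescGood R g₁)
    (h₂ : DescGood R g₂) : DescGood R (g₁ ≫ g₂) := by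
  intro T T' a h' h sq v t' ht'
  have sq₂ : IsPullback (pullback.fst h g₂) (pullback.snd h g₂) h g₂ := IsPullback.of_hasPullback _ _
  let m : T' ⟶ pullback h g₂ := pullback.lift a (h' ≫ g₁) (by rw [Category.assoc]; exact sq.w)
  have sq₁ : IsPullback m h' (pullback.snd h g₂) g₁ :=
    IsPullback.of_right (h₁₁ := m) (by
      rw [show m ≫ pullback.fst h g₂ = a from pullback.lift_fst _ _ _]; exact sq)
      (pullback.lift_snd _ _ _) sq₂
  have := h₂ _ _ _ sq₂ v (m t') (h₁ _ _ _ sq₁ (g₂ ≫ v) t' (by rwa [← Category.assoc]))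
  rwa [← Scheme.Hom.comp_apply, show m ≫ pullback.fst h g₂ = a from pullback.lift_fst _ _ _] at this

theorem BaseLocal.descGood_of_injective (hR : BaseLocal R) {V' V : Scheme.{u}} (g : V' ⟶ V) [IsOpenImmersion g] :
    DescGood R g :=
  hR.descGood_of_sameFib fun T T' a h' h sq v t' t'' e H => by
    haveI : IsOpenImmersion a := MorphismProperty.of_isPullback sq.flip ‹IsOpenImmersion g›
    rwa [a.isOpenEmbedding.injective e]

theorem BaseLocal.descGood_of_cover (hR : BaseLocal R) {V' V : Scheme.{u}} (g : V' ⟶ V)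
    (H : ∀ y : V', ∃ (W : Scheme.{u}) (j : W ⟶ V'), IsOpenImmersion j ∧ y ∈ Set.range j ∧ DescGood R (j ≫ g)) :
    DescGood R g := by
  intro T T' a h' h sq v t' ht'
  obtain ⟨W, j, hj, ⟨w, hw⟩, hd⟩ := H (h' t')
  obtain ⟨p, hp1, hp2⟩ := Scheme.Pullback.exists_preimage_pullback (f := h') (g := j) t' w hw.symm
  have sqj : IsPullback (pullback.fst h' j) (pullback.snd h' j) h' j := IsPullback.of_hasPullback _ _
  have hgood : Good R (pullback.snd h' j) (j ≫ g ≫ v) p := hR.good_pullback sqj inferInstance (hp1 ▸ ht')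
  have := hd _ _ _ (sqj.paste_horiz sq) v p (by rwa [Category.assoc])
  rwa [Scheme.Hom.comp_apply, hp1] at this

end Groth.Agent.SpFP87
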