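import Groth.Agent.SpFP87.InfCharts
import Groth.Agent.SpFP87.FamDesc
import Groth.Agent.SpFP87.LocPRep
import Groth.Agent.SpFP87.EtLocInst
/-!
Lifting along first order thickenings of algebraic spaces.
-/

set_option autoImplicit false
set_option linter.style.haveILetI false
universe u
open CategoryTheory CategoryTheory.Limits AlgebraicGeometry
open AlgSp

namespace Groth.Agent.SpFP87

variable {S : Scheme.{u}}

theorem exists_spec_model {V W : Over S} [IsAffine V.left] (i : W ⟶ V) [IsClosedImmersion i.left]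
    (hi : sqZero i.left) :
    ∃ (A : Type u) (_ : CommRing A) (I : Ideal A) (_ : I ^ 2 = ⊥) (str : Spec (.of A) ⟶ S)
      (eV : (Over.mk str : Over S) ≅ V)
      (eW : (Over.mk (Spec.map (CommRingCat.ofHom (Ideal.Quotient.mk I)) ≫ str) : Over S) ≅ W),
      eW.hom ≫ i = (Over.homMk (Spec.map (CommRingCat.ofHom (Ideal.Quotient.mk I))) rfl :
        (Over.mk (Spec.map (CommRingCat.ofHom (Ideal.Quotient.mk I)) ≫ str) : Over S) ⟶ Over.mk str) ≫ eV.hom := by
  obtain ⟨hW, hsurj⟩ := IsClosedImmersion.isAffine_surjective_of_isAffine i.left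
  let I : Ideal Γ(V.left, ⊤) := RingHom.ker i.left.appTop.hom
  have hI : I ^ 2 = ⊥ := by
    have h1 := congrArg (fun J : V.left.IdealSheafData => J.ideal ⟨⊤, isAffineOpen_top _⟩) hi
    simp [Scheme.IdealSheafData.ideal_mul, Scheme.Hom.ker_apply, pow_two, I, Pi.mul_apply, Scheme.Hom.appTop] at h1 ⊢
    exact h1
  let e : (Γ(V.left, ⊤) ⧸ I) ≃+* Γ(W.left, ⊤) := RingHom.quotientKerEquivOfSurjective hsurj
  let str : Spec Γ(V.left, ⊤) ⟶ S := V.left.isoSpec.inv ≫ V.hom
  let eV : (Over.mk str : Over S) ≅ V := Over.isoMk V.left.isoSpec.symm rfl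
  let w : Spec (.of (Γ(V.left, ⊤) ⧸ I)) ≅ W.left := (Scheme.Spec.mapIso e.toCommRingCatIso.op).symm ≪≫ W.left.isoSpec.symm
  have hw : w.hom ≫ i.left = Spec.map (CommRingCat.ofHom (Ideal.Quotient.mk I)) ≫ V.left.isoSpec.inv := by
    rw [Iso.trans_hom, Category.assoc, Iso.symm_hom, Iso.symm_hom, ← Scheme.isoSpec_inv_naturality,
      ← Category.assoc]
    congr 1
    rw [Functor.mapIso_inv, Iso.op_inv]
    change Spec.map e.toCommRingCatIso.inv ≫ Spec.map i.left.appTop = _
    rw [← Spec.map_comp]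
    congr 1
    ext x
    exact (RingEquiv.symm_apply_eq e).2 rfl
  refine ⟨Γ(V.left, ⊤), inferInstance, I, hI, str, eV, Over.isoMk w ?_, ?_⟩
  · show w.hom ≫ W.hom = Spec.map (CommRingCat.ofHom (Ideal.Quotient.mk I)) ≫ str
    rw [← Over.w i, ← Category.assoc, hw, Category.assoc]
  · ext : 1; exact hw

variable {X Y : Sp S} {f : X ⟶ Y}

theorem lift_unique_affine (hf : IsFormallyUnramifiedMor f) {V W : Over S} [IsAffine V.left]
    (i : W ⟶ V) [IsClosedImmersion i.left] (hi : sqZero i.left)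
    {m m' : (yon S).obj V ⟶ X} (h1 : (yon S).map i ≫ m = (yon S).map i ≫ m') (h2 : m ≫ f = m' ≫ f) :
    m = m' := by
  obtain ⟨A, _, I, hI, str, eV, eW, he⟩ := exists_spec_model i hi
  let sq : InfSq f :=
    { A := A, I := I, sq_zero := hI, str := str, top := (yon S).map (eW.hom ≫ i) ≫ m,
      bot := (yon S).map eV.hom ≫ m ≫ f,
      comm := by rw [he, Functor.map_comp]; simp only [Category.assoc]; }
  have hj : ∀ x : (yon S).obj V ⟶ X, (yon S).map sq.j ≫ (yon S).map eV.hom ≫ x = (yon S).map (eW.hom ≫ i) ≫ x :=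
    fun x => by rw [he, Functor.map_comp, Category.assoc]
  have := hf sq ((yon S).map eV.hom ≫ m) ((yon S).map eV.hom ≫ m') (hj m) (Category.assoc _ _ _)
    ((hj m').trans (by show _ = (yon S).map (eW.hom ≫ i) ≫ m; rw [Functor.map_comp, Category.assoc, Category.assoc, h1]))
    ((Category.assoc _ _ _).trans (congrArg (_ ≫ ·) h2.symm))
  exact (cancel_epi ((yon S).map eV.hom)).1 this

theorem lift_exists_affine (hf : IsFormallySmoothMor f) {V W : Over S} [IsAffine V.left]
    (i : W ⟶ V) [IsClosedImmersion i.left] (hi : sqZero i.left)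
    (x : (yon S).obj W ⟶ X) (y : (yon S).obj V ⟶ Y) (hxy : x ≫ f = (yon S).map i ≫ y) :
    ∃ m : (yon S).obj V ⟶ X, (yon S).map i ≫ m = x ∧ m ≫ f = y := by
  obtain ⟨A, _, I, hI, str, eV, eW, he⟩ := exists_spec_model i hi
  obtain ⟨l, hl1, hl2⟩ := hf
    { A := A, I := I, sq_zero := hI, str := str, top := (yon S).map eW.hom ≫ x,
      bot := (yon S).map eV.hom ≫ y,
      comm := by
        rw [Category.assoc, hxy, ← Functor.map_comp_assoc, he, Functor.map_comp, Category.assoc] }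
  refine ⟨(yon S).map eV.inv ≫ l, (cancel_epi ((yon S).map eW.hom)).1 ?_,
    (cancel_epi ((yon S).map eV.hom)).1 ?_⟩
  · refine Eq.trans ?_ hl1
    exact (Category.assoc _ _ _).symm.trans ((Category.assoc _ _ _).symm.trans (congrArg (· ≫ l)
      ((congrArg (· ≫ (yon S).map eV.inv) ((yon S).map_comp _ _).symm).trans
        (((yon S).map_comp _ _).symm.trans (congrArg (yon S).map ((congrArg (· ≫ eV.inv) he).trans
          ((Category.assoc _ _ _).trans ((congrArg (_ ≫ ·) eV.hom_inv_id).trans (Category.comp_id _)))))))))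
  · rw [Category.assoc, hl2, ← Functor.map_comp_assoc, ← Functor.map_comp_assoc, Iso.hom_inv_id,
      Category.id_comp]

variable {T T' : Sp S} {j : T ⟶ T'}

theorem exists_chart_thickening (hj : IsFOThickMor j) {V : Over S} [IsAffine V.left]
    (b : (yon S).obj V ⟶ T') (hb : RepWith @Etale b) :
    ∃ (W : Over S) (t : (yon S).obj W ⟶ T) (i : W ⟶ V),
      IsClosedImmersion i.left ∧ sqZero i.left ∧ t ≫ j = (yon S).map i ≫ b :=
  ⟨_, hj.1.rep.fst b, hj.1.rep.snd b, (hj.1.property_snd b).1,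
    hj.2 b _ _ ‹_› hb (hj.1.rep.isPullback b), (hj.1.rep.isPullback b).w⟩

theorem etale_openImm_comp {T' : Sp S} {V : Over S} {b : (yon S).obj V ⟶ T'} (hb : RepWith @Etale b)
    (U : V.left.Opens) :
    RepWith @Etale ((yon S).map (Over.homMk U.ι rfl : (Over.mk (U.ι ≫ V.hom) : Over S) ⟶ V) ≫ b) :=
  (repWith_isMultiplicative (@Etale : MorphismProperty Scheme.{u})).comp_mem _ _
    ((repWith_yon_map_iff _ _).2 (inferInstanceAs (Etale U.ι))) hb

theorem lift_unique_chart (hf : IsFormallyUnramifiedMor f) (hj : IsFOThickMor j) {l l' : T' ⟶ X}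
    (h1 : j ≫ l = j ≫ l') (h2 : l ≫ f = l' ≫ f) {V : Over S} (b : (yon S).obj V ⟶ T')
    (hb : RepWith @Etale b) : b ≫ l = b ≫ l' := by
  obtain ⟨hc, hs⟩ := affineOpens_cover V
  refine fam_hom_ext _ _ hc hs fun U => ?_
  haveI : IsAffine U.1.toScheme := U.2
  haveI : IsAffine (Over.mk (U.1.ι ≫ V.hom) : Over S).left := inferInstanceAs (IsAffine U.1.toScheme)
  obtain ⟨W, t, i, hi1, hi2, ht⟩ := exists_chart_thickening hj _ (etale_openImm_comp hb U.1)
  rw [← Category.assoc, ← Category.assoc]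
  refine lift_unique_affine hf i hi2 ?_ ?_
  · exact ((Category.assoc _ _ _).symm.trans ((congrArg (· ≫ l) ht.symm).trans ((Category.assoc _ _ _).trans
      (congrArg (t ≫ ·) h1)))).trans ((Category.assoc _ _ _).symm.trans ((congrArg (· ≫ l') ht).trans (Category.assoc _ _ _)))
  · rw [Category.assoc, Category.assoc, h2, ← Category.assoc, ← Category.assoc]

theorem lift_unique (hf : IsFormallyUnramifiedMor f) (hj : IsFOThickMor j) (hT' : IsAlgSpace T')
    {l l' : T' ⟶ X} (h1 : j ≫ l = j ≫ l') (h2 : l ≫ f = l' ≫ f) : l = l' := by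
  obtain ⟨V, b, hb, hbs⟩ := hT'.atlas
  haveI := (locLift_of_atlas hb hbs).epi
  exact (cancel_epi b).1 (lift_unique_chart hf hj h1 h2 b hb)

end Groth.Agent.SpFP87
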