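import Groth.Agent.SpFP87.ModSys
/-!
Systems of finitely generated submodules everywhere, and the subalgebras they generate.
-/

set_option autoImplicit false
set_option linter.style.haveILetI false
set_option backward.isDefEq.respectTransparency false
universe u
open CategoryTheory CategoryTheory.Limits AlgebraicGeometry TensorProduct
open AlgSp Groth.Agent.SpPts86 Groth.Agent.SpProper61 Groth.Agent.SpFP87.ThickAffine

namespace Groth.Agent.SpFP87.ModSys

variable {S : Scheme.{u}} {Y N : Sp S} {ν : N ⟶ Y} (hν : IsIntegralMor ν)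

/-- Finitely many sections lie in a system. -/
theorem exists_sys [QuasiSeparatedSpace ↥S] (hY : IsAlgSpace Y) (hqc : IsQuasiCompactSp Y)
    (hqs : IsQuasiSeparatedSp Y) (H : Ch Y) (M₀ : Submodule Γ(H.obj.left, ⊤) (C hν H)) (hM₀ : M₀.FG) :
    ∃ A : Fun hν, IsSys hν Set.univ A ∧ M₀ ≤ A H := by
  haveI := compactSpace_points_of_isQuasiCompactSp hqc
  exact climb ⟨Y, hY⟩ hqc hqs (Extends hν) isOpen_empty isCompact_empty (extends_empty hν hY)
    (fun O O' T g _ st hΦ => extends_step hν hY hqs st.isOpen st.isCompact ⟨T, st.affine, g, st.etale⟩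
      st.inj st.union hΦ)
    H (Set.subset_univ _) M₀ hM₀

/-- The algebra generated by a system. -/
noncomputable def alg (A : Fun hν) (T : Ch Y) : Subalgebra Γ(T.obj.left, ⊤) (C hν T) :=
  Algebra.adjoin Γ(T.obj.left, ⊤) (A T : Set (C hν T))

variable {hν} {A : Fun hν}

theorem alg_finite (hA : IsSys hν Set.univ A) (T : Ch Y) : Module.Finite Γ(T.obj.left, ⊤) (alg hν A T) := by
  classical
  obtain ⟨G, hG⟩ := hA.fg T (Set.subset_univ _)
  have : alg hν A T = Algebra.adjoin Γ(T.obj.left, ⊤) (G : Set (C hν T)) := by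
    rw [alg, ← hG, Algebra.adjoin_span]
  rw [this]
  haveI := isIntegral_C hν T
  exact Module.Finite.iff_fg.2 (fg_adjoin_of_finite G.finite_toSet fun x _ => Algebra.IsIntegral.isIntegral x)

theorem res_mem_alg (hA : IsSys hν Set.univ A) {P T : Ch Y} (c : Ch.Hom P T) {x : C hν T}
    (hx : x ∈ alg hν A T) : res hν c x ∈ alg hν A P := by
  induction hx using Algebra.adjoin_induction with
  | mem y hy =>
    exact Algebra.subset_adjoin (show res hν c y ∈ A P by
      rw [← hA.nat T (Set.subset_univ _) P c]; exact res_mem_push hν c hy)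
  | algebraMap r => rw [res_algebraMap]; exact Subalgebra.algebraMap_mem _ _
  | add y z _ _ hy hz => rw [map_add]; exact add_mem hy hz
  | mul y z _ _ hy hz => rw [map_mul]; exact mul_mem hy hz

theorem alg_le_of_hom (hA : IsSys hν Set.univ A) {P T : Ch Y} (c : Ch.Hom P T) (R : Subring (C hν P))
    (hR : ∀ r : Γ(P.obj.left, ⊤), algebraMap _ (C hν P) r ∈ R) (hres : ∀ x ∈ A T, res hν c x ∈ R) :
    ∀ x ∈ alg hν A P, x ∈ R := by
  intro x hx
  induction hx using Algebra.adjoin_induction with
  | mem y hy =>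
    rw [SetLike.mem_coe, ← hA.nat T (Set.subset_univ _) P c] at hy
    induction hy using Submodule.span_induction with
    | mem z hz => obtain ⟨w, hw, rfl⟩ := hz; exact hres w hw
    | zero => exact R.zero_mem
    | add z z' _ _ hz hz' => exact R.add_mem hz hz'
    | smul r z _ hz => rw [Algebra.smul_def]; exact R.mul_mem (hR r) hz
  | algebraMap r => exact hR r
  | add y z _ _ hy hz => exact R.add_mem hy hz
  | mul y z _ _ hy hz => exact R.mul_mem hy hz

/-- A chart of a subalgebra: an affine scheme over the chart with sections the algebra of the system. -/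
structure Model (hν : IsIntegralMor ν) (A : Fun hν) (U : Ch Y) where
  obj : Over S
  aff : IsAffine obj.left
  m : obj ⟶ U.obj
  φ : NN hν U ⟶ obj
  fac : φ ≫ m = nι hν U
  inj : Function.Injective φ.left.appTop.hom
  range : ∀ x : C hν U, x ∈ alg hν A U ↔ ∃ b, φ.left.appTop.hom b = x

attribute [instance] Model.aff

theorem exists_model (A : Fun hν) (U : Ch Y) : Nonempty (Model hν A U) := by
  let B := alg hν A U
  let W : Over S := PT U.obj (algebraMap Γ(U.obj.left, ⊤) B)
  let i : CommRingCat.of B ⟶ Γ((NN hν U).left, ⊤) := CommRingCat.ofHom B.val.toRingHom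
  let φ₀ : (NN hν U).left ⟶ W.left := (NN hν U).left.isoSpec.hom ≫ Spec.map i
  have hφ₀ : ∀ b, φ₀.appTop.hom b = B.val (gam B b) := by
    intro b
    have key : Scheme.Hom.appTop φ₀ = (Scheme.ΓSpecIso (CommRingCat.of B)).hom ≫ i := by
      simp [φ₀, Scheme.isoSpec]
      exact Scheme.ΓSpecIso_naturality i
    rw [key]
    rfl
  have hfac : φ₀ ≫ (specPt U.obj (algebraMap Γ(U.obj.left, ⊤) B)).left = (nι hν U).left := by
    refine ext_of_isAffine ?_
    ext r
    rw [Scheme.Hom.comp_appTop, CommRingCat.comp_apply]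
    refine (hφ₀ _).trans ?_
    rw [show gam B ((specPt U.obj (algebraMap Γ(U.obj.left, ⊤) B)).left.appTop r) =
      algebraMap Γ(U.obj.left, ⊤) B r from congr($(gam_specPt (algebraMap Γ(U.obj.left, ⊤) B)) r)]
    rfl
  refine ⟨⟨W, inferInstance, specPt U.obj _, Over.homMk φ₀ ?_, Over.OverMorphism.ext hfac, ?_, fun x => ?_⟩⟩
  · show φ₀ ≫ (specPt U.obj (algebraMap Γ(U.obj.left, ⊤) B)).left ≫ U.obj.hom = (NN hν U).hom
    rw [← Category.assoc, hfac]
    exact Over.w (nι hν U)
  · intro b b' h
    have := (hφ₀ b).symm.trans (h.trans (hφ₀ b'))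
    exact (gam B).injective (Subtype.val_injective this)
  · refine ⟨fun hx => ⟨(gam B).symm ⟨x, hx⟩, ?_⟩, ?_⟩
    · change φ₀.appTop.hom _ = x
      rw [hφ₀, RingEquiv.apply_symm_apply]
      rfl
    · rintro ⟨b, rfl⟩
      change φ₀.appTop.hom b ∈ B
      rw [hφ₀]
      exact ((gam B) b).2

end Groth.Agent.SpFP87.ModSys
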