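import Groth.Agent.SpFP87.ThickAffine
import Mathlib
/-!
Affine etale charts of an algebraic space and the modules of global sections of an affine morphism on them.
-/

set_option autoImplicit false
set_option linter.style.haveILetI false
set_option backward.isDefEq.respectTransparency false
universe u
open CategoryTheory CategoryTheory.Limits AlgebraicGeometry TensorProduct
open AlgSp Groth.Agent.SpPts86

namespace Groth.Agent.SpFP87.ModSys

variable {S : Scheme.{u}} {Y N : Sp S}

/-- An affine etale chart. -/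
structure Ch (Y : Sp S) where
  obj : Over S
  aff : IsAffine obj.left
  map : (yon S).obj obj ⟶ Y
  et : RepWith @Etale map

attribute [instance] Ch.aff

/-- A map of charts. -/
structure Ch.Hom (P T : Ch Y) where
  m : P.obj ⟶ T.obj
  w : (yon S).map m ≫ T.map = P.map

theorem Ch.Hom.etale (hY : IsAlgSpace Y) {P T : Ch Y} (a : Ch.Hom P T) : Etale a.m.left :=
  etale_of_comp_chart hY T.et (h := a.m) (a.w.symm ▸ P.et)

/-- The chart obtained by composing with a map of schemes. -/
def Ch.comp (T : Ch Y) {W : Over S} [IsAffine W.left] (a : W ⟶ T.obj) [Etale a.left] : Ch Y :=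
  ⟨W, inferInstance, (yon S).map a ≫ T.map, repWith_etale_comp a T.et⟩

/-- The structure map of a composed chart. -/
def Ch.compHom (T : Ch Y) {W : Over S} [IsAffine W.left] (a : W ⟶ T.obj) [Etale a.left] :
    Ch.Hom (T.comp a) T := ⟨a, rfl⟩

def Ch.Hom.id (T : Ch Y) : Ch.Hom T T := ⟨𝟙 _, by rw [CategoryTheory.Functor.map_id, Category.id_comp]⟩

def Ch.Hom.comp {Q P T : Ch Y} (b : Ch.Hom Q P) (a : Ch.Hom P T) : Ch.Hom Q T :=
  ⟨b.m ≫ a.m, by rw [Functor.map_comp, Category.assoc, a.w, b.w]⟩

variable {ν : N ⟶ Y} (hν : IsIntegralMor ν)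

/-- The affine scheme over a chart. -/
noncomputable def NN (T : Ch Y) : Over S := (hν T.aff T.map).choose
noncomputable def nι (T : Ch Y) : NN hν T ⟶ T.obj := (hν T.aff T.map).choose_spec.choose
noncomputable def nfst (T : Ch Y) : (yon S).obj (NN hν T) ⟶ N := (hν T.aff T.map).choose_spec.choose_spec.choose

theorem nsq (T : Ch Y) : IsPullback (nfst hν T) ((yon S).map (nι hν T)) ν T.map :=
  (hν T.aff T.map).choose_spec.choose_spec.choose_spec.1

instance (T : Ch Y) : IsAffine (NN hν T).left := (hν T.aff T.map).choose_spec.choose_spec.choose_spec.2.1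

theorem nι_integral (T : Ch Y) : IsIntegralHom (nι hν T).left :=
  (hν T.aff T.map).choose_spec.choose_spec.choose_spec.2.2

theorem exists_nmap {P T : Ch Y} (a : Ch.Hom P T) : ∃ f : NN hν P ⟶ NN hν T,
    (yon S).map f ≫ nfst hν T = nfst hν P ∧ f ≫ nι hν T = nι hν P ≫ a.m := by
  obtain ⟨f, hf⟩ := (yon S).map_surjective ((nsq hν T).lift (nfst hν P) ((yon S).map (nι hν P ≫ a.m))
    (by rw [Functor.map_comp, Category.assoc, a.w, (nsq hν P).w]))
  exact ⟨f, by rw [hf, IsPullback.lift_fst],
    (yon S).map_injective (by rw [Functor.map_comp, hf, IsPullback.lift_snd])⟩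

noncomputable def nmap {P T : Ch Y} (a : Ch.Hom P T) : NN hν P ⟶ NN hν T := (exists_nmap hν a).choose

theorem nmap_fst {P T : Ch Y} (a : Ch.Hom P T) : (yon S).map (nmap hν a) ≫ nfst hν T = nfst hν P :=
  (exists_nmap hν a).choose_spec.1

theorem nmap_ι {P T : Ch Y} (a : Ch.Hom P T) : nmap hν a ≫ nι hν T = nι hν P ≫ a.m :=
  (exists_nmap hν a).choose_spec.2

theorem nmap_hom_ext {W : Over S} {T : Ch Y} {f g : W ⟶ NN hν T}
    (h1 : (yon S).map f ≫ nfst hν T = (yon S).map g ≫ nfst hν T) (h2 : f ≫ nι hν T = g ≫ nι hν T) : f = g :=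
  (yon S).map_injective ((nsq hν T).hom_ext h1 (by rw [← Functor.map_comp, h2, Functor.map_comp]))

theorem nmap_comp {Q P T : Ch Y} (b : Ch.Hom Q P) (a : Ch.Hom P T) (c : Ch.Hom Q T) (h : b.m ≫ a.m = c.m) :
    nmap hν b ≫ nmap hν a = nmap hν c :=
  nmap_hom_ext hν (by rw [Functor.map_comp, Category.assoc, nmap_fst, nmap_fst, nmap_fst])
    (by rw [Category.assoc, nmap_ι, ← Category.assoc, nmap_ι, nmap_ι, Category.assoc, h])

theorem nmap_id (T : Ch Y) : nmap hν (Ch.Hom.id T) = 𝟙 _ :=
  nmap_hom_ext hν (by rw [nmap_fst, CategoryTheory.Functor.map_id, Category.id_comp])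
    (by rw [nmap_ι, Category.id_comp]; exact Category.comp_id _)

theorem nmap_isPullback {P T : Ch Y} (a : Ch.Hom P T) :
    IsPullback (nmap hν a).left (nι hν P).left (nι hν T).left a.m.left := by
  have h : IsPullback ((yon S).map (nmap hν a)) ((yon S).map (nι hν P)) ((yon S).map (nι hν T))
      ((yon S).map a.m) :=
    IsPullback.of_right (by rw [nmap_fst, a.w]; exact nsq hν P)
      (by rw [← Functor.map_comp, nmap_ι, Functor.map_comp]) (nsq hν T)
  exact (IsPullback.of_map (yon S) (nmap_ι hν a) h).map (Over.forget S)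

/-- The sections over a chart. -/
def C (T : Ch Y) : Type u := Γ((NN hν T).left, ⊤)

noncomputable instance (T : Ch Y) : CommRing (C hν T) := inferInstanceAs (CommRing Γ((NN hν T).left, ⊤))

noncomputable instance (T : Ch Y) : Algebra Γ(T.obj.left, ⊤) (C hν T) :=
  RingHom.toAlgebra ((nι hν T).left.appTop.hom : Γ(T.obj.left, ⊤) →+* C hν T)

theorem algebraMap_C (T : Ch Y) : algebraMap Γ(T.obj.left, ⊤) (C hν T) = (nι hν T).left.appTop.hom := rfl

theorem isIntegral_C (T : Ch Y) : Algebra.IsIntegral Γ(T.obj.left, ⊤) (C hν T) := by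
  haveI := nι_integral hν T
  exact ⟨IsIntegralHom.isIntegral_app (nι hν T).left ⊤ (isAffineOpen_top _)⟩

/-- Restriction of sections. -/
noncomputable def res {P T : Ch Y} (a : Ch.Hom P T) : C hν T →+* C hν P := (nmap hν a).left.appTop.hom

theorem res_algebraMap {P T : Ch Y} (a : Ch.Hom P T) (r : Γ(T.obj.left, ⊤)) :
    res hν a (algebraMap _ _ r) = algebraMap Γ(P.obj.left, ⊤) (C hν P) (a.m.left.appTop r) := by
  have := congr($(congrArg (fun f : NN hν P ⟶ T.obj => f.left.appTop) (nmap_ι hν a)).hom r)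
  simp only [Over.comp_left, Scheme.Hom.comp_appTop, CommRingCat.hom_comp, RingHom.comp_apply] at this
  exact this

theorem res_smul {P T : Ch Y} (a : Ch.Hom P T) (r : Γ(T.obj.left, ⊤)) (c : C hν T) :
    res hν a (r • c) = a.m.left.appTop r • res hν a c := by
  rw [Algebra.smul_def, map_mul, res_algebraMap, Algebra.smul_def]

theorem res_res {Q P T : Ch Y} (b : Ch.Hom Q P) (a : Ch.Hom P T) (c : Ch.Hom Q T) (h : b.m ≫ a.m = c.m)
    (x : C hν T) : res hν b (res hν a x) = res hν c x := by
  rw [res, res, res, ← nmap_comp hν b a c h, Over.comp_left, Scheme.Hom.comp_appTop]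
  rfl

theorem res_id (T : Ch Y) (x : C hν T) : res hν (Ch.Hom.id T) x = x := by
  rw [res, nmap_id, Over.id_left, Scheme.Hom.id_appTop]
  rfl

/-- The submodule generated by the restriction of a submodule. -/
noncomputable def push {P T : Ch Y} (a : Ch.Hom P T) (M : Submodule Γ(T.obj.left, ⊤) (C hν T)) :
    Submodule Γ(P.obj.left, ⊤) (C hν P) := Submodule.span _ (res hν a '' M)

theorem res_mem_push {P T : Ch Y} (a : Ch.Hom P T) {M : Submodule Γ(T.obj.left, ⊤) (C hν T)} {x : C hν T}
    (hx : x ∈ M) : res hν a x ∈ push hν a M := Submodule.subset_span ⟨x, hx, rfl⟩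

theorem push_mono {P T : Ch Y} (a : Ch.Hom P T) {M M' : Submodule Γ(T.obj.left, ⊤) (C hν T)} (h : M ≤ M') :
    push hν a M ≤ push hν a M' := Submodule.span_mono (Set.image_mono h)

theorem push_span {P T : Ch Y} (a : Ch.Hom P T) (s : Set (C hν T)) :
    push hν a (Submodule.span _ s) = Submodule.span _ (res hν a '' s) := by
  refine le_antisymm (Submodule.span_le.2 ?_) (Submodule.span_mono (Set.image_mono Submodule.subset_span))
  rintro _ ⟨x, hx, rfl⟩
  induction hx using Submodule.span_induction with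
  | mem y hy => exact Submodule.subset_span ⟨y, hy, rfl⟩
  | zero => rw [map_zero]; exact zero_mem _
  | add y z _ _ hy hz => rw [map_add]; exact add_mem hy hz
  | smul r y _ hy => rw [res_smul]; exact Submodule.smul_mem _ _ hy

theorem push_fg {P T : Ch Y} (a : Ch.Hom P T) {M : Submodule Γ(T.obj.left, ⊤) (C hν T)} (h : M.FG) :
    (push hν a M).FG := by
  classical
  obtain ⟨G, rfl⟩ := h
  exact ⟨G.image (res hν a), by rw [push_span, Finset.coe_image]⟩

theorem push_push {Q P T : Ch Y} (b : Ch.Hom Q P) (a : Ch.Hom P T) (c : Ch.Hom Q T) (h : b.m ≫ a.m = c.m)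
    (M : Submodule Γ(T.obj.left, ⊤) (C hν T)) : push hν b (push hν a M) = push hν c M := by
  change push hν b (Submodule.span _ (res hν a '' M)) = _
  rw [push_span, ← Set.image_comp]
  exact congrArg (Submodule.span _) (Set.image_congr' (res_res hν b a c h))

theorem push_id (T : Ch Y) (M : Submodule Γ(T.obj.left, ⊤) (C hν T)) : push hν (Ch.Hom.id T) M = M := by
  have : res hν (Ch.Hom.id T) '' (M : Set (C hν T)) = M := by
    rw [Set.image_congr' (res_id hν T)]; exact Set.image_id' _
  rw [push, this, Submodule.span_eq]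

theorem push_sup {P T : Ch Y} (a : Ch.Hom P T) (M M' : Submodule Γ(T.obj.left, ⊤) (C hν T)) :
    push hν a (M ⊔ M') = push hν a M ⊔ push hν a M' := by
  refine le_antisymm (Submodule.span_le.2 ?_) (sup_le (push_mono hν a le_sup_left) (push_mono hν a le_sup_right))
  rintro _ ⟨x, hx, rfl⟩
  obtain ⟨y, hy, z, hz, rfl⟩ := Submodule.mem_sup.1 hx
  rw [map_add]
  exact add_mem (Submodule.mem_sup_left (res_mem_push hν a hy)) (Submodule.mem_sup_right (res_mem_push hν a hz))

theorem push_bot {P T : Ch Y} (a : Ch.Hom P T) : push hν a (⊥ : Submodule Γ(T.obj.left, ⊤) (C hν T)) = ⊥ := by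
  rw [← Submodule.span_empty, push_span, Set.image_empty, Submodule.span_empty]

/-- A finitely generated submodule of an image comes from a finitely generated submodule. -/
theorem exists_fg_le_push {P T : Ch Y} (a : Ch.Hom P T) {M : Submodule Γ(T.obj.left, ⊤) (C hν T)}
    {L : Submodule Γ(P.obj.left, ⊤) (C hν P)} (hL : L.FG) (h : L ≤ push hν a M) :
    ∃ M₁ ≤ M, M₁.FG ∧ L ≤ push hν a M₁ := by
  classical
  obtain ⟨G, rfl⟩ := hL
  have : ∀ x ∈ G, ∃ T' : Finset (C hν T), (T' : Set (C hν T)) ⊆ M ∧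
      x ∈ Submodule.span Γ(P.obj.left, ⊤) (res hν a '' T') := fun x hx => by
    obtain ⟨T', hT', hx'⟩ := Submodule.mem_span_finite_of_mem_span (h (Submodule.subset_span hx))
    choose! z hz hzy using fun y (hy : y ∈ T') => hT' hy
    refine ⟨T'.image z, fun y hy => ?_, Submodule.span_mono (fun y hy => ?_) hx'⟩
    · obtain ⟨w, hw, rfl⟩ := Finset.mem_image.1 (Finset.mem_coe.1 hy)
      exact hz w hw
    · exact ⟨z y, Finset.mem_coe.2 (Finset.mem_image_of_mem z hy), hzy y hy⟩
  choose! F hFM hFx using this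
  refine ⟨Submodule.span _ (G.biUnion F : Set (C hν T)), Submodule.span_le.2 fun y hy => ?_, ⟨_, rfl⟩, ?_⟩
  · obtain ⟨x, hx, hy⟩ := Finset.mem_biUnion.1 (Finset.mem_coe.1 hy)
    exact hFM x hx hy
  · rw [push_span, Submodule.span_le]
    exact fun x hx => Submodule.span_mono (Set.image_mono (Finset.coe_subset.2
      (Finset.subset_biUnion_of_mem F hx))) (hFx x hx)

end Groth.Agent.SpFP87.ModSys
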