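import Groth.Agent.SpFP87.ModFlat
import Groth.Agent.SpProper61.AffineSteps
/-!
Finite covers of intersections of affine etale charts of a quasi-compact quasi-separated space.
-/

set_option autoImplicit false
set_option linter.style.haveILetI false
set_option backward.isDefEq.respectTransparency false
universe u
open CategoryTheory CategoryTheory.Limits AlgebraicGeometry
open AlgSp Groth.Agent.SpPts86 Groth.Agent.SpFP87.ThickAffine

namespace Groth.Agent.SpFP87.ModSys

variable {S : Scheme.{u}} {Y : Sp S}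

/-- The points of a chart go into the set. -/
def InO (O : Set (Points Y)) (T : Ch Y) : Prop := Set.range (Points.ofPt T.map) ⊆ O

theorem ofPt_hom {P T : Ch Y} (a : Ch.Hom P T) (x : P.obj.left) :
    Points.ofPt T.map (a.m.left x) = Points.ofPt P.map x := by rw [← ofPt_comp, a.w]

theorem InO.of_hom {O : Set (Points Y)} {P T : Ch Y} (a : Ch.Hom P T) (h : InO O T) : InO O P := by
  rintro _ ⟨x, rfl⟩
  rw [← ofPt_hom a]
  exact h ⟨_, rfl⟩

theorem mem_range_of_isPullback {G : Sp S} {W V P : Over S} {g : (yon S).obj W ⟶ G} {c : (yon S).obj V ⟶ G}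
    {p : P ⟶ W} {q : P ⟶ V} (sq : IsPullback ((yon S).map p) ((yon S).map q) g c) {x : W.left} {y : V.left}
    (h : Points.ofPt g x = Points.ofPt c y) : x ∈ Set.range p.left := by
  obtain ⟨z, hz, -⟩ := exists_of_isPullback sq (Points.ofScheme W x) (Points.ofScheme V y) (by
    rw [← Points.ofPt_eq_map_ofScheme, ← Points.ofPt_eq_map_ofScheme, h])
  obtain ⟨w, rfl⟩ := (Points.schemeHomeo P).surjective z
  refine ⟨w, (Points.schemeHomeo W).injective ?_⟩
  show Points.ofScheme W (p.left w) = Points.ofScheme W x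
  rw [← hz]
  exact (ofPt_comp p (𝟙 _) w).symm.trans (by rw [Category.comp_id, Points.ofPt_eq_map_ofScheme]; rfl)

/-- Finitely many affine opens covering a compact open. -/
theorem exists_finite_affine_cover {V : Scheme.{u}} {W : Set V} (hW : IsOpen W) (hc : IsCompact W) :
    ∃ (ι : Type u) (_ : Finite ι) (A : ι → V.affineOpens), ⋃ k, ((A k).1 : Set V) = W := by
  classical
  obtain ⟨s, hs⟩ := hc.elim_finite_subcover
    (fun A : {A : V.affineOpens // ((A.1 : V.Opens) : Set V) ⊆ W} => ((A.1.1 : V.Opens) : Set V))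
    (fun A => A.1.1.isOpen) fun v hv => by
      obtain ⟨A, hA, hv', hAW⟩ := exists_isAffineOpen_mem_and_subset (x := v) (U := ⟨W, hW⟩) hv
      exact Set.mem_iUnion.2 ⟨⟨⟨A, hA⟩, hAW⟩, hv'⟩
  refine ⟨{A // A ∈ s}, inferInstance, fun k => k.1.1, Set.Subset.antisymm (Set.iUnion_subset fun k => k.1.2) ?_⟩
  intro v hv
  obtain ⟨A, hA, hv'⟩ := Set.mem_iUnion₂.1 (hs hv)
  exact Set.mem_iUnion.2 ⟨⟨A, hA⟩, hv'⟩

/-- Charts covering a compact open of a chart. -/
theorem exists_charts_of_open (T : Ch Y) {W : Set T.obj.left} (hW : IsOpen W) (hc : IsCompact W) :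
    ∃ (ι : Type u) (_ : Finite ι) (P : ι → Ch Y) (a : ∀ k, Ch.Hom (P k) T),
      ⋃ k, Set.range (a k).m.left = W := by
  obtain ⟨ι, hι, A, hA⟩ := exists_finite_affine_cover hW hc
  let V : ι → Over S := fun k => Over.mk ((A k).1.ι ≫ T.obj.hom)
  let j : ∀ k, V k ⟶ T.obj := fun k => Over.homMk (A k).1.ι rfl
  haveI : ∀ k, IsAffine (V k).left := fun k => (A k).2
  haveI : ∀ k, Etale (j k).left := fun k => inferInstanceAs (Etale (A k).1.ι)
  refine ⟨ι, hι, fun k => T.comp (j k), fun k => T.compHom (j k), ?_⟩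
  rw [← hA]
  exact Set.iUnion_congr fun k => (A k).1.range_ι

/-- A chart inside an open of a chart. -/
theorem exists_sub (Z : Ch Y) {W : Z.obj.left.Opens} {z : Z.obj.left} (hz : z ∈ W) :
    ∃ (Z' : Ch Y) (c : Ch.Hom Z' Z) (m : Z'.obj.left ⟶ W.toScheme), m ≫ W.ι = c.m.left ∧ z ∈ Set.range c.m.left := by
  obtain ⟨A, hA, hzA, hAW⟩ := exists_isAffineOpen_mem_and_subset (x := z) (U := W) hz
  let V : Over S := Over.mk (A.ι ≫ Z.obj.hom)
  let j : V ⟶ Z.obj := Over.homMk A.ι rfl
  haveI : IsAffine V.left := hA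
  haveI : Etale j.left := inferInstanceAs (Etale A.ι)
  exact ⟨Z.comp j, Z.compHom j, Z.obj.left.homOfLE hAW, Scheme.homOfLE_ι _ _, by
    rw [← SetLike.mem_coe, ← A.range_ι] at hzA; exact hzA⟩

/-- The product of two charts over a third. -/
theorem exists_fibre (hY : IsAlgSpace Y) {T P Q : Ch Y} (a : Ch.Hom P T) (b : Ch.Hom Q T) :
    ∃ (Z : Ch Y) (z₁ : Ch.Hom Z P) (z₂ : Ch.Hom Z Q), z₁.m ≫ a.m = z₂.m ≫ b.m ∧
      ∀ (p : P.obj.left) (q : Q.obj.left), a.m.left p = b.m.left q → p ∈ Set.range z₁.m.left := by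
  haveI := a.etale hY
  haveI : Etale (pullback.fst a.m b.m).left := MorphismProperty.of_isPullback (P := @Etale)
    ((IsPullback.of_hasPullback a.m b.m).map (Over.forget S)).flip (b.etale hY)
  haveI : Etale (pullback.fst a.m b.m ≫ a.m).left := by rw [Over.comp_left]; infer_instance
  haveI : IsAffine (pullback a.m b.m).left := by
    haveI : IsAffine ((Over.forget S).obj T.obj) := T.aff
    haveI : IsAffine ((Over.forget S).obj P.obj) := P.aff
    haveI : IsAffine ((Over.forget S).obj Q.obj) := Q.aff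
    exact IsAffine.of_isIso ((IsPullback.of_hasPullback a.m b.m).map (Over.forget S)).isoPullback.hom
  refine ⟨T.comp (pullback.fst a.m b.m ≫ a.m), ⟨pullback.fst _ _, ?_⟩, ⟨pullback.snd _ _, ?_⟩,
    pullback.condition, fun p q h => ?_⟩
  · show _ = (yon S).map _ ≫ T.map
    rw [Functor.map_comp, Category.assoc, a.w]
  · show _ = (yon S).map _ ≫ T.map
    refine Eq.trans ?_ (congrArg (fun m => (yon S).map m ≫ T.map) pullback.condition).symm
    rw [Functor.map_comp, Category.assoc, b.w]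
  · obtain ⟨z, hz, -⟩ := Scheme.Pullback.exists_preimage_pullback (f := a.m.left) (g := b.m.left) p q h
    have sq : IsPullback (pullback.fst a.m b.m).left (pullback.snd a.m b.m).left a.m.left b.m.left :=
      (IsPullback.of_hasPullback a.m b.m).map (Over.forget S)
    exact ⟨sq.isoPullback.inv z, (congr($(sq.isoPullback_inv_fst) z)).trans hz⟩

variable [QuasiSeparatedSpace ↥S]

/-- The intersection of two charts is covered by finitely many charts. -/
theorem exists_cover_inter (hY : IsAlgSpace Y) (hqs : IsQuasiSeparatedSp Y) (T U : Ch Y) :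
    ∃ (ι : Type u) (_ : Finite ι) (Z : ι → Ch Y) (a : ∀ i, Ch.Hom (Z i) T) (_ : ∀ i, Ch.Hom (Z i) U),
      ∀ t : T.obj.left, Points.ofPt T.map t ∈ Set.range (Points.ofPt U.map) → ∃ i, t ∈ Set.range (a i).m.left := by
  obtain ⟨P, p, q, sq⟩ := exists_isPullback_yon hY.diag T.map U.map
  haveI := compactSpace_points_yon T.obj
  haveI := compactSpace_points_yon U.obj
  haveI := compactSpace_of_isQuasiCompactMor (isQuasiCompactMor_of_qc_qs (f := T.map) (IsAlgSpace.yon_obj _) hY hqs)
    (IsAlgSpace.yon_obj U.obj) sq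
  haveI : CompactSpace ↥P.left := (Points.schemeHomeo P).symm.compactSpace
  obtain ⟨ι, hι, A, hA⟩ := exists_finite_affine_cover isOpen_univ (isCompact_univ (X := ↥P.left))
  haveI : Etale p.left := etale_snd_of_isPullback sq.flip U.et
  let V : ι → Over S := fun k => Over.mk ((A k).1.ι ≫ P.hom)
  let j : ∀ k, V k ⟶ P := fun k => Over.homMk (A k).1.ι rfl
  haveI : ∀ k, IsAffine (V k).left := fun k => (A k).2
  haveI : ∀ k, Etale (j k ≫ p).left := fun k => inferInstanceAs (Etale ((A k).1.ι ≫ p.left))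
  refine ⟨ι, hι, fun k => T.comp (j k ≫ p), fun k => T.compHom (j k ≫ p), fun k => ⟨j k ≫ q, ?_⟩, fun t ht => ?_⟩
  · show _ = (yon S).map (j k ≫ p) ≫ T.map
    exact (map_comp_sq sq.w).symm
  · obtain ⟨u, hu⟩ := ht
    obtain ⟨w, rfl⟩ := mem_range_of_isPullback sq hu.symm
    obtain ⟨k, hk⟩ := Set.mem_iUnion.1 (hA.ge (Set.mem_univ w))
    exact ⟨k, ⟨w, hk⟩, rfl⟩

/-- A compact open is covered by finitely many charts inside it. -/
theorem exists_finite_charts (hY : IsAlgSpace Y) [CompactSpace (Points Y)] (hqs : IsQuasiSeparatedSp Y)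
    {O : Set (Points Y)} (hO : IsOpen O) (hc : IsCompact O) :
    ∃ (ι : Type u) (_ : Finite ι) (V : ι → Ch Y), (∀ k, InO O (V k)) ∧
      ∀ x ∈ O, ∃ k, x ∈ Set.range (Points.ofPt (V k).map) := by
  obtain ⟨U, a, hU, ha, has⟩ := exists_affine_chart_of_compactSpace hY
  let T : Ch Y := ⟨U, hU, a, ha⟩
  haveI : CompactSpace ↥T.obj.left := inferInstance
  obtain ⟨ι, hι, P, c, hPc⟩ := exists_charts_of_open T (hO.preimage (Points.continuous_ofPt T.map))
    (Groth.Agent.SpProper61.isCompact_preimage_ofPt hY hqs T.map hO hc)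
  refine ⟨ι, hι, P, fun k => ?_, fun x hx => ?_⟩
  · rintro _ ⟨y, rfl⟩
    rw [← ofPt_hom (c k)]
    exact hPc.le (Set.mem_iUnion.2 ⟨k, y, rfl⟩)
  · obtain ⟨t, rfl⟩ := surjective_ofPt has x
    obtain ⟨k, y, hy⟩ := Set.mem_iUnion.1 (hPc.ge (show t ∈ Points.ofPt T.map ⁻¹' O from hx))
    exact ⟨k, y, by rw [← ofPt_hom (c k), hy]⟩

end Groth.Agent.SpFP87.ModSys
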