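import Groth.Agent.SpFP87.ModPiece
import Groth.Agent.SpFP87.NormExists
/-!
The algebra of a system descends to a space affine over the base.
-/

set_option autoImplicit false
set_option linter.style.haveILetI false
set_option backward.isDefEq.respectTransparency false
universe u
open CategoryTheory CategoryTheory.Limits AlgebraicGeometry
open AlgSp Groth.Agent.SpPts86 Groth.Agent.SpFP87.ThickAffine

namespace Groth.Agent.SpFP87.ModSys

variable {S : Scheme.{u}} {Y N : Sp S} {ν : N ⟶ Y} {hν : IsIntegralMor ν} {A : Fun hν}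

set_option maxHeartbeats 1000000 in
theorem exists_descent (hY : IsAlgSpace Y) (hA : IsSys hν Set.univ A) {U : Ch Y} (D : Model hν A U)
    (hus : RepWith @Surjective U.map) :
    ∃ (T : Sp S) (π : T ⟶ Y) (j : N ⟶ T) (q : (yon S).obj D.obj ⟶ T), IsAlgSpace T ∧
      IsPullback q ((yon S).map D.m) π U.map ∧ j ≫ π = ν ∧ (yon S).map D.φ ≫ q = nfst hν U ≫ j := by
  have hu := U.et
  obtain ⟨R, r₁, r₂, sqR⟩ := exists_isPullback_yon hY.diag U.map U.map
  have hr₁ : Etale r₁.left := hu.property U.map _ r₁ sqR.flip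
  obtain ⟨κ, hκ1, hκ2⟩ : ∃ κ : pullback (nι hν U) r₁ ⟶ NN hν U,
      (yon S).map κ ≫ nfst hν U = (yon S).map (pullback.fst _ _) ≫ nfst hν U ∧
      κ ≫ nι hν U = pullback.snd _ _ ≫ r₂ := by
    obtain ⟨κ, hκ⟩ := (yon S).map_surjective ((nsq hν U).lift
      ((yon S).map (pullback.fst (nι hν U) r₁) ≫ nfst hν U) ((yon S).map (pullback.snd (nι hν U) r₁ ≫ r₂)) (by
        rw [Category.assoc, (nsq hν U).w, ← Functor.map_comp_assoc, pullback.condition]
        exact map_comp_sq sqR.w))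
    exact ⟨κ, by rw [hκ, IsPullback.lift_fst],
      (yon S).map_injective (by rw [Functor.map_comp, hκ, IsPullback.lift_snd])⟩
  obtain ⟨s₂, hs₂ν, hs₂'1⟩ := exists_second hY hA D hr₁ sqR.w hκ1 hκ2
  let s₁ := pullback.fst D.m r₁
  -- symmetry
  obtain ⟨σ₀, hσ₀⟩ := (yon S).map_surjective (sqR.lift ((yon S).map r₂) ((yon S).map r₁) sqR.w.symm)
  have hσ₀1 : σ₀ ≫ r₁ = r₂ := (yon S).map_injective (by rw [Functor.map_comp, hσ₀, sqR.lift_fst])
  have hσ₀2 : σ₀ ≫ r₂ = r₁ := (yon S).map_injective (by rw [Functor.map_comp, hσ₀, sqR.lift_snd])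
  obtain ⟨σ, hσf, hσs⟩ : ∃ σ : pullback D.m r₁ ⟶ pullback D.m r₁, σ ≫ s₁ = s₂ ∧
      σ ≫ pullback.snd D.m r₁ = pullback.snd D.m r₁ ≫ σ₀ :=
    ⟨pullback.lift s₂ (pullback.snd D.m r₁ ≫ σ₀) (by rw [hs₂ν, Category.assoc, hσ₀1]),
      pullback.lift_fst _ _ _, pullback.lift_snd _ _ _⟩
  have hσ2 : σ ≫ s₂ = s₁ := by
    obtain ⟨τ, hτ1, hτ2⟩ : ∃ τ : pullback (nι hν U) r₁ ⟶ pullback (nι hν U) r₁,
        τ ≫ pullback.fst _ _ = κ ∧ τ ≫ pullback.snd _ _ = pullback.snd _ _ ≫ σ₀ :=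
      ⟨pullback.lift κ (pullback.snd _ _ ≫ σ₀) (by rw [hκ2, Category.assoc, hσ₀1]),
        pullback.lift_fst _ _ _, pullback.lift_snd _ _ _⟩
    have hτ : bc D r₁ ≫ σ = τ ≫ bc D r₁ := by
      refine pullback.hom_ext ?_ ?_
      · rw [Category.assoc, hσf, hs₂'1, Category.assoc, bc_fst, reassoc_of% hτ1]
      · rw [Category.assoc, hσs, reassoc_of% bc_snd D r₁, Category.assoc, bc_snd, hτ2]
    have hτκ : τ ≫ κ = pullback.fst _ _ := by
      refine nmap_hom_ext hν ?_ ?_
      · rw [Functor.map_comp, Category.assoc, hκ1, ← Functor.map_comp_assoc, hτ1, hκ1]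
      · rw [Category.assoc, hκ2, reassoc_of% hτ2, hσ₀2, pullback.condition]
    refine huniq hY hA D r₁ hr₁ ?_
    rw [reassoc_of% hτ, hs₂'1, reassoc_of% hτκ, bc_fst]
  have hinj : ∀ (T : Over S) (a b : T ⟶ pullback D.m r₁), a ≫ s₂ = b ≫ s₂ → a ≫ s₁ = b ≫ s₁ → a = b := by
    intro T a b h2 h1
    refine pullback.hom_ext h1 ((yon S).map_injective (sqR.hom_ext ?_ ?_))
    · rw [← Functor.map_comp, ← Functor.map_comp, Category.assoc, Category.assoc, ← pullback.condition,
        reassoc_of% h1]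
    · rw [← Functor.map_comp, ← Functor.map_comp, Category.assoc, Category.assoc, ← hs₂ν, reassoc_of% h2]
  have hσσ : σ ≫ σ = 𝟙 _ := hinj _ _ _ (by rw [Category.assoc, hσ2, hσf, Category.id_comp])
    (by rw [Category.assoc, hσf, hσ2, Category.id_comp])
  haveI : IsIso σ := ⟨σ, hσσ, hσσ⟩
  have hs₁ : Etale s₁.left :=
    MorphismProperty.of_isPullback (P := @Etale) ((IsPullback.of_hasPullback D.m r₁).map (Over.forget S)).flip hr₁
  have hs₂ : Etale s₂.left := by rw [← hσf]; show Etale (σ.left ≫ s₁.left); infer_instance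
  -- reflexivity
  obtain ⟨δ, hδ⟩ := (yon S).map_surjective (sqR.lift (𝟙 _) (𝟙 _) rfl)
  have hδ1 : δ ≫ r₁ = 𝟙 U.obj := (yon S).map_injective (by rw [Functor.map_comp, hδ, sqR.lift_fst, CategoryTheory.Functor.map_id])
  have hδ2 : δ ≫ r₂ = 𝟙 U.obj := (yon S).map_injective (by rw [Functor.map_comp, hδ, sqR.lift_snd, CategoryTheory.Functor.map_id])
  obtain ⟨d, hd₁, hdρ⟩ : ∃ d : D.obj ⟶ pullback D.m r₁, d ≫ s₁ = 𝟙 D.obj ∧ d ≫ pullback.snd D.m r₁ = D.m ≫ δ :=
    ⟨pullback.lift (𝟙 D.obj) (D.m ≫ δ) (by rw [Category.assoc, hδ1, Category.id_comp, Category.comp_id]),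
      pullback.lift_fst _ _ _, pullback.lift_snd _ _ _⟩
  have hd₂ : d ≫ s₂ = 𝟙 D.obj := by
    obtain ⟨δY, hδY1, hδY2⟩ : ∃ δY : NN hν U ⟶ pullback (nι hν U) r₁,
        δY ≫ pullback.fst _ _ = 𝟙 _ ∧ δY ≫ pullback.snd _ _ = nι hν U ≫ δ :=
      ⟨pullback.lift (𝟙 _) (nι hν U ≫ δ) (by rw [Category.assoc, hδ1, Category.id_comp, Category.comp_id]),
        pullback.lift_fst _ _ _, pullback.lift_snd _ _ _⟩
    have hdY : D.φ ≫ d = δY ≫ bc D r₁ := by
      refine pullback.hom_ext ?_ ?_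
      · rw [Category.assoc, hd₁, Category.comp_id, Category.assoc, bc_fst, reassoc_of% hδY1]
      · rw [Category.assoc, hdρ, reassoc_of% D.fac, Category.assoc, bc_snd, hδY2]
    have hδκ : δY ≫ κ = 𝟙 _ := by
      refine nmap_hom_ext hν ?_ ?_
      · rw [Functor.map_comp, Category.assoc, hκ1, ← Functor.map_comp_assoc, hδY1]
      · rw [Category.assoc, hκ2, reassoc_of% hδY2, hδ2, Category.comp_id, Category.id_comp]
    have h0 : D.φ ≫ d ≫ s₂ = D.φ := by rw [reassoc_of% hdY, hs₂'1, reassoc_of% hδκ]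
    refine Over.OverMorphism.ext (ext_of_isAffine ?_)
    ext r
    apply D.inj
    have := congr($(congrArg (fun f : NN hν U ⟶ D.obj => f.left.appTop) h0).hom r)
    simp only [Over.comp_left, Over.id_left, Scheme.Hom.comp_appTop, Scheme.Hom.id_appTop, CommRingCat.hom_comp,
      CommRingCat.hom_id, RingHom.comp_apply, RingHom.id_apply] at this ⊢
    exact this
  -- transitivity
  have htrans : ∀ (T : Over S) (a b : T ⟶ pullback D.m r₁), a ≫ s₂ = b ≫ s₁ →
      ∃ c : T ⟶ pullback D.m r₁, c ≫ s₁ = a ≫ s₁ ∧ c ≫ s₂ = b ≫ s₂ := by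
    let x₀ := pullback.fst r₂ r₁
    let y₀ := pullback.snd r₂ r₁
    have hxy : x₀ ≫ r₂ = y₀ ≫ r₁ := pullback.condition
    obtain ⟨a₀, ha₀def⟩ : ∃ a₀, a₀ = x₀ ≫ r₁ := ⟨_, rfl⟩
    have ha₀ : Etale a₀.left := by
      rw [ha₀def]
      haveI : Etale x₀.left := MorphismProperty.of_isPullback (P := @Etale)
        ((IsPullback.of_hasPullback r₂ r₁).map (Over.forget S)).flip hr₁
      haveI := hr₁
      show Etale (x₀.left ≫ r₁.left)
      infer_instance
    obtain ⟨c₀, hc₀⟩ := (yon S).map_surjective (sqR.lift ((yon S).map (x₀ ≫ r₁)) ((yon S).map (y₀ ≫ r₂)) (by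
      rw [Functor.map_comp_assoc, sqR.w, ← Functor.map_comp_assoc, hxy]
      simp only [Functor.map_comp, Category.assoc, sqR.w]))
    have hc₀1 : c₀ ≫ r₁ = x₀ ≫ r₁ := (yon S).map_injective (by rw [Functor.map_comp, hc₀, sqR.lift_fst])
    have hc₀2 : c₀ ≫ r₂ = y₀ ≫ r₂ := (yon S).map_injective (by rw [Functor.map_comp, hc₀, sqR.lift_snd])
    let p := pullback.fst D.m a₀
    let ω := pullback.snd D.m a₀
    have hp : p ≫ D.m = ω ≫ x₀ ≫ r₁ := pullback.condition.trans (congrArg (ω ≫ ·) ha₀def)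
    obtain ⟨A', hA1, hA2⟩ : ∃ A' : pullback D.m a₀ ⟶ pullback D.m r₁, A' ≫ s₁ = p ∧
        A' ≫ pullback.snd D.m r₁ = ω ≫ x₀ :=
      ⟨pullback.lift p (ω ≫ x₀) (by rw [hp, Category.assoc]), pullback.lift_fst _ _ _, pullback.lift_snd _ _ _⟩
    obtain ⟨B, hB1, hB2⟩ : ∃ B : pullback D.m a₀ ⟶ pullback D.m r₁, B ≫ s₁ = A' ≫ s₂ ∧
        B ≫ pullback.snd D.m r₁ = ω ≫ y₀ :=
      ⟨pullback.lift (A' ≫ s₂) (ω ≫ y₀) (by rw [Category.assoc, hs₂ν, reassoc_of% hA2, hxy, Category.assoc]),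
        pullback.lift_fst _ _ _, pullback.lift_snd _ _ _⟩
    obtain ⟨C', hC1, hC2⟩ : ∃ C' : pullback D.m a₀ ⟶ pullback D.m r₁, C' ≫ s₁ = p ∧
        C' ≫ pullback.snd D.m r₁ = ω ≫ c₀ :=
      ⟨pullback.lift p (ω ≫ c₀) (by rw [hp, Category.assoc, hc₀1]), pullback.lift_fst _ _ _, pullback.lift_snd _ _ _⟩
    have hCB : C' ≫ s₂ = B ≫ s₂ := by
      obtain ⟨KA, hKA1, hKA2⟩ : ∃ K : pullback (nι hν U) a₀ ⟶ pullback (nι hν U) r₁,
          K ≫ pullback.fst _ _ = pullback.fst _ _ ∧ K ≫ pullback.snd _ _ = pullback.snd _ _ ≫ x₀ :=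
        ⟨pullback.lift (pullback.fst _ _) (pullback.snd _ _ ≫ x₀)
          (by rw [pullback.condition, Category.assoc, ← ha₀def]), pullback.lift_fst _ _ _, pullback.lift_snd _ _ _⟩
      obtain ⟨KC, hKC1, hKC2⟩ : ∃ K : pullback (nι hν U) a₀ ⟶ pullback (nι hν U) r₁,
          K ≫ pullback.fst _ _ = pullback.fst _ _ ∧ K ≫ pullback.snd _ _ = pullback.snd _ _ ≫ c₀ :=
        ⟨pullback.lift (pullback.fst _ _) (pullback.snd _ _ ≫ c₀)
          (by rw [pullback.condition, Category.assoc, hc₀1, ← ha₀def]), pullback.lift_fst _ _ _,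
          pullback.lift_snd _ _ _⟩
      obtain ⟨KB, hKB1, hKB2⟩ : ∃ K : pullback (nι hν U) a₀ ⟶ pullback (nι hν U) r₁,
          K ≫ pullback.fst _ _ = KA ≫ κ ∧ K ≫ pullback.snd _ _ = pullback.snd _ _ ≫ y₀ :=
        ⟨pullback.lift (KA ≫ κ) (pullback.snd _ _ ≫ y₀)
          (by rw [Category.assoc, hκ2, reassoc_of% hKA2, hxy, Category.assoc]),
          pullback.lift_fst _ _ _, pullback.lift_snd _ _ _⟩
      have hA' : bc D a₀ ≫ A' = KA ≫ bc D r₁ := by
        refine pullback.hom_ext ?_ ?_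
        · rw [Category.assoc, hA1, bc_fst, Category.assoc, bc_fst, reassoc_of% hKA1]
        · rw [Category.assoc, hA2, reassoc_of% bc_snd D a₀, Category.assoc, bc_snd, hKA2]
      have hC : bc D a₀ ≫ C' = KC ≫ bc D r₁ := by
        refine pullback.hom_ext ?_ ?_
        · rw [Category.assoc, hC1, bc_fst, Category.assoc, bc_fst, reassoc_of% hKC1]
        · rw [Category.assoc, hC2, reassoc_of% bc_snd D a₀, Category.assoc, bc_snd, hKC2]
      have hB : bc D a₀ ≫ B = KB ≫ bc D r₁ := by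
        refine pullback.hom_ext ?_ ?_
        · rw [Category.assoc, hB1, reassoc_of% hA', hs₂'1, Category.assoc, bc_fst, reassoc_of% hKB1]
        · rw [Category.assoc, hB2, reassoc_of% bc_snd D a₀, Category.assoc, bc_snd, hKB2]
      have hK : KC ≫ κ = KB ≫ κ := by
        refine nmap_hom_ext hν ?_ ?_
        · rw [Functor.map_comp, Category.assoc, hκ1, ← Functor.map_comp_assoc, hKC1, Functor.map_comp,
            Category.assoc, hκ1, ← Functor.map_comp_assoc, hKB1, Functor.map_comp, Category.assoc, hκ1,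
            ← Functor.map_comp_assoc, hKA1]
        · rw [Category.assoc, hκ2, reassoc_of% hKC2, hc₀2, Category.assoc, hκ2, reassoc_of% hKB2]
      refine huniq hY hA D a₀ ha₀ ?_
      rw [reassoc_of% hC, reassoc_of% hB, hs₂'1, reassoc_of% hK]
    intro T a b hab
    have e1 : (a ≫ pullback.snd D.m r₁) ≫ r₂ = (b ≫ pullback.snd D.m r₁) ≫ r₁ := by
      rw [Category.assoc, Category.assoc, ← hs₂ν, ← pullback.condition, reassoc_of% hab]
    have e2 : (a ≫ s₁) ≫ D.m = pullback.lift _ _ e1 ≫ a₀ := by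
      rw [Category.assoc, pullback.condition, ha₀def]
      simp only [x₀, pullback.lift_fst_assoc, Category.assoc]
    obtain ⟨z, hz1, hz2⟩ : ∃ z : T ⟶ pullback D.m a₀, z ≫ p = a ≫ s₁ ∧ z ≫ ω = pullback.lift _ _ e1 :=
      ⟨pullback.lift (a ≫ s₁) _ e2, pullback.lift_fst _ _ _, pullback.lift_snd _ _ _⟩
    have hzA : z ≫ A' = a := pullback.hom_ext (by rw [Category.assoc, hA1, hz1])
      (by rw [Category.assoc, hA2, reassoc_of% hz2]; simp only [x₀, pullback.lift_fst])
    have hzB : z ≫ B = b := pullback.hom_ext (by rw [Category.assoc, hB1, reassoc_of% hzA, hab])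
      (by rw [Category.assoc, hB2, reassoc_of% hz2]; simp only [y₀, pullback.lift_snd])
    exact ⟨z ≫ C', by rw [Category.assoc, hC1, hz1], by rw [Category.assoc, hCB, reassoc_of% hzB]⟩
  have heqv : IsEtaleEqvRel s₁ s₂ := by
    refine ⟨⟨fun T a b h2 h1 => hinj T a b h2 h1, fun T =>
      ⟨fun x => ⟨x ≫ d, by rw [Category.assoc, hd₂, Category.comp_id], by rw [Category.assoc, hd₁, Category.comp_id]⟩,
       fun {x y} ⟨r, ha, hb⟩ => ⟨r ≫ σ, by rw [Category.assoc, hσ2, hb], by rw [Category.assoc, hσf, ha]⟩,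
       fun {x y z} ⟨r, ha, hb⟩ ⟨r', ha', hb'⟩ => ?_⟩⟩, hs₁, hs₂⟩
    obtain ⟨c, hc1, hc2⟩ := htrans T r' r (ha'.trans hb.symm)
    exact ⟨c, hc2.trans ha, hc1.trans hb'⟩
  -- the quotient
  obtain ⟨hT, hq, hqsur⟩ := quotMap_atlas heqv
  have hker : IsPullback ((yon S).map s₂) ((yon S).map s₁) (quotMap s₁ s₂) (quotMap s₁ s₂) :=
    quotMap_kernelPair heqv.toIsEqvRel
  let q := quotMap s₁ s₂
  have hql := locLift_of_atlas hq hqsur
  have hrel : ∀ {W : Over S} (l l' : W ⟶ D.obj), (yon S).map l ≫ q = (yon S).map l' ≫ q →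
      ∃ r : W ⟶ pullback D.m r₁, r ≫ s₂ = l ∧ r ≫ s₁ = l' := fun {W} l l' hl => by
    obtain ⟨r, hr⟩ := (yon S).map_surjective (hker.lift _ _ hl)
    exact ⟨r, (yon S).map_injective (by rw [Functor.map_comp, hr, hker.lift_fst]),
      (yon S).map_injective (by rw [Functor.map_comp, hr, hker.lift_snd])⟩
  obtain ⟨π, hπq⟩ := exists_desc hql ((yon S).map D.m ≫ U.map) (fun W l l' hl => by
    obtain ⟨r, e1, e2⟩ := hrel l l' hl
    rw [← e1, ← e2, ← Functor.map_comp_assoc, ← Functor.map_comp_assoc, Category.assoc, hs₂ν, Category.assoc,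
      pullback.condition, Functor.map_comp, Functor.map_comp, Functor.map_comp, Functor.map_comp]
    simp only [Category.assoc, sqR.w])
  -- the square
  have sqN : IsPullback q ((yon S).map D.m) π U.map := by
    let l : (yon S).obj D.obj ⟶ pullback π U.map := pullback.lift q ((yon S).map D.m) hπq
    haveI : Mono l := mono_of_probe fun T a b hab => by
      obtain ⟨a, rfl⟩ := (yon S).map_surjective a
      obtain ⟨b, rfl⟩ := (yon S).map_surjective b
      have h1 := congrArg (· ≫ pullback.fst π U.map) hab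
      have h2 := congrArg (· ≫ pullback.snd π U.map) hab
      simp only [Category.assoc, l, pullback.lift_fst, pullback.lift_snd, ← Functor.map_comp] at h1 h2
      obtain ⟨r, e1, e2⟩ := hrel a b h1
      have h3 := (yon S).map_injective h2
      have hr : r ≫ pullback.snd D.m r₁ = b ≫ D.m ≫ δ := (yon S).map_injective (sqR.hom_ext (by
        rw [← Functor.map_comp, ← Functor.map_comp, Category.assoc, ← pullback.condition, reassoc_of% e2,
          Category.assoc, Category.assoc, hδ1, Category.comp_id]) (by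
        rw [← Functor.map_comp, ← Functor.map_comp, Category.assoc, ← hs₂ν, reassoc_of% e1,
          Category.assoc, Category.assoc, hδ2, Category.comp_id, h3]))
      have hrd : r = b ≫ d := pullback.hom_ext (e2.trans (by rw [Category.assoc]; exact ((congrArg (b ≫ ·) hd₁).trans (Category.comp_id _)).symm))
        (by rw [hr, Category.assoc, hdρ])
      rw [← e1, hrd, Category.assoc, hd₂, Category.comp_id]
    haveI : IsIso l := isIso_of_mono_of_locLift l fun T g => by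
      obtain ⟨W, c, n, hc, hn⟩ := hql T (g ≫ pullback.fst π U.map)
      obtain ⟨n, rfl⟩ := (yon S).map_surjective n
      obtain ⟨a, ha⟩ := (yon S).map_surjective (g ≫ pullback.snd π U.map)
      have hw : ((yon S).map n ≫ (yon S).map D.m) ≫ U.map = ((yon S).map c ≫ (yon S).map a) ≫ U.map := by
        rw [Category.assoc, ← hπq, ← Category.assoc, hn, ha]
        simp only [Category.assoc, pullback.condition]
      obtain ⟨ρ, hρ⟩ := (yon S).map_surjective (sqR.lift _ _ hw)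
      have hρ1 : n ≫ D.m = ρ ≫ r₁ := (yon S).map_injective (by rw [Functor.map_comp, Functor.map_comp, hρ, sqR.lift_fst])
      have hρ2 : ρ ≫ r₂ = c ≫ a := (yon S).map_injective (by rw [Functor.map_comp, hρ, sqR.lift_snd, Functor.map_comp])
      refine ⟨W, c, (yon S).map (pullback.lift n ρ hρ1 ≫ s₂), hc, pullback.hom_ext ?_ ?_⟩
      · simp only [Category.assoc, l, pullback.lift_fst, Functor.map_comp]
        rw [show (yon S).map s₂ ≫ q = (yon S).map s₁ ≫ q from hker.w, ← Functor.map_comp_assoc, pullback.lift_fst]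
        exact hn
      · simp only [Category.assoc, l, pullback.lift_snd, ← Functor.map_comp, hs₂ν, pullback.lift_snd_assoc, hρ2]
        rw [Functor.map_comp, ha]
    exact IsPullback.of_iso_pullback ⟨hπq⟩ (asIso l) (pullback.lift_fst _ _ _) (pullback.lift_snd _ _ _)
  -- the map from the source
  have hnl : LocLift (nfst hν U) := (locLift_of_atlas hu hus).baseChange (nsq hν U).flip
  obtain ⟨jN, hj⟩ := exists_desc hnl ((yon S).map D.φ ≫ q) (by
    intro W l l' hll
    have hw : (yon S).map (l ≫ nι hν U) ≫ U.map = (yon S).map (l' ≫ nι hν U) ≫ U.map := by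
      rw [Functor.map_comp, Functor.map_comp, Category.assoc, Category.assoc, ← (nsq hν U).w, reassoc_of% hll]
    obtain ⟨ρ, hρ⟩ := (yon S).map_surjective (sqR.lift _ _ hw)
    have hρ1 : ρ ≫ r₁ = l ≫ nι hν U := (yon S).map_injective (by rw [Functor.map_comp, hρ, sqR.lift_fst])
    have hρ2 : ρ ≫ r₂ = l' ≫ nι hν U := (yon S).map_injective (by rw [Functor.map_comp, hρ, sqR.lift_snd])
    let z := pullback.lift (f := nι hν U) (g := r₁) l ρ hρ1.symm
    have hzκ : z ≫ κ = l' := nmap_hom_ext hν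
      (by rw [Functor.map_comp, Category.assoc, hκ1, ← Functor.map_comp_assoc, pullback.lift_fst, hll])
      (by rw [Category.assoc, hκ2, pullback.lift_snd_assoc, hρ2])
    have h1 : z ≫ bc D r₁ ≫ s₁ = l ≫ D.φ := by rw [bc_fst, pullback.lift_fst_assoc]
    have h2 : z ≫ bc D r₁ ≫ s₂ = l' ≫ D.φ := by rw [hs₂'1, reassoc_of% hzκ]
    rw [← Functor.map_comp_assoc, ← Functor.map_comp_assoc, ← h1, ← h2]
    simp only [Functor.map_comp, Category.assoc]
    rw [show (yon S).map s₂ ≫ q = (yon S).map s₁ ≫ q from hker.w])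
  refine ⟨_, π, jN, q, hT, sqN, ?_, hj.symm⟩
  haveI := hnl.epi
  rw [← cancel_epi (nfst hν U), ← Category.assoc, hj, Category.assoc, hπq, ← Functor.map_comp_assoc, D.fac,
    (nsq hν U).w]

end Groth.Agent.SpFP87.ModSys
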