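import Groth.Agent.SpFP87.ModChart
/-!
Flat base change and descent of submodules of the sections of an affine morphism on etale charts.
-/

set_option autoImplicit false
set_option linter.style.haveILetI false
set_option backward.isDefEq.respectTransparency false
universe u
open CategoryTheory CategoryTheory.Limits AlgebraicGeometry TensorProduct
open AlgSp Groth.Agent.SpPts86 Groth.Agent.SpFP87.ThickAffine

namespace Groth.Agent.SpFP87.ModSys

variable {S : Scheme.{u}} {Y N : Sp S} {ν : N ⟶ Y} (hν : IsIntegralMor ν)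

/-- The structure map of the sections over a chart, seen over a chart below. -/
noncomputable abbrev gmap {Q T : Ch Y} (b : Ch.Hom Q T) : Γ(T.obj.left, ⊤) →+* C hν Q :=
  ((nι hν Q ≫ b.m).left.appTop.hom : Γ(T.obj.left, ⊤) →+* C hν Q)

theorem gmap_apply {Q T : Ch Y} (b : Ch.Hom Q T) (r : Γ(T.obj.left, ⊤)) :
    gmap hν b r = algebraMap Γ(Q.obj.left, ⊤) (C hν Q) (b.m.left.appTop r) := by
  rw [gmap, Over.comp_left, Scheme.Hom.comp_appTop]
  rfl

theorem exists_tensor_C {T P Q Z : Ch Y} (a : Ch.Hom P T) (b : Ch.Hom Q T) (z₁ : Ch.Hom Z P) (z₂ : Ch.Hom Z Q)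
    (pb : IsPullback z₁.m z₂.m a.m b.m) :
    ∃ φ : Via a.m.left.appTop.hom ⊗[Γ(T.obj.left, ⊤)] Via (gmap hν b) →+* C hν Z,
      (∀ x y, φ (x ⊗ₜ y) = algebraMap Γ(Z.obj.left, ⊤) (C hν Z) (z₁.m.left.appTop (Via.out x)) *
        res hν z₂ (Via.out y)) ∧ Function.Bijective φ := by
  have h : IsPullback ((nι hν Z).left ≫ z₁.m.left) (nmap hν z₂).left a.m.left
      ((nι hν Q).left ≫ b.m.left) :=
    ((nmap_isPullback hν z₂).paste_vert (pb.map (Over.forget S)).flip).flip
  exact exists_tensor_of_isPullback (Z := T.obj.left) (X := P.obj.left) (Y := (NN hν Q).left) (P := (NN hν Z).left)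
    (f := a.m.left) (g := (nι hν Q ≫ b.m).left) (fst := (nι hν Z).left ≫ z₁.m.left) (snd := (nmap hν z₂).left) h

/-- A submodule of the sections, as a module over the sections of a chart below. -/
noncomputable def viaSub {Q T : Ch Y} (b : Ch.Hom Q T) (M : Submodule Γ(Q.obj.left, ⊤) (C hν Q)) :
    Submodule Γ(T.obj.left, ⊤) (Via (gmap hν b)) where
  carrier := {y | Via.out y ∈ M}
  add_mem' := fun hx hy => M.add_mem hx hy
  zero_mem' := M.zero_mem
  smul_mem' := fun r y hy => by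
    change gmap hν b r * Via.out y ∈ M
    rw [gmap_apply, ← Algebra.smul_def]
    exact M.smul_mem _ hy

theorem mem_viaSub {Q T : Ch Y} (b : Ch.Hom Q T) (M : Submodule Γ(Q.obj.left, ⊤) (C hν Q))
    (y : Via (gmap hν b)) : y ∈ viaSub hν b M ↔ Via.out y ∈ M := Iff.rfl

/-- The submodule generated by restriction, through the tensor product. -/
theorem exists_of_mem_push {T P Q Z : Ch Y} (a : Ch.Hom P T) (b : Ch.Hom Q T) (z₁ : Ch.Hom Z P) (z₂ : Ch.Hom Z Q)
    (pb : IsPullback z₁.m z₂.m a.m b.m) {φ : Via a.m.left.appTop.hom ⊗[Γ(T.obj.left, ⊤)] Via (gmap hν b) →+* C hν Z}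
    (hφ : ∀ x y, φ (x ⊗ₜ y) = algebraMap Γ(Z.obj.left, ⊤) (C hν Z) (z₁.m.left.appTop (Via.out x)) *
        res hν z₂ (Via.out y))
    (M : Submodule Γ(Q.obj.left, ⊤) (C hν Q)) {x : C hν Z} (hx : x ∈ push hν z₂ M) :
    ∃ t : Via a.m.left.appTop.hom ⊗[Γ(T.obj.left, ⊤)] viaSub hν b M,
      φ (LinearMap.lTensor _ (viaSub hν b M).subtype t) = x := by
  obtain ⟨ψ, hψ, hψb⟩ := exists_tensor_of_isPullback (Z := T.obj.left) (X := P.obj.left) (Y := Q.obj.left)
    (P := Z.obj.left) (f := a.m.left) (g := b.m.left) (fst := z₁.m.left) (snd := z₂.m.left)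
    (pb.map (Over.forget S))
  let G : Via a.m.left.appTop.hom ⊗[Γ(T.obj.left, ⊤)] viaSub hν b M → C hν Z :=
    fun t => φ (LinearMap.lTensor _ (viaSub hν b M).subtype t)
  have hG : ∀ t t', G (t + t') = G t + G t' := fun t t' => by simp only [G, map_add]
  have hG0 : G 0 = 0 := by simp only [G, map_zero]
  refine Submodule.span_induction (p := fun x _ => ∃ t, G t = x) ?_ ⟨0, hG0⟩
    (fun x y _ _ ⟨t, ht⟩ ⟨t', ht'⟩ => ⟨t + t', by rw [hG, ht, ht']⟩) ?_ hx
  · rintro _ ⟨m, hm, rfl⟩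
    refine ⟨(1 : Via a.m.left.appTop.hom) ⊗ₜ (⟨Via.into (gmap hν b) m, hm⟩ : viaSub hν b M), ?_⟩
    simp only [G, LinearMap.lTensor_tmul, Submodule.subtype_apply, hφ, map_one, one_mul]
    rfl
  · rintro s x - ⟨t, rfl⟩
    obtain ⟨w, rfl⟩ := hψb.2 s
    induction w using TensorProduct.induction_on with
    | zero => exact ⟨0, by rw [map_zero, zero_smul, hG0]⟩
    | add w w' hw hw' =>
      obtain ⟨t₁, h₁⟩ := hw
      obtain ⟨t₂, h₂⟩ := hw'
      exact ⟨t₁ + t₂, by rw [hG, h₁, h₂, map_add, add_smul]⟩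
    | tmul p q =>
      rw [hψ]
      induction t using TensorProduct.induction_on with
      | zero => exact ⟨0, by rw [hG0, smul_zero]⟩
      | add t t' ht ht' =>
        obtain ⟨t₁, h₁⟩ := ht
        obtain ⟨t₂, h₂⟩ := ht'
        exact ⟨t₁ + t₂, by rw [hG, h₁, h₂, hG, smul_add]⟩
      | tmul p' m =>
        refine ⟨(p * p') ⊗ₜ (⟨Via.into (gmap hν b) ((Via.out q : Γ(Q.obj.left, ⊤)) • Via.out m.1),
          M.smul_mem _ m.2⟩ : viaSub hν b M), ?_⟩
        simp only [G, LinearMap.lTensor_tmul, Submodule.subtype_apply, hφ, map_mul]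
        rw [show Via.out (Via.into (gmap hν b) ((Via.out q : Γ(Q.obj.left, ⊤)) • Via.out m.1)) =
          (Via.out q : Γ(Q.obj.left, ⊤)) • Via.out m.1 from rfl, res_smul, Algebra.smul_def, Algebra.smul_def,
          map_mul]
        ring

theorem isPullback_id {T P : Ch Y} (a : Ch.Hom P T) :
    IsPullback (Ch.Hom.id P).m a.m a.m (Ch.Hom.id T).m :=
  haveI : IsIso (Ch.Hom.id P).m := inferInstanceAs (IsIso (𝟙 P.obj))
  haveI : IsIso (Ch.Hom.id T).m := inferInstanceAs (IsIso (𝟙 T.obj))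
  IsPullback.of_horiz_isIso ⟨by simp [Ch.Hom.id]⟩

theorem flat_via {T P : Ch Y} (hY : IsAlgSpace Y) (a : Ch.Hom P T) :
    Module.Flat Γ(T.obj.left, ⊤) (Via a.m.left.appTop.hom) := by
  haveI := a.etale hY
  exact HasRingHomProperty.appTop (P := @Flat.{u}) a.m.left inferInstance

/-- Membership can be tested after a flat restriction, up to a function invertible at a point. -/
theorem exists_notMem_smul_mem (hY : IsAlgSpace Y) {T P : Ch Y} (a : Ch.Hom P T) (q : PrimeSpectrum Γ(P.obj.left, ⊤))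
    {N₀ : Submodule Γ(T.obj.left, ⊤) (C hν T)} {x : C hν T} (hx : res hν a x ∈ push hν a N₀) :
    ∃ s : Γ(T.obj.left, ⊤), a.m.left.appTop s ∉ q.asIdeal ∧ s • x ∈ N₀ := by
  haveI := flat_via hY a
  let g := gmap hν (Ch.Hom.id T)
  have hg : ∀ r, g r = algebraMap Γ(T.obj.left, ⊤) (C hν T) r := fun r => by
    rw [gmap_apply]; rfl
  obtain ⟨φ, hφ, hφb⟩ := exists_tensor_C hν a (Ch.Hom.id T) (Ch.Hom.id P) a (isPullback_id a)
  obtain ⟨t, ht⟩ := exists_of_mem_push hν a (Ch.Hom.id T) (Ch.Hom.id P) a (isPullback_id a) hφ N₀ hx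
  let W := viaSub hν (Ch.Hom.id T) N₀
  let x' : Via g := Via.into g x
  have h0 : (1 : Via a.m.left.appTop.hom) ⊗ₜ[Γ(T.obj.left, ⊤)] x' = LinearMap.lTensor _ W.subtype t := hφb.1 (by
    rw [ht, hφ, map_one, map_one, map_one, one_mul]; rfl)
  let 𝔞 : Ideal Γ(T.obj.left, ⊤) := LinearMap.ker (W.mkQ.comp (LinearMap.toSpanSingleton Γ(T.obj.left, ⊤) (Via g) x'))
  let ι' : (Γ(T.obj.left, ⊤) ⧸ 𝔞) →ₗ[Γ(T.obj.left, ⊤)] (Via g ⧸ W) := Submodule.liftQ 𝔞 _ le_rfl
  have hι : Function.Injective ι' := by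
    rw [← LinearMap.ker_eq_bot]
    exact Submodule.ker_liftQ_eq_bot _ _ _ le_rfl
  have hι1 : ι' (Submodule.Quotient.mk (1 : Γ(T.obj.left, ⊤))) = W.mkQ x' := by
    simp only [ι', Submodule.liftQ_apply]
    exact congrArg W.mkQ (one_smul _ x')
  have h1 : (1 : Via a.m.left.appTop.hom) ⊗ₜ[Γ(T.obj.left, ⊤)] (Submodule.Quotient.mk (1 : Γ(T.obj.left, ⊤)) : Γ(T.obj.left, ⊤) ⧸ 𝔞) = 0 := by
    apply Module.Flat.lTensor_preserves_injective_linearMap (M := Via a.m.left.appTop.hom) ι' hι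
    rw [map_zero, LinearMap.lTensor_tmul, hι1, ← LinearMap.lTensor_tmul, h0, ← LinearMap.lTensor_comp_apply,
      show W.mkQ.comp W.subtype = 0 from LinearMap.ext fun z => (Submodule.Quotient.mk_eq_zero _).2 z.2,
      LinearMap.lTensor_zero, LinearMap.zero_apply]
  have h2 : (1 : Via a.m.left.appTop.hom) ∈ 𝔞.map (algebraMap Γ(T.obj.left, ⊤) (Via a.m.left.appTop.hom)) := by
    have := congrArg (fun z => (Algebra.TensorProduct.quotIdealMapEquivTensorQuot (Via a.m.left.appTop.hom) 𝔞).symm z) h1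
    simp only [map_zero] at this
    rw [← Ideal.Quotient.eq_zero_iff_mem, ← this]
    symm
    rw [AlgEquiv.symm_apply_eq]
    rfl
  have h3 : ¬ 𝔞.map (algebraMap Γ(T.obj.left, ⊤) (Via a.m.left.appTop.hom)) ≤ Ideal.map (Via.into _) q.asIdeal := fun h =>
    q.isPrime.ne_top (by
      have := h h2
      have e : Ideal.map (Via.into a.m.left.appTop.hom) q.asIdeal = q.asIdeal := Ideal.map_id _
      rw [e] at this
      exact (Ideal.eq_top_iff_one _).2 this)
  rw [Ideal.map_le_iff_le_comap, SetLike.le_def] at h3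
  push_neg at h3
  obtain ⟨s, hs, hsq⟩ := h3
  refine ⟨s, fun h => hsq (Ideal.mem_comap.2 (Ideal.mem_map_of_mem _ h)), ?_⟩
  have hs' : s • x' ∈ W := (Submodule.Quotient.mk_eq_zero _).1 (LinearMap.mem_ker.1 hs)
  rw [mem_viaSub] at hs'
  change g s * x ∈ N₀ at hs'
  rwa [hg, ← Algebra.smul_def] at hs'

/-- Inclusions of submodules are local. -/
theorem le_of_local (hY : IsAlgSpace Y) {T : Ch Y} {M N₀ : Submodule Γ(T.obj.left, ⊤) (C hν T)}
    (h : ∀ x : T.obj.left, ∃ (P : Ch Y) (a : Ch.Hom P T), x ∈ Set.range a.m.left ∧ push hν a M ≤ push hν a N₀) :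
    M ≤ N₀ := by
  intro x hx
  by_contra hxN
  let 𝔞 : Ideal Γ(T.obj.left, ⊤) := N₀.comap (LinearMap.toSpanSingleton _ _ x)
  have hne : 𝔞 ≠ ⊤ := fun h => hxN (by
    have h1 : (1 : Γ(T.obj.left, ⊤)) ∈ 𝔞 := h ▸ trivial
    simpa [𝔞] using h1)
  obtain ⟨m, hm, hle⟩ := Ideal.exists_le_maximal _ hne
  obtain ⟨P, a, ⟨y, hy⟩, hle'⟩ := h (T.obj.left.isoSpec.inv ⟨m, hm.isPrime⟩)
  obtain ⟨s, hs, hsx⟩ := exists_notMem_smul_mem hν hY a (P.obj.left.isoSpec.hom y)
    (hle' (res_mem_push hν a hx))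
  have hq : PrimeSpectrum.comap a.m.left.appTop.hom (P.obj.left.isoSpec.hom y) = ⟨m, hm.isPrime⟩ := by
    rw [comap_isoSpec, hy]
    exact congr($(T.obj.left.isoSpec.inv_hom_id) _)
  exact hs (show s ∈ (PrimeSpectrum.comap a.m.left.appTop.hom (P.obj.left.isoSpec.hom y)).asIdeal by
    rw [hq]; exact hle hsx)

theorem eq_of_local (hY : IsAlgSpace Y) {T : Ch Y} {M N₀ : Submodule Γ(T.obj.left, ⊤) (C hν T)}
    (h : ∀ x : T.obj.left, ∃ (P : Ch Y) (a : Ch.Hom P T), x ∈ Set.range a.m.left ∧ push hν a M = push hν a N₀) :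
    M = N₀ :=
  le_antisymm (le_of_local hν hY fun x => by obtain ⟨P, a, h1, h2⟩ := h x; exact ⟨P, a, h1, h2.le⟩)
    (le_of_local hν hY fun x => by obtain ⟨P, a, h1, h2⟩ := h x; exact ⟨P, a, h1, h2.ge⟩)

section glue

variable {ι : Type u} {T : Ch Y} {P : ι → Ch Y} (a : ∀ k, Ch.Hom (P k) T)
  (M : ∀ k, Submodule Γ((P k).obj.left, ⊤) (C hν (P k)))

/-- The sections whose restrictions lie in the given submodules. -/
noncomputable def glue : Submodule Γ(T.obj.left, ⊤) (C hν T) where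
  carrier := {x | ∀ k, res hν (a k) x ∈ M k}
  add_mem' := fun hx hy k => by rw [map_add]; exact (M k).add_mem (hx k) (hy k)
  zero_mem' := fun k => by rw [map_zero]; exact (M k).zero_mem
  smul_mem' := fun r x hx k => by rw [res_smul]; exact (M k).smul_mem _ (hx k)

theorem push_glue [Finite ι] (hY : IsAlgSpace Y)
    (hM : ∀ (k l : ι) (Z : Ch Y) (z₁ : Ch.Hom Z (P k)) (z₂ : Ch.Hom Z (P l)),
      z₁.m ≫ (a k).m = z₂.m ≫ (a l).m → push hν z₁ (M k) = push hν z₂ (M l)) (k : ι) :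
    push hν (a k) (glue hν a M) = M k := by
  classical
  have := Fintype.ofFinite ι
  refine le_antisymm (Submodule.span_le.2 (by rintro _ ⟨x, hx, rfl⟩; exact hx k)) fun x hx => ?_
  haveI := flat_via hY (a k)
  let g₀ := gmap hν (Ch.Hom.id T)
  obtain ⟨φ, hφ, hφb⟩ := exists_tensor_C hν (a k) (Ch.Hom.id T) (Ch.Hom.id (P k)) (a k) (isPullback_id (a k))
  obtain ⟨y, hy⟩ := hφb.2 x
  let ρ : ∀ l, Via g₀ →ₗ[Γ(T.obj.left, ⊤)] Via (gmap hν (a l)) := fun l =>
    { toFun := fun c => Via.into _ (res hν (a l) (Via.out c))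
      map_add' := fun c d => by simp only [map_add]
      map_smul' := fun r c => by
        change res hν (a l) (g₀ r * Via.out c) = gmap hν (a l) r * res hν (a l) (Via.out c)
        rw [map_mul, gmap_apply hν (Ch.Hom.id T), gmap_apply hν (a l), res_algebraMap]
        rfl }
  let F : Via g₀ →ₗ[Γ(T.obj.left, ⊤)] ∀ l, Via (gmap hν (a l)) ⧸ viaSub hν (a l) (M l) :=
    LinearMap.pi fun l => (Submodule.mkQ _).comp (ρ l)
  have hker : LinearMap.ker F = viaSub hν (Ch.Hom.id T) (glue hν a M) := by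
    ext c
    rw [LinearMap.mem_ker, mem_viaSub]
    constructor
    · intro hc l
      exact (Submodule.Quotient.mk_eq_zero _).1 (congrFun hc l)
    · intro hc
      funext l
      exact (Submodule.Quotient.mk_eq_zero _).2 (hc l)
  have hFy : LinearMap.lTensor (Via (a k).m.left.appTop.hom) F y = 0 := by
    apply (TensorProduct.piRight Γ(T.obj.left, ⊤) Γ(T.obj.left, ⊤) (Via (a k).m.left.appTop.hom)
      fun l => Via (gmap hν (a l)) ⧸ viaSub hν (a l) (M l)).injective
    rw [map_zero]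
    funext l
    have hpr : ∀ z : Via (a k).m.left.appTop.hom ⊗[Γ(T.obj.left, ⊤)] Via g₀,
        TensorProduct.piRight Γ(T.obj.left, ⊤) Γ(T.obj.left, ⊤) (Via (a k).m.left.appTop.hom)
          (fun l => Via (gmap hν (a l)) ⧸ viaSub hν (a l) (M l)) (LinearMap.lTensor _ F z) l =
        LinearMap.lTensor _ (viaSub hν (a l) (M l)).mkQ (LinearMap.lTensor _ (ρ l) z) := by
      intro z
      induction z using TensorProduct.induction_on with
      | zero => simp
      | add z z' hz hz' => simp only [map_add, Pi.add_apply, hz, hz']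
      | tmul p c => simp [F, TensorProduct.piRight_apply, TensorProduct.piRightHom_tmul]
    rw [hpr, Pi.zero_apply]
    -- the product of the two pieces
    haveI := (a k).etale hY
    haveI : Etale ((pullback.fst (a k).m (a l).m) ≫ (a k).m).left := by
      haveI : Etale (pullback.fst (a k).m (a l).m).left := MorphismProperty.of_isPullback (P := @Etale)
        ((IsPullback.of_hasPullback (a k).m (a l).m).map (Over.forget S)).flip ((a l).etale hY)
      rw [Over.comp_left]; infer_instance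
    haveI : IsAffine (pullback (a k).m (a l).m).left := by
      haveI : IsAffine (pullback ((Over.forget S).map (a k).m) ((Over.forget S).map (a l).m)) := by
        haveI : IsAffine ((Over.forget S).obj T.obj) := T.aff
        haveI : IsAffine ((Over.forget S).obj (P k).obj) := (P k).aff
        haveI : IsAffine ((Over.forget S).obj (P l).obj) := (P l).aff
        infer_instance
      exact IsAffine.of_isIso ((IsPullback.of_hasPullback (a k).m (a l).m).map (Over.forget S)).isoPullback.hom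
    let Z : Ch Y := T.comp (pullback.fst (a k).m (a l).m ≫ (a k).m)
    let z₁ : Ch.Hom Z (P k) := ⟨pullback.fst _ _, by
      show _ = (yon S).map _ ≫ T.map
      rw [Functor.map_comp, Category.assoc, (a k).w]⟩
    let z₂ : Ch.Hom Z (P l) := ⟨pullback.snd _ _, by
      show _ = (yon S).map _ ≫ T.map
      rw [pullback.condition, Functor.map_comp, Category.assoc, (a l).w]⟩
    have pb : IsPullback z₁.m z₂.m (a k).m (a l).m := IsPullback.of_hasPullback _ _
    obtain ⟨φ', hφ', hφ'b⟩ := exists_tensor_C hν (a k) (a l) z₁ z₂ pb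
    have hcomp : ∀ z : Via (a k).m.left.appTop.hom ⊗[Γ(T.obj.left, ⊤)] Via g₀,
        φ' (LinearMap.lTensor _ (ρ l) z) = res hν z₁ (φ z) := by
      intro z
      induction z using TensorProduct.induction_on with
      | zero => simp
      | add z z' hz hz' => simp only [map_add, hz, hz']
      | tmul p c =>
        rw [LinearMap.lTensor_tmul, hφ', hφ, map_mul, res_algebraMap]
        refine congrArg₂ (· * ·) rfl ?_
        change res hν z₂ (res hν (a l) (Via.out c)) = res hν z₁ (res hν (a k) (Via.out c))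
        rw [res_res hν z₂ (a l) ⟨z₁.m ≫ (a k).m, by rw [Functor.map_comp, Category.assoc, (a k).w, z₁.w]⟩ pb.w.symm,
          res_res hν z₁ (a k) ⟨z₁.m ≫ (a k).m, by rw [Functor.map_comp, Category.assoc, (a k).w, z₁.w]⟩ rfl]
    obtain ⟨t, ht⟩ := exists_of_mem_push hν (a k) (a l) z₁ z₂ pb hφ' (M l)
      (x := res hν z₁ x) (hM k l Z z₁ z₂ pb.w ▸ res_mem_push hν z₁ hx)
    rw [← hy, ← hcomp] at ht
    rw [← hφ'b.1 ht, ← LinearMap.lTensor_comp_apply,
      show (viaSub hν (a l) (M l)).mkQ.comp (viaSub hν (a l) (M l)).subtype = 0 from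
        LinearMap.ext fun z => (Submodule.Quotient.mk_eq_zero _).2 z.2,
      LinearMap.lTensor_zero, LinearMap.zero_apply]
  have hex : Function.Exact (LinearMap.lTensor (Via (a k).m.left.appTop.hom) (LinearMap.ker F).subtype)
      (LinearMap.lTensor (Via (a k).m.left.appTop.hom) F) :=
    Module.Flat.lTensor_exact _ (LinearMap.exact_subtype_ker_map F)
  obtain ⟨y', rfl⟩ := (hex y).1 hFy
  rw [← hy]
  clear hy hFy
  induction y' using TensorProduct.induction_on with
  | zero => rw [map_zero, map_zero]; exact zero_mem _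
  | add z z' hz hz' => rw [map_add, map_add]; exact add_mem hz hz'
  | tmul p c =>
    rw [LinearMap.lTensor_tmul, hφ, ← Algebra.smul_def]
    exact Submodule.smul_mem _ _ (res_mem_push hν _ ((mem_viaSub hν _ _ _).1 (hker.le c.2)))

theorem glue_fg [Finite ι] (hY : IsAlgSpace Y)
    (hM : ∀ (k l : ι) (Z : Ch Y) (z₁ : Ch.Hom Z (P k)) (z₂ : Ch.Hom Z (P l)),
      z₁.m ≫ (a k).m = z₂.m ≫ (a l).m → push hν z₁ (M k) = push hν z₂ (M l))
    (hfg : ∀ k, (M k).FG) (hcov : ∀ x : T.obj.left, ∃ k, x ∈ Set.range (a k).m.left) :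
    (glue hν a M).FG := by
  classical
  have := Fintype.ofFinite ι
  choose K hKle hK hMK using fun k => exists_fg_le_push hν (a k) (hfg k) (push_glue hν a M hY hM k).ge
  have heq : glue hν a M = Finset.univ.sup K :=
    le_antisymm (le_of_local hν hY fun x => by
      obtain ⟨k, hk⟩ := hcov x
      refine ⟨_, a k, hk, ?_⟩
      rw [push_glue hν a M hY hM k]
      exact (hMK k).trans (push_mono hν _ (Finset.le_sup (Finset.mem_univ k))))
      (Finset.sup_le fun k _ => hKle k)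
  rw [heq]
  exact Submodule.fg_finset_sup _ _ fun k _ => hK k

end glue

end Groth.Agent.SpFP87.ModSys
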