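import Groth.Agent.SpFP87.ModAlg
import Groth.Agent.SpFP87.Cover
/-!
The models of the algebra of a system over etale schemes over an affine chart.
-/

set_option autoImplicit false
set_option linter.style.haveILetI false
set_option backward.isDefEq.respectTransparency false
universe u
open CategoryTheory CategoryTheory.Limits AlgebraicGeometry TensorProduct
open AlgSp Groth.Agent.SpPts86 Groth.Agent.SpFP87.ThickAffine

namespace Groth.Agent.SpFP87.ModSys

variable {S : Scheme.{u}} {Y N : Sp S} {ν : N ⟶ Y} {hν : IsIntegralMor ν} {A : Fun hν}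

theorem piece (hY : IsAlgSpace Y) (hA : IsSys hν Set.univ A) {U P : Ch Y} (D : Model hν A U) (c : Ch.Hom P U)
    {Q : Over S} [IsAffine Q.left] {q₁ : Q ⟶ D.obj} {q₂ : Q ⟶ P.obj} (pb : IsPullback q₁ q₂ D.m c.m)
    {φP : NN hν P ⟶ Q} (h₁ : φP ≫ q₁ = nmap hν c ≫ D.φ) (h₂ : φP ≫ q₂ = nι hν P) :
    Function.Injective φP.left.appTop.hom ∧ ∀ x ∈ alg hν A P, ∃ y, φP.left.appTop.hom y = x := by
  haveI := flat_via hY c
  obtain ⟨φ₁, hφ₁, hφ₁b⟩ := exists_tensor_of_isPullback (Z := U.obj.left) (X := P.obj.left) (Y := D.obj.left)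
    (P := Q.left) (f := c.m.left) (g := D.m.left) (fst := q₂.left) (snd := q₁.left) (pb.map (Over.forget S)).flip
  obtain ⟨φ₂, hφ₂, hφ₂b⟩ := exists_tensor_C hν c (Ch.Hom.id U) (Ch.Hom.id P) c (isPullback_id c)
  let incl : Via D.m.left.appTop.hom →ₗ[Γ(U.obj.left, ⊤)] Via (gmap hν (Ch.Hom.id U)) :=
    { toFun := fun y => Via.into _ (D.φ.left.appTop.hom (Via.out y))
      map_add' := fun a b => by simp only [map_add]
      map_smul' := fun r y => by
        change (D.φ.left.appTop.hom (D.m.left.appTop.hom r * Via.out y) : C hν U) =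
          @HMul.hMul (C hν U) (C hν U) (C hν U) _ (gmap hν (Ch.Hom.id U) r) (D.φ.left.appTop.hom (Via.out y))
        rw [map_mul, gmap_apply]
        refine congrArg₂ (· * ·) ?_ rfl
        have := congr($(congrArg (fun f : NN hν U ⟶ U.obj => f.left.appTop) D.fac).hom r)
        simp only [Over.comp_left, Scheme.Hom.comp_appTop, CommRingCat.hom_comp, RingHom.comp_apply] at this
        exact this.trans rfl }
  have hincl : Function.Injective incl := fun y y' h => D.inj h
  have e₁ : ∀ y, φP.left.appTop.hom (q₁.left.appTop.hom y) = res hν c (D.φ.left.appTop.hom y) := fun y => by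
    have := congr($(congrArg (fun f : NN hν P ⟶ D.obj => f.left.appTop) h₁).hom y)
    simp only [Over.comp_left, Scheme.Hom.comp_appTop, CommRingCat.hom_comp, RingHom.comp_apply] at this
    exact this
  have e₂ : ∀ r, φP.left.appTop.hom (q₂.left.appTop.hom r) = algebraMap Γ(P.obj.left, ⊤) (C hν P) r := fun r => by
    have := congr($(congrArg (fun f : NN hν P ⟶ P.obj => f.left.appTop) h₂).hom r)
    simp only [Over.comp_left, Scheme.Hom.comp_appTop, CommRingCat.hom_comp, RingHom.comp_apply] at this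
    exact this
  have hcomm : ∀ z, φP.left.appTop.hom (φ₁ z) = φ₂ (LinearMap.lTensor _ incl z) := by
    intro z
    induction z using TensorProduct.induction_on with
    | zero => simp only [map_zero]
    | add a b ha hb => simp only [map_add, ha, hb]
    | tmul x y =>
      rw [LinearMap.lTensor_tmul, hφ₁, hφ₂, map_mul]
      exact congrArg₂ (· * ·) (e₂ _) (e₁ _)
  refine ⟨fun a b hab => ?_, fun x hx => ?_⟩
  · obtain ⟨z, rfl⟩ := hφ₁b.2 a
    obtain ⟨z', rfl⟩ := hφ₁b.2 b
    rw [hcomm, hcomm] at hab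
    rw [Module.Flat.lTensor_preserves_injective_linearMap incl hincl (hφ₂b.1 hab)]
  · have := alg_le_of_hom hA c (φP.left.appTop.hom.range : Subring (C hν P)) (fun r => ⟨_, e₂ r⟩)
      (fun y hy => ?_) x hx
    · exact this
    · obtain ⟨b, rfl⟩ := (D.range y).1 (Algebra.subset_adjoin hy)
      exact ⟨_, e₁ b⟩

/-- A map to an affine scheme from a map on global sections. -/
theorem exists_map_to_affine {Q D : Scheme.{u}} [IsAffine Q] [IsAffine D] (ψ : Γ(D, ⊤) →+* Γ(Q, ⊤)) :
    ∃ k : Q ⟶ D, k.appTop.hom = ψ := by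
  refine ⟨Q.isoSpec.hom ≫ Spec.map (CommRingCat.ofHom ψ) ≫ D.isoSpec.inv, ?_⟩
  have : (Q.isoSpec.hom ≫ Spec.map (CommRingCat.ofHom ψ) ≫ D.isoSpec.inv).appTop = CommRingCat.ofHom ψ := by
    apply Spec.map_injective
    refine (Iso.cancel_iso_hom_left Q.isoSpec _ _).1 ?_
    rw [Scheme.isoSpec_hom_naturality]
    simp
  rw [this]
  rfl

variable (hY : IsAlgSpace Y) (hA : IsSys hν Set.univ A) {U : Ch Y} (D : Model hν A U)

/-- The map between base changes. -/
noncomputable def bc {V : Over S} (a : V ⟶ U.obj) : pullback (nι hν U) a ⟶ pullback D.m a :=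
  pullback.lift (pullback.fst _ _ ≫ D.φ) (pullback.snd _ _) (by rw [Category.assoc, D.fac, pullback.condition])

theorem bc_fst {V : Over S} (a : V ⟶ U.obj) : bc D a ≫ pullback.fst D.m a = pullback.fst _ _ ≫ D.φ :=
  pullback.lift_fst _ _ _

theorem bc_snd {V : Over S} (a : V ⟶ U.obj) : bc D a ≫ pullback.snd D.m a = pullback.snd _ _ :=
  pullback.lift_snd _ _ _

/-- The affine pieces of a base change. -/
theorem exists_pieces {V : Over S} (a : V ⟶ U.obj) :
    ∃ (ι : Type u) (W : ι → Over S) (_ : ∀ k, IsAffine (W k).left) (j : ∀ k, W k ⟶ V)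
      (e : ∀ k, pullback D.m (j k ≫ a) ⟶ pullback D.m a),
      (∀ k, Etale (j k).left) ∧ (∀ k, IsOpenImmersion (e k).left) ∧
      (∀ z : (pullback D.m a).left, ∃ k, z ∈ Set.range (e k).left) ∧
      (∀ k, e k ≫ pullback.fst _ _ = pullback.fst _ _) ∧ (∀ k, e k ≫ pullback.snd _ _ = pullback.snd _ _ ≫ j k) := by
  let W : V.left.affineOpens → Over S := fun O => Over.mk (O.1.ι ≫ V.hom)
  let j : ∀ O, W O ⟶ V := fun O => Over.homMk O.1.ι rfl
  let e : ∀ O, pullback D.m (j O ≫ a) ⟶ pullback D.m a := fun O =>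
    pullback.lift (pullback.fst _ _) (pullback.snd _ _ ≫ j O) (by rw [pullback.condition, Category.assoc])
  have sq : ∀ O, IsPullback (e O) (pullback.snd _ _) (pullback.snd D.m a) (j O) := fun O =>
    IsPullback.of_right (by rw [pullback.lift_fst]; exact IsPullback.of_hasPullback _ _) (pullback.lift_snd _ _ _)
      (IsPullback.of_hasPullback D.m a)
  refine ⟨V.left.affineOpens, W, fun O => O.2, j, e, fun O => inferInstanceAs (Etale O.1.ι), fun O => ?_,
    fun z => ?_, fun O => pullback.lift_fst _ _ _, fun O => pullback.lift_snd _ _ _⟩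
  · exact MorphismProperty.of_isPullback (P := @IsOpenImmersion) ((sq O).map (Over.forget S)).flip
      (inferInstanceAs (IsOpenImmersion O.1.ι))
  · obtain ⟨O, hO, hz, -⟩ := exists_isAffineOpen_mem_and_subset (x := (pullback.snd D.m a).left z)
      (U := (⊤ : V.left.Opens)) trivial
    obtain ⟨w, hw⟩ : (pullback.snd D.m a).left z ∈ Set.range O.ι := O.range_ι.ge hz
    obtain ⟨q, hq, -⟩ := Scheme.Pullback.exists_preimage_pullback (f := (pullback.snd D.m a).left)
      (g := (j ⟨O, hO⟩).left) z w hw.symm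
    have sq' := (sq ⟨O, hO⟩).map (Over.forget S)
    exact ⟨⟨O, hO⟩, sq'.isoPullback.inv q, (congr($(sq'.isoPullback_inv_fst) q)).trans hq⟩

/-- The chart of a piece. -/
theorem isAffine_piece {W : Over S} [IsAffine W.left] (a : W ⟶ U.obj) : IsAffine (pullback D.m a).left := by
  haveI : IsAffine ((Over.forget S).obj U.obj) := U.aff
  haveI : IsAffine ((Over.forget S).obj D.obj) := D.aff
  haveI : IsAffine ((Over.forget S).obj W) := ‹IsAffine W.left›
  exact IsAffine.of_isIso ((IsPullback.of_hasPullback D.m a).map (Over.forget S)).isoPullback.hom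

include hY hA in
theorem huniq {V : Over S} (a : V ⟶ U.obj) (ha : Etale a.left) {m₁ m₂ : pullback D.m a ⟶ D.obj}
    (h : bc D a ≫ m₁ = bc D a ≫ m₂) : m₁ = m₂ := by
  obtain ⟨ι, W, hW, j, e, hj, he, hcov, he₁, he₂⟩ := exists_pieces D a
  refine (yon S).map_injective (open_cover_hom_ext _ e he hcov fun k => ?_)
  rw [← Functor.map_comp, ← Functor.map_comp]
  refine congrArg _ (Over.OverMorphism.ext ?_)
  haveI := hW k
  haveI := hj k
  haveI : Etale (j k ≫ a).left := by rw [Over.comp_left]; infer_instance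
  haveI := isAffine_piece D (j k ≫ a)
  let P := U.comp (j k ≫ a)
  let φP : NN hν P ⟶ pullback D.m (j k ≫ a) := pullback.lift (nmap hν (U.compHom (j k ≫ a)) ≫ D.φ) (nι hν P)
    (by rw [Category.assoc, D.fac, nmap_ι]; rfl)
  obtain ⟨hinj, -⟩ := piece hY hA D (U.compHom (j k ≫ a)) (Q := pullback D.m (j k ≫ a))
    (IsPullback.of_hasPullback D.m (j k ≫ a)) (φP := φP) (pullback.lift_fst _ _ _) (pullback.lift_snd _ _ _)
  let h' : NN hν P ⟶ pullback (nι hν U) a := pullback.lift (nmap hν (U.compHom (j k ≫ a))) (nι hν P ≫ j k)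
    (by rw [nmap_ι, Category.assoc]; rfl)
  have hφ : φP ≫ e k = h' ≫ bc D a := by
    refine pullback.hom_ext ?_ ?_
    · rw [Category.assoc, he₁, pullback.lift_fst, Category.assoc, bc_fst, pullback.lift_fst_assoc]
    · rw [Category.assoc, he₂, pullback.lift_snd_assoc, Category.assoc, bc_snd, pullback.lift_snd]
  have h2 : φP ≫ e k ≫ m₁ = φP ≫ e k ≫ m₂ := by
    rw [reassoc_of% hφ, reassoc_of% hφ, h]
  refine ext_of_isAffine ?_
  ext r
  apply hinj
  have := congr($(congrArg (fun f : NN hν P ⟶ D.obj => f.left.appTop) h2).hom r)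
  simp only [Over.comp_left, Scheme.Hom.comp_appTop, CommRingCat.hom_comp, RingHom.comp_apply] at this ⊢
  exact this

include hY hA in
theorem exists_second {R : Over S} {r₁ r₂ : R ⟶ U.obj} (hr₁ : Etale r₁.left)
    (hr : (yon S).map r₁ ≫ U.map = (yon S).map r₂ ≫ U.map) {κ : pullback (nι hν U) r₁ ⟶ NN hν U}
    (hκ₁ : (yon S).map κ ≫ nfst hν U = (yon S).map (pullback.fst _ _) ≫ nfst hν U)
    (hκ₂ : κ ≫ nι hν U = pullback.snd _ _ ≫ r₂) :
    ∃ s₂ : pullback D.m r₁ ⟶ D.obj, s₂ ≫ D.m = pullback.snd _ _ ≫ r₂ ∧ bc D r₁ ≫ s₂ = κ ≫ D.φ := by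
  obtain ⟨ι, W, hW, j, e, hj, he, hcov, he₁, he₂⟩ := exists_pieces D r₁
  haveI : ∀ k, Etale (j k ≫ r₁).left := fun k => by haveI := hj k; rw [Over.comp_left]; infer_instance
  haveI := fun k => isAffine_piece D (j k ≫ r₁)
  let P : ι → Ch Y := fun k => U.comp (j k ≫ r₁)
  let c₁ : ∀ k, Ch.Hom (P k) U := fun k => U.compHom (j k ≫ r₁)
  let c₂ : ∀ k, Ch.Hom (P k) U := fun k => ⟨j k ≫ r₂, (map_comp_sq hr).symm⟩
  let φP : ∀ k, NN hν (P k) ⟶ pullback D.m (j k ≫ r₁) := fun k =>
    pullback.lift (nmap hν (c₁ k) ≫ D.φ) (nι hν (P k)) (by rw [Category.assoc, D.fac, nmap_ι]; rfl)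
  have hp := fun k => piece hY hA D (c₁ k) (Q := pullback D.m (j k ≫ r₁))
    (IsPullback.of_hasPullback D.m (j k ≫ r₁)) (φP := φP k) (pullback.lift_fst _ _ _) (pullback.lift_snd _ _ _)
  have hex : ∀ k b, ∃ y, (φP k).left.appTop.hom y = res hν (c₂ k) (D.φ.left.appTop.hom b) := fun k b =>
    (hp k).2 _ (res_mem_alg hA (c₂ k) ((D.range _).2 ⟨b, rfl⟩))
  choose ψ hψ using hex
  let ψ' : ∀ k, Γ(D.obj.left, ⊤) →+* Γ((pullback D.m (j k ≫ r₁)).left, ⊤) := fun k =>
    { toFun := ψ k
      map_one' := (hp k).1 (by rw [hψ, map_one, map_one, map_one])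
      map_zero' := (hp k).1 (by rw [hψ, map_zero, map_zero, map_zero])
      map_add' := fun a b => (hp k).1 (by rw [hψ, map_add, map_add, map_add, hψ, hψ])
      map_mul' := fun a b => (hp k).1 (by rw [hψ, map_mul, map_mul, map_mul, hψ, hψ]) }
  choose f hf using fun k => exists_map_to_affine (ψ' k)
  have hf' : ∀ k, (φP k).left ≫ f k = (nmap hν (c₂ k) ≫ D.φ).left := fun k => by
    refine ext_of_isAffine ?_
    ext b
    simp only [Over.comp_left, Scheme.Hom.comp_appTop, CommRingCat.hom_comp, RingHom.comp_apply, hf]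
    exact hψ k b
  have hfm : ∀ k, f k ≫ D.m.left = (pullback.snd D.m (j k ≫ r₁) ≫ j k ≫ r₂).left := fun k => by
    refine ext_of_isAffine ?_
    ext b
    apply (hp k).1
    have e1 := congr($(congrArg Scheme.Hom.appTop (congrArg (· ≫ D.m.left) (hf' k))).hom b)
    have e2 : (nmap hν (c₂ k) ≫ D.φ) ≫ D.m = φP k ≫ pullback.snd _ _ ≫ j k ≫ r₂ := by
      rw [Category.assoc, D.fac, nmap_ι, pullback.lift_snd_assoc]
    rw [← Over.comp_left, e2] at e1
    simp only [Over.comp_left, Scheme.Hom.comp_appTop, CommRingCat.hom_comp, RingHom.comp_apply] at e1 ⊢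
    exact e1
  let F : ∀ k, pullback D.m (j k ≫ r₁) ⟶ D.obj := fun k => Over.homMk (f k) (by
    rw [← Over.w D.m, ← Category.assoc, hfm k]
    exact Over.w (pullback.snd D.m (j k ≫ r₁) ≫ j k ≫ r₂))
  have hFm : ∀ k, F k ≫ D.m = pullback.snd _ _ ≫ j k ≫ r₂ := fun k => Over.OverMorphism.ext (hfm k)
  have hFφ : ∀ k, φP k ≫ F k = nmap hν (c₂ k) ≫ D.φ := fun k => Over.OverMorphism.ext (hf' k)
  -- on every scheme over a piece
  have hF : ∀ (k : ι) {V : Over S} (g : V ⟶ W k) (a : V ⟶ U.obj) (ha : g ≫ j k ≫ r₁ = a),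
      bc D a ≫ pullback.lift (pullback.fst _ _) (pullback.snd _ _ ≫ g)
          (by rw [pullback.condition, Category.assoc, ha]) ≫ F k =
        pullback.lift (f := nι hν U) (g := r₁) (pullback.fst _ _) (pullback.snd _ _ ≫ g ≫ j k)
          (by rw [pullback.condition, Category.assoc, Category.assoc, ha]) ≫ κ ≫ D.φ := by
    intro k V g a ha
    subst ha
    let x := (yon S).map (pullback.fst (nι hν U) (g ≫ j k ≫ r₁)) ≫ nfst hν U
    obtain ⟨h', hh'⟩ := (yon S).map_surjective ((nsq hν (P k)).lift x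
      ((yon S).map (pullback.snd (nι hν U) (g ≫ j k ≫ r₁) ≫ g)) (by
        show _ = _ ≫ (yon S).map (j k ≫ r₁) ≫ U.map
        simp only [x, Category.assoc, (nsq hν U).w]
        rw [← Functor.map_comp_assoc, ← Functor.map_comp_assoc, pullback.condition, Category.assoc]))
    have h'1 : (yon S).map h' ≫ nfst hν (P k) = x := by rw [hh', IsPullback.lift_fst]
    have h'2 : h' ≫ nι hν (P k) = pullback.snd _ _ ≫ g :=
      (yon S).map_injective (by rw [Functor.map_comp, hh', IsPullback.lift_snd])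
    have h'c : h' ≫ nmap hν (c₁ k) = pullback.fst _ _ := nmap_hom_ext hν
      (by rw [Functor.map_comp, Category.assoc, nmap_fst, h'1])
      (by rw [Category.assoc, nmap_ι, reassoc_of% h'2, pullback.condition]; rfl)
    have h'bc : bc D (g ≫ j k ≫ r₁) ≫ pullback.lift (pullback.fst _ _) (pullback.snd _ _ ≫ g)
        (by rw [pullback.condition, Category.assoc]) = h' ≫ φP k := by
      refine pullback.hom_ext ?_ ?_
      · rw [Category.assoc, pullback.lift_fst, bc_fst, Category.assoc, pullback.lift_fst, reassoc_of% h'c]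
      · rw [Category.assoc, pullback.lift_snd, reassoc_of% bc_snd D (g ≫ j k ≫ r₁), Category.assoc,
          pullback.lift_snd, h'2]
    rw [reassoc_of% h'bc, hFφ]
    refine (Category.assoc _ _ _).symm.trans ((congrArg (· ≫ D.φ) (nmap_hom_ext hν ?_ ?_)).trans (Category.assoc _ _ _))
    · rw [Functor.map_comp, Category.assoc, nmap_fst, h'1, Functor.map_comp, Category.assoc, hκ₁,
        ← Functor.map_comp_assoc, pullback.lift_fst]
    · rw [Category.assoc, nmap_ι, reassoc_of% h'2, Category.assoc, hκ₂, pullback.lift_snd_assoc, Category.assoc,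
        Category.assoc]
  obtain ⟨s, hs⟩ := open_cover_glue _ e he hcov (fun k => (yon S).map (F k)) (by
    intro k l Z p q hpq
    let a := pullback.fst (j k) (j l) ≫ j k ≫ r₁
    have ha : Etale a.left := by
      haveI := hj k
      haveI : Etale (pullback.fst (j k) (j l)).left := MorphismProperty.of_isPullback (P := @Etale)
        ((IsPullback.of_hasPullback (j k) (j l)).map (Over.forget S)).flip (hj l)
      simp only [a, Over.comp_left]
      infer_instance
    have hal : pullback.snd (j k) (j l) ≫ j l ≫ r₁ = a := by simp only [a, pullback.condition_assoc]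
    let ek : pullback D.m a ⟶ pullback D.m (j k ≫ r₁) := pullback.lift (pullback.fst _ _)
      (pullback.snd _ _ ≫ pullback.fst (j k) (j l)) (by rw [pullback.condition, Category.assoc])
    let el : pullback D.m a ⟶ pullback D.m (j l ≫ r₁) := pullback.lift (pullback.fst _ _)
      (pullback.snd _ _ ≫ pullback.snd (j k) (j l)) (by rw [pullback.condition, Category.assoc, hal])
    have hkl : ek ≫ F k = el ≫ F l := by
      refine huniq hY hA D a ha ?_
      rw [hF k (pullback.fst (j k) (j l)) a rfl, hF l (pullback.snd (j k) (j l)) a hal]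
      simp only [pullback.condition]
    have hpq1 := hpq =≫ pullback.fst _ _
    have hpq2 := hpq =≫ pullback.snd _ _
    simp only [Category.assoc, he₁, he₂] at hpq1 hpq2
    let z : Z ⟶ pullback D.m a := pullback.lift (p ≫ pullback.fst _ _)
      (pullback.lift (p ≫ pullback.snd _ _) (q ≫ pullback.snd _ _) (by simpa only [Category.assoc] using hpq2))
      (by simp only [a, Category.assoc, pullback.condition, pullback.lift_fst_assoc])
    have hzk : z ≫ ek = p := pullback.hom_ext (by simp [z, ek]) (by simp [z, ek])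
    have hzl : z ≫ el = q := pullback.hom_ext (by simp [z, el, hpq1]) (by simp [z, el])
    rw [← Functor.map_comp, ← Functor.map_comp, ← hzk, ← hzl, Category.assoc, Category.assoc, hkl])
  obtain ⟨s₂, rfl⟩ := (yon S).map_surjective s
  have hs' : ∀ k, e k ≫ s₂ = F k := fun k => (yon S).map_injective (by rw [Functor.map_comp, hs])
  refine ⟨s₂, (yon S).map_injective (open_cover_hom_ext _ e he hcov fun k => ?_),
    (yon S).map_injective ?_⟩
  · rw [← Functor.map_comp, ← Functor.map_comp, reassoc_of% hs' k, hFm, reassoc_of% he₂ k]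
  · -- the pieces of the source
    let e' : ∀ k, pullback (nι hν U) (j k ≫ r₁) ⟶ pullback (nι hν U) r₁ := fun k =>
      pullback.lift (pullback.fst _ _) (pullback.snd _ _ ≫ j k) (by rw [pullback.condition, Category.assoc])
    have sq' : ∀ k, IsPullback (e' k) (bc D (j k ≫ r₁)) (bc D r₁) (e k) := by
      intro k
      have h1 : IsPullback (e' k) (pullback.snd _ _) (pullback.snd (nι hν U) r₁) (j k) :=
        IsPullback.of_right (by rw [pullback.lift_fst]; exact IsPullback.of_hasPullback _ _)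
          (pullback.lift_snd _ _ _) (IsPullback.of_hasPullback (nι hν U) r₁)
      have h2 : IsPullback (e k) (pullback.snd _ _) (pullback.snd D.m r₁) (j k) :=
        IsPullback.of_right (by rw [he₁]; exact IsPullback.of_hasPullback _ _) (he₂ k)
          (IsPullback.of_hasPullback D.m r₁)
      refine IsPullback.of_bot (by rw [bc_snd, bc_snd]; exact h1) (pullback.hom_ext ?_ ?_) h2
      · rw [Category.assoc, bc_fst, pullback.lift_fst_assoc, Category.assoc, he₁, bc_fst]
      · rw [Category.assoc, bc_snd, pullback.lift_snd, Category.assoc, he₂, reassoc_of% bc_snd D (j k ≫ r₁)]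
    refine open_cover_hom_ext _ e' (fun k => MorphismProperty.of_isPullback (P := @IsOpenImmersion)
      ((sq' k).map (Over.forget S)).flip (he k)) (fun z => ?_) fun k => ?_
    · obtain ⟨k, w, hw⟩ := hcov ((bc D r₁).left z)
      obtain ⟨q, hq, -⟩ := Scheme.Pullback.exists_preimage_pullback (f := (bc D r₁).left) (g := (e k).left) z w hw.symm
      have sq'' := (sq' k).map (Over.forget S)
      exact ⟨k, sq''.isoPullback.inv q, (congr($(sq''.isoPullback_inv_fst) q)).trans hq⟩
    · rw [← Functor.map_comp, ← Functor.map_comp, reassoc_of% (sq' k).w, hs']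
      refine congrArg _ (Eq.trans ?_ ((hF k (𝟙 _) (j k ≫ r₁) (Category.id_comp _)).trans ?_))
      · refine congrArg (bc D _ ≫ ·) ?_
        conv_lhs => rw [← Category.id_comp (F k)]
        exact congrArg (· ≫ F k) (pullback.hom_ext (by simp) (by simp))
      · exact congrArg (· ≫ κ ≫ D.φ) (pullback.hom_ext (by simp [e']) (by simp [e']))

end Groth.Agent.SpFP87.ModSys
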