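import Groth.Agent.SpFP87.ModCover
/-!
Systems of finitely generated submodules of the sections of an affine morphism, and their extension over a
quasi-compact quasi-separated space.
-/

set_option autoImplicit false
set_option linter.style.haveILetI false
set_option backward.isDefEq.respectTransparency false
universe u
open CategoryTheory CategoryTheory.Limits AlgebraicGeometry Topology
open AlgSp Groth.Agent.SpPts86 Groth.Agent.SpProper61 Groth.Agent.SpFP87.ThickAffine

namespace Groth.Agent.SpFP87.ModSys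

variable {S : Scheme.{u}} {Y N : Sp S} {ν : N ⟶ Y} (hν : IsIntegralMor ν)

/-- An assignment of submodules to charts. -/
abbrev Fun : Type (u + 1) := ∀ T : Ch Y, Submodule Γ(T.obj.left, ⊤) (C hν T)

/-- A system of finitely generated submodules on the charts into `O`. -/
structure IsSys (O : Set (Points Y)) (A : Fun hν) : Prop where
  fg : ∀ T, InO O T → (A T).FG
  nat : ∀ T, InO O T → ∀ (P : Ch Y) (a : Ch.Hom P T), push hν a (A T) = A P

theorem IsSys.mono {O O' : Set (Points Y)} {A : Fun hν} (h : IsSys hν O' A) (hO : O ⊆ O') : IsSys hν O A :=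
  ⟨fun T hT => h.fg T (hT.trans hO), fun T hT => h.nat T (hT.trans hO)⟩

theorem isSys_bot (O : Set (Points Y)) : IsSys hν O fun _ => ⊥ :=
  ⟨fun _ _ => Submodule.fg_bot, fun _ _ _ a => push_bot hν a⟩

theorem isSys_sup {O : Set (Points Y)} {A B : Fun hν} (hA : IsSys hν O A) (hB : IsSys hν O B) :
    IsSys hν O fun T => A T ⊔ B T :=
  ⟨fun T hT => (hA.fg T hT).sup (hB.fg T hT), fun T hT P a => by rw [push_sup, hA.nat T hT, hB.nat T hT]⟩

section family

variable [QuasiSeparatedSpace ↥S] (hY : IsAlgSpace Y) (hqs : IsQuasiSeparatedSp Y) {O : Set (Points Y)}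
  {κ : Type u} [Finite κ] {V : κ → Ch Y} (hcov : ∀ x ∈ O, ∃ k, x ∈ Set.range (Points.ofPt (V k).map))
  (M : ∀ k, Submodule Γ((V k).obj.left, ⊤) (C hν (V k)))
  (hcomp : ∀ (k l : κ) (Z : Ch Y) (a : Ch.Hom Z (V k)) (b : Ch.Hom Z (V l)), push hν a (M k) = push hν b (M l))

/-- A submodule agreeing with the given family wherever both are defined. -/
def Good (U : Ch Y) (N₀ : Submodule Γ(U.obj.left, ⊤) (C hν U)) : Prop :=
  ∀ (k : κ) (Z : Ch Y) (a : Ch.Hom Z U) (b : Ch.Hom Z (V k)), push hν a N₀ = push hν b (M k)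

include hY hqs hcov in
theorem Good.eq {U : Ch Y} (hU : InO O U) {N₀ N₁ : Submodule Γ(U.obj.left, ⊤) (C hν U)}
    (h₀ : Good hν M U N₀) (h₁ : Good hν M U N₁) : N₀ = N₁ := by
  refine eq_of_local hν hY fun x => ?_
  obtain ⟨k, hk⟩ := hcov _ (hU ⟨x, rfl⟩)
  obtain ⟨ι, _, Z, a, b, hab⟩ := exists_cover_inter hY hqs U (V k)
  obtain ⟨i, hi⟩ := hab x hk
  exact ⟨Z i, a i, hi, (h₀ k _ (a i) (b i)).trans (h₁ k _ (a i) (b i)).symm⟩

include hY hqs hcov hcomp in
theorem exists_good (hfg : ∀ k, (M k).FG) {U : Ch Y} (hU : InO O U) :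
    ∃ N₀, N₀.FG ∧ Good hν M U N₀ := by
  choose ι hι Z a b hab using fun k => exists_cover_inter hY hqs U (V k)
  haveI := hι
  let P : (Σ k, ι k) → Ch Y := fun i => Z i.1 i.2
  let c : ∀ i, Ch.Hom (P i) U := fun i => a i.1 i.2
  let M' : ∀ i, Submodule Γ((P i).obj.left, ⊤) (C hν (P i)) := fun i => push hν (b i.1 i.2) (M i.1)
  have hM' : ∀ (i j : Σ k, ι k) (W : Ch Y) (z₁ : Ch.Hom W (P i)) (z₂ : Ch.Hom W (P j)),
      z₁.m ≫ (c i).m = z₂.m ≫ (c j).m → push hν z₁ (M' i) = push hν z₂ (M' j) := fun i j W z₁ z₂ _ =>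
    (push_push hν z₁ (b i.1 i.2) (z₁.comp (b i.1 i.2)) rfl _).trans
      ((hcomp _ _ W _ (z₂.comp (b j.1 j.2))).trans (push_push hν z₂ (b j.1 j.2) (z₂.comp (b j.1 j.2)) rfl _).symm)
  have hc : ∀ x : U.obj.left, ∃ i, x ∈ Set.range (c i).m.left := fun x => by
    obtain ⟨k, hk⟩ := hcov _ (hU ⟨x, rfl⟩)
    obtain ⟨i, hi⟩ := hab k x hk
    exact ⟨⟨k, i⟩, hi⟩
  refine ⟨glue hν c M', glue_fg hν c M' hY hM' (fun i => push_fg hν _ (hfg _)) hc, fun l W a' b' => ?_⟩
  refine eq_of_local hν hY fun x => ?_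
  obtain ⟨i, p, hp⟩ := hc (a'.m.left x)
  obtain ⟨Q, z₁, z₂, hz, hzr⟩ := exists_fibre hY a' (c i)
  refine ⟨Q, z₁, hzr x p hp.symm, ?_⟩
  rw [push_push hν z₁ a' (z₁.comp a') rfl, push_push hν z₁ b' (z₁.comp b') rfl,
    ← push_push hν z₂ (c i) (z₁.comp a') hz.symm, push_glue hν c M' hY hM' i,
    push_push hν z₂ (b i.1 i.2) (z₂.comp (b i.1 i.2)) rfl]
  exact hcomp _ _ _ _ _

include hY hqs hcov hcomp in
/-- A compatible family on covering charts gives a system. -/
theorem exists_sys_of_family (hfg : ∀ k, (M k).FG) (hV : ∀ k, InO O (V k)) :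
    ∃ A : Fun hν, IsSys hν O A ∧ ∀ k, A (V k) = M k := by
  classical
  choose G hGfg hG using fun (U : {U : Ch Y // InO O U}) => exists_good hν hY hqs hcov M hcomp hfg U.2
  let A : Fun hν := fun U => if h : InO O U then G ⟨U, h⟩ else ⊥
  have hA : ∀ U (h : InO O U), A U = G ⟨U, h⟩ := fun U h => dif_pos h
  refine ⟨A, ⟨fun T hT => by rw [hA T hT]; exact hGfg _, fun T hT P a => ?_⟩, fun k => ?_⟩
  · rw [hA T hT, hA P (hT.of_hom a)]
    refine Good.eq hν hY hqs hcov M (hT.of_hom a) (fun k Z c d => ?_) (hG ⟨P, hT.of_hom a⟩)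
    rw [push_push hν c a (c.comp a) rfl]
    exact hG ⟨T, hT⟩ k Z _ d
  · rw [hA _ (hV k)]
    exact Good.eq hν hY hqs hcov M (hV k) (hG ⟨V k, hV k⟩) fun l Z a b => hcomp k l Z a b

end family

/-- Finitely generated submodules lie in systems. -/
def Extends (O : Set (Points Y)) : Prop :=
  ∀ H : Ch Y, InO O H → ∀ M₀ : Submodule Γ(H.obj.left, ⊤) (C hν H), M₀.FG →
    ∃ A : Fun hν, IsSys hν O A ∧ M₀ ≤ A H

theorem exists_sys_finset {O : Set (Points Y)} (hE : Extends hν O) {κ : Type u} [Finite κ] (D : κ → Ch Y)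
    (hD : ∀ k, InO O (D k)) (I : ∀ k, Submodule Γ((D k).obj.left, ⊤) (C hν (D k))) (hI : ∀ k, (I k).FG) :
    ∃ A : Fun hν, IsSys hν O A ∧ ∀ k, I k ≤ A (D k) := by
  classical
  have := Fintype.ofFinite κ
  suffices h : ∀ s : Finset κ, ∃ A : Fun hν, IsSys hν O A ∧ ∀ k ∈ s, I k ≤ A (D k) by
    obtain ⟨A, hA, hA'⟩ := h Finset.univ
    exact ⟨A, hA, fun k => hA' k (Finset.mem_univ k)⟩
  intro s
  induction s using Finset.induction with
  | empty => exact ⟨_, isSys_bot hν O, fun k hk => absurd hk (Finset.notMem_empty k)⟩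
  | insert j s _ ih =>
    obtain ⟨A, hA, hA'⟩ := ih
    obtain ⟨B, hB, hB'⟩ := hE (D j) (hD j) (I j) (hI j)
    refine ⟨_, isSys_sup hν hA hB, fun k hk => ?_⟩
    rcases Finset.mem_insert.1 hk with rfl | hk
    · exact hB'.trans le_sup_right
    · exact (hA' k hk).trans le_sup_left

theorem extends_empty (hY : IsAlgSpace Y) : Extends hν (∅ : Set (Points Y)) := fun H hH M₀ _ =>
  ⟨_, isSys_bot hν ∅, le_of_local hν hY fun x => (hH ⟨x, rfl⟩).elim⟩

theorem res_range_le_top {P T : Ch Y} (a : Ch.Hom P T) : push hν a ⊤ = ⊤ := by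
  obtain ⟨φ, hφ, hφb⟩ := exists_tensor_C hν a (Ch.Hom.id T) (Ch.Hom.id P) a (isPullback_id a)
  refine eq_top_iff.2 fun x hx => ?_
  clear hx
  obtain ⟨y, rfl⟩ := hφb.2 x
  induction y using TensorProduct.induction_on with
  | zero => rw [map_zero]; exact zero_mem _
  | add z z' hz hz' => rw [map_add]; exact add_mem hz hz'
  | tmul p c =>
    rw [hφ, ← Algebra.smul_def]
    exact Submodule.smul_mem _ _ (res_mem_push hν _ trivial)

variable [QuasiSeparatedSpace ↥S]

set_option maxHeartbeats 1000000 in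
theorem extends_step (hY : IsAlgSpace Y) [CompactSpace (Points Y)] (hqs : IsQuasiSeparatedSp Y)
    {O O' : Set (Points Y)} (hOo : IsOpen O) (hOc : IsCompact O) (T : Ch Y)
    (hinj : InjOutside O T.map) (hun : O ∪ Set.range (Points.ofPt T.map) = O')
    (hE : Extends hν O) : Extends hν O' := by
  classical
  intro H hH M₀ hM₀
  have hOO' : O ⊆ O' := hun ▸ Set.subset_union_left
  have hTO' : InO O' T := hun ▸ Set.subset_union_right
  -- what has to be contained on the new chart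
  obtain ⟨ι₁, _, P, pH, pT, hP⟩ := exists_cover_inter hY hqs H T
  choose L hL₀ hL hLM using fun i => exists_fg_le_push hν (pT i) (push_fg hν (pH i) hM₀)
    ((le_top).trans_eq (res_range_le_top hν (pT i)).symm)
  have := Fintype.ofFinite ι₁
  let L' := Finset.univ.sup L
  have hL' : L'.FG := Submodule.fg_finset_sup _ _ fun i _ => hL i
  -- charts over the old open
  obtain ⟨ιG, _, G, gT, hG⟩ := exists_charts_of_open T (hOo.preimage (Points.continuous_ofPt T.map))
    (isCompact_preimage_ofPt hY hqs T.map hOo hOc)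
  obtain ⟨ιF, _, F, fH, hF⟩ := exists_charts_of_open H (hOo.preimage (Points.continuous_ofPt H.map))
    (isCompact_preimage_ofPt hY hqs H.map hOo hOc)
  have hGO : ∀ i, InO O (G i) := fun i => by
    rintro _ ⟨x, rfl⟩
    rw [← ofPt_hom (gT i)]
    exact hG.le (Set.mem_iUnion.2 ⟨i, x, rfl⟩)
  have hFO : ∀ i, InO O (F i) := fun i => by
    rintro _ ⟨x, rfl⟩
    rw [← ofPt_hom (fH i)]
    exact hF.le (Set.mem_iUnion.2 ⟨i, x, rfl⟩)
  obtain ⟨A, hA, hAD⟩ := exists_sys_finset hν hE (κ := ιG ⊕ ιF) (Sum.elim G F)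
    (fun k => match k with | Sum.inl i => hGO i | Sum.inr i => hFO i)
    (fun k => match k with | Sum.inl i => push hν (gT i) L' | Sum.inr i => push hν (fH i) M₀)
    (fun k => match k with | Sum.inl i => push_fg hν _ hL' | Sum.inr i => push_fg hν _ hM₀)
  -- the extension to the new chart
  have hgc : ∀ (i j : ιG) (W : Ch Y) (z₁ : Ch.Hom W (G i)) (z₂ : Ch.Hom W (G j)),
      z₁.m ≫ (gT i).m = z₂.m ≫ (gT j).m → push hν z₁ (A (G i)) = push hν z₂ (A (G j)) := fun i j W z₁ z₂ _ =>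
    (hA.nat _ (hGO i) W z₁).trans (hA.nat _ (hGO j) W z₂).symm
  choose K hKle hK hAK using fun i => exists_fg_le_push hν (gT i) (hA.fg _ (hGO i))
    (push_glue hν gT (fun i => A (G i)) hY hgc i).ge
  have := Fintype.ofFinite ιG
  let MT := L' ⊔ Finset.univ.sup K
  have hMT : MT.FG := hL'.sup (Submodule.fg_finset_sup _ _ fun i _ => hK i)
  have hMTG : ∀ i, push hν (gT i) MT = A (G i) := fun i => by
    refine le_antisymm ?_ ((hAK i).trans (push_mono hν _ ((Finset.le_sup (Finset.mem_univ i)).trans le_sup_right)))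
    refine (push_sup hν _ _ _).trans_le (sup_le (hAD (Sum.inl i)) ?_)
    exact (push_mono hν _ (Finset.sup_le fun j _ => hKle j)).trans
      (push_glue hν gT (fun i => A (G i)) hY hgc i).le
  -- over the old open the new submodule restricts to the system
  have hMTA : ∀ (W : Ch Y) (a : Ch.Hom W T) (w : W.obj.left), Points.ofPt W.map w ∈ O →
      ∃ (W' : Ch Y) (c : Ch.Hom W' W), InO O W' ∧ w ∈ Set.range c.m.left ∧
        push hν c (push hν a MT) = A W' := by
    intro W a w hw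
    obtain ⟨i, p, hp⟩ := Set.mem_iUnion.1 (hG.ge (show a.m.left w ∈ Points.ofPt T.map ⁻¹' O by
      rw [Set.mem_preimage, ofPt_hom a]; exact hw))
    obtain ⟨Q, z₁, z₂, hz, hzr⟩ := exists_fibre hY a (gT i)
    refine ⟨Q, z₁, (hGO i).of_hom z₂, hzr w p hp.symm, ?_⟩
    rw [push_push hν z₁ a (z₁.comp a) rfl, ← push_push hν z₂ (gT i) (z₁.comp a) hz.symm, hMTG i,
      hA.nat _ (hGO i)]
  obtain ⟨ιV, _, V, hV, hVcov⟩ := exists_finite_charts hY hqs hOo hOc
  have hTk : ∀ (k : ιV) (W : Ch Y) (a : Ch.Hom W T) (b : Ch.Hom W (V k)),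
      push hν a MT = push hν b (A (V k)) := by
    intro k W a b
    refine eq_of_local hν hY fun w => ?_
    obtain ⟨W', c, -, hc, hc'⟩ := hMTA W a w ((hV k).of_hom b ⟨w, rfl⟩)
    refine ⟨W', c, hc, ?_⟩
    rw [hc', push_push hν c b (c.comp b) rfl, hA.nat _ (hV k)]
  have hTT : ∀ (W : Ch Y) (a b : Ch.Hom W T), push hν a MT = push hν b MT := by
    intro W a b
    refine eq_of_local hν hY fun w => ?_
    by_cases hw : Points.ofPt W.map w ∈ O
    · obtain ⟨W₁, c₁, hW₁, ⟨w₁, hw₁⟩, h₁⟩ := hMTA W a w hw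
      obtain ⟨W₂, c₂, -, ⟨w₂, hw₂⟩, h₂⟩ := hMTA W₁ (c₁.comp b) w₁ (hW₁ ⟨w₁, rfl⟩)
      refine ⟨W₂, c₂.comp c₁, ⟨w₂, ?_⟩, ?_⟩
      · show c₁.m.left (c₂.m.left w₂) = w
        rw [hw₂, hw₁]
      · rw [← push_push hν c₁ b (c₁.comp b) rfl] at h₂
        rw [← push_push hν c₂ c₁ (c₂.comp c₁) rfl, ← push_push hν c₂ c₁ (c₂.comp c₁) rfl, h₂, h₁]
        exact hA.nat _ hW₁ W₂ c₂
    · obtain ⟨U, hwU, hU⟩ := exists_eq_near hY T.et hinj a.m b.m (a.w.trans b.w.symm) w (by
        rw [ofPt_hom a]; exact hw)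
      obtain ⟨W', c, m, hm, hwc⟩ := exists_sub W hwU
      refine ⟨W', c, hwc, ?_⟩
      have e : c.comp a = c.comp b := by
        have : (c.comp a).m = (c.comp b).m := Over.OverMorphism.ext (by
          show c.m.left ≫ a.m.left = c.m.left ≫ b.m.left
          rw [← hm, Category.assoc, Category.assoc, hU])
        cases h₁ : c.comp a; cases h₂ : c.comp b; simp only [h₁, h₂] at this; subst this; rfl
      rw [push_push hν c a (c.comp a) rfl, push_push hν c b (c.comp b) rfl, e]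
  -- the new system
  let V' : Option ιV → Ch Y := fun k => k.elim T V
  let M' : ∀ k, Submodule Γ((V' k).obj.left, ⊤) (C hν (V' k)) := fun k => match k with
    | none => MT
    | some k => A (V k)
  obtain ⟨B, hB, hBV⟩ := exists_sys_of_family hν hY hqs (O := O') (V := V') (fun x hx => by
      rcases hun.ge hx with hx | hx
      · obtain ⟨k, hk⟩ := hVcov x hx; exact ⟨some k, hk⟩
      · exact ⟨none, hx⟩) M'
    (fun k l W a b => match k, l with
      | none, none => hTT W a b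
      | none, some l => hTk l W a b
      | some k, none => (hTk k W b a).symm
      | some k, some l => (hA.nat _ (hV k) W a).trans (hA.nat _ (hV l) W b).symm)
    (fun k => match k with
      | none => hMT
      | some k => hA.fg _ (hV k))
    (fun k => match k with
      | none => hTO'
      | some k => (hV k).trans hOO')
  -- the two systems agree over the old open
  have hBA : ∀ U, InO O U → B U = A U := fun U hU => by
    refine eq_of_local hν hY fun x => ?_
    obtain ⟨k, hk⟩ := hVcov _ (hU ⟨x, rfl⟩)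
    obtain ⟨ι, _, W, a, b, hab⟩ := exists_cover_inter hY hqs U (V k)
    obtain ⟨i, hi⟩ := hab x hk
    refine ⟨W i, a i, hi, ?_⟩
    rw [hB.nat U (hU.trans hOO'), ← hB.nat (V k) ((hV k).trans hOO') _ (b i), hA.nat U hU,
      show B (V k) = A (V k) from hBV (some k), hA.nat _ (hV k)]
  refine ⟨B, hB, le_of_local hν hY fun y => ?_⟩
  by_cases hy : Points.ofPt H.map y ∈ O
  · obtain ⟨i, hi⟩ := Set.mem_iUnion.1 (hF.ge hy)
    refine ⟨F i, fH i, hi, ?_⟩
    rw [hB.nat H hH, hBA _ (hFO i)]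
    exact hAD (Sum.inr i)
  · obtain ⟨i, hi⟩ := hP y ((hun.ge (hH ⟨y, rfl⟩)).resolve_left hy)
    refine ⟨P i, pH i, hi, ?_⟩
    rw [hB.nat H hH, ← hB.nat T hTO' _ (pT i), show B T = MT from hBV none]
    exact (hLM i).trans (push_mono hν _ ((Finset.le_sup (Finset.mem_univ i)).trans le_sup_left))

end Groth.Agent.SpFP87.ModSys
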