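import Mathlib.AlgebraicGeometry.Morphisms.Etale
import Mathlib.AlgebraicGeometry.Morphisms.Separated
import Mathlib.AlgebraicGeometry.AlgClosed.Basic
import Mathlib.FieldTheory.IsAlgClosed.AlgebraicClosure
import Mathlib.Topology.Spectral.ConstructibleTopology
import Groth.Agent.SpFP87.Residual
/-!
The open loci where a separated etale morphism has more than `n` geometric preimages.
-/

set_option autoImplicit false
set_option linter.style.haveILetI false
set_option backward.isDefEq.respectTransparency false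
universe u
open CategoryTheory CategoryTheory.Limits AlgebraicGeometry Topology

namespace Groth.Agent.SpFP87

/-- The complement of the diagonal. -/
noncomputable def offDiag {A B : Scheme.{u}} (f : A ⟶ B) [IsSeparated f] : (pullback f f).Opens :=
  ⟨(Set.range (pullback.diagonal f))ᶜ, (pullback.diagonal f).isClosedEmbedding.isClosed_range.isOpen_compl⟩

/-- The first projection from the complement of the diagonal. -/
noncomputable def offProj {A B : Scheme.{u}} (f : A ⟶ B) [IsSeparated f] : (offDiag f).toScheme ⟶ A :=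
  (offDiag f).ι ≫ pullback.fst f f

instance etale_offProj {A B : Scheme.{u}} (f : A ⟶ B) [IsSeparated f] [Etale f] : Etale (offProj f) :=
  inferInstanceAs (Etale ((offDiag f).ι ≫ pullback.fst f f))

instance isSeparated_offProj {A B : Scheme.{u}} (f : A ⟶ B) [IsSeparated f] : IsSeparated (offProj f) :=
  inferInstanceAs (IsSeparated ((offDiag f).ι ≫ pullback.fst f f))

/-- The points with more than `n` geometric preimages. -/
noncomputable def multLocus : ℕ → ∀ {A B : Scheme.{u}} (f : A ⟶ B) [IsSeparated f], Set ↥B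
  | 0, _, _, f, _ => Set.range f
  | n + 1, _, _, f, _ => f '' multLocus n (offProj f)

theorem isOpen_multLocus : ∀ (n : ℕ) {A B : Scheme.{u}} (f : A ⟶ B) [IsSeparated f] [Etale f],
    IsOpen (multLocus n f)
  | 0, _, _, f, _, _ => f.isOpenMap.isOpen_range
  | n + 1, _, _, f, _, _ => f.isOpenMap _ (isOpen_multLocus n (offProj f))

/-- A geometric point lifts to any point over it. -/
theorem exists_section_at {A B : Scheme.{u}} (f : A ⟶ B) [Etale f] {L : Type u} [Field L] [IsAlgClosed L]
    (g : Spec (CommRingCat.of L) ⟶ B) (r : ↥A) (hr : f r = g (IsLocalRing.closedPoint L)) :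
    ∃ ρ : Spec (CommRingCat.of L) ⟶ A, ρ ≫ f = g ∧ ρ (IsLocalRing.closedPoint L) = r := by
  obtain ⟨z, hz, -⟩ := Scheme.Pullback.exists_preimage_pullback (f := f) (g := g) r (IsLocalRing.closedPoint L) hr
  obtain ⟨hart, -⟩ := isLocallyArtinian_of_etale (pullback.snd f g)
  haveI := hart
  refine ⟨pointOfClosedPoint (pullback.snd f g) z (isClosed_discrete _) ≫ pullback.fst f g, ?_, ?_⟩
  · rw [Category.assoc, pullback.condition, pointOfClosedPoint_comp_assoc]
  · rw [Scheme.Hom.comp_apply, pointOfClosedPoint_apply, hz]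

theorem mem_multLocus_iff : ∀ (n : ℕ) {A B : Scheme.{u}} (f : A ⟶ B) [IsSeparated f] [Etale f]
    {L : Type u} [Field L] [IsAlgClosed L] (g : Spec (CommRingCat.of L) ⟶ B),
    g (IsLocalRing.closedPoint L) ∈ multLocus n f ↔
      ∃ σ : Fin (n + 1) → (Spec (CommRingCat.of L) ⟶ A), Function.Injective σ ∧ ∀ i, σ i ≫ f = g
  | 0, A, B, f, _, _, L, _, _, g => by
    constructor
    · rintro ⟨r, hr⟩
      obtain ⟨ρ, hρ, -⟩ := exists_section_at f g r hr
      exact ⟨fun _ => ρ, fun a b _ => Fin.ext (by omega), fun _ => hρ⟩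
    · rintro ⟨σ, -, hσ⟩
      exact ⟨σ 0 (IsLocalRing.closedPoint L), by rw [← Scheme.Hom.comp_apply, hσ]⟩
  | n + 1, A, B, f, _, _, L, _, _, g => by
    constructor
    · rintro ⟨r, hr, hrg⟩
      obtain ⟨ρ, hρ, rfl⟩ := exists_section_at f g r hrg
      obtain ⟨τ, hτ, hτρ⟩ := (mem_multLocus_iff n (offProj f) ρ).1 hr
      have h1 : ∀ i, (τ i ≫ (offDiag f).ι) ≫ pullback.fst f f = ρ := fun i => by
        rw [Category.assoc]; exact hτρ i
      refine ⟨Fin.cons ρ (fun i => (τ i ≫ (offDiag f).ι) ≫ pullback.snd f f), ?_, ?_⟩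
      · refine Fin.cons_injective_iff.2 ⟨?_, fun i j e => hτ ?_⟩
        · rintro ⟨i, hi⟩
          replace hi : (τ i ≫ (offDiag f).ι) ≫ pullback.snd f f = ρ := hi
          have e : τ i ≫ (offDiag f).ι = ρ ≫ pullback.diagonal f := by
            apply pullback.hom_ext
            · rw [h1, Category.assoc, pullback.diagonal_fst, Category.comp_id]
            · rw [hi, Category.assoc, pullback.diagonal_snd, Category.comp_id]
          exact (τ i (IsLocalRing.closedPoint L)).2 ⟨ρ (IsLocalRing.closedPoint L), by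
            rw [← Scheme.Hom.comp_apply, ← e]; rfl⟩
        · exact (cancel_mono (offDiag f).ι).1 (pullback.hom_ext ((h1 i).trans (h1 j).symm) e)
      · intro i
        refine Fin.cases ?_ (fun i => ?_) i
        · exact hρ
        · rw [Fin.cons_succ, Category.assoc, ← pullback.condition, ← Category.assoc, h1, hρ]
    · rintro ⟨σ, hσ, hσf⟩
      refine ⟨σ 0 (IsLocalRing.closedPoint L), (mem_multLocus_iff n (offProj f) (σ 0)).2 ?_,
        by rw [← Scheme.Hom.comp_apply, hσf]⟩
      let ψ : Fin (n + 1) → (Spec (CommRingCat.of L) ⟶ pullback f f) := fun i =>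
        pullback.lift (σ 0) (σ i.succ) (by rw [hσf, hσf])
      have hψ : ∀ i, Set.range (ψ i) ⊆ Set.range (offDiag f).ι := by
        rintro i - ⟨p, rfl⟩
        rw [Scheme.Opens.range_ι]
        intro hp
        haveI : IsOpenImmersion (pullback.diagonal f) := inferInstance
        have hsub : Set.range (ψ i) ⊆ Set.range (pullback.diagonal f) := by
          rintro - ⟨q, rfl⟩
          rwa [Subsingleton.elim (α := PrimeSpectrum L) q p]
        have e := IsOpenImmersion.lift_fac (pullback.diagonal f) (ψ i) hsub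
        refine Fin.succ_ne_zero i (hσ ?_)
        have e0 := congrArg (· ≫ pullback.fst f f) e
        have e1 := congrArg (· ≫ pullback.snd f f) e
        simp only [Category.assoc, pullback.diagonal_fst, pullback.diagonal_snd, Category.comp_id, ψ,
          pullback.lift_fst, pullback.lift_snd] at e0 e1
        exact e1.symm.trans e0
      refine ⟨fun i => IsOpenImmersion.lift (offDiag f).ι (ψ i) (hψ i), fun i j e => ?_, fun i => ?_⟩
      · have := congrArg (· ≫ (offDiag f).ι ≫ pullback.snd f f) e
        simp only [IsOpenImmersion.lift_fac_assoc, ψ, pullback.lift_snd] at this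
        exact Fin.succ_injective _ (hσ this)
      · simp only [offProj, IsOpenImmersion.lift_fac_assoc, ψ, pullback.lift_fst]

/-- A point with finite fibre is outside some multiplicity locus. -/
theorem exists_notMem_multLocus {A B : Scheme.{u}} [IsAffine B] (f : A ⟶ B) [IsSeparated f] [Etale f] (v : ↥B)
    (hv : (f ⁻¹' {v}).Finite) : ∃ n, v ∉ multLocus n f := by
  let L : Type u := AlgebraicClosure (B.residueField v)
  let g : Spec (CommRingCat.of L) ⟶ B :=
    Spec.map (CommRingCat.ofHom (algebraMap (B.residueField v) L)) ≫ B.fromSpecResidueField v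
  have hg : g (IsLocalRing.closedPoint L) = v := by
    rw [Scheme.Hom.comp_apply]
    exact Scheme.fromSpecResidueField_apply _ _
  haveI : IsAffineHom g := inferInstance
  obtain ⟨hart, -⟩ := isLocallyArtinian_of_etale (pullback.snd f g)
  haveI := hart
  have hloc : ∀ r : ↥A, ∃ W : A.Opens, r ∈ W ∧ IsCompact (W : Set ↥A) := fun r => by
    obtain ⟨W, hW, hrW, -⟩ := exists_isAffineOpen_mem_and_subset (U := (⊤ : A.Opens)) (x := r) trivial
    exact ⟨W, hrW, hW.isCompact⟩
  choose W hW hWc using hloc
  haveI : CompactSpace ↥(pullback f g) := by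
    let K : Set ↥A := ⋃ r ∈ hv.toFinset, (W r : Set ↥A)
    have hK : IsCompact K := hv.toFinset.isCompact_biUnion fun r _ => hWc r
    have hKo : IsOpen K := isOpen_biUnion fun r _ => (W r).isOpen
    refine ⟨?_⟩
    have := (pullback.fst f g).isCompact_preimage (U := ⟨K, hKo⟩) hK
    convert this
    refine (Set.eq_univ_of_forall fun z => ?_).symm
    refine Set.mem_iUnion₂.2 ⟨pullback.fst f g z, hv.mem_toFinset.2 ?_, hW _⟩
    show f (pullback.fst f g z) = v
    rw [← Scheme.Hom.comp_apply, pullback.condition, Scheme.Hom.comp_apply]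
    exact (congrArg g (Subsingleton.elim (α := PrimeSpectrum L) ((pullback.snd f g) z)
      (IsLocalRing.closedPoint L))).trans hg
  haveI : Finite ↥(pullback f g) := finite_of_compact_of_discrete
  haveI := Fintype.ofFinite ↥(pullback f g)
  refine ⟨Fintype.card ↥(pullback f g), fun h => ?_⟩
  obtain ⟨σ, hσ, hσf⟩ := (mem_multLocus_iff _ f g).1 (by rw [hg]; exact h)
  let σ' : Fin (Fintype.card ↥(pullback f g) + 1) → ↥(pullback f g) := fun i =>
    (pullback.lift (σ i) (𝟙 _) (by rw [hσf, Category.id_comp])) (IsLocalRing.closedPoint L)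
  have hinj : Function.Injective σ' := fun i j e => hσ (by
    have := ext_of_apply_closedPoint_eq (pullback.snd f g) (pullback.lift_snd _ _ _) (pullback.lift_snd _ _ _) e
    simpa using congrArg (· ≫ pullback.fst f g) this)
  simpa using Fintype.card_le_of_injective σ' hinj

section Spectral

variable {X : Type u} [TopologicalSpace X] [CompactSpace X] [QuasiSober X] [PrespectralSpace X]
  [QuasiSeparatedSpace X]

/-- A family of compact opens meeting a closed set with the finite intersection property has a common point in it. -/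
theorem nonempty_iInter_of_compactOpens {ι : Type u} (Z : Set X) (hZ : IsClosed Z) (E : ι → Set X)
    (ho : ∀ i, IsOpen (E i)) (hc : ∀ i, IsCompact (E i))
    (h : ∀ t : Finset ι, (Z ∩ ⋂ i ∈ t, E i).Nonempty) : (Z ∩ ⋂ i, E i).Nonempty := by
  let π : WithConstructibleTopology X → X := WithTopology.ofTopology
  have hZ' : IsClosed (π ⁻¹' Z) := by
    rw [← isOpen_compl_iff, WithConstructibleTopology.isOpen_iff]
    obtain ⟨S, hS, hSZ⟩ := PrespectralSpace.isTopologicalBasis.open_eq_sUnion hZ.isOpen_compl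
    show IsOpen[constructibleTopology X] Zᶜ
    rw [hSZ]
    exact @isOpen_sUnion X (constructibleTopology X) S fun s hs =>
      (hS hs).2.isOpen_constructibleTopology_of_isOpen (hS hs).1
  have hE : ∀ i, IsClosed (π ⁻¹' E i) := fun i => by
    rw [← isOpen_compl_iff, WithConstructibleTopology.isOpen_iff]
    show IsOpen[constructibleTopology X] (E i)ᶜ
    exact IsCompact.isOpen_constructibleTopology_of_isClosed (by rw [compl_compl]; exact hc i) (ho i).isClosed_compl
  obtain ⟨x, hxZ, hxE⟩ := hZ'.isCompact.inter_iInter_nonempty (fun i => π ⁻¹' E i) hE (fun t => by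
    obtain ⟨x, hxZ, hxt⟩ := h t
    exact ⟨WithTopology.toTopology _ x, hxZ, Set.mem_iInter₂.2 fun i hi => Set.mem_iInter₂.1 hxt i hi⟩)
  exact ⟨π x, hxZ, Set.mem_iInter.2 fun i => Set.mem_iInter.1 hxE i⟩

/-- The Baire property for closed subsets of spectral spaces. -/
theorem exists_open_subset_of_forall_exists_notMem (Z : Set X) (hZ : IsClosed Z) (hne : Z.Nonempty)
    (G : ℕ → Set X) (hG : ∀ n, IsOpen (G n)) (h : ∀ z ∈ Z, ∃ n, z ∉ G n) :
    ∃ (n : ℕ) (O : Set X), IsOpen O ∧ (Z ∩ O).Nonempty ∧ Z ∩ O ∩ G n = ∅ := by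
  by_contra hh
  simp only [not_exists, not_and] at hh
  obtain ⟨z0, hz0⟩ := hne
  let D := {O : Set X // IsOpen O ∧ IsCompact O ∧ (Z ∩ O).Nonempty}
  have step : ∀ (n : ℕ) (O : D), ∃ O' : D, O'.1 ⊆ O.1 ∩ G n := fun n O => by
    obtain ⟨z, ⟨hzZ, hzO⟩, hzG⟩ := Set.nonempty_iff_ne_empty.2 (hh n O.1 O.2.1 O.2.2.2)
    obtain ⟨B, ⟨hBo, hBc⟩, hzB, hB⟩ := PrespectralSpace.isTopologicalBasis.exists_subset_of_mem_open
      (show z ∈ O.1 ∩ G n from ⟨hzO, hzG⟩) (O.2.1.inter (hG n))
    exact ⟨⟨B, hBo, hBc, z, hzZ, hzB⟩, hB⟩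
  choose next hnext using step
  let seq : ℕ → D := Nat.rec ⟨Set.univ, isOpen_univ, isCompact_univ, z0, hz0, trivial⟩ fun n O => next n O
  have hanti : Antitone fun n => (seq n).1 :=
    antitone_nat_of_succ_le fun n => (hnext n (seq n)).trans Set.inter_subset_left
  obtain ⟨z, hzZ, hz⟩ := nonempty_iInter_of_compactOpens (ι := ULift.{u} ℕ) Z hZ (fun i => (seq i.down).1)
    (fun i => (seq i.down).2.1) (fun i => (seq i.down).2.2.1) fun t => by
      obtain ⟨x, hxZ, hx⟩ := (seq (t.sup ULift.down)).2.2.2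
      exact ⟨x, hxZ, Set.mem_iInter₂.2 fun i hi => hanti (Finset.le_sup (f := ULift.down) hi) hx⟩
  obtain ⟨n, hn⟩ := h z hzZ
  exact hn (hnext n (seq n) (Set.mem_iInter.1 hz ⟨n + 1⟩)).2

end Spectral

end Groth.Agent.SpFP87
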