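import Groth.Agent.SpFP87.EtDescRing
import Mathlib
/-!
Lifting along thickenings of affine schemes with locally nilpotent ideal.
-/

set_option autoImplicit false
universe u
open TensorProduct

namespace Groth.Agent.SpFP87

/-- Smooth algebras of finite presentation lift along surjections with nil kernel. -/
theorem exists_algHom_lift_of_nil {K D C B : Type u} [CommRing K] [CommRing D] [CommRing C] [CommRing B]
    [Algebra K D] [Algebra K C] [Algebra K B] [Algebra.FormallySmooth K D] [Algebra.FinitePresentation K D]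
    (π : C →ₐ[K] B) (hπ : Function.Surjective π) (hnil : RingHom.ker π.toRingHom ≤ nilradical C)
    (α : D →ₐ[K] B) : ∃ γ : D →ₐ[K] C, π.comp γ = α := by
  classical
  obtain ⟨n, p, hp, rels, hrels⟩ := Algebra.FinitePresentation.out (R := K) (A := D)
  choose c hc using fun i => hπ (α (p (MvPolynomial.X i)))
  let ψ : MvPolynomial (Fin n) K →ₐ[K] C := MvPolynomial.aeval c
  have hψ : π.comp ψ = α.comp p := MvPolynomial.algHom_ext fun i => by simp [ψ, hc]
  let J₀ : Ideal C := (RingHom.ker p.toRingHom).map ψ.toRingHom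
  have hJ₀π : J₀ ≤ RingHom.ker π.toRingHom := Ideal.map_le_iff_le_comap.2 fun r hr => by
    have h1 : π (ψ r) = α (p r) := DFunLike.congr_fun hψ r
    rw [Ideal.mem_comap, RingHom.mem_ker]
    exact h1.trans ((congrArg α (show p r = 0 from hr)).trans (map_zero α))
  have hJ₀ : IsNilpotent J₀ := by
    rw [Ideal.FG.isNilpotent_iff_le_nilradical (Ideal.FG.map ⟨rels, hrels⟩ _)]
    exact hJ₀π.trans hnil
  have hle : RingHom.ker p.toRingHom ≤ RingHom.ker (((Ideal.Quotient.mkₐ K J₀).comp ψ).toRingHom) := fun r hr => by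
    rw [RingHom.mem_ker]
    exact Ideal.Quotient.eq_zero_iff_mem.2 (Ideal.mem_map_of_mem _ hr)
  let β : D →ₐ[K] C ⧸ J₀ := AlgHom.liftOfSurjective p hp ((Ideal.Quotient.mkₐ K J₀).comp ψ) hle
  let γ := Algebra.FormallySmooth.lift J₀ hJ₀ β
  refine ⟨γ, AlgHom.ext fun d => ?_⟩
  obtain ⟨r, rfl⟩ := hp d
  have h1 : Ideal.Quotient.mk J₀ (γ (p r)) = Ideal.Quotient.mk J₀ (ψ r) :=
    (Algebra.FormallySmooth.mk_lift J₀ hJ₀ β (p r)).trans (AlgHom.liftOfSurjective_apply p hp _ hle r)
  have h2 := hJ₀π (Ideal.Quotient.eq.1 h1)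
  rw [RingHom.mem_ker, map_sub, sub_eq_zero] at h2
  exact h2.trans (DFunLike.congr_fun hψ r)

/-- An etale algebra over a nil quotient lifts, as a cartesian square. -/
theorem exists_etale_lift_of_nil {A Q B : Type u} [CommRing A] [CommRing Q] [CommRing B] [Algebra A Q]
    [Algebra Q B] [Algebra A B] [IsScalarTower A Q B] [Algebra.Etale Q B]
    (hAQ : Function.Surjective (algebraMap A Q)) (hnil : RingHom.ker (algebraMap A Q) ≤ nilradical A) :
    ∃ (C : Type u) (_ : CommRing C) (_ : Algebra A C) (g : C →ₐ[A] B),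
      Algebra.Etale A C ∧ Function.Surjective g ∧ RingHom.ker g.toRingHom ≤ nilradical C ∧
      Function.Bijective (Algebra.TensorProduct.productMap g (IsScalarTower.toAlgHom A Q B)) := by
  have : Algebra.IsStandardSmoothOfRelativeDimension 0 Q B :=
    Algebra.Etale.iff_isStandardSmoothOfRelativeDimension_zero.1 inferInstance
  obtain ⟨C, _, _, g, hC, hg, hker⟩ := exists_lift_standardSmooth (P := A) (A := Q) (B := B) hAQ
  refine ⟨C, inferInstance, inferInstance, g, hC, hg, ?_, ⟨?_, fun b => ?_⟩⟩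
  · rw [hker]
    exact Ideal.map_le_iff_le_comap.2 fun a ha => (mem_nilradical.1 (hnil ha)).map _
  · rw [injective_iff_map_eq_zero]
    intro z hz
    have hrep : ∀ w : C ⊗[A] Q, ∃ c, c ⊗ₜ[A] (1 : Q) = w := fun w => by
      induction w using TensorProduct.induction_on with
      | zero => exact ⟨0, TensorProduct.zero_tmul _ _⟩
      | tmul c q =>
        obtain ⟨a, rfl⟩ := hAQ q
        exact ⟨a • c, by rw [TensorProduct.smul_tmul, Algebra.algebraMap_eq_smul_one]⟩
      | add x y hx hy =>
        obtain ⟨c, rfl⟩ := hx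
        obtain ⟨d, rfl⟩ := hy
        exact ⟨c + d, TensorProduct.add_tmul _ _ _⟩
    obtain ⟨c, rfl⟩ := hrep z
    simp only [Algebra.TensorProduct.productMap_apply_tmul, map_one, mul_one] at hz
    suffices ∀ x ∈ (RingHom.ker (algebraMap A Q)).map (algebraMap A C), x ⊗ₜ[A] (1 : Q) = 0 from
      this c (hker ▸ hz)
    intro x hx
    induction hx using Submodule.span_induction with
    | mem x hx =>
      obtain ⟨a, ha, rfl⟩ := hx
      rw [Algebra.algebraMap_eq_smul_one, TensorProduct.smul_tmul, ← Algebra.algebraMap_eq_smul_one,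
        show algebraMap A Q a = 0 from ha, TensorProduct.tmul_zero]
    | zero => exact TensorProduct.zero_tmul _ _
    | add x y _ _ hx hy => rw [TensorProduct.add_tmul, hx, hy, add_zero]
    | smul r x _ hx =>
      have := congrArg (fun w => (r ⊗ₜ[A] (1 : Q)) * w) hx
      simpa using this
  · obtain ⟨c, rfl⟩ := hg b
    exact ⟨c ⊗ₜ 1, by simp⟩

end Groth.Agent.SpFP87
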