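import Groth.Agent.SpFP87.InfDesc
import Mathlib
/-!
Infinitesimal lifts into an algebraic space through one etale chart: change of chart lift,
affine structure, and vanishing of the obstruction over an affine base.
-/

set_option autoImplicit false
set_option linter.style.haveILetI false
set_option backward.isDefEq.respectTransparency false
universe u
open CategoryTheory CategoryTheory.Limits AlgebraicGeometry TensorProduct
open AlgSp

namespace Groth.Agent.SpFP87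

namespace Torsor

variable {S : Scheme.{u}} {A : Type u} [CommRing A] (str : Spec (CommRingCat.of A) ⟶ S)

/-- The spectrum of an algebra over the base. -/
noncomputable abbrev pt (C : Type u) [CommRing C] [Algebra A C] : Over S :=
  Over.mk (Spec.map (CommRingCat.ofHom (algebraMap A C)) ≫ str)

variable {C C' R D : Type u} [CommRing C] [Algebra A C] [CommRing C'] [Algebra A C'] [CommRing R]
  [Algebra A R] [CommRing D] [Algebra A D]

/-- The map of spectra of an algebra homomorphism. -/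
noncomputable abbrev sp (φ : C →ₐ[A] C') : pt str C' ⟶ pt str C :=
  Over.homMk (Spec.map (CommRingCat.ofHom φ.toRingHom))
    ((Category.assoc _ _ _).symm.trans (congrArg (· ≫ str) (specMap_comp' φ.comp_algebraMap)))

theorem sp_comp {E : Type u} [CommRing E] [Algebra A E] (φ : C →ₐ[A] C') (ψ : C' →ₐ[A] E) :
    sp str (ψ.comp φ) = sp str ψ ≫ sp str φ :=
  Over.OverMorphism.ext (specMap_comp' (f := φ.toRingHom) (g := ψ.toRingHom) rfl).symm

theorem sp_toA (φ : C →ₐ[A] C') :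
    sp str φ ≫ specChg (algebraMap A C) str = specChg (algebraMap A C') str :=
  Over.OverMorphism.ext (specMap_comp' φ.comp_algebraMap)

theorem exists_algHom_of_over (h : pt str C' ⟶ pt str C)
    (w : h ≫ specChg (algebraMap A C) str = specChg (algebraMap A C') str) :
    ∃ φ : C →ₐ[A] C', sp str φ = h := by
  obtain ⟨ψ, hψ⟩ := Spec.map_surjective (h.left : Spec (CommRingCat.of C') ⟶ Spec (CommRingCat.of C))
  have e : ψ.hom.comp (algebraMap A C) = algebraMap A C' := by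
    have h1 := congrArg CommaMorphism.left w
    simp only [Over.comp_left, Over.homMk_left, specChg, ← hψ] at h1
    rw [← Spec.map_comp] at h1
    exact congrArg CommRingCat.Hom.hom (Spec.map_injective h1)
  exact ⟨{ ψ.hom with commutes' := fun a => RingHom.congr_fun e a }, Over.OverMorphism.ext hψ⟩

theorem sp_injective {φ ψ : C →ₐ[A] C'} (h : sp str φ = sp str ψ) : φ = ψ :=
  AlgHom.coe_ringHom_injective (congrArg CommRingCat.Hom.hom (Spec.map_injective (congrArg CommaMorphism.left h)))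

variable {F : Sp S} (p : (yon S).obj (pt str D) ⟶ F)

/-- The point of `F` given by a point of the chart. -/
noncomputable abbrev Φ (k : D →ₐ[A] C) : (yon S).obj (pt str C) ⟶ F := (yon S).map (sp str k) ≫ p

theorem Φ_comp (k : D →ₐ[A] C) (φ : C →ₐ[A] C') : Φ str p (φ.comp k) = (yon S).map (sp str φ) ≫ Φ str p k := by
  rw [Φ, sp_comp, Functor.map_comp, Category.assoc]

/-- A surjection with square-zero kernel. -/
def SqExt (q : C →ₐ[A] R) : Prop := Function.Surjective q ∧ RingHom.ker q.toRingHom ^ 2 = ⊥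

theorem SqExt.mul_eq_zero {q : C →ₐ[A] R} (hq : SqExt q) {x y : C} (hx : q x = 0) (hy : q y = 0) : x * y = 0 := by
  have : x * y ∈ RingHom.ker q.toRingHom * RingHom.ker q.toRingHom := Ideal.mul_mem_mul hx hy
  rw [← pow_two, hq.2] at this
  exact this

variable (π : F ⟶ (yon S).obj (Over.mk str)) (hp : RepWith @Etale p)
  (hpπ : p ≫ π = (yon S).map (specChg (algebraMap A D) str))

include hp hpπ in
theorem existsUnique_etLift {q : C →ₐ[A] R} (hq : SqExt q) (u : D →ₐ[A] R) (κ : (yon S).obj (pt str C) ⟶ F)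
    (hκπ : κ ≫ π = (yon S).map (specChg (algebraMap A C) str))
    (hκ : (yon S).map (sp str q) ≫ κ = Φ str p u) :
    ∃! k : D →ₐ[A] C, q.comp k = u ∧ Φ str p k = κ := by
  let I : Ideal C := RingHom.ker q.toRingHom
  let e : (C ⧸ I) ≃+* R := RingHom.quotientKerEquivOfSurjective hq.1
  have he : e.symm.toRingHom.comp q.toRingHom = Ideal.Quotient.mk I :=
    RingHom.ext fun x => (RingEquiv.symm_apply_eq e).2 rfl
  have he' : e.symm.toRingHom.comp (algebraMap A R) = (Ideal.Quotient.mk I).comp (algebraMap A C) := by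
    rw [← q.comp_algebraMap, ← RingHom.comp_assoc]
    exact congrArg (fun r => RingHom.comp r (algebraMap A C)) he
  let j' : (Over.mk (Spec.map (CommRingCat.ofHom (Ideal.Quotient.mk I)) ≫ (pt str C).hom) : Over S) ⟶ pt str R :=
    Over.homMk (Spec.map (CommRingCat.ofHom e.symm.toRingHom)) (specMap_square he' str)
  let j : (Over.mk (Spec.map (CommRingCat.ofHom (Ideal.Quotient.mk I)) ≫ (pt str C).hom) : Over S) ⟶ pt str C :=
    Over.homMk (Spec.map (CommRingCat.ofHom (Ideal.Quotient.mk I))) rfl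
  have hj : j' ≫ sp str q = j := Over.OverMorphism.ext (specMap_comp' he)
  haveI : IsIso j'.left := by
    haveI : IsIso (CommRingCat.ofHom e.symm.toRingHom) := (ConcreteCategory.isIso_iff_bijective _).2 e.symm.bijective
    exact inferInstanceAs (IsIso (Spec.map (CommRingCat.ofHom e.symm.toRingHom)))
  haveI : IsIso ((Over.forget S).map j') := inferInstanceAs (IsIso j'.left)
  haveI : IsIso j' := isIso_of_reflects_iso j' (Over.forget S)
  let sq : InfSq p :=
    { A := C, I := I, sq_zero := hq.2, str := (pt str C).hom, top := (yon S).map (j' ≫ sp str u), bot := κ,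
      comm := by
        change _ = (yon S).map j ≫ κ
        rw [← hj, Functor.map_comp, Functor.map_comp, Category.assoc, Category.assoc, hκ] }
  have hF := (isFormallyEtaleMor_iff p).1 (isFormallyEtaleMor_of_repWith_etale p hp)
  obtain ⟨l, hl1, hl2⟩ := hF.1 sq
  obtain ⟨h, rfl⟩ := (yon S).map_surjective l
  obtain ⟨k, rfl⟩ := exists_algHom_of_over str h ((yon S).map_injective (by
    have := congrArg (· ≫ π) hl2
    simp only [Category.assoc, hpπ] at this
    exact ((yon S).map_comp _ _).trans (this.trans hκπ)))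
  have hqk : ∀ k : D →ₐ[A] C, (yon S).map sq.j ≫ (yon S).map (sp str k) = sq.top ↔ q.comp k = u := fun k => by
    show (yon S).map j ≫ _ = (yon S).map (j' ≫ sp str u) ↔ _
    rw [← Functor.map_comp, ← hj, Category.assoc, ← sp_comp]
    exact ⟨fun h => sp_injective str ((cancel_epi j').1 ((yon S).map_injective h)), fun h => by rw [h]⟩
  refine ⟨k, ⟨(hqk k).1 hl1, hl2⟩, fun k' hk' => sp_injective str ((yon S).map_injective ?_)⟩
  exact hF.2 sq _ _ ((hqk k').2 hk'.1) hk'.2 hl1 hl2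

variable {str p π}

include hp hpπ in
theorem existsUnique_tr {q : C →ₐ[A] R} (hq : SqExt q) (u : D →ₐ[A] R) (k : D →ₐ[A] C)
    (h : Φ str p (q.comp k) = Φ str p u) :
    ∃! k' : D →ₐ[A] C, q.comp k' = u ∧ Φ str p k' = Φ str p k := by
  refine existsUnique_etLift str p π hp hpπ hq u _ ?_ ?_
  · rw [Category.assoc, hpπ, ← Functor.map_comp, sp_toA]
  · rw [← Φ_comp, h]

/-- The same point of `F`, in the chart lift with prescribed reduction. -/
noncomputable def tr {q : C →ₐ[A] R} (hq : SqExt q) (u : D →ₐ[A] R) (k : D →ₐ[A] C)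
    (h : Φ str p (q.comp k) = Φ str p u) : D →ₐ[A] C :=
  (existsUnique_tr hp hpπ hq u k h).choose

theorem tr_spec {q : C →ₐ[A] R} (hq : SqExt q) (u : D →ₐ[A] R) (k : D →ₐ[A] C)
    (h : Φ str p (q.comp k) = Φ str p u) :
    q.comp (tr hp hpπ hq u k h) = u ∧ Φ str p (tr hp hpπ hq u k h) = Φ str p k :=
  (existsUnique_tr hp hpπ hq u k h).choose_spec.1

theorem tr_unique {q : C →ₐ[A] R} (hq : SqExt q) {u : D →ₐ[A] R} {k k' : D →ₐ[A] C}
    (h : Φ str p (q.comp k) = Φ str p u) (h1 : q.comp k' = u) (h2 : Φ str p k' = Φ str p k) :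
    tr hp hpπ hq u k h = k' :=
  ((existsUnique_tr hp hpπ hq u k h).choose_spec.2 k' ⟨h1, h2⟩).symm

theorem tr_natural {R' : Type u} [CommRing R'] [Algebra A R'] {q : C →ₐ[A] R} {q' : C' →ₐ[A] R'}
    (hq : SqExt q) (hq' : SqExt q') (φ : C →ₐ[A] C') (φb : R →ₐ[A] R') (hφ : q'.comp φ = φb.comp q)
    (u : D →ₐ[A] R) (k : D →ₐ[A] C) (h : Φ str p (q.comp k) = Φ str p u)
    {u' : D →ₐ[A] R'} (hu : φb.comp u = u') {k' : D →ₐ[A] C'} (hk : φ.comp k = k')
    (h' : Φ str p (q'.comp k') = Φ str p u') :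
    tr hp hpπ hq' u' k' h' = φ.comp (tr hp hpπ hq u k h) := by
  refine tr_unique hp hpπ hq' h' ?_ ?_
  · rw [← AlgHom.comp_assoc, hφ, AlgHom.comp_assoc, (tr_spec hp hpπ hq u k h).1, hu]
  · rw [Φ_comp, (tr_spec hp hpπ hq u k h).2, ← Φ_comp, hk]

/-- Triples with common reduction. -/
def trip (q : C →ₐ[A] R) : Subalgebra A (C × C × C) :=
  AlgHom.equalizer (q.comp (AlgHom.fst A C (C × C))) (q.comp ((AlgHom.fst A C C).comp (AlgHom.snd A C (C × C)))) ⊓
    AlgHom.equalizer (q.comp (AlgHom.fst A C (C × C))) (q.comp ((AlgHom.snd A C C).comp (AlgHom.snd A C (C × C))))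

theorem mem_trip {q : C →ₐ[A] R} {z : C × C × C} : z ∈ trip q ↔ q z.1 = q z.2.1 ∧ q z.1 = q z.2.2 := Iff.rfl

theorem sqExt_trip {q : C →ₐ[A] R} (hq : SqExt q) :
    SqExt (q.comp ((AlgHom.fst A C (C × C)).comp (trip q).val)) := by
  refine ⟨fun r => ?_, ?_⟩
  · obtain ⟨c, rfl⟩ := hq.1 r
    exact ⟨⟨(c, c, c), mem_trip.2 ⟨rfl, rfl⟩⟩, rfl⟩
  · rw [pow_two, eq_bot_iff, Ideal.mul_le]
    intro x hx y hy
    have hx0 : q x.1.1 = 0 := hx
    have hy0 : q y.1.1 = 0 := hy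
    obtain ⟨hx1, hx2⟩ := mem_trip.1 x.2
    obtain ⟨hy1, hy2⟩ := mem_trip.1 y.2
    rw [Ideal.mem_bot]
    refine Subtype.ext (Prod.ext ?_ (Prod.ext ?_ ?_)) <;> refine hq.mul_eq_zero ?_ ?_
    exacts [hx0, hy0, hx1 ▸ hx0, hy1 ▸ hy0, hx2 ▸ hx0, hy2 ▸ hy0]

/-- `tr` commutes with every operation on triples with common reduction. -/
theorem tr_op {q : C →ₐ[A] R} (hq : SqExt q) (op : trip q →ₐ[A] C)
    (hop : ∀ z, q (op z) = q z.1.1) (u : D →ₐ[A] R) (k₀ k₁ k₂ : D →ₐ[A] C)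
    (h₁ : q.comp k₁ = q.comp k₀) (h₂ : q.comp k₂ = q.comp k₀) (h : Φ str p (q.comp k₀) = Φ str p u)
    {k₃ : D →ₐ[A] C}
    (hk₃ : op.comp ((k₀.prod (k₁.prod k₂)).codRestrict (trip q)
      (fun d => mem_trip.2 ⟨(DFunLike.congr_fun h₁ d).symm, (DFunLike.congr_fun h₂ d).symm⟩)) = k₃)
    (h₃ : Φ str p (q.comp k₃) = Φ str p u) (d : D) :
    ∃ hm : (tr hp hpπ hq u k₀ h d, tr hp hpπ hq u k₁ (h₁ ▸ h) d, tr hp hpπ hq u k₂ (h₂ ▸ h) d) ∈ trip q,
      tr hp hpπ hq u k₃ h₃ d = op ⟨_, hm⟩ := by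
  let K := (k₀.prod (k₁.prod k₂)).codRestrict (trip q)
    (fun d => mem_trip.2 ⟨(DFunLike.congr_fun h₁ d).symm, (DFunLike.congr_fun h₂ d).symm⟩)
  have hP := sqExt_trip hq
  let K' := tr hp hpπ hP u K h
  have hop' : q.comp op = (AlgHom.id A R).comp (q.comp ((AlgHom.fst A C (C × C)).comp (trip q).val)) :=
    AlgHom.ext fun z => hop z
  have e3 := tr_natural hp hpπ hP hq op (AlgHom.id A R) hop' u K h (AlgHom.id_comp u) hk₃ h₃
  have e0 := tr_natural hp hpπ hP hq ((AlgHom.fst A C (C × C)).comp (trip q).val) (AlgHom.id A R) rfl u K h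
    (AlgHom.id_comp u) (k' := k₀) rfl h
  have e1 := tr_natural hp hpπ hP hq
    (((AlgHom.fst A C C).comp (AlgHom.snd A C (C × C))).comp (trip q).val) (AlgHom.id A R)
    (AlgHom.ext fun z => (mem_trip.1 z.2).1.symm) u K h (AlgHom.id_comp u) (k' := k₁) rfl (h₁ ▸ h)
  have e2 := tr_natural hp hpπ hP hq
    (((AlgHom.snd A C C).comp (AlgHom.snd A C (C × C))).comp (trip q).val) (AlgHom.id A R)
    (AlgHom.ext fun z => (mem_trip.1 z.2).2.symm) u K h (AlgHom.id_comp u) (k' := k₂) rfl (h₂ ▸ h)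
  refine ⟨?_, ?_⟩
  · rw [e0, e1, e2]; exact (K' d).2
  · rw [e3]
    refine congrArg op (Subtype.ext ?_)
    exact Prod.ext (DFunLike.congr_fun e0 d).symm
      (Prod.ext (DFunLike.congr_fun e1 d).symm (DFunLike.congr_fun e2 d).symm)

/-- The affine operation `(a, b, c) ↦ b + c - a`. -/
def addOp {q : C →ₐ[A] R} (hq : SqExt q) : trip q →ₐ[A] C where
  toFun z := z.1.2.1 + z.1.2.2 - z.1.1
  map_one' := by simp
  map_mul' x y := by
    obtain ⟨hx1, hx2⟩ := mem_trip.1 x.2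
    obtain ⟨hy1, hy2⟩ := mem_trip.1 y.2
    have e1 : (x.1.2.1 - x.1.1) * (y.1.2.2 - y.1.1) = 0 :=
      hq.mul_eq_zero (by rw [map_sub, hx1, sub_self]) (by rw [map_sub, hy2, sub_self])
    have e2 : (x.1.2.2 - x.1.1) * (y.1.2.1 - y.1.1) = 0 :=
      hq.mul_eq_zero (by rw [map_sub, hx2, sub_self]) (by rw [map_sub, hy1, sub_self])
    simp only [Subalgebra.coe_mul, Prod.fst_mul, Prod.snd_mul]
    linear_combination -e1 - e2
  map_zero' := by simp
  map_add' x y := by simp only [Subalgebra.coe_add, Prod.fst_add, Prod.snd_add]; ring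
  commutes' a := by simp [Algebra.algebraMap_eq_smul_one]

/-- The operation `(a, b, _) ↦ a + c (b - a)`. -/
def smulOp {q : C →ₐ[A] R} (hq : SqExt q) (c : C) : trip q →ₐ[A] C where
  toFun z := z.1.1 + c * (z.1.2.1 - z.1.1)
  map_one' := by simp
  map_mul' x y := by
    obtain ⟨hx1, -⟩ := mem_trip.1 x.2
    obtain ⟨hy1, -⟩ := mem_trip.1 y.2
    have e1 : (x.1.2.1 - x.1.1) * (y.1.2.1 - y.1.1) = 0 :=
      hq.mul_eq_zero (by rw [map_sub, hx1, sub_self]) (by rw [map_sub, hy1, sub_self])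
    simp only [Subalgebra.coe_mul, Prod.fst_mul, Prod.snd_mul]
    linear_combination (c - c * c) * e1
  map_zero' := by simp
  map_add' x y := by simp only [Subalgebra.coe_add, Prod.fst_add, Prod.snd_add]; ring
  commutes' a := by simp [Algebra.algebraMap_eq_smul_one]

section Gen

variable {n : ℕ} (P : MvPolynomial (Fin n) A →ₐ[A] D) (hP : Function.Surjective P)

include hP in
theorem gen_ext {f g : D →ₐ[A] C} (h : ∀ i, f (P (MvPolynomial.X i)) = g (P (MvPolynomial.X i))) : f = g := by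
  refine AlgHom.ext fun d => ?_
  obtain ⟨r, rfl⟩ := hP d
  exact DFunLike.congr_fun (MvPolynomial.algHom_ext (f := f.comp P) (g := g.comp P) h) r

/-- The values of an algebra map on the generators. -/
noncomputable def val (k : D →ₐ[A] C) : Fin n → C := fun i => k (P (MvPolynomial.X i))

/-- Infinitesimal variations of a point of the chart, as values on generators. -/
noncomputable def Var (rels : Finset (MvPolynomial (Fin n) A)) (q : C →ₐ[A] R) (k : D →ₐ[A] C) : Submodule C (Fin n → C) where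
  carrier := {c | (∀ i, q (c i) = 0) ∧
    ∀ r ∈ rels, ∑ i, MvPolynomial.aeval (val P k) (MvPolynomial.pderiv i r) * c i = 0}
  add_mem' {a b} ha hb := ⟨fun i => by simp [ha.1 i, hb.1 i], fun r hr => by
    simp [mul_add, Finset.sum_add_distrib, ha.2 r hr, hb.2 r hr]⟩
  zero_mem' := ⟨fun i => by simp, fun r _ => by simp⟩
  smul_mem' s a ha := ⟨fun i => by simp [ha.1 i], fun r hr => by
    simp only [Pi.smul_apply, smul_eq_mul, mul_left_comm _ s, ← Finset.mul_sum, ha.2 r hr, mul_zero]⟩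

theorem aeval_add_of_mul_eq_zero (e c : Fin n → C) (hc : ∀ i j, c i * c j = 0) (r : MvPolynomial (Fin n) A) :
    MvPolynomial.aeval (e + c) r =
      MvPolynomial.aeval e r + ∑ i, MvPolynomial.aeval e (MvPolynomial.pderiv i r) * c i := by
  induction r using MvPolynomial.induction_on with
  | C a => simp
  | add r s hr hs => simp only [map_add, hr, hs, add_mul, Finset.sum_add_distrib]; ring
  | mul_X r j hr =>
    simp only [MvPolynomial.pderiv_mul, map_add, map_mul, MvPolynomial.aeval_X, Pi.add_apply, hr,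
      MvPolynomial.pderiv_X, add_mul, Finset.sum_add_distrib]
    have h0 : (∑ i, MvPolynomial.aeval e (MvPolynomial.pderiv i r) * c i) * c j = 0 := by
      rw [Finset.sum_mul]
      exact Finset.sum_eq_zero fun i _ => by rw [mul_assoc, hc, mul_zero]
    have h1 : ∑ i, MvPolynomial.aeval e r * MvPolynomial.aeval e (Pi.single (M := fun _ => MvPolynomial (Fin n) A) i 1 j) * c i =
        MvPolynomial.aeval e r * c j := by
      rw [Finset.sum_eq_single j]
      · simp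
      · intro b _ hb; simp [hb.symm]
      · simp
    have h2 : ∑ i, MvPolynomial.aeval e (MvPolynomial.pderiv i r) * e j * c i =
        (∑ i, MvPolynomial.aeval e (MvPolynomial.pderiv i r) * c i) * e j := by
      rw [Finset.sum_mul]
      exact Finset.sum_congr rfl fun i _ => by ring
    rw [h1, h2]
    linear_combination h0

variable {rels : Finset (MvPolynomial (Fin n) A)} (hrels : Ideal.span (rels : Set (MvPolynomial (Fin n) A)) = RingHom.ker P.toRingHom)
variable {q : C →ₐ[A] R} (hq : SqExt q)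

include hP hrels hq in
theorem exists_vary (k : D →ₐ[A] C) {c : Fin n → C} (hc : c ∈ Var P rels q k) :
    ∃ k' : D →ₐ[A] C, q.comp k' = q.comp k ∧ val P k' = val P k + c := by
  let ψ : MvPolynomial (Fin n) A →ₐ[A] C := MvPolynomial.aeval (val P k + c)
  have hk : MvPolynomial.aeval (val P k) = k.comp P := MvPolynomial.algHom_ext fun i => by simp [val]
  have hker : RingHom.ker P.toRingHom ≤ RingHom.ker ψ.toRingHom := by
    rw [← hrels, Ideal.span_le]
    intro r hr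
    have h0 : P r = 0 := by
      have : r ∈ RingHom.ker P.toRingHom := hrels ▸ Ideal.subset_span hr
      exact this
    show ψ r = 0
    rw [aeval_add_of_mul_eq_zero _ _ (fun i j => hq.mul_eq_zero (hc.1 i) (hc.1 j)), hc.2 r hr, add_zero,
      hk, AlgHom.comp_apply, h0, map_zero]
  refine ⟨AlgHom.liftOfSurjective P hP ψ hker, ?_, funext fun i => ?_⟩
  · refine gen_ext P hP fun i => ?_
    simp only [AlgHom.comp_apply, AlgHom.liftOfSurjective_apply, ψ, MvPolynomial.aeval_X, Pi.add_apply, map_add,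
      hc.1 i, add_zero]
    rfl
  · simp [val, ψ]

include hrels hq in
theorem sub_mem_var (k k' : D →ₐ[A] C) (h : q.comp k' = q.comp k) : val P k' - val P k ∈ Var P rels q k := by
  have h1 : ∀ i, q ((val P k' - val P k) i) = 0 := fun i => by
    rw [Pi.sub_apply, map_sub, sub_eq_zero]
    exact DFunLike.congr_fun h _
  refine ⟨h1, fun r hr => ?_⟩
  have h0 : P r = 0 := by
    have : r ∈ RingHom.ker P.toRingHom := hrels ▸ Ideal.subset_span hr
    exact this
  have hk : ∀ k : D →ₐ[A] C, MvPolynomial.aeval (val P k) = k.comp P := fun k =>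
    MvPolynomial.algHom_ext fun i => by simp [val]
  have := aeval_add_of_mul_eq_zero (val P k) (val P k' - val P k) (fun i j => hq.mul_eq_zero (h1 i) (h1 j)) r
  rw [add_sub_cancel, hk k', hk k, AlgHom.comp_apply, AlgHom.comp_apply, h0, map_zero, map_zero, zero_add] at this
  rw [hk k]
  exact this.symm

variable {R' : Type u} [CommRing R'] [Algebra A R'] {q' : C' →ₐ[A] R'} (hq' : SqExt q')
variable (p₁ p₂ : C →ₐ[A] C') (pb₁ pb₂ : R →ₐ[A] R') (hp₂ : q'.comp p₂ = pb₂.comp q)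
variable (k : D →ₐ[A] C) (hΦ : Φ str p (pb₂.comp (q.comp k)) = Φ str p (pb₁.comp (q.comp k)))

include hp₂ hΦ in
theorem tr_cond {k' : D →ₐ[A] C} (h : q.comp k' = q.comp k) :
    Φ str p (q'.comp (p₂.comp k')) = Φ str p (pb₁.comp (q.comp k)) := by
  rw [← AlgHom.comp_assoc, hp₂, AlgHom.comp_assoc, h]; exact hΦ

/-- The transported second pullback of a lift. -/
noncomputable def snd₁ (k' : D →ₐ[A] C) (h : q.comp k' = q.comp k) : D →ₐ[A] C' :=
  tr hp hpπ hq' (pb₁.comp (q.comp k)) (p₂.comp k') (tr_cond p₂ pb₁ pb₂ hp₂ k hΦ h)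

/-- The coboundary of a variation. -/
noncomputable def cob (c : Var P rels q k) : Fin n → C' :=
  (fun i => p₁ (c.1 i)) -
    (val P (snd₁ hp hpπ hq' p₂ pb₁ pb₂ hp₂ k hΦ (exists_vary P hP hrels hq k c.2).choose
        (exists_vary P hP hrels hq k c.2).choose_spec.1) -
     val P (snd₁ hp hpπ hq' p₂ pb₁ pb₂ hp₂ k hΦ k rfl))

theorem cob_eq (c : Var P rels q k) {k' : D →ₐ[A] C} (h : q.comp k' = q.comp k) (hv : val P k' = val P k + c.1) :
    cob hp hpπ P hP hrels hq hq' p₁ p₂ pb₁ pb₂ hp₂ k hΦ c =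
      (fun i => p₁ (c.1 i)) - (val P (snd₁ hp hpπ hq' p₂ pb₁ pb₂ hp₂ k hΦ k' h) -
        val P (snd₁ hp hpπ hq' p₂ pb₁ pb₂ hp₂ k hΦ k rfl)) := by
  have e : k' = (exists_vary P hP hrels hq k c.2).choose :=
    gen_ext P hP fun i => congrFun (hv.trans (exists_vary P hP hrels hq k c.2).choose_spec.2.symm) i
  subst e
  rfl

theorem cob_add (c c' : Var P rels q k) :
    cob hp hpπ P hP hrels hq hq' p₁ p₂ pb₁ pb₂ hp₂ k hΦ (c + c') =
      cob hp hpπ P hP hrels hq hq' p₁ p₂ pb₁ pb₂ hp₂ k hΦ c +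
        cob hp hpπ P hP hrels hq hq' p₁ p₂ pb₁ pb₂ hp₂ k hΦ c' := by
  obtain ⟨k₁, h₁, v₁⟩ := exists_vary P hP hrels hq k c.2
  obtain ⟨k₂, h₂, v₂⟩ := exists_vary P hP hrels hq k c'.2
  obtain ⟨k₃, h₃, v₃⟩ := exists_vary P hP hrels hq k (c + c').2
  rw [cob_eq hp hpπ P hP hrels hq hq' p₁ p₂ pb₁ pb₂ hp₂ k hΦ _ h₁ v₁,
    cob_eq hp hpπ P hP hrels hq hq' p₁ p₂ pb₁ pb₂ hp₂ k hΦ _ h₂ v₂,
    cob_eq hp hpπ P hP hrels hq hq' p₁ p₂ pb₁ pb₂ hp₂ k hΦ _ h₃ v₃]
  have g₁ : q'.comp (p₂.comp k₁) = q'.comp (p₂.comp k) := by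
    rw [← AlgHom.comp_assoc, hp₂, AlgHom.comp_assoc, h₁, ← AlgHom.comp_assoc, ← hp₂, AlgHom.comp_assoc]
  have g₂ : q'.comp (p₂.comp k₂) = q'.comp (p₂.comp k) := by
    rw [← AlgHom.comp_assoc, hp₂, AlgHom.comp_assoc, h₂, ← AlgHom.comp_assoc, ← hp₂, AlgHom.comp_assoc]
  funext i
  obtain ⟨hm, e⟩ := tr_op hp hpπ hq' (addOp hq') (fun (z : trip q') => by
      obtain ⟨hz1, hz2⟩ := mem_trip.1 z.2
      show q' (z.1.2.1 + z.1.2.2 - z.1.1) = _
      rw [map_sub, map_add, ← hz1, ← hz2, add_sub_cancel_right])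
    (pb₁.comp (q.comp k)) (p₂.comp k) (p₂.comp k₁) (p₂.comp k₂) g₁ g₂ (tr_cond p₂ pb₁ pb₂ hp₂ k hΦ rfl)
    (k₃ := p₂.comp k₃) (gen_ext P hP fun j => by
      have e1 := congrFun v₁ j
      have e2 := congrFun v₂ j
      have e3 := congrFun v₃ j
      simp only [val, Pi.add_apply] at e1 e2 e3
      show p₂ (k₁ _) + p₂ (k₂ _) - p₂ (k _) = p₂ (k₃ _)
      rw [e1, e2, e3, Submodule.coe_add, Pi.add_apply, map_add, map_add, map_add, map_add]
      ring) (tr_cond p₂ pb₁ pb₂ hp₂ k hΦ h₃) (P (MvPolynomial.X i))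
  simp only [Pi.sub_apply, Pi.add_apply, Submodule.coe_add, map_add, val, snd₁]
  rw [e]
  simp only [addOp, AlgHom.coe_mk, RingHom.coe_mk, MonoidHom.coe_mk, OneHom.coe_mk]
  ring

theorem cob_smul (c : Var P rels q k) (s : C) (hs : p₁ s = p₂ s) :
    cob hp hpπ P hP hrels hq hq' p₁ p₂ pb₁ pb₂ hp₂ k hΦ (s • c) =
      p₂ s • cob hp hpπ P hP hrels hq hq' p₁ p₂ pb₁ pb₂ hp₂ k hΦ c := by
  obtain ⟨k₁, h₁, v₁⟩ := exists_vary P hP hrels hq k c.2
  obtain ⟨k₃, h₃, v₃⟩ := exists_vary P hP hrels hq k (s • c).2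
  rw [cob_eq hp hpπ P hP hrels hq hq' p₁ p₂ pb₁ pb₂ hp₂ k hΦ _ h₁ v₁,
    cob_eq hp hpπ P hP hrels hq hq' p₁ p₂ pb₁ pb₂ hp₂ k hΦ _ h₃ v₃]
  have g₁ : q'.comp (p₂.comp k₁) = q'.comp (p₂.comp k) := by
    rw [← AlgHom.comp_assoc, hp₂, AlgHom.comp_assoc, h₁, ← AlgHom.comp_assoc, ← hp₂, AlgHom.comp_assoc]
  funext i
  obtain ⟨hm, e⟩ := tr_op hp hpπ hq' (smulOp hq' (p₂ s)) (fun (z : trip q') => by
      obtain ⟨hz1, -⟩ := mem_trip.1 z.2
      show q' (z.1.1 + p₂ s * (z.1.2.1 - z.1.1)) = _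
      rw [map_add, map_mul, map_sub, ← hz1, sub_self, mul_zero, add_zero])
    (pb₁.comp (q.comp k)) (p₂.comp k) (p₂.comp k₁) (p₂.comp k) g₁ rfl (tr_cond p₂ pb₁ pb₂ hp₂ k hΦ rfl)
    (k₃ := p₂.comp k₃) (gen_ext P hP fun j => by
      have e1 := congrFun v₁ j
      have e3 := congrFun v₃ j
      simp only [val, Pi.add_apply] at e1 e3
      show p₂ (k _) + p₂ s * (p₂ (k₁ _) - p₂ (k _)) = p₂ (k₃ _)
      rw [e1, e3, Submodule.coe_smul, Pi.smul_apply, smul_eq_mul, map_add, map_add, map_mul]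
      ring) (tr_cond p₂ pb₁ pb₂ hp₂ k hΦ h₃) (P (MvPolynomial.X i))
  simp only [Pi.sub_apply, Pi.smul_apply, smul_eq_mul, Submodule.coe_smul, map_mul, val, snd₁, hs]
  rw [e]
  simp only [smulOp, AlgHom.coe_mk, RingHom.coe_mk, MonoidHom.coe_mk, OneHom.coe_mk]
  ring

/-- The coboundary as a linear map. -/
noncomputable def cobL : Var P rels q k →ₗ[A] (Fin n → C') where
  toFun := cob hp hpπ P hP hrels hq hq' p₁ p₂ pb₁ pb₂ hp₂ k hΦ
  map_add' := cob_add hp hpπ P hP hrels hq hq' p₁ p₂ pb₁ pb₂ hp₂ k hΦ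
  map_smul' a c := by
    rw [← algebraMap_smul C a c,
      cob_smul hp hpπ P hP hrels hq hq' p₁ p₂ pb₁ pb₂ hp₂ k hΦ c _
        ((p₁.commutes a).trans (p₂.commutes a).symm), p₂.commutes, algebraMap_smul]
    rfl

variable {E E' T T' : Type u} [CommRing E] [Algebra A E] [CommRing E'] [Algebra A E'] [CommRing T] [Algebra A T]
  [CommRing T'] [Algebra A T'] {qE : E →ₐ[A] T} (hqE : SqExt qE) {qE' : E' →ₐ[A] T'} (hqE' : SqExt qE')

omit hq hq' in
theorem comp_mem_var (i₀ : C →ₐ[A] E) (ib₀ : R →ₐ[A] T) (hi₀ : qE.comp i₀ = ib₀.comp q) {c : Fin n → C}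
    (hc : c ∈ Var P rels q k) : (fun j => i₀ (c j)) ∈ Var P rels qE (i₀.comp k) := by
  refine ⟨fun j => ?_, fun r hr => ?_⟩
  · have := DFunLike.congr_fun hi₀ (c j)
    simp only [AlgHom.comp_apply, hc.1 j, map_zero] at this
    exact this
  · have := congrArg i₀ (hc.2 r hr)
    rw [map_zero, map_sum] at this
    have hv : val P (i₀.comp k) = fun j => i₀ (val P k j) := rfl
    rw [hv]
    simpa [← MvPolynomial.comp_aeval (val P k) i₀] using this

/-- The coboundary is natural. -/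
theorem cob_natural (i₀ : C →ₐ[A] E) (ib₀ : R →ₐ[A] T) (hi₀ : qE.comp i₀ = ib₀.comp q) (i₁ : C' →ₐ[A] E')
    (ib₁ : R' →ₐ[A] T') (hi₁ : qE'.comp i₁ = ib₁.comp q') (r₁ r₂ : E →ₐ[A] E') (rb₁ rb₂ : T →ₐ[A] T')
    (hr₂ : qE'.comp r₂ = rb₂.comp qE) (hc₁ : r₁.comp i₀ = i₁.comp p₁) (hc₂ : r₂.comp i₀ = i₁.comp p₂)
    (hcb₁ : rb₁.comp ib₀ = ib₁.comp pb₁)
    (hΨ : Φ str p (rb₂.comp (qE.comp (i₀.comp k))) = Φ str p (rb₁.comp (qE.comp (i₀.comp k))))
    (c : Var P rels q k) :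
    cob hp hpπ P hP hrels hqE hqE' r₁ r₂ rb₁ rb₂ hr₂ (i₀.comp k) hΨ
        ⟨_, comp_mem_var P k i₀ ib₀ hi₀ c.2⟩ =
      fun j => i₁ (cob hp hpπ P hP hrels hq hq' p₁ p₂ pb₁ pb₂ hp₂ k hΦ c j) := by
  obtain ⟨k₁, h₁, v₁⟩ := exists_vary P hP hrels hq k c.2
  have g₁ : qE.comp (i₀.comp k₁) = qE.comp (i₀.comp k) := by
    rw [← AlgHom.comp_assoc, hi₀, AlgHom.comp_assoc, h₁, ← AlgHom.comp_assoc, ← hi₀, AlgHom.comp_assoc]
  rw [cob_eq hp hpπ P hP hrels hqE hqE' r₁ r₂ rb₁ rb₂ hr₂ _ hΨ _ g₁ (funext fun j => by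
      have := congrFun v₁ j
      simp only [val, Pi.add_apply, AlgHom.comp_apply] at this ⊢
      rw [this, map_add]),
    cob_eq hp hpπ P hP hrels hq hq' p₁ p₂ pb₁ pb₂ hp₂ k hΦ _ h₁ v₁]
  have hu : ib₁.comp (pb₁.comp (q.comp k)) = rb₁.comp (qE.comp (i₀.comp k)) := by
    rw [← AlgHom.comp_assoc ib₁, ← hcb₁, AlgHom.comp_assoc, ← AlgHom.comp_assoc ib₀, ← hi₀, AlgHom.comp_assoc]
  have key : ∀ (k' : D →ₐ[A] C) (h : q.comp k' = q.comp k) (h' : qE.comp (i₀.comp k') = qE.comp (i₀.comp k)),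
      snd₁ hp hpπ hqE' r₂ rb₁ rb₂ hr₂ (i₀.comp k) hΨ (i₀.comp k') h' =
        i₁.comp (snd₁ hp hpπ hq' p₂ pb₁ pb₂ hp₂ k hΦ k' h) := fun k' h h' =>
    tr_natural hp hpπ hq' hqE' i₁ ib₁ hi₁ _ _ _ hu (by rw [← AlgHom.comp_assoc, ← hc₂, AlgHom.comp_assoc]) _
  rw [key k₁ h₁ g₁, key k rfl rfl]
  funext j
  simp only [Pi.sub_apply, val, AlgHom.comp_apply, map_sub]
  rw [show r₁ (i₀ (c.1 j)) = i₁ (p₁ (c.1 j)) from DFunLike.congr_fun hc₁ _]

end Gen

end Torsor

end Groth.Agent.SpFP87
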