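import Groth.Agent.SpFP87.NormRing
import Groth.Agent.SpFP87.SmoothTorsor
import Groth.Agent.SpFP87.Deform
import Groth.Agent.SpPts86.FiniteCrit
import Groth.Agent.SpPts86.QCMor
import Groth.Agent.SpPts86.Quot
import Groth.Agent.SpPts86.EtaleMor
import Groth.Agent.SpPts86.AffineCharts
import Groth.Prelude.Def_AlgSpMor5
/-!
The normalization of an affine scheme in an algebraic space, and its smooth base change.
-/

set_option autoImplicit false
set_option linter.style.haveILetI false
set_option backward.isDefEq.respectTransparency false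
universe u
open CategoryTheory CategoryTheory.Limits AlgebraicGeometry TensorProduct
open AlgSp
open Groth.Agent.SpPts86

namespace Groth.Agent.SpFP87

open Torsor

variable {S : Scheme.{u}} {A : Type u} [CommRing A] (str : Spec (CommRingCat.of A) ⟶ S)

/-- An affine chart with finitely many affine charts of its relation. -/
structure NormPres {Y : Sp S} (f : Y ⟶ (yon S).obj (Over.mk str)) where
  B : Type u
  [ringB : CommRing B]
  [algB : Algebra A B]
  p : (yon S).obj (pt str B) ⟶ Y
  hp : RepWith @Etale p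
  hps : RepWith @Surjective p
  hpf : p ≫ f = (yon S).map (specChg (algebraMap A B) str)
  n : ℕ
  C : Fin n → Type u
  [ringC : ∀ i, CommRing (C i)]
  [algC : ∀ i, Algebra A (C i)]
  φ : ∀ i, B →ₐ[A] C i
  ψ : ∀ i, B →ₐ[A] C i
  heq : ∀ i, (yon S).map (sp str (φ i)) ≫ p = (yon S).map (sp str (ψ i)) ≫ p
  cover : ∀ (T : Over S) (l l' : T ⟶ pt str B), (yon S).map l ≫ p = (yon S).map l' ≫ p →
    ∀ t : T.left, ∃ (i : Fin n) (O : T.left.Opens) (k : O.toScheme ⟶ (pt str (C i)).left), t ∈ O ∧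
      k ≫ (sp str (φ i)).left = O.ι ≫ l.left ∧ k ≫ (sp str (ψ i)).left = O.ι ≫ l'.left

attribute [instance] NormPres.ringB NormPres.algB NormPres.ringC NormPres.algC

theorem exists_normPres {X Y Yw : Sp S} (hX : IsAlgSpace X) (hY : IsAlgSpace Y) {f₀ : Y ⟶ X}
    (hqc : IsQuasiCompactMor f₀) (hqs : IsQuasiSeparatedMor f₀) {w : (yon S).obj (Over.mk str) ⟶ X}
    {a : Yw ⟶ Y} {f : Yw ⟶ (yon S).obj (Over.mk str)} (sq : IsPullback a f f₀ w) :
    Nonempty (NormPres str f) := by
  classical
  haveI : CompactSpace (Over.mk str).left := inferInstanceAs (CompactSpace (Spec (CommRingCat.of A)))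
  haveI := compactSpace_points_yon (Over.mk str)
  have hYw : IsAlgSpace Yw := isAlgSpace_of_isPullback sq hY (IsAlgSpace.yon_obj _) hX.diag
  haveI : CompactSpace (Points Yw) := compactSpace_of_isQuasiCompactMor hqc (IsAlgSpace.yon_obj _) sq
  obtain ⟨U, u₀, hU, hu, hus⟩ := exists_affine_chart_of_compactSpace hYw
  haveI := hU
  obtain ⟨g, hg⟩ := (yon S).map_surjective (u₀ ≫ f)
  obtain ⟨φA, hφA⟩ := Spec.map_surjective (U.left.isoSpec.inv ≫ g.left :
    Spec Γ(U.left, ⊤) ⟶ Spec (CommRingCat.of A))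
  letI : Algebra A Γ(U.left, ⊤) := φA.hom.toAlgebra
  let B : Type u := Γ(U.left, ⊤)
  let eB : pt str B ⟶ U := Over.homMk U.left.isoSpec.inv (by
    show U.left.isoSpec.inv ≫ U.hom = Spec.map φA ≫ str
    rw [hφA, Category.assoc]; exact congrArg _ (Over.w g).symm)
  haveI : IsIso ((Over.forget S).map eB) := inferInstanceAs (IsIso U.left.isoSpec.inv)
  haveI : IsIso eB := isIso_of_reflects_iso eB (Over.forget S)
  haveI : Etale eB.left := inferInstanceAs (Etale U.left.isoSpec.inv)
  let p : (yon S).obj (pt str B) ⟶ Yw := (yon S).map eB ≫ u₀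
  have hp : RepWith @Etale p := repWith_etale_comp eB hu
  have hps : RepWith @Surjective p :=
    (repWith_isMultiplicative (S := S) @Surjective).comp_mem _ _
      ((repWith_yon_map_iff _ eB).2 (inferInstanceAs (Surjective U.left.isoSpec.inv))) hus
  have hpf : p ≫ f = (yon S).map (specChg (algebraMap A B) str) := by
    rw [Category.assoc, ← hg, ← Functor.map_comp]
    exact congrArg _ (Over.OverMorphism.ext hφA.symm)
  -- the relation, inside the product over the base
  let D : Type u := B ⊗[A] B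
  let i₁ : B →ₐ[A] D := Algebra.TensorProduct.includeLeft
  let i₂ : B →ₐ[A] D := Algebra.TensorProduct.includeRight
  let m₁ := (yon S).map (sp str i₁) ≫ p
  let m₂ := (yon S).map (sp str i₂) ≫ p
  have hm : (m₁ ≫ a) ≫ f₀ = (m₂ ≫ a) ≫ f₀ := by
    simp only [Category.assoc, sq.w, m₁, m₂, reassoc_of% hpf]
    rw [← Functor.map_comp_assoc, ← Functor.map_comp_assoc, sp_toA, sp_toA]
  let m : (yon S).obj (pt str D) ⟶ pullback f₀ f₀ := pullback.lift (m₁ ≫ a) (m₂ ≫ a) hm
  obtain ⟨R, r, d, sqR⟩ := hqs.rep m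
  haveI : QuasiCompact r.left := hqs.property m _ r sqR
  haveI : CompactSpace (pt str D).left := inferInstanceAs (CompactSpace (Spec (CommRingCat.of D)))
  haveI : CompactSpace R.left := QuasiCompact.compactSpace_of_compactSpace r.left
  let 𝒰 := R.left.affineCover.finiteSubcover
  let n := Fintype.card 𝒰.I₀
  let e := (Fintype.equivFin 𝒰.I₀).symm
  have haff : ∀ i, IsAffine (𝒰.X i) := fun i => inferInstanceAs (IsAffine (R.left.affineCover.X _))
  choose χ hχ using fun i : Fin n => Spec.map_surjective ((𝒰.X (e i)).isoSpec.inv ≫ 𝒰.f (e i) ≫ r.left :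
    Spec Γ(𝒰.X (e i), ⊤) ⟶ Spec (CommRingCat.of D))
  letI algC : ∀ i : Fin n, Algebra A Γ(𝒰.X (e i), ⊤) := fun i => ((χ i).hom.comp (algebraMap A D)).toAlgebra
  let χₐ : ∀ i : Fin n, D →ₐ[A] Γ(𝒰.X (e i), ⊤) := fun i => { (χ i).hom with commutes' := fun _ => rfl }
  refine ⟨{ B := B, p := p, hp := hp, hps := hps, hpf := hpf, n := n, C := fun i => Γ(𝒰.X (e i), ⊤),
            φ := fun i => (χₐ i).comp i₁, ψ := fun i => (χₐ i).comp i₂, heq := fun i => ?_, cover := ?_ }⟩
  · let k : pt str Γ(𝒰.X (e i), ⊤) ⟶ R := Over.homMk ((𝒰.X (e i)).isoSpec.inv ≫ 𝒰.f (e i)) (by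
      show ((𝒰.X (e i)).isoSpec.inv ≫ 𝒰.f (e i)) ≫ R.hom =
        Spec.map (CommRingCat.ofHom (algebraMap A D) ≫ χ i) ≫ str
      rw [← Over.w r, Spec.map_comp, hχ]
      simp only [Category.assoc, Over.mk_hom])
    have hk : k ≫ r = sp str (χₐ i) := Over.OverMorphism.ext (by
      show ((𝒰.X (e i)).isoSpec.inv ≫ 𝒰.f (e i)) ≫ r.left = Spec.map (χ i)
      rw [hχ, Category.assoc])
    have hRd : d ≫ pullback.diagonal f₀ = (yon S).map r ≫ m := sqR.w
    have hd1 := congrArg (· ≫ pullback.fst f₀ f₀) hRd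
    have hd2 := congrArg (· ≫ pullback.snd f₀ f₀) hRd
    simp only [Category.assoc, pullback.diagonal_fst, pullback.diagonal_snd, m, pullback.lift_fst,
      pullback.lift_snd, Category.comp_id] at hd1 hd2
    rw [sp_comp, sp_comp, ← hk]
    refine sq.hom_ext ?_ ?_
    · simp only [Functor.map_comp, Category.assoc]
      exact congrArg ((yon S).map k ≫ ·) (by simpa only [m₁, m₂, Category.assoc] using hd1.symm.trans hd2)
    · simp only [Category.assoc, hpf, ← Functor.map_comp]
      simp only [sp_toA]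
  · intro T l l' hll t
    have hw : l ≫ specChg (algebraMap A B) str = l' ≫ specChg (algebraMap A B) str :=
      (yon S).map_injective (by
        rw [Functor.map_comp, Functor.map_comp, ← hpf, ← Category.assoc, hll, Category.assoc])
    have sqD : IsPullback (sp str i₁).left (sp str i₂).left
        (specChg (algebraMap A B) str).left (specChg (algebraMap A B) str).left :=
      isPullback_SpecMap_of_isPushout _ _ _ _ (CommRingCat.isPushout_tensorProduct A B B)
    let q : T ⟶ pt str D := Over.homMk (sqD.lift l.left l'.left (congrArg CommaMorphism.left hw)) (by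
      refine (congrArg (sqD.lift l.left l'.left (congrArg CommaMorphism.left hw) ≫ ·) (Over.w (sp str i₁)).symm).trans ?_
      exact ((Category.assoc _ _ _).symm.trans
        (congrArg (· ≫ (pt str B).hom) (sqD.lift_fst _ _ _))).trans (Over.w l))
    have hq1 : q ≫ sp str i₁ = l := Over.OverMorphism.ext (sqD.lift_fst _ _ _)
    have hq2 : q ≫ sp str i₂ = l' := Over.OverMorphism.ext (sqD.lift_snd _ _ _)
    obtain ⟨ρ, hρ⟩ := (yon S).map_surjective (sqR.lift ((yon S).map l ≫ p ≫ a) ((yon S).map q) (by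
      refine pullback.hom_ext ?_ ?_
      · simp only [m, m₁, Category.assoc, pullback.diagonal_fst, pullback.lift_fst, Category.comp_id]
        rw [← Functor.map_comp_assoc, hq1]
      · simp only [m, m₂, Category.assoc, pullback.diagonal_snd, pullback.lift_snd, Category.comp_id]
        rw [← Functor.map_comp_assoc, hq2, reassoc_of% hll]))
    have hρr : ρ ≫ r = q := (yon S).map_injective (by rw [Functor.map_comp, hρ, sqR.lift_snd])
    obtain ⟨j, u, hju⟩ : ∃ j, ∃ u, (𝒰.f j) u = ρ.left t := ⟨_, 𝒰.exists_eq (ρ.left t) |>.choose_spec⟩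
    obtain ⟨i, rfl⟩ := e.surjective j
    let O : T.left.Opens := ρ.left ⁻¹ᵁ (𝒰.f (e i)).opensRange
    have hO : Set.range (O.ι ≫ ρ.left) ⊆ Set.range (𝒰.f (e i)) := by
      rintro _ ⟨x, rfl⟩
      exact x.2
    let κ : O.toScheme ⟶ 𝒰.X (e i) := IsOpenImmersion.lift (𝒰.f (e i)) (O.ι ≫ ρ.left) hO
    have hκ : κ ≫ 𝒰.f (e i) = O.ι ≫ ρ.left := IsOpenImmersion.lift_fac _ _ hO
    refine ⟨i, O, κ ≫ (𝒰.X (e i)).isoSpec.hom, ⟨u, hju⟩, ?_, ?_⟩
    · rw [← hq1, ← hρr, sp_comp, Over.comp_left, Over.comp_left, Over.comp_left]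
      show (κ ≫ (𝒰.X (e i)).isoSpec.hom) ≫ Spec.map (χ i) ≫ _ = _
      rw [hχ]
      simp only [Category.assoc, Iso.hom_inv_id_assoc]
      rw [reassoc_of% hκ]
    · rw [← hq2, ← hρr, sp_comp, Over.comp_left, Over.comp_left, Over.comp_left]
      show (κ ≫ (𝒰.X (e i)).isoSpec.hom) ≫ Spec.map (χ i) ≫ _ = _
      rw [hχ]
      simp only [Category.assoc, Iso.hom_inv_id_assoc]
      rw [reassoc_of% hκ]

end Groth.Agent.SpFP87
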