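import Groth.Agent.SpFP87.NormGlue
import Groth.Agent.SpFP87.NormAffineUniv
import Groth.Agent.SpFP87.RepSigma
/-!
The normalization over an atlas made of affine schemes.
-/

set_option autoImplicit false
set_option linter.style.haveILetI false
set_option backward.isDefEq.respectTransparency false
universe u
open CategoryTheory CategoryTheory.Limits AlgebraicGeometry
open AlgSp
open Groth.Agent.SpPts86

namespace Groth.Agent.SpFP87

open Torsor

variable {S : Scheme.{u}}

theorem isRelNormalization_of_comp_iso {Y X X₁ X' : Sp S} {f : Y ⟶ X} {ν : X' ⟶ X} {f' : Y ⟶ X'} (e : X ≅ X₁)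
    (hn : IsRelNormalization (f ≫ e.hom) (ν ≫ e.hom) f') : IsRelNormalization f ν f' := by
  obtain ⟨h1, h2, h3⟩ := hn
  refine ⟨(cancel_mono e.hom).1 (by rw [Category.assoc, h1]), ?_, fun Z hZ π g hπ hg => ?_⟩
  · have sq : IsPullback (𝟙 X') ν (ν ≫ e.hom) e.hom := IsPullback.of_horiz_isIso ⟨by rw [Category.id_comp]⟩
    exact isIntegralMor_of_isPullback sq h2
  · have sq : IsPullback (𝟙 Z) (π ≫ e.hom) π e.inv :=
      IsPullback.of_horiz_isIso ⟨by rw [Category.id_comp, Category.assoc, e.hom_inv_id, Category.comp_id]⟩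
    obtain ⟨h, ⟨a, b⟩, hu⟩ := h3 hZ (π ≫ e.hom) g (isIntegralMor_of_isPullback sq hπ)
      (by rw [← Category.assoc, hg])
    exact ⟨h, ⟨a, (cancel_mono e.hom).1 (by rw [Category.assoc, b])⟩,
      fun m ⟨m1, m2⟩ => hu m ⟨m1, by rw [← Category.assoc, m2]⟩⟩

theorem UnivBC.iso_comp {X Y X' : Sp S} {f : Y ⟶ X} {ν : X' ⟶ X} {f' : Y ⟶ X'} {T T' : Sp S} {j : T ⟶ X}
    (h : UnivBC f ν f' j) (e : T' ≅ T) : UnivBC f ν f' (e.hom ≫ j) := by
  intro YT NT a fT b νT s₁ s₂ f'T e₁ e₂
  refine isRelNormalization_of_comp_iso e (h a (fT ≫ e.hom) b (νT ≫ e.hom) ?_ ?_ f'T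
    (by rw [reassoc_of% e₁]) e₂)
  · exact s₁.of_iso (Iso.refl _) (Iso.refl _) e (Iso.refl _) (by simp) (by simp) (by simp) (by simp)
  · exact s₂.of_iso (Iso.refl _) (Iso.refl _) e (Iso.refl _) (by simp) (by simp) (by simp) (by simp)

/-- Universality for all smooth affine schemes over an affine scheme. -/
theorem univBC_of_smooth_affine {A : Type u} [CommRing A] {str : Spec (CommRingCat.of A) ⟶ S} {Y X' : Sp S}
    {f : Y ⟶ (yon S).obj (Over.mk str)} {ν : X' ⟶ (yon S).obj (Over.mk str)} {f' : Y ⟶ X'}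
    (h : ∀ (A₂ : Type u) [CommRing A₂] [Algebra A A₂] [Algebra.Smooth A A₂],
      UnivBC f ν f' ((yon S).map (specChg (algebraMap A A₂) str)))
    {Q : Over S} (q : Q ⟶ Over.mk str) (hQ : IsAffine Q.left) (hq : Smooth q.left) :
    UnivBC f ν f' ((yon S).map q) := by
  haveI := hQ
  obtain ⟨φ, hφ⟩ := Spec.map_surjective (Q.left.isoSpec.inv ≫ q.left :
    Spec Γ(Q.left, ⊤) ⟶ Spec (CommRingCat.of A))
  letI : Algebra A Γ(Q.left, ⊤) := φ.hom.toAlgebra
  have hs : Smooth (Spec.map φ) := by
    rw [hφ]; haveI := hq; infer_instance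
  haveI : Algebra.Smooth A Γ(Q.left, ⊤) :=
    RingHom.smooth_algebraMap.1 ((HasRingHomProperty.Spec_iff (P := @Smooth)).1 hs)
  let eQ : Q ≅ pt str Γ(Q.left, ⊤) := Over.isoMk Q.left.isoSpec (by
    show Q.left.isoSpec.hom ≫ Spec.map φ ≫ str = Q.hom
    rw [hφ]
    simp only [Category.assoc, Iso.hom_inv_id_assoc]
    exact Over.w q)
  have : (yon S).map q = ((yon S).mapIso eQ).hom ≫ (yon S).map (specChg (algebraMap A Γ(Q.left, ⊤)) str) := by
    rw [Functor.mapIso_hom, ← Functor.map_comp]
    refine congrArg _ (Over.OverMorphism.ext ?_)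
    show q.left = Q.left.isoSpec.hom ≫ Spec.map φ
    rw [hφ, Iso.hom_inv_id_assoc]
  rw [this]
  exact (h _).iso_comp _

variable {X Y : Sp S}

/-- An atlas of the target with a normalization, universal over all schemes smooth over the atlas. -/
theorem exists_atlas_normalization (hX : IsAlgSpace X) (hY : IsAlgSpace Y) {f : Y ⟶ X}
    (hqc : IsQuasiCompactMor f) (hqs : IsQuasiSeparatedMor f) :
    ∃ (U : Over S) (u : (yon S).obj U ⟶ X) (N : Over S) (νU : N ⟶ U) (f'U : pullback f u ⟶ (yon S).obj N),
      RepWith @Etale u ∧ RepWith @Surjective u ∧ IsIntegralHom νU.left ∧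
      f'U ≫ (yon S).map νU = pullback.snd f u ∧
      ∀ (V : Over S) (g : V ⟶ U), Smooth g.left →
        UnivBC (pullback.snd f u) ((yon S).map νU) f'U ((yon S).map g) := by
  classical
  obtain ⟨U₀, u₀, hu₀, hu₀s⟩ := hX.atlas
  choose O hO hxO using fun x : ↥U₀.left =>
    (U₀.left.isBasis_affineOpens.exists_subset_of_mem_open (Set.mem_univ x) isOpen_univ : ∃ O, _)
  have hOa : ∀ x, ∃ (O' : U₀.left.Opens), IsAffineOpen O' ∧ x ∈ O' := fun x => by
    obtain ⟨O', hO', he⟩ := hO x
    exact ⟨O', hO', by have := (hxO x).1; rwa [← he] at this⟩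
  choose O' hO'a hxO' using hOa
  let str : ∀ x, Spec (CommRingCat.of Γ(U₀.left, O' x)) ⟶ S := fun x => (hO'a x).fromSpec ≫ U₀.hom
  let W : ↥U₀.left → Over S := fun x => Over.mk (str x)
  let c₀ : ∀ x, W x ⟶ U₀ := fun x => Over.homMk (hO'a x).fromSpec rfl
  let U : Over S := sigmaOver W
  let cU : U ⟶ U₀ := Over.homMk (Sigma.desc fun x => (c₀ x).left) (Sigma.hom_ext _ _ fun x => by
    simp only [Sigma.ι_desc_assoc]
    exact (Over.w (c₀ x)).trans (Sigma.ι_desc (fun x => (W x).hom) x).symm)
  have hcU : Etale cU.left := IsZariskiLocalAtSource.sigmaDesc (fun x => inferInstanceAs (Etale (hO'a x).fromSpec))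
  have hcUs : Surjective cU.left := ⟨fun z => by
    have : z ∈ Set.range (hO'a z).fromSpec := by rw [(hO'a z).range_fromSpec]; exact hxO' z
    obtain ⟨w, hw⟩ := this
    refine ⟨(sigmaIncl W z).left w, ?_⟩
    rw [← Scheme.Hom.comp_apply]
    exact (congr($(Sigma.ι_desc (fun x => (c₀ x).left) z) w)).trans hw⟩
  let u := (yon S).map cU ≫ u₀
  have hu : RepWith @Etale u := repWith_etale_comp cU hu₀
  have hus : RepWith @Surjective u :=
    (repWith_isMultiplicative (S := S) @Surjective).comp_mem _ _ ((repWith_yon_map_iff _ cU).2 hcUs) hu₀s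
  -- the pieces
  have hP : ∀ x, Nonempty (NormPres (str x) (pullback.snd f ((yon S).map (sigmaIncl W x) ≫ u))) := fun x =>
    exists_normPres (str x) hX hY hqc hqs (IsPullback.of_hasPullback f _)
  choose Nx νx f'x hNx hνx hwx hux using fun x => exists_normalization_affine (str x) (hP x).some
  let N : Over S := sigmaOver Nx
  let νU : N ⟶ U := Over.homMk (Sigma.desc fun x => (νx x).left ≫ (sigmaIncl W x).left)
    (Sigma.hom_ext _ _ fun x => by
      simp only [Sigma.ι_desc_assoc, Category.assoc]
      exact ((congrArg _ (Over.w (sigmaIncl W x))).trans (Over.w (νx x))).trans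
        (Sigma.ι_desc (fun x => (Nx x).hom) x).symm)
  have hνι : ∀ x, sigmaIncl Nx x ≫ νU = νx x ≫ sigmaIncl W x := fun x =>
    Over.OverMorphism.ext (Sigma.ι_desc (fun x => (νx x).left ≫ (sigmaIncl W x).left) x)
  have sqx : ∀ x, IsPullback (sigmaIncl Nx x) (νx x) νU (sigmaIncl W x) := fun x => by
    haveI := sigmaIncl_isOpenImmersion W x
    haveI := sigmaIncl_isOpenImmersion Nx x
    refine IsPullback.of_map (Over.forget S) (hνι x) ?_
    refine (IsOpenImmersion.isPullback (νx x).left (sigmaIncl Nx x).left (sigmaIncl W x).left νU.left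
      (congrArg CommaMorphism.left (hνι x)) ?_).flip
    ext z
    constructor
    · rintro ⟨w, hw⟩
      obtain ⟨y, n, rfl⟩ := exists_sigmaIncl Nx z
      have h1 : νU.left ((sigmaIncl Nx y).left n) = (sigmaIncl W y).left ((νx y).left n) :=
        congr($(congrArg CommaMorphism.left (hνι y)) n)
      obtain rfl : x = y := sigmaIncl_range_eq W (hw.trans h1)
      exact ⟨n, rfl⟩
    · rintro ⟨n, rfl⟩
      exact ⟨(νx x).left n, congr($(congrArg CommaMorphism.left (hνι x).symm) n)⟩
  have hν : IsIntegralHom νU.left := by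
    have hl : ∀ x, IsIntegralHom ((νx x).left) := hνx
    let 𝒰 := (sigmaOpenCover (fun x => (W x).left))
    refine (IsZariskiLocalAtTarget.iff_of_openCover (P := @IsIntegralHom) 𝒰).2 fun x => ?_
    have sq := ((sqx x).map (Over.forget S))
    exact (MorphismProperty.arrow_mk_iso_iff @IsIntegralHom
      (Arrow.isoMk (sq.isoPullback) (Iso.refl _) (by
        show sq.isoPullback.hom ≫ pullback.snd _ _ = (νx x).left ≫ 𝟙 _
        rw [Category.comp_id]; exact sq.isoPullback_hom_snd))).1 (hl x)
  -- the map to it, on a chart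
  obtain ⟨P, p, hp, hps⟩ := (isAlgSpace_pullback f u hY (IsAlgSpace.yon_obj U) hX).atlas
  have hpl := locLift_of_atlas hp hps
  haveI := hpl.epi
  obtain ⟨s, hs⟩ := (yon S).map_surjective (p ≫ pullback.snd f u)
  let px : ∀ x, (yon S).obj (pullback s (sigmaIncl W x)) ⟶ pullback f ((yon S).map (sigmaIncl W x) ≫ u) :=
    fun x => pullback.lift ((yon S).map (pullback.fst s (sigmaIncl W x)) ≫ p ≫ pullback.fst f u)
      ((yon S).map (pullback.snd s (sigmaIncl W x))) (by
        rw [Category.assoc, Category.assoc, pullback.condition, ← Category.assoc p, ← hs,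
          ← Functor.map_comp_assoc, pullback.condition, Functor.map_comp_assoc])
  have hc : ∀ x, IsOpenImmersion (pullback.fst s (sigmaIncl W x)).left := fun x =>
    MorphismProperty.of_isPullback (P := @IsOpenImmersion)
      ((IsPullback.of_hasPullback s (sigmaIncl W x)).map (Over.forget S)).flip (sigmaIncl_isOpenImmersion W x)
  have hcov : ∀ {T : Over S} (t : T ⟶ U) (z : ↥T.left), ∃ x, z ∈ Set.range (pullback.fst t (sigmaIncl W x)).left := by
    intro T t z
    obtain ⟨x, w, hw⟩ := exists_sigmaIncl W (t.left z)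
    obtain ⟨q, hq, -⟩ := Scheme.Pullback.exists_preimage_pullback (f := t.left) (g := (sigmaIncl W x).left) z w hw.symm
    have sq : IsPullback (pullback.fst t (sigmaIncl W x)).left (pullback.snd t (sigmaIncl W x)).left t.left
        (sigmaIncl W x).left := (IsPullback.of_hasPullback t (sigmaIncl W x)).map (Over.forget S)
    refine ⟨x, sq.isoPullback.inv q, ?_⟩
    exact (congr($(sq.isoPullback_inv_fst) q)).trans hq
  obtain ⟨e, he⟩ := open_cover_glue (fun x => pullback s (sigmaIncl W x)) (fun x => pullback.fst s (sigmaIncl W x))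
    hc (hcov s) (fun x => px x ≫ f'x x ≫ (yon S).map (sigmaIncl Nx x)) (by
      intro x y Z a b hab
      by_cases hxy : x = y
      · subst hxy
        haveI : Mono (pullback.fst s (sigmaIncl W x)) := by
          haveI := hc x
          exact (Over.forget S).mono_of_mono_map (inferInstanceAs (Mono (pullback.fst s (sigmaIncl W x)).left))
        rw [(cancel_mono (pullback.fst s (sigmaIncl W x))).1 hab]
      · haveI : IsEmpty Z.left := ⟨fun z => hxy (sigmaIncl_range_eq W (y := (a ≫ pullback.snd _ _).left z)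
          (y' := (b ≫ pullback.snd _ _).left z) (by
          have e1 : (a ≫ pullback.snd _ _) ≫ sigmaIncl W x = (b ≫ pullback.snd _ _) ≫ sigmaIncl W y := by
            simp only [Category.assoc, ← pullback.condition, reassoc_of% hab]
          exact congr($(congrArg CommaMorphism.left e1) z)))⟩
        exact yon_hom_ext_of_isEmpty _ _)
  obtain ⟨f'U, hf'U⟩ := exists_desc hpl e (by
    intro T l l' hll
    have hls : l ≫ s = l' ≫ s := (yon S).map_injective (by
      rw [Functor.map_comp, Functor.map_comp, hs, reassoc_of% hll])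
    refine open_cover_hom_ext (fun x => pullback (l ≫ s) (sigmaIncl W x))
      (fun x => pullback.fst (l ≫ s) (sigmaIncl W x))
      (fun x => MorphismProperty.of_isPullback (P := @IsOpenImmersion)
        ((IsPullback.of_hasPullback (l ≫ s) (sigmaIncl W x)).map (Over.forget S)).flip (sigmaIncl_isOpenImmersion W x))
      (hcov (l ≫ s)) fun x => ?_
    let m := pullback.lift (f := s) (g := sigmaIncl W x) (pullback.fst (l ≫ s) (sigmaIncl W x) ≫ l)
      (pullback.snd _ _) (by rw [Category.assoc, pullback.condition])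
    let m' := pullback.lift (f := s) (g := sigmaIncl W x) (pullback.fst (l ≫ s) (sigmaIncl W x) ≫ l')
      (pullback.snd _ _) (by rw [Category.assoc, ← hls, pullback.condition])
    have hm : m ≫ pullback.fst _ _ = pullback.fst (l ≫ s) (sigmaIncl W x) ≫ l := pullback.lift_fst _ _ _
    have hm' : m' ≫ pullback.fst _ _ = pullback.fst (l ≫ s) (sigmaIncl W x) ≫ l' := pullback.lift_fst _ _ _
    rw [← Functor.map_comp_assoc, ← Functor.map_comp_assoc, ← hm, ← hm', Functor.map_comp_assoc,
      Functor.map_comp_assoc, he]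
    simp only [← Category.assoc]
    refine congrArg (· ≫ _) (congrArg (· ≫ _) (pullback.hom_ext ?_ ?_))
    · simp only [Category.assoc, px, pullback.lift_fst, ← Functor.map_comp_assoc, hm, hm']
      rw [Functor.map_comp_assoc, Functor.map_comp_assoc, reassoc_of% hll]
    · simp only [Category.assoc, px, pullback.lift_snd, ← Functor.map_comp, m, m'])
  have hfν : f'U ≫ (yon S).map νU = pullback.snd f u := by
    rw [← cancel_epi p, ← hs, ← Category.assoc, hf'U]
    refine open_cover_hom_ext _ _ hc (hcov s) fun x => ?_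
    rw [reassoc_of% he x, ← Functor.map_comp, hνι, Functor.map_comp, reassoc_of% hwx x, ← Functor.map_comp,
      pullback.condition, Functor.map_comp]
    simp only [px, pullback.lift_snd_assoc]
  refine ⟨U, u, N, νU, f'U, hu, hus, hν, hfν, fun V g hg => ?_⟩
  -- universality over each piece
  have hpiece : ∀ (x : ↥U₀.left) (Q : Over S) (q : Q ⟶ W x), IsAffine Q.left → Smooth q.left →
      UnivBC (pullback.snd f u) ((yon S).map νU) f'U ((yon S).map (q ≫ sigmaIncl W x)) := by
    intro x Q q hQ hq
    let ax : pullback f ((yon S).map (sigmaIncl W x) ≫ u) ⟶ pullback f u :=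
      pullback.lift (pullback.fst _ _) (pullback.snd _ _ ≫ (yon S).map (sigmaIncl W x))
        (by rw [pullback.condition, Category.assoc])
    have sqa : IsPullback ax (pullback.snd f ((yon S).map (sigmaIncl W x) ≫ u)) (pullback.snd f u)
        ((yon S).map (sigmaIncl W x)) :=
      IsPullback.of_right (by rw [pullback.lift_fst]; exact IsPullback.of_hasPullback f _)
        (pullback.lift_snd _ _ _) (IsPullback.of_hasPullback f u)
    have sqp : IsPullback ((yon S).map (pullback.fst s (sigmaIncl W x))) (px x) p ax := by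
      refine IsPullback.of_bot ?_ ?_ sqa
      · simp only [px, pullback.lift_snd, ← hs]
        exact (IsPullback.of_hasPullback s (sigmaIncl W x)).map (yon S)
      · refine pullback.hom_ext ?_ ?_
        · simp only [Category.assoc, px, ax, pullback.lift_fst]
        · simp only [Category.assoc, px, ax, pullback.lift_snd, pullback.lift_snd_assoc, ← hs, ← Functor.map_comp,
            pullback.condition]
    haveI := (hpl.baseChange sqp).epi
    rw [Functor.map_comp]
    refine UnivBC.of_comp sqa ((sqx x).map (yon S)) (hwx x) ?_ (univBC_of_smooth_affine (hux x) q hQ hq)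
    rw [← cancel_epi (px x), ← he, ← reassoc_of% sqp.w, hf'U]
  intro YT NT a fT b νT s₁ s₂ f'T e₁ e₂
  refine isRelNormalization_of_goodAt (IsAlgSpace.yon_obj V)
    (isIntegralMor_of_isPullback s₂ ((isIntegralMor_iff _).2 ((repWith_yon_map_iff _ _).2 hν))) e₁
    (c := (yon S).map (𝟙 V)) ((repWith_yon_map_iff _ _).2 (inferInstanceAs (Etale (𝟙 V.left))))
    ((repWith_yon_map_iff _ _).2 (inferInstanceAs (Surjective (𝟙 V.left)))) fun v => ?_
  obtain ⟨x, hx⟩ := exists_sigmaIncl W (g.left v)
  haveI := sigmaIncl_isOpenImmersion W x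
  refine ⟨g.left ⁻¹ᵁ (sigmaIncl W x).left.opensRange, hx, fun Q q hQ hq hr => ?_⟩
  rw [← Functor.map_comp, Category.comp_id]
  refine UnivBC.comp ?_ s₁ s₂ e₂
  rw [← Functor.map_comp]
  have hrange : Set.range (q ≫ g).left ⊆ Set.range (sigmaIncl W x).left := by
    rintro _ ⟨z, rfl⟩
    exact hr ⟨z, rfl⟩
  let q' : Q ⟶ W x := Over.homMk (IsOpenImmersion.lift (sigmaIncl W x).left (q ≫ g).left hrange)
    (by rw [← Over.w (sigmaIncl W x), IsOpenImmersion.lift_fac_assoc]; exact Over.w (q ≫ g))
  have hq' : q' ≫ sigmaIncl W x = q ≫ g := Over.OverMorphism.ext (IsOpenImmersion.lift_fac _ _ hrange)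
  have hsm : Smooth q'.left := MorphismProperty.of_isPullback (P := @Smooth)
    (IsOpenImmersion.isPullback_lift_id (q ≫ g).left (sigmaIncl W x).left hrange).flip (by
      haveI := hq; haveI := hg
      show Smooth (q.left ≫ g.left)
      infer_instance)
  rw [← hq']
  exact hpiece x Q q' hQ hsm

end Groth.Agent.SpFP87
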