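import Groth.Agent.SpFP87.NormBC
/-!
Being a relative normalization is local for etale charts of the target.
-/

set_option autoImplicit false
set_option linter.style.haveILetI false
set_option backward.isDefEq.respectTransparency false
universe u
open CategoryTheory CategoryTheory.Limits AlgebraicGeometry
open AlgSp
open Groth.Agent.SpPts86

namespace Groth.Agent.SpFP87

variable {S : Scheme.{u}} {X Y X' : Sp S}

/-- Every point of the scheme has a neighbourhood over whose affine etale schemes the pair is universal. -/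
def GoodAt (f : Y ⟶ X) (ν : X' ⟶ X) (f' : Y ⟶ X') {V : Over S} (t : (yon S).obj V ⟶ X) : Prop :=
  ∀ v : ↥V.left, ∃ O : V.left.Opens, v ∈ O ∧ ∀ (Q : Over S) (q : Q ⟶ V), IsAffine Q.left → Etale q.left →
    Set.range q.left ⊆ O → UnivBC f ν f' ((yon S).map q ≫ t)

variable {f : Y ⟶ X} {ν : X' ⟶ X} {f' : Y ⟶ X'}

theorem GoodAt.comp {V : Over S} {t : (yon S).obj V ⟶ X} (h : GoodAt f ν f' t) {V' : Over S} (k : V' ⟶ V)
    (hk : Etale k.left) : GoodAt f ν f' ((yon S).map k ≫ t) := by
  intro v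
  obtain ⟨O, hv, hO⟩ := h (k.left v)
  refine ⟨k.left ⁻¹ᵁ O, hv, fun Q q hQ hq hr => ?_⟩
  rw [← Functor.map_comp_assoc]
  refine hO Q (q ≫ k) hQ ?_ ?_
  · haveI := hk; haveI := hq
    show Etale (q.left ≫ k.left)
    infer_instance
  · rintro _ ⟨x, rfl⟩
    exact hr ⟨x, rfl⟩

theorem exists_good_affine {V : Over S} {t : (yon S).obj V ⟶ X} (h : GoodAt f ν f' t) (v : ↥V.left) :
    ∃ O : V.left.Opens, v ∈ O ∧ IsAffineOpen O ∧ UnivBC f ν f' ((yon S).map (openIncl V O) ≫ t) := by
  obtain ⟨O, hv, hO⟩ := h v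
  obtain ⟨_, ⟨U, hU, rfl⟩, hvU, hUO⟩ := V.left.isBasis_affineOpens.exists_subset_of_mem_open hv O.2
  refine ⟨U, hvU, hU, hO (openOver V U) (openIncl V U) hU (inferInstanceAs (Etale (Scheme.Opens.ι U))) ?_⟩
  rintro _ ⟨x, rfl⟩
  exact hUO x.2

/-- The piece of a scheme over an open maps into the pullback. -/
noncomputable def pieceLift {N V : Over S} (k : N ⟶ V) (O : V.left.Opens) :
    openOver N (k.left ⁻¹ᵁ O) ⟶ pullback k (openIncl V O) :=
  pullback.lift (openIncl N (k.left ⁻¹ᵁ O))
    (Over.homMk (k.left ∣_ O) (by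
      show (k.left ∣_ O) ≫ O.ι ≫ V.hom = (k.left ⁻¹ᵁ O).ι ≫ N.hom
      rw [← Category.assoc, morphismRestrict_ι, Category.assoc, Over.w k]))
    (Over.OverMorphism.ext (morphismRestrict_ι k.left O).symm)

theorem pieceLift_fst {N V : Over S} (k : N ⟶ V) (O : V.left.Opens) :
    pieceLift k O ≫ pullback.fst k (openIncl V O) = openIncl N (k.left ⁻¹ᵁ O) :=
  pullback.lift_fst _ _ _

section Data

variable {V N : Over S} {t : (yon S).obj V ⟶ X} {YV : Sp S} {aV : YV ⟶ Y} {fV : YV ⟶ (yon S).obj V}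
  {b : (yon S).obj N ⟶ X'} {νV : N ⟶ V} {f'V : YV ⟶ (yon S).obj N} {Z : Sp S} {π : Z ⟶ X}

/-- The map to the piece over a scheme over `V`. -/
noncomputable def bcMap (f'V : YV ⟶ (yon S).obj N) (e₀ : f'V ≫ (yon S).map νV = fV) {Q : Over S} (q : Q ⟶ V) :
    pullback fV ((yon S).map q) ⟶ (yon S).obj (pullback νV q) :=
  ((IsPullback.of_hasPullback νV q).map (yon S)).lift (pullback.fst fV ((yon S).map q) ≫ f'V)
    (pullback.snd fV ((yon S).map q)) (by rw [Category.assoc, e₀, pullback.condition])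

theorem bcMap_fst (e₀ : f'V ≫ (yon S).map νV = fV) {Q : Over S} (q : Q ⟶ V) :
    bcMap f'V e₀ q ≫ (yon S).map (pullback.fst νV q) = pullback.fst fV ((yon S).map q) ≫ f'V :=
  IsPullback.lift_fst ..

theorem bcMap_snd (e₀ : f'V ≫ (yon S).map νV = fV) {Q : Over S} (q : Q ⟶ V) :
    bcMap f'V e₀ q ≫ (yon S).map (pullback.snd νV q) = pullback.snd fV ((yon S).map q) :=
  IsPullback.lift_snd ..

variable (sqY : IsPullback aV fV f t) (sqN : IsPullback b ((yon S).map νV) ν t)
  (e₀ : f'V ≫ (yon S).map νV = fV) (e₁ : f'V ≫ b = aV ≫ f')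

include sqY sqN e₁ in
theorem isRelNormalization_piece {Q : Over S} {q : Q ⟶ V} (h : UnivBC f ν f' ((yon S).map q ≫ t)) :
    IsRelNormalization (pullback.snd fV ((yon S).map q)) ((yon S).map (pullback.snd νV q)) (bcMap f'V e₀ q) := by
  refine h (pullback.fst fV ((yon S).map q) ≫ aV) _ ((yon S).map (pullback.fst νV q) ≫ b) _
    ((IsPullback.of_hasPullback fV ((yon S).map q)).paste_horiz sqY)
    (((IsPullback.of_hasPullback νV q).map (yon S)).paste_horiz sqN) _ (bcMap_snd e₀ q) ?_
  rw [reassoc_of% bcMap_fst e₀ q, e₁, Category.assoc]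

variable (hX : IsAlgSpace X) (hZ : IsAlgSpace Z) (hπ : IsIntegralMor π)

include sqY sqN e₀ e₁ hX hZ hπ in
theorem goodAt_hom_ext (hg : GoodAt f ν f' t) {m m' : (yon S).obj N ⟶ Z} (h1 : m ≫ π = b ≫ ν)
    (h2 : m' ≫ π = b ≫ ν) (h3 : f'V ≫ m = f'V ≫ m') : m = m' := by
  choose O hO hOa hOu using exists_good_affine hg
  refine open_cover_hom_ext (fun v => openOver N (νV.left ⁻¹ᵁ O v))
    (fun v => openIncl N (νV.left ⁻¹ᵁ O v)) (fun v => inferInstanceAs (IsOpenImmersion (νV.left ⁻¹ᵁ O v).ι))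
    (fun n => ⟨νV.left n, ⟨n, hO _⟩, rfl⟩) fun v => ?_
  rw [← pieceLift_fst νV (O v), Functor.map_comp_assoc, Functor.map_comp_assoc]
  congr 1
  refine hom_ext₂ (isRelNormalization_piece sqY sqN e₀ e₁ (hOu v)) (IsAlgSpace.yon_obj _) hZ hX hπ
    ((yon S).map (openIncl V (O v)) ≫ t) ?_ ?_ ?_
  · rw [Category.assoc, h1, sqN.w, ← Functor.map_comp_assoc, ← Functor.map_comp_assoc, pullback.condition]
  · rw [Category.assoc, h2, sqN.w, ← Functor.map_comp_assoc, ← Functor.map_comp_assoc, pullback.condition]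
  · rw [← Category.assoc, ← Category.assoc, bcMap_fst, Category.assoc, Category.assoc, h3]

include sqY sqN e₀ e₁ hX hZ hπ in
/-- Uniqueness over a scheme etale over a good one. -/
theorem goodAt_hom_ext_etale (hg : GoodAt f ν f' t) {Q : Over S} (q : Q ⟶ V) (hq : Etale q.left)
    {m m' : (yon S).obj (pullback νV q) ⟶ Z} (h1 : m ≫ π = (yon S).map (pullback.fst νV q) ≫ b ≫ ν)
    (h2 : m' ≫ π = (yon S).map (pullback.fst νV q) ≫ b ≫ ν) (h3 : bcMap f'V e₀ q ≫ m = bcMap f'V e₀ q ≫ m') :
    m = m' :=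
  goodAt_hom_ext ((IsPullback.of_hasPullback fV ((yon S).map q)).paste_horiz sqY)
    (((IsPullback.of_hasPullback νV q).map (yon S)).paste_horiz sqN) (bcMap_snd e₀ q)
    (show bcMap f'V e₀ q ≫ (yon S).map (pullback.fst νV q) ≫ b = _ by
      rw [reassoc_of% bcMap_fst e₀ q, e₁, Category.assoc])
    hX hZ hπ (hg.comp q hq) (by rw [h1, Category.assoc]) (by rw [h2, Category.assoc]) h3

include sqY sqN e₀ e₁ hX hZ hπ in
theorem exists_goodAt_lift (hg : GoodAt f ν f' t) (g : Y ⟶ Z) (hgπ : g ≫ π = f) :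
    ∃ m : (yon S).obj N ⟶ Z, f'V ≫ m = aV ≫ g ∧ m ≫ π = b ≫ ν := by
  choose O hO hOa hOu using exists_good_affine hg
  have hl : ∀ v, ∃ m : (yon S).obj (pullback νV (openIncl V (O v))) ⟶ Z,
      bcMap f'V e₀ (openIncl V (O v)) ≫ m = pullback.fst fV _ ≫ aV ≫ g ∧
      m ≫ π = (yon S).map (pullback.fst νV (openIncl V (O v))) ≫ b ≫ ν := by
    intro v
    obtain ⟨m, ⟨m1, m2⟩, -⟩ := lift₂ (isRelNormalization_piece sqY sqN e₀ e₁ (hOu v)) (IsAlgSpace.yon_obj _)
      hZ hX hπ ((yon S).map (openIncl V (O v)) ≫ t) (pullback.fst fV _ ≫ aV ≫ g)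
      (by rw [Category.assoc, Category.assoc, hgπ, sqY.w, pullback.condition_assoc])
    refine ⟨m, m1, ?_⟩
    rw [m2, sqN.w, ← Functor.map_comp_assoc, ← Functor.map_comp_assoc, pullback.condition]
  choose m hm1 hm2 using hl
  obtain ⟨M, hM⟩ := open_cover_glue (fun v => openOver N (νV.left ⁻¹ᵁ O v))
    (fun v => openIncl N (νV.left ⁻¹ᵁ O v)) (fun v => inferInstanceAs (IsOpenImmersion (νV.left ⁻¹ᵁ O v).ι))
    (fun n => ⟨νV.left n, ⟨n, hO _⟩, rfl⟩) (fun v => (yon S).map (pieceLift νV (O v)) ≫ m v) (by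
      intro i j W p p' hpp
      let pr₁ := pullback.fst (openIncl V (O i)) (openIncl V (O j))
      let pr₂ := pullback.snd (openIncl V (O i)) (openIncl V (O j))
      obtain ⟨k, hkdef⟩ : ∃ k, k = pr₁ ≫ openIncl V (O i) := ⟨_, rfl⟩
      have hk' : k = pr₂ ≫ openIncl V (O j) := hkdef.trans pullback.condition
      haveI : Etale (openIncl V (O i)).left := inferInstanceAs (Etale (O i).ι)
      haveI : Etale (openIncl V (O j)).left := inferInstanceAs (Etale (O j).ι)
      haveI : Etale pr₁.left := MorphismProperty.of_isPullback (P := @Etale)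
        ((IsPullback.of_hasPullback (openIncl V (O i)) (openIncl V (O j))).map (Over.forget S)).flip ‹_›
      have hk : Etale k.left := by rw [hkdef]; exact inferInstanceAs (Etale (pr₁.left ≫ (openIncl V (O i)).left))
      let u₁ : pullback νV k ⟶ pullback νV (openIncl V (O i)) :=
        pullback.lift (pullback.fst _ _) (pullback.snd _ _ ≫ pr₁) (by rw [pullback.condition, Category.assoc, ← hkdef])
      let u₂ : pullback νV k ⟶ pullback νV (openIncl V (O j)) :=
        pullback.lift (pullback.fst _ _) (pullback.snd _ _ ≫ pr₂)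
          (by rw [pullback.condition, Category.assoc, ← hk'])
      have key : (yon S).map u₁ ≫ m i = (yon S).map u₂ ≫ m j := by
        refine goodAt_hom_ext_etale sqY sqN e₀ e₁ hX hZ hπ hg k hk ?_ ?_ ?_
        · rw [Category.assoc, hm2, ← Functor.map_comp_assoc, pullback.lift_fst]
        · rw [Category.assoc, hm2, ← Functor.map_comp_assoc, pullback.lift_fst]
        · let c₁ : pullback fV ((yon S).map k) ⟶ pullback fV ((yon S).map (openIncl V (O i))) :=
            pullback.lift (pullback.fst _ _) (pullback.snd _ _ ≫ (yon S).map pr₁)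
              (by rw [pullback.condition, Category.assoc, ← Functor.map_comp, ← hkdef])
          let c₂ : pullback fV ((yon S).map k) ⟶ pullback fV ((yon S).map (openIncl V (O j))) :=
            pullback.lift (pullback.fst _ _) (pullback.snd _ _ ≫ (yon S).map pr₂)
              (by rw [pullback.condition, Category.assoc, ← Functor.map_comp, ← hk'])
          have h₁ : bcMap f'V e₀ k ≫ (yon S).map u₁ = c₁ ≫ bcMap f'V e₀ _ := by
            refine ((IsPullback.of_hasPullback νV _).map (yon S)).hom_ext ?_ ?_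
            · simp only [Category.assoc, ← Functor.map_comp, u₁, pullback.lift_fst, bcMap_fst, c₁,
                pullback.lift_fst_assoc]
            · simp only [Category.assoc, ← Functor.map_comp, u₁, pullback.lift_snd, bcMap_snd, c₁]
              rw [Functor.map_comp, reassoc_of% bcMap_snd e₀ k]
          have h₂ : bcMap f'V e₀ k ≫ (yon S).map u₂ = c₂ ≫ bcMap f'V e₀ _ := by
            refine ((IsPullback.of_hasPullback νV _).map (yon S)).hom_ext ?_ ?_
            · simp only [Category.assoc, ← Functor.map_comp, u₂, pullback.lift_fst, bcMap_fst, c₂,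
                pullback.lift_fst_assoc]
            · simp only [Category.assoc, ← Functor.map_comp, u₂, pullback.lift_snd, bcMap_snd, c₂]
              rw [Functor.map_comp, reassoc_of% bcMap_snd e₀ k]
          rw [reassoc_of% h₁, reassoc_of% h₂, hm1, hm1]
          simp only [c₁, c₂, pullback.lift_fst_assoc]
      have hz : (p ≫ openIncl N (νV.left ⁻¹ᵁ O i)) ≫ νV =
          pullback.lift (p ≫ pieceLift νV (O i) ≫ pullback.snd _ _) (p' ≫ pieceLift νV (O j) ≫ pullback.snd _ _)
            (by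
              simp only [Category.assoc, ← pullback.condition]
              rw [reassoc_of% pieceLift_fst νV (O i), reassoc_of% pieceLift_fst νV (O j), reassoc_of% hpp]) ≫ k := by
        simp only [hkdef, pr₁, pullback.lift_fst_assoc, Category.assoc, ← pullback.condition]
        rw [reassoc_of% pieceLift_fst νV (O i)]
      have f₁ : p ≫ pieceLift νV (O i) = pullback.lift _ _ hz ≫ u₁ := by
        refine pullback.hom_ext ?_ ?_
        · simp only [Category.assoc, u₁, pullback.lift_fst, pieceLift_fst]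
        · simp only [Category.assoc, u₁, pullback.lift_snd, pullback.lift_snd_assoc, pr₁, pullback.lift_fst]
      have f₂ : p' ≫ pieceLift νV (O j) = pullback.lift _ _ hz ≫ u₂ := by
        refine pullback.hom_ext ?_ ?_
        · simp only [Category.assoc, u₂, pullback.lift_fst, pieceLift_fst, hpp]
        · simp only [Category.assoc, u₂, pullback.lift_snd, pullback.lift_snd_assoc, pr₂]
      rw [← Functor.map_comp_assoc, ← Functor.map_comp_assoc, f₁, f₂, Functor.map_comp_assoc,
        Functor.map_comp_assoc, key])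
  refine ⟨M, sp_hom_ext fun T γ => ?_, ?_⟩
  · obtain ⟨s, hs⟩ := (yon S).map_surjective (γ ≫ fV)
    refine open_cover_hom_ext (fun v => openOver T (s.left ⁻¹ᵁ O v))
      (fun v => openIncl T (s.left ⁻¹ᵁ O v)) (fun v => inferInstanceAs (IsOpenImmersion (s.left ⁻¹ᵁ O v).ι))
      (fun x => ⟨s.left x, ⟨x, hO _⟩, rfl⟩) fun v => ?_
    let z := pullback.lift (f := fV) (g := (yon S).map (openIncl V (O v)))
      ((yon S).map (openIncl T (s.left ⁻¹ᵁ O v)) ≫ γ)
      ((yon S).map (pieceLift s (O v) ≫ pullback.snd _ _)) (by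
        rw [Category.assoc, ← hs, ← Functor.map_comp, ← Functor.map_comp, Category.assoc, ← pullback.condition,
          reassoc_of% pieceLift_fst s (O v)])
    obtain ⟨n, hn⟩ := (yon S).map_surjective ((yon S).map (openIncl T (s.left ⁻¹ᵁ O v)) ≫ γ ≫ f'V)
    have hnO : Set.range n.left ⊆ (νV.left ⁻¹ᵁ O v : Set N.left) := by
      rintro _ ⟨x, rfl⟩
      have e : n ≫ νV = openIncl T (s.left ⁻¹ᵁ O v) ≫ s := (yon S).map_injective (by
        rw [Functor.map_comp, Functor.map_comp, hn, Category.assoc, Category.assoc, e₀, hs])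
      show (n ≫ νV).left x ∈ O v
      rw [e]
      exact x.2
    let n' : openOver T (s.left ⁻¹ᵁ O v) ⟶ openOver N (νV.left ⁻¹ᵁ O v) :=
      Over.homMk (IsOpenImmersion.lift (νV.left ⁻¹ᵁ O v).ι n.left (fun x hx => ⟨⟨x, hnO hx⟩, rfl⟩))
        (by
          show _ ≫ (νV.left ⁻¹ᵁ O v).ι ≫ N.hom = _
          rw [IsOpenImmersion.lift_fac_assoc]; exact Over.w n)
    have hn' : n' ≫ openIncl N (νV.left ⁻¹ᵁ O v) = n := Over.OverMorphism.ext (IsOpenImmersion.lift_fac _ _ _)
    have hzn : z ≫ bcMap f'V e₀ (openIncl V (O v)) = (yon S).map (n' ≫ pieceLift νV (O v)) := by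
      refine ((IsPullback.of_hasPullback νV _).map (yon S)).hom_ext ?_ ?_
      · rw [← Functor.map_comp, Category.assoc, Category.assoc, pieceLift_fst, hn', hn, bcMap_fst]
        simp only [z, pullback.lift_fst_assoc, Category.assoc]
      · rw [Category.assoc, bcMap_snd, ← Functor.map_comp]
        simp only [z, pullback.lift_snd]
        refine congrArg _ ((cancel_mono (openIncl V (O v))).1 ?_)
        simp only [Category.assoc, ← pullback.condition]
        rw [reassoc_of% pieceLift_fst νV (O v), reassoc_of% pieceLift_fst s (O v), reassoc_of% hn']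
        exact (yon S).map_injective (by rw [Functor.map_comp, Functor.map_comp, hn, Category.assoc, Category.assoc, e₀, hs])
    calc (yon S).map (openIncl T (s.left ⁻¹ᵁ O v)) ≫ γ ≫ f'V ≫ M
        = (yon S).map n ≫ M := by rw [hn, Category.assoc, Category.assoc]
      _ = z ≫ bcMap f'V e₀ _ ≫ m v := by
        rw [← hn', Functor.map_comp_assoc, hM, ← Functor.map_comp_assoc, ← hzn, Category.assoc]
      _ = (yon S).map (openIncl T (s.left ⁻¹ᵁ O v)) ≫ γ ≫ aV ≫ g := by
        rw [hm1]
        simp only [z, pullback.lift_fst_assoc, Category.assoc]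
  · refine open_cover_hom_ext (fun v => openOver N (νV.left ⁻¹ᵁ O v))
      (fun v => openIncl N (νV.left ⁻¹ᵁ O v)) (fun v => inferInstanceAs (IsOpenImmersion (νV.left ⁻¹ᵁ O v).ι))
      (fun n => ⟨νV.left n, ⟨n, hO _⟩, rfl⟩) fun v => ?_
    rw [← Category.assoc, hM, Category.assoc, hm2, ← Functor.map_comp_assoc, pieceLift_fst]

end Data

/-- Being a relative normalization is checked on an etale chart of the target. -/
theorem isRelNormalization_of_goodAt (hX : IsAlgSpace X) (hν : IsIntegralMor ν) (hf : f' ≫ ν = f)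
    {V : Over S} {c : (yon S).obj V ⟶ X} (hc : RepWith @Etale c) (hcs : RepWith @Surjective c)
    (hg : GoodAt f ν f' c) : IsRelNormalization f ν f' := by
  refine ⟨hf, hν, fun Z hZ π g hπ hgπ => ?_⟩
  have hνr := (isIntegralMor_iff ν).1 hν
  let νV := hνr.rep.snd c
  let b := hνr.rep.fst c
  have sqN : IsPullback b ((yon S).map νV) ν c := hνr.rep.isPullback c
  have sqY : IsPullback (pullback.fst f c) (pullback.snd f c) f c := IsPullback.of_hasPullback f c
  let f'V : pullback f c ⟶ (yon S).obj (hνr.rep.pullback c) :=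
    sqN.lift (pullback.fst f c ≫ f') (pullback.snd f c) (by rw [Category.assoc, hf, pullback.condition])
  have e₀ : f'V ≫ (yon S).map νV = pullback.snd f c := sqN.lift_snd _ _ _
  have e₁ : f'V ≫ b = pullback.fst f c ≫ f' := sqN.lift_fst _ _ _
  obtain ⟨hb, hbs⟩ := etale_surj_of_isPullback sqN hc hcs
  have hbl : LocLift b := locLift_of_atlas hb hbs
  haveI := hbl.epi
  haveI : Epi (pullback.fst f c) := ((locLift_of_atlas hc hcs).baseChange sqY.flip).epi
  obtain ⟨m, hm1, hm2⟩ := exists_goodAt_lift sqY sqN e₀ e₁ hX hZ hπ hg g hgπ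
  obtain ⟨h, hh⟩ := exists_desc hbl m (by
    intro W l l' hll
    obtain ⟨R, r₁, r₂, sqR⟩ := exists_isPullback_yon hX.diag c c
    have hr₁ : Etale r₁.left := hc.property c _ r₁ sqR.flip
    have hw : ((yon S).map l ≫ (yon S).map νV) ≫ c = ((yon S).map l' ≫ (yon S).map νV) ≫ c := by
      rw [Category.assoc, Category.assoc, ← sqN.w, reassoc_of% hll]
    obtain ⟨r, hr⟩ := (yon S).map_surjective (sqR.lift _ _ hw)
    have hr1 : r ≫ r₁ = l ≫ νV := (yon S).map_injective (by rw [Functor.map_comp, hr, sqR.lift_fst, Functor.map_comp])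
    have hr2 : r ≫ r₂ = l' ≫ νV := (yon S).map_injective (by rw [Functor.map_comp, hr, sqR.lift_snd, Functor.map_comp])
    let e₂ : (yon S).obj (pullback νV r₁) ⟶ (yon S).obj (hνr.rep.pullback c) :=
      sqN.lift ((yon S).map (pullback.fst νV r₁) ≫ b) ((yon S).map (pullback.snd νV r₁ ≫ r₂)) (by
        rw [Category.assoc, sqN.w, ← Functor.map_comp_assoc, pullback.condition, Functor.map_comp,
          Functor.map_comp, Category.assoc, Category.assoc, sqR.w])
    have key : (yon S).map (pullback.fst νV r₁) ≫ m = e₂ ≫ m := by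
      refine goodAt_hom_ext_etale sqY sqN e₀ e₁ hX hZ hπ hg r₁ hr₁ ?_ ?_ ?_
      · rw [Category.assoc, hm2]
      · rw [Category.assoc, hm2, ← Category.assoc, sqN.lift_fst, Category.assoc]
      · let κ : pullback (pullback.snd f c) ((yon S).map r₁) ⟶ pullback f c :=
          pullback.lift (pullback.fst _ _ ≫ pullback.fst f c) (pullback.snd _ _ ≫ (yon S).map r₂) (by
            rw [Category.assoc, pullback.condition, pullback.condition_assoc, Category.assoc, sqR.w])
        have hκ : bcMap f'V e₀ r₁ ≫ e₂ = κ ≫ f'V := by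
          refine sqN.hom_ext ?_ ?_
          · simp only [Category.assoc, e₂, sqN.lift_fst, e₁, κ, pullback.lift_fst_assoc]
            rw [reassoc_of% bcMap_fst e₀ r₁, e₁]
          · simp only [Category.assoc, e₂, sqN.lift_snd, e₀, κ, pullback.lift_snd]
            rw [Functor.map_comp, reassoc_of% bcMap_snd e₀ r₁]
        rw [reassoc_of% bcMap_fst e₀ r₁, reassoc_of% hκ, hm1]
        simp only [κ, pullback.lift_fst_assoc, Category.assoc]
    have hz : l ≫ νV = r ≫ r₁ := hr1.symm
    have hz2 : (yon S).map (pullback.lift l r hz) ≫ e₂ = (yon S).map l' := by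
      refine sqN.hom_ext ?_ ?_
      · rw [Category.assoc, sqN.lift_fst, ← Functor.map_comp_assoc, pullback.lift_fst, hll]
      · rw [Category.assoc, sqN.lift_snd, ← Functor.map_comp, pullback.lift_snd_assoc, hr2, Functor.map_comp]
    rw [← hz2, Category.assoc, ← key, ← Functor.map_comp_assoc, pullback.lift_fst])
  refine ⟨h, ⟨?_, ?_⟩, fun h' ⟨h1', h2'⟩ => ?_⟩
  · rw [← cancel_epi (pullback.fst f c), ← Category.assoc, ← e₁, Category.assoc, hh, hm1]
  · rw [← cancel_epi b, ← Category.assoc, hh, hm2]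
  · refine (cancel_epi b).1 ?_
    rw [hh]
    refine goodAt_hom_ext sqY sqN e₀ e₁ hX hZ hπ hg ?_ hm2 ?_
    · rw [Category.assoc, h2']
    · rw [reassoc_of% e₁, h1', hm1]

end Groth.Agent.SpFP87
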