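import Mathlib.RingTheory.Smooth.IntegralClosure
import Mathlib.RingTheory.Smooth.Flat
import Mathlib.RingTheory.TensorProduct.Pi
import Mathlib.RingTheory.Flat.Equalizer
/-!
The integral closure in an equalizer commutes with smooth base change.
-/

set_option autoImplicit false
universe u
open TensorProduct

namespace Groth.Agent.SpFP87

variable {A B : Type u} [CommRing A] [CommRing B] [Algebra A B] {ι : Type} [Fintype ι] [DecidableEq ι]
  {C : ι → Type u} [∀ i, CommRing (C i)] [∀ i, Algebra A (C i)] (φ ψ : ∀ i, B →ₐ[A] C i)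

/-- Elements on which all the pairs agree. -/
def eqSub : Subalgebra A B := ⨅ i, AlgHom.equalizer (φ i) (ψ i)

theorem mem_eqSub {b : B} : b ∈ eqSub φ ψ ↔ ∀ i, φ i b = ψ i b := by
  simp [eqSub, Algebra.mem_iInf]

/-- The integral elements of the equalizer. -/
abbrev NormAlg : Type u := integralClosure A (eqSub φ ψ)

/-- Its map to the ambient algebra. -/
abbrev normVal : NormAlg φ ψ →ₐ[A] B := (eqSub φ ψ).val.comp (integralClosure A (eqSub φ ψ)).val

theorem normVal_injective : Function.Injective (normVal φ ψ) := fun _ _ h => Subtype.ext (Subtype.ext h)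

variable (A₂ : Type u) [CommRing A₂] [Algebra A A₂]

theorem baseChange_normVal_injective [Module.Flat A A₂] :
    Function.Injective (Algebra.TensorProduct.map (AlgHom.id A₂ A₂) (normVal φ ψ)) :=
  Module.Flat.lTensor_preserves_injective_linearMap (M := A₂) (normVal φ ψ).toLinearMap (normVal_injective φ ψ)

theorem exists_eq_baseChange_normVal [Algebra.Smooth A A₂] {x : A₂ ⊗[A] B}
    (hx : ∀ i, Algebra.TensorProduct.map (AlgHom.id A₂ A₂) (φ i) x =
      Algebra.TensorProduct.map (AlgHom.id A₂ A₂) (ψ i) x) (hi : IsIntegral A₂ x) :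
    ∃ y, Algebra.TensorProduct.map (AlgHom.id A₂ A₂) (normVal φ ψ) y = x := by
  let δ : B →ₗ[A] (∀ i, C i) := LinearMap.pi fun i => (φ i).toLinearMap - (ψ i).toLinearMap
  have hex : Function.Exact (eqSub φ ψ).val.toLinearMap δ := fun b => by
    constructor
    · intro hb
      refine ⟨⟨b, (mem_eqSub φ ψ).2 fun i => sub_eq_zero.1 (congrFun hb i)⟩, rfl⟩
    · rintro ⟨b, rfl⟩
      exact funext fun i => sub_eq_zero.2 ((mem_eqSub φ ψ).1 b.2 i)
  have hδ : ∀ (z : A₂ ⊗[A] B) (i : ι), TensorProduct.piRight A A A₂ C (LinearMap.lTensor A₂ δ z) i =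
      Algebra.TensorProduct.map (AlgHom.id A₂ A₂) (φ i) z -
        Algebra.TensorProduct.map (AlgHom.id A₂ A₂) (ψ i) z := by
    intro z i
    induction z using TensorProduct.induction_on with
    | zero => simp
    | add x y hx hy => simp only [map_add, Pi.add_apply, hx, hy]; abel
    | tmul a b => simp [δ, TensorProduct.tmul_sub]
  have h0 : LinearMap.lTensor A₂ δ x = 0 :=
    (TensorProduct.piRight A A A₂ C).injective (funext fun i => by rw [hδ, hx i, sub_self, map_zero]; rfl)
  obtain ⟨z, hz⟩ := (Module.Flat.lTensor_exact A₂ hex x).1 h0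
  let j : A₂ ⊗[A] eqSub φ ψ →ₐ[A₂] A₂ ⊗[A] B := Algebra.TensorProduct.map (AlgHom.id A₂ A₂) (eqSub φ ψ).val
  have hj : Function.Injective j :=
    Module.Flat.lTensor_preserves_injective_linearMap (M := A₂) (eqSub φ ψ).val.toLinearMap Subtype.val_injective
  have hzx : j z = x := hz
  have hzi : IsIntegral A₂ z := (isIntegral_algHom_iff j hj).1 (by rw [hzx]; exact hi)
  obtain ⟨y, hy⟩ := (TensorProduct.toIntegralClosure_bijective_of_smooth (R := A) (S := A₂) (B := eqSub φ ψ)).2 ⟨z, hzi⟩
  refine ⟨y, ?_⟩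
  have h1 : Algebra.TensorProduct.map (AlgHom.id A₂ A₂) (integralClosure A (eqSub φ ψ)).val y = z :=
    congrArg Subtype.val hy
  rw [← hzx, ← h1]
  simp only [j, ← AlgHom.comp_apply, ← Algebra.TensorProduct.map_comp]
  rfl

end Groth.Agent.SpFP87
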