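import Groth.Agent.SpFP87.NormExists
import Mathlib.AlgebraicGeometry.Morphisms.Integral
/-!
An open and closed part of the source which is integral over the base splits off the normalization.
-/

set_option autoImplicit false
set_option linter.style.haveILetI false
set_option backward.isDefEq.respectTransparency false
universe u
open CategoryTheory CategoryTheory.Limits AlgebraicGeometry
open AlgSp
open Groth.Agent.SpPts86

namespace Groth.Agent.SpFP87

variable {S : Scheme.{u}}

theorem exists_split_of_normalization {U VS N : Over S} {P : Sp S} (hP : IsAlgSpace P) {q : P ⟶ (yon S).obj U}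
    {νN : N ⟶ U} (hν : IsIntegralHom νN.left) {k : P ⟶ (yon S).obj N}
    (hn : IsRelNormalization q ((yon S).map νN) k) {j : (yon S).obj VS ⟶ P} (hjo : RepWith @IsOpenImmersion j)
    (hjc : RepWith @IsClosedImmersion j) {s : VS ⟶ U} (hs : IsIntegralHom s.left)
    (hjq : j ≫ q = (yon S).map s) :
    ∃ c : VS ⟶ N, (yon S).map c = j ≫ k ∧ IsOpenImmersion c.left ∧ IsPullback j (𝟙 _) k ((yon S).map c) := by
  classical
  haveI := hs; haveI := hν
  obtain ⟨c, hc⟩ := (yon S).map_surjective (j ≫ k)
  have hcν : c ≫ νN = s := (yon S).map_injective (by rw [Functor.map_comp, hc, Category.assoc, hn.1, hjq])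
  -- the disjoint union
  let Z : Over S := Over.mk (coprod.desc VS.hom N.hom)
  let inl : VS ⟶ Z := Over.homMk coprod.inl (coprod.inl_desc _ _)
  let inr : N ⟶ Z := Over.homMk coprod.inr (coprod.inr_desc _ _)
  let m : Z ⟶ U := Over.homMk (coprod.desc s.left νN.left) (by
    show coprod.desc s.left νN.left ≫ U.hom = coprod.desc VS.hom N.hom
    apply coprod.hom_ext <;> simp only [coprod.inl_desc_assoc, coprod.inr_desc_assoc, coprod.inl_desc,
      coprod.inr_desc, Over.w])
  let r : Z ⟶ N := Over.homMk (coprod.desc c.left (𝟙 _)) (by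
    show coprod.desc c.left (𝟙 _) ≫ N.hom = coprod.desc VS.hom N.hom
    apply coprod.hom_ext <;> simp only [coprod.inl_desc_assoc, coprod.inr_desc_assoc, coprod.inl_desc,
      coprod.inr_desc, Over.w, Category.id_comp])
  have him : inl ≫ m = s := Over.OverMorphism.ext (coprod.inl_desc _ _)
  have hirm : inr ≫ m = νN := Over.OverMorphism.ext (coprod.inr_desc _ _)
  have hil : inl ≫ r = c := Over.OverMorphism.ext (coprod.inl_desc _ _)
  have hir : inr ≫ r = 𝟙 N := Over.OverMorphism.ext (coprod.inr_desc _ _)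
  have hrm : r ≫ νN = m := by
    apply Over.OverMorphism.ext
    show coprod.desc c.left (𝟙 _) ≫ νN.left = coprod.desc s.left νN.left
    apply coprod.hom_ext
    · rw [coprod.inl_desc_assoc, coprod.inl_desc, ← Over.comp_left, hcν]
    · rw [coprod.inr_desc_assoc, coprod.inr_desc, Category.id_comp]
  have hm : IsIntegralMor ((yon S).map m) := (isIntegralMor_iff _).2 ((repWith_yon_map_iff _ _).2
    (inferInstanceAs (IsIntegralHom (coprod.desc s.left νN.left))))
  have hcompl : IsCompl (Set.range inl.left) (Set.range inr.left) := isCompl_range_inl_inr _ _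
  -- a chart of the source and its two parts
  obtain ⟨P₀, p, hp, hps⟩ := hP.atlas
  have hpl := locLift_of_atlas hp hps
  haveI := hpl.epi
  let eV := hjo.rep.snd p
  let aV := hjo.rep.fst p
  have sqA : IsPullback aV ((yon S).map eV) j p := hjo.rep.isPullback p
  haveI heV : IsOpenImmersion eV.left := hjo.property_snd p
  haveI : IsClosedImmersion eV.left := hjc.property p _ _ sqA
  let OB : P₀.left.Opens := ⟨(Set.range eV.left)ᶜ, eV.left.isClosedEmbedding.isClosed_range.isOpen_compl⟩
  have hlift : ∀ {W : Over S} (l l' : W ⟶ P₀), (yon S).map l ≫ p = (yon S).map l' ≫ p →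
      ∀ w : ↥W.left, l.left w ∈ Set.range eV.left → l'.left w ∈ Set.range eV.left := by
    intro W l l' hll w hw
    obtain ⟨y, hy⟩ := hw
    have sq' : IsPullback (pullback.fst l eV).left (pullback.snd l eV).left l.left eV.left :=
      (IsPullback.of_hasPullback l eV).map (Over.forget S)
    obtain ⟨z, hz, -⟩ := Scheme.exists_preimage_of_isPullback sq' w y hy.symm
    obtain ⟨m', hm'⟩ := (yon S).map_surjective (sqA.lift ((yon S).map (pullback.snd l eV) ≫ aV)
      ((yon S).map (pullback.fst l eV ≫ l')) (by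
        rw [Category.assoc, sqA.w, ← Functor.map_comp_assoc, ← pullback.condition, Functor.map_comp_assoc,
          Functor.map_comp_assoc, hll]))
    have e : m' ≫ eV = pullback.fst l eV ≫ l' :=
      (yon S).map_injective (by rw [Functor.map_comp, hm', sqA.lift_snd])
    refine ⟨m'.left z, ?_⟩
    have := congr($(congrArg CommaMorphism.left e) z)
    rw [← hz]
    exact this
  -- the map to the disjoint union
  let Vc : ULift.{u} Bool → Over S := fun b => bif b.down then hjo.rep.pullback p else openOver P₀ OB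
  let cc : ∀ b, Vc b ⟶ P₀ := fun b => match b with
    | ⟨true⟩ => eV
    | ⟨false⟩ => openIncl P₀ OB
  let ec : ∀ b, (yon S).obj (Vc b) ⟶ (yon S).obj Z := fun b => match b with
    | ⟨true⟩ => aV ≫ (yon S).map inl
    | ⟨false⟩ => (yon S).map (openIncl P₀ OB) ≫ p ≫ k ≫ (yon S).map inr
  have hcc : ∀ b, IsOpenImmersion (cc b).left := by
    rintro ⟨_ | _⟩
    · exact inferInstanceAs (IsOpenImmersion OB.ι)
    · exact heV
  have hcov : ∀ t : ↥P₀.left, ∃ b, t ∈ Set.range (cc b).left := fun t => by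
    by_cases ht : t ∈ Set.range eV.left
    · exact ⟨⟨true⟩, ht⟩
    · exact ⟨⟨false⟩, ⟨⟨t, ht⟩, rfl⟩⟩
  obtain ⟨g₀, hg₀⟩ := open_cover_glue Vc cc hcc hcov ec (by
    intro a b W x y hxy
    rcases a with ⟨_ | _⟩ <;> rcases b with ⟨_ | _⟩
    · haveI : Mono (cc ⟨false⟩) := by
        haveI := hcc ⟨false⟩; exact (Over.forget S).mono_of_mono_map (inferInstanceAs (Mono (cc ⟨false⟩).left))
      rw [(cancel_mono (cc ⟨false⟩)).1 hxy]
    · haveI : IsEmpty W.left := ⟨fun w => (x.left w).2 ⟨y.left w, (congr($(congrArg CommaMorphism.left hxy) w)).symm⟩⟩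
      exact yon_hom_ext_of_isEmpty _ _
    · haveI : IsEmpty W.left := ⟨fun w => (y.left w).2 ⟨x.left w, congr($(congrArg CommaMorphism.left hxy) w)⟩⟩
      exact yon_hom_ext_of_isEmpty _ _
    · haveI : Mono (cc ⟨true⟩) := by
        haveI := hcc ⟨true⟩; exact (Over.forget S).mono_of_mono_map (inferInstanceAs (Mono (cc ⟨true⟩).left))
      rw [(cancel_mono (cc ⟨true⟩)).1 hxy])
  obtain ⟨g, hg⟩ := exists_desc hpl g₀ (by
    intro W l l' hll
    let OA : W.left.Opens := l.left ⁻¹ᵁ eV.left.opensRange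
    let OW : ULift.{u} Bool → W.left.Opens := fun b => bif b.down then OA else l.left ⁻¹ᵁ OB
    refine open_cover_hom_ext (fun b => openOver W (OW b)) (fun b => openIncl W (OW b))
      (fun b => inferInstanceAs (IsOpenImmersion (OW b).ι)) (fun w => ?_) ?_
    · by_cases hw : l.left w ∈ Set.range eV.left
      · exact ⟨⟨true⟩, ⟨⟨w, hw⟩, rfl⟩⟩
      · exact ⟨⟨false⟩, ⟨⟨w, hw⟩, rfl⟩⟩
    rintro ⟨_ | _⟩
    · let B := openOver W (l.left ⁻¹ᵁ OB)
      let ι := openIncl W (l.left ⁻¹ᵁ OB)
      have hB : ∀ l₁ : W ⟶ P₀, (∀ z : ↥B.left, (ι ≫ l₁).left z ∉ Set.range eV.left) →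
          ∃ x : B ⟶ openOver P₀ OB, x ≫ openIncl P₀ OB = ι ≫ l₁ := fun l₁ h1 => by
        have hr : Set.range (ι ≫ l₁).left ⊆ Set.range OB.ι := by
          rintro _ ⟨z, rfl⟩
          exact ⟨⟨_, h1 z⟩, rfl⟩
        exact ⟨Over.homMk (IsOpenImmersion.lift OB.ι (ι ≫ l₁).left hr) (by
          show _ ≫ OB.ι ≫ P₀.hom = _
          rw [IsOpenImmersion.lift_fac_assoc]; exact Over.w (ι ≫ l₁)),
          Over.OverMorphism.ext (IsOpenImmersion.lift_fac _ _ hr)⟩
      obtain ⟨x, hx⟩ := hB l (fun z => z.2)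
      obtain ⟨x', hx'⟩ := hB l' (fun z h => z.2 (hlift l' l hll.symm _ h))
      show (yon S).map ι ≫ (yon S).map l ≫ g₀ = (yon S).map ι ≫ (yon S).map l' ≫ g₀
      rw [← Functor.map_comp_assoc, ← Functor.map_comp_assoc, ← hx, ← hx', Functor.map_comp_assoc,
        Functor.map_comp_assoc, show (yon S).map (openIncl P₀ OB) ≫ g₀ = _ from hg₀ ⟨false⟩]
      show (yon S).map x ≫ (yon S).map (openIncl P₀ OB) ≫ p ≫ k ≫ _ = (yon S).map x' ≫ (yon S).map (openIncl P₀ OB) ≫ p ≫ k ≫ _
      rw [← Functor.map_comp_assoc, ← Functor.map_comp_assoc, hx, hx', Functor.map_comp_assoc,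
        Functor.map_comp_assoc, reassoc_of% hll]
    · let A := openOver W OA
      let ι := openIncl W OA
      have hr : Set.range (ι ≫ l).left ⊆ Set.range eV.left := by
        rintro _ ⟨z, rfl⟩
        exact z.2
      let x : A ⟶ hjo.rep.pullback p := Over.homMk (IsOpenImmersion.lift eV.left (ι ≫ l).left hr)
        (by rw [← Over.w eV, IsOpenImmersion.lift_fac_assoc]; exact Over.w (ι ≫ l))
      have hx : x ≫ eV = ι ≫ l := Over.OverMorphism.ext (IsOpenImmersion.lift_fac _ _ hr)
      obtain ⟨x', hx'⟩ := (yon S).map_surjective (sqA.lift ((yon S).map x ≫ aV) ((yon S).map (ι ≫ l')) (by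
        rw [Category.assoc, sqA.w, ← Functor.map_comp_assoc, hx, Functor.map_comp_assoc, Functor.map_comp_assoc, hll]))
      have e1 : x' ≫ eV = ι ≫ l' := (yon S).map_injective (by rw [Functor.map_comp, hx', sqA.lift_snd])
      have e2 : (yon S).map x' ≫ aV = (yon S).map x ≫ aV := by rw [hx', sqA.lift_fst]
      show (yon S).map ι ≫ (yon S).map l ≫ g₀ = (yon S).map ι ≫ (yon S).map l' ≫ g₀
      rw [← Functor.map_comp_assoc, ← Functor.map_comp_assoc, ← hx, ← e1, Functor.map_comp_assoc,
        Functor.map_comp_assoc, show (yon S).map eV ≫ g₀ = _ from hg₀ ⟨true⟩]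
      show (yon S).map x ≫ aV ≫ _ = (yon S).map x' ≫ aV ≫ _
      rw [reassoc_of% e2])
  haveI : Epi aV := (hpl.baseChange sqA.flip).epi
  have hjg : j ≫ g = (yon S).map inl := by
    rw [← cancel_epi aV, sqA.w_assoc, hg]
    exact hg₀ ⟨true⟩
  have hgr : g ≫ (yon S).map r = k := by
    rw [← cancel_epi p, ← Category.assoc, hg]
    refine open_cover_hom_ext Vc cc hcc hcov ?_
    rintro ⟨_ | _⟩
    · rw [reassoc_of% hg₀ ⟨false⟩]
      show ((yon S).map (openIncl P₀ OB) ≫ p ≫ k ≫ (yon S).map inr) ≫ (yon S).map r = (yon S).map (openIncl P₀ OB) ≫ p ≫ k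
      simp only [Category.assoc, ← Functor.map_comp, hir, CategoryTheory.Functor.map_id, Category.comp_id]
    · rw [reassoc_of% hg₀ ⟨true⟩]
      show (aV ≫ (yon S).map inl) ≫ (yon S).map r = (yon S).map eV ≫ p ≫ k
      rw [Category.assoc, ← Functor.map_comp, hil, hc, sqA.w_assoc]
  have hgm : g ≫ (yon S).map m = q := by rw [← hrm, Functor.map_comp, reassoc_of% hgr, hn.1]
  obtain ⟨h', ⟨hh1, hh2⟩, -⟩ := hn.2.2 (IsAlgSpace.yon_obj Z) _ g hm hgm
  obtain ⟨h, rfl⟩ := (yon S).map_surjective h'
  have hhm : h ≫ m = νN := (yon S).map_injective (by rw [Functor.map_comp, hh2])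
  have hhr : h ≫ r = 𝟙 N := by
    refine (yon S).map_injective ((hn.2.2 (IsAlgSpace.yon_obj N) _ k hn.2.1 hn.1).unique ⟨?_, ?_⟩
      ⟨by simp, by simp⟩)
    · rw [Functor.map_comp, reassoc_of% hh1, hgr]
    · rw [← Functor.map_comp, Category.assoc, hrm, hhm]
  have hch : c ≫ h = inl := (yon S).map_injective (by rw [Functor.map_comp, hc, Category.assoc, hh1, hjg])
  -- the open part of the normalization
  haveI : IsOpenImmersion inl.left := inferInstanceAs (IsOpenImmersion (coprod.inl : VS.left ⟶ VS.left ⨿ N.left))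
  let O : N.left.Opens := h.left ⁻¹ᵁ inl.left.opensRange
  have hOr : Set.range (O.ι ≫ h.left) ⊆ Set.range inl.left := by
    rintro _ ⟨z, rfl⟩
    exact z.2
  have hcO : Set.range c.left ⊆ Set.range O.ι := by
    rintro _ ⟨z, rfl⟩
    exact ⟨⟨c.left z, ⟨z, (congr($(congrArg CommaMorphism.left hch) z)).symm⟩⟩, rfl⟩
  let ψ : O.toScheme ⟶ VS.left := IsOpenImmersion.lift inl.left (O.ι ≫ h.left) hOr
  have hψ : ψ ≫ inl.left = O.ι ≫ h.left := IsOpenImmersion.lift_fac _ _ hOr
  let c' : VS.left ⟶ O.toScheme := IsOpenImmersion.lift O.ι c.left hcO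
  have hc' : c' ≫ O.ι = c.left := IsOpenImmersion.lift_fac _ _ hcO
  have hψc : ψ ≫ c.left = O.ι := by
    have e1 : inl.left ≫ r.left = c.left := congrArg CommaMorphism.left hil
    have e2 : h.left ≫ r.left = 𝟙 _ := congrArg CommaMorphism.left hhr
    rw [← e1, reassoc_of% hψ, e2, Category.comp_id]
  haveI : IsIso c' := ⟨ψ, by
      rw [← cancel_mono inl.left, Category.assoc, hψ, reassoc_of% hc', Category.id_comp]
      exact congrArg CommaMorphism.left hch, by
      rw [← cancel_mono O.ι, Category.assoc, hc', hψc, Category.id_comp]⟩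
  have hco : IsOpenImmersion c.left := by rw [← hc']; infer_instance
  refine ⟨c, hc, hco, ?_⟩
  -- the preimage
  haveI : Mono ((yon S).map c) := mono_of_repWith_le isOpenImmersion_le_monomorphisms ((repWith_yon_map_iff _ _).2 hco)
  have hfst : ∀ z, Points.map (pullback.fst k ((yon S).map c)) z ∈ Set.range (Points.map j) := fun z => by
    obtain ⟨t, ht⟩ := surjective_ofPt hps (Points.map (pullback.fst k ((yon S).map c)) z)
    by_cases htA : t ∈ Set.range eV.left
    · obtain ⟨y, rfl⟩ := htA
      refine ⟨Points.ofPt aV y, ?_⟩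
      rw [← ht, Points.map_ofPt, sqA.w, ofPt_comp]
    · exfalso
      have e := congrArg (fun f => Points.map f z)
        (show pullback.fst k ((yon S).map c) ≫ g = pullback.snd k ((yon S).map c) ≫ (yon S).map inl by
          rw [← hh1, pullback.condition_assoc, ← Functor.map_comp, hch])
      simp only [Points.map_comp, ← ht, Points.map_ofPt, hg] at e
      obtain ⟨y, hy⟩ := (Points.schemeHomeo VS).surjective (Points.map (pullback.snd k ((yon S).map c)) z)
      obtain ⟨G₀, hG₀⟩ := (yon S).map_surjective g₀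
      rw [← hG₀, ofPt_yon_map, ← hy] at e
      have hy' : Points.map ((yon S).map inl) (Points.schemeHomeo VS y) = Points.schemeHomeo Z (inl.left y) :=
        Points.map_yon_map_apply inl y
      rw [hy'] at e
      have e' : G₀.left t = inl.left y := (Points.schemeHomeo Z).injective e
      obtain ⟨n, hn'⟩ := (yon S).map_surjective ((yon S).map (openIncl P₀ OB) ≫ p ≫ k)
      have hnG : openIncl P₀ OB ≫ G₀ = n ≫ inr := (yon S).map_injective (by
        rw [Functor.map_comp, Functor.map_comp, hG₀, hn']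
        simp only [Category.assoc]
        exact hg₀ ⟨false⟩)
      have e2 := congr($(congrArg CommaMorphism.left hnG) (⟨t, htA⟩ : ↥OB.toScheme))
      exact Set.disjoint_left.1 hcompl.disjoint ⟨y, rfl⟩ ⟨n.left ⟨t, htA⟩, e2.symm.trans e'⟩
  obtain ⟨x', hx'⟩ := exists_factor_of_range_subset hjo (pullback.fst k ((yon S).map c))
    (by rintro _ ⟨z, rfl⟩; exact hfst z)
  let l : (yon S).obj VS ⟶ pullback k ((yon S).map c) := pullback.lift j (𝟙 _) (by rw [Category.id_comp, hc])
  haveI : IsIso l := ⟨pullback.snd k ((yon S).map c), pullback.lift_snd _ _ _, by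
    have hxc : x' = pullback.snd k ((yon S).map c) := by
      rw [← cancel_mono ((yon S).map c), ← pullback.condition]
      exact (congrArg (x' ≫ ·) hc).trans ((Category.assoc _ _ _).symm.trans (congrArg (· ≫ k) hx'))
    refine pullback.hom_ext ?_ ?_
    · rw [Category.assoc, pullback.lift_fst, ← hxc, hx', Category.id_comp]
    · rw [Category.assoc, pullback.lift_snd, Category.comp_id, Category.id_comp]⟩
  exact IsPullback.of_iso_pullback ⟨by rw [Category.id_comp, hc]⟩ (asIso l) (pullback.lift_fst _ _ _)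
    (pullback.lift_snd _ _ _)

end Groth.Agent.SpFP87
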