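import Groth.Agent.Lim60.ClosedImmStage
import Groth.Agent.SpPts86.DiagAbs
import Mathlib.AlgebraicGeometry.Morphisms.Immersion
/-!
Closed immersions into the product with a stage of a limit.
-/

set_option autoImplicit false
set_option linter.style.haveILetI false
set_option backward.isDefEq.respectTransparency false
universe u
open CategoryTheory CategoryTheory.Limits AlgebraicGeometry
open Groth.Agent.SpPts86

attribute [local instance] CategoryTheory.isConnected_of_hasTerminal

namespace Groth.Agent.SpFP87

theorem quasiCompact_terminal_from (U : Scheme.{u}) [CompactSpace U] : QuasiCompact (terminal.from U) :=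
  HasAffineProperty.iff_of_isAffine.2 ‹_›

@[reassoc]
theorem absLift_fst {P U V : Scheme.{u}} (f : P ⟶ U) (g : P ⟶ V) :
    absLift f g ≫ pullback.fst _ _ = f := pullback.lift_fst _ _ _

@[reassoc]
theorem absLift_snd {P U V : Scheme.{u}} (f : P ⟶ U) (g : P ⟶ V) :
    absLift f g ≫ pullback.snd _ _ = g := pullback.lift_snd _ _ _

/-- The product of a diagram with a fixed scheme. -/
noncomputable def prodDiagram {I : Type u} [SmallCategory I] (D : I ⥤ Scheme.{u}) (U : Scheme.{u}) :
    I ⥤ Scheme.{u} where
  obj j := pullback (terminal.from (D.obj j)) (terminal.from U)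
  map {i j} a := absLift (pullback.fst _ _ ≫ D.map a) (pullback.snd _ _)
  map_id i := by apply pullback.hom_ext <;> simp [absLift_fst, absLift_snd]
  map_comp a b := by apply pullback.hom_ext <;> simp [absLift_fst, absLift_snd, absLift_fst_assoc, absLift_snd_assoc]

/-- The projection. -/
noncomputable def prodDiagramFst {I : Type u} [SmallCategory I] (D : I ⥤ Scheme.{u}) (U : Scheme.{u}) :
    prodDiagram D U ⟶ D where
  app j := pullback.fst _ _
  naturality _ _ _ := absLift_fst _ _

/-- The product cone. -/
noncomputable def prodCone {I : Type u} [SmallCategory I] {D : I ⥤ Scheme.{u}} (c : Cone D) (U : Scheme.{u}) :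
    Cone (prodDiagram D U) where
  pt := pullback (terminal.from c.pt) (terminal.from U)
  π :=
    { app := fun j => absLift (pullback.fst _ _ ≫ c.π.app j) (pullback.snd _ _)
      naturality := fun i j a => by
        apply pullback.hom_ext <;> simp [prodDiagram, absLift_fst, absLift_snd, absLift_fst_assoc, absLift_snd_assoc] }

theorem isPullback_absLift_fst {A B : Scheme.{u}} (f : A ⟶ B) (U : Scheme.{u}) :
    IsPullback (absLift (pullback.fst (terminal.from A) (terminal.from U) ≫ f) (pullback.snd _ _))
      (pullback.fst _ _) (pullback.fst (terminal.from B) (terminal.from U)) f := by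
  refine IsPullback.of_right ?_ (absLift_fst _ _) (IsPullback.of_hasPullback _ _).flip
  rw [absLift_snd, show f ≫ terminal.from B = terminal.from A from terminal.hom_ext _ _]
  exact (IsPullback.of_hasPullback _ _).flip

noncomputable def isLimitProdCone {I : Type u} [SmallCategory I] [IsConnected I] {D : I ⥤ Scheme.{u}} {c : Cone D}
    (hc : IsLimit c) (U : Scheme.{u}) : IsLimit (prodCone c U) :=
  isLimitOfIsPullbackOfIsConnected (prodDiagramFst D U) _ _
    { hom := pullback.fst _ _
      w := fun j => (absLift_fst _ _).symm }
    (fun j => isPullback_absLift_fst (c.π.app j) U) hc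

/-- A scheme of finite type over `U`, closed in the product of a limit with `U`, is closed in the product of a
stage with `U`. -/
theorem exists_isClosedImmersion_absLift {I : Type u} [SmallCategory I] [IsCofiltered I] (D : I ⥤ Scheme.{u})
    (c : Cone D) (hc : IsLimit c) [∀ (i j : I) (f : i ⟶ j), IsAffineHom (D.map f)] (i : I)
    [CompactSpace (D.obj i)] {U Q : Scheme.{u}} [CompactSpace U] (p : Q ⟶ c.pt) (q : Q ⟶ U)
    [IsClosedImmersion (absLift p q)] [LocallyOfFiniteType q] :
    ∃ (j : I) (_ : j ⟶ i), IsClosedImmersion (absLift (p ≫ c.π.app j) q) := by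
  haveI : IsConnected I := IsCofiltered.isConnected I
  haveI : ∀ (j k : I) (f : j ⟶ k), IsAffineHom ((prodDiagram D U).map f) := fun j k f =>
    MorphismProperty.of_isPullback (P := @IsAffineHom) (isPullback_absLift_fst (D.map f) U).flip inferInstance
  haveI : CompactSpace ↥((prodDiagram D U).obj i) := by
    haveI := quasiCompact_terminal_from U
    exact QuasiCompact.compactSpace_of_compactSpace (pullback.fst (terminal.from (D.obj i)) (terminal.from U))
  have e : ∀ j, absLift p q ≫ (prodCone c U).π.app j = absLift (p ≫ c.π.app j) q := fun j => by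
    apply pullback.hom_ext <;>
      simp [prodCone, absLift_fst, absLift_snd, absLift_fst_assoc, absLift_snd_assoc]
  haveI : LocallyOfFiniteType (absLift p q ≫ (prodCone c U).π.app i) := by
    rw [e]
    haveI : LocallyOfFiniteType (absLift (p ≫ c.π.app i) q ≫ pullback.snd _ _) := by
      rw [absLift_snd]; infer_instance
    exact locallyOfFiniteType_of_comp _ (pullback.snd _ _)
  obtain ⟨j, f, hj⟩ := Groth.Agent.Lim60.exists_isClosedImmersion_stage (prodDiagram D U) (prodCone c U)
    (isLimitProdCone hc U) i (Y := Q) (absLift p q)
  exact ⟨j, f, e j ▸ hj⟩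

/-- Base change of a closed immersion into a product along a map of the first factor. -/
theorem isClosedImmersion_absLift_of_isPullback {A U P Q Q' : Scheme.{u}} {a : Q ⟶ A} {π : P ⟶ A} {b : Q ⟶ U}
    {r : Q' ⟶ Q} {k : Q' ⟶ P} (sq : IsPullback r k a π) [IsClosedImmersion (absLift a b)] :
    IsClosedImmersion (absLift k (r ≫ b)) := by
  have hsq : IsPullback r (absLift k (r ≫ b)) (absLift a b)
      (absLift (pullback.fst (terminal.from P) (terminal.from U) ≫ π) (pullback.snd _ _)) := by
    refine IsPullback.flip (IsPullback.of_right ?_ ?_ (isPullback_absLift_fst π U).flip)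
    · rw [absLift_fst, absLift_fst]; exact sq.flip
    · apply pullback.hom_ext <;>
        simp [absLift_fst, absLift_snd, absLift_fst_assoc, absLift_snd_assoc, sq.w]
  exact MorphismProperty.of_isPullback (P := @IsClosedImmersion) hsq ‹_›

end Groth.Agent.SpFP87
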