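import Mathlib
/-!
Flatness descends along universally injective ring maps (equational criterion).
-/

set_option autoImplicit false
universe u
open TensorProduct

namespace Groth.Agent.SpFP87

/-- A module whose base change along a pure ring map is flat is flat. -/
theorem flat_of_pure_of_flat_baseChange (R S : Type u) [CommRing R] [CommRing S] [Algebra R S]
    (M : Type u) [AddCommGroup M] [Module R M]
    (hpure : ∀ (N : Type u) [AddCommGroup N] [Module R N] (n : N), (1 : S) ⊗ₜ[R] n = 0 → n = 0)
    [Module.Flat S (S ⊗[R] M)] : Module.Flat R M := by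
  classical
  refine Module.Flat.iff_forall_isTrivialRelation.2 fun {l f x} hfx => ?_
  let e : M →ₗ[R] S ⊗[R] M := TensorProduct.mk R S M 1
  have hrel : ∑ i, algebraMap R S (f i) • e (x i) = 0 := by
    simp only [algebraMap_smul, ← map_smul, ← map_sum, hfx, map_zero]
  obtain ⟨k, a, y, hxy, hfa⟩ := Module.Flat.isTrivialRelation_of_sum_smul_eq_zero hrel
  -- expand the witnesses in pure tensors
  have hspan : ∀ z : S ⊗[R] M, z ∈ Submodule.span S (Set.range e) := fun z => by
    induction z using TensorProduct.induction_on with
    | zero => exact zero_mem _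
    | tmul s m =>
      have h : s ⊗ₜ[R] m = s • e m := by simp [e, TensorProduct.smul_tmul']
      exact h ▸ Submodule.smul_mem _ _ (Submodule.subset_span ⟨m, rfl⟩)
    | add a b ha hb => exact add_mem ha hb
  choose c hc using fun j => Finsupp.mem_span_range_iff_exists_finsupp.1 (hspan (y j))
  let F : Finset M := Finset.univ.biUnion fun j => (c j).support
  let σ : Fin l → F → S := fun i m => ∑ j, a i j * c j m.1
  have hσ : ∀ i, e (x i) = ∑ m : F, σ i m • e m.1 := fun i => by
    have hy : ∀ j, y j = ∑ m : F, c j m.1 • e m.1 := fun j => by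
      rw [← hc j, Finset.sum_coe_sort F (fun m => c j m • e m)]
      exact Finsupp.sum_of_support_subset _ (Finset.subset_biUnion_of_mem (fun j => (c j).support) (Finset.mem_univ j))
        _ (fun m _ => zero_smul _ _)
    refine (hxy i).trans ?_
    simp only [hy, σ, Finset.smul_sum, Finset.sum_smul, smul_smul]
    exact Finset.sum_comm
  have hfσ : ∀ m : F, ∑ i, f i • σ i m = 0 := fun m => by
    simp only [σ, Algebra.smul_def, Finset.mul_sum]
    rw [Finset.sum_comm]
    refine Finset.sum_eq_zero fun j _ => ?_
    have hj : ∑ i, algebraMap R S (f i) * a i j = 0 := hfa j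
    simp only [← mul_assoc, ← Finset.sum_mul, hj, zero_mul]
  -- the linear system
  let Φ : (Fin l → F → R) →ₗ[R] (Fin l → M) × (F → R) :=
    { toFun := fun r => (fun i => ∑ m : F, r i m • m.1, fun m => ∑ i, f i * r i m)
      map_add' := fun r r' => by
        ext <;> simp [add_smul, mul_add, Finset.sum_add_distrib]
      map_smul' := fun t r => by
        ext <;> simp [smul_smul, Finset.smul_sum, Finset.mul_sum, mul_left_comm] }
  let N := ((Fin l → M) × (F → R)) ⧸ LinearMap.range Φ
  let q := (LinearMap.range Φ).mkQ
  have hz : q (x, 0) = 0 := by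
    refine hpure N _ ?_
    let ι : Fin l → M →ₗ[R] N := fun i =>
      q ∘ₗ LinearMap.inl R (Fin l → M) (F → R) ∘ₗ LinearMap.single R (fun _ => M) i
    let κ : F → N := fun m => q ((0 : Fin l → M), Pi.single m (1 : R))
    have h0 : q (x, 0) = ∑ i, ι i (x i) := by
      simp only [ι, LinearMap.comp_apply, ← map_sum]
      congr 2
      simp [Finset.univ_sum_single]
    have h1 : ∀ i (m : F), ι i m.1 = - (f i • κ m) := fun i m => by
      rw [eq_neg_iff_add_eq_zero, ← map_smul, LinearMap.comp_apply, LinearMap.comp_apply, ← map_add]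
      refine (Submodule.Quotient.mk_eq_zero _).2 ⟨Pi.single i (Pi.single m 1), ?_⟩
      simp only [Φ, LinearMap.coe_mk, AddHom.coe_mk, LinearMap.inl_apply, Prod.smul_mk, smul_zero,
        Prod.mk_add_mk, add_zero, zero_add, LinearMap.single_apply]
      refine Prod.ext (funext fun i' => ?_) (funext fun m' => ?_) <;> dsimp only
      · by_cases h : i' = i
        · subst h
          rw [Finset.sum_eq_single m]
          · simp
          · intro b _ hb; simp [hb]
          · simp
        · simp [h]
      · by_cases h : m' = m
        · subst h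
          rw [Finset.sum_eq_single i]
          · simp
          · intro b _ hb; simp [hb]
          · simp
        · simp only [Pi.smul_apply, Pi.single_eq_of_ne h, smul_zero]
          refine Finset.sum_eq_zero fun i' _ => ?_
          by_cases h' : i' = i
          · subst h'; simp [h]
          · simp [h']
    have h2 : ∀ i, (1 : S) ⊗ₜ[R] ι i (x i) = ∑ m : F, σ i m ⊗ₜ[R] ι i m.1 := fun i => by
      have := congrArg (LinearMap.lTensor S (ι i)) (hσ i)
      simpa [e, TensorProduct.smul_tmul'] using this
    rw [h0, TensorProduct.tmul_sum]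
    simp only [h2, h1, TensorProduct.tmul_neg, ← TensorProduct.smul_tmul, Finset.sum_neg_distrib, neg_eq_zero]
    rw [Finset.sum_comm]
    exact Finset.sum_eq_zero fun m _ => by rw [← TensorProduct.sum_tmul, hfσ m, TensorProduct.zero_tmul]
  obtain ⟨r, hr⟩ := (Submodule.Quotient.mk_eq_zero _).1 hz
  let eF := F.equivFin
  refine ⟨F.card, fun i j => r i (eF.symm j), fun j => (eF.symm j).1, fun i => ?_, fun j => ?_⟩
  · have := congrFun (congrArg Prod.fst hr) i
    exact this.symm.trans (eF.symm.sum_comp fun m : F => r i m • m.1).symm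
  · exact congrFun (congrArg Prod.snd hr) (eF.symm j)

/-- A pure ring map is faithful on modules. -/
theorem faithfullyFlat_of_pure_of_flat (R S : Type u) [CommRing R] [CommRing S] [Algebra R S]
    (hpure : ∀ (N : Type u) [AddCommGroup N] [Module R N] (n : N), (1 : S) ⊗ₜ[R] n = 0 → n = 0)
    [Module.Flat R S] : Module.FaithfullyFlat R S := by
  constructor
  intro m hm h
  have h1 : (1 : S) ∈ (m • ⊤ : Submodule R S) := by rw [h]; trivial
  refine hm.ne_top ((Ideal.eq_top_iff_one m).2 (Ideal.Quotient.eq_zero_iff_mem.1 (hpure (R ⧸ m) (Ideal.Quotient.mk m 1) ?_)))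
  apply (TensorProduct.quotTensorEquivQuotSMul S m).injective.comp (TensorProduct.comm R S (R ⧸ m)).injective
  rw [Ideal.smul_top_eq_map] at h1
  simpa [Submodule.Quotient.mk_eq_zero] using h1

end Groth.Agent.SpFP87
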