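import Groth.Agent.SpFP87.SmoothTorsor
/-!
The obstruction to a global infinitesimal lift vanishes over an affine base.
-/

set_option autoImplicit false
set_option linter.style.haveILetI false
set_option backward.isDefEq.respectTransparency false
universe u
open CategoryTheory CategoryTheory.Limits AlgebraicGeometry TensorProduct
open AlgSp

namespace Groth.Agent.SpFP87
namespace Torsor

variable {A : Type u} [CommRing A] (I : Ideal A)

/-- Reduction modulo the extension of an ideal of the base. -/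
noncomputable abbrev qm (C : Type u) [CommRing C] [Algebra A C] : C →ₐ[A] C ⧸ I.map (algebraMap A C) :=
  Ideal.Quotient.mkₐ A _

variable {C C' : Type u} [CommRing C] [Algebra A C] [CommRing C'] [Algebra A C']

theorem sqExt_qm (hI : I ^ 2 = ⊥) : SqExt (qm I C) :=
  ⟨Ideal.Quotient.mkₐ_surjective A _, by
    rw [show RingHom.ker (qm I C).toRingHom = I.map (algebraMap A C) from Ideal.mk_ker,
      ← Ideal.map_pow, hI, Ideal.map_bot]⟩

theorem map_le_comap (φ : C →ₐ[A] C') :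
    I.map (algebraMap A C) ≤ (I.map (algebraMap A C')).comap φ :=
  Ideal.map_le_iff_le_comap.2 fun a ha => by
    rw [Ideal.mem_comap, Ideal.mem_comap, AlgHom.commutes]
    exact Ideal.mem_map_of_mem _ ha

/-- An algebra map modulo the ideal. -/
noncomputable def qb (φ : C →ₐ[A] C') : C ⧸ I.map (algebraMap A C) →ₐ[A] C' ⧸ I.map (algebraMap A C') :=
  Ideal.quotientMapₐ _ φ (map_le_comap I φ)

theorem qb_comp (φ : C →ₐ[A] C') : (qm I C').comp φ = (qb I φ).comp (qm I C) :=
  AlgHom.ext fun _ => rfl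

theorem qb_qb {C'' : Type u} [CommRing C''] [Algebra A C''] (φ : C →ₐ[A] C') (ψ : C' →ₐ[A] C'') :
    (qb I ψ).comp (qb I φ) = qb I (ψ.comp φ) :=
  Ideal.Quotient.algHom_ext A (AlgHom.ext fun _ => rfl)

section Vec

variable {D : Type u} [CommRing D] [Algebra A D] {n : ℕ} (P : MvPolynomial (Fin n) A →ₐ[A] D)
  (rels : Finset (MvPolynomial (Fin n) A)) (B : Type u) [CommRing B] [Algebra A B] (k : D →ₐ[A] C)

/-- The vector of values of an element of the base change of the variations. -/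
noncomputable def vec : B ⊗[A] Var P rels (qm I C) k →ₗ[A] (Fin n → B ⊗[A] C) :=
  (TensorProduct.piRight A A B (fun _ : Fin n => C)).toLinearMap ∘ₗ
    LinearMap.lTensor B ((Var P rels (qm I C) k).subtype.restrictScalars A)

@[simp] theorem vec_tmul (z : B) (c : Var P rels (qm I C) k) (i : Fin n) :
    vec I P rels B k (z ⊗ₜ[A] c) i = z ⊗ₜ[A] c.1 i := by simp [vec]

theorem exists_vec_eq [Module.Flat A B] {y : Fin n → B ⊗[A] C}
    (hy : y ∈ Var P rels (qm I (B ⊗[A] C))
      ((Algebra.TensorProduct.includeRight : C →ₐ[A] B ⊗[A] C).comp k)) :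
    ∃ v, vec I P rels B k v = y := by
  classical
  let J : Submodule A C := (I.map (algebraMap A C)).restrictScalars A
  let i0 : C →ₐ[A] B ⊗[A] C := Algebra.TensorProduct.includeRight
  have hJ : ∀ z ∈ I.map (algebraMap A (B ⊗[A] C)), z ∈ LinearMap.range (LinearMap.lTensor B J.subtype) := by
    intro z hz
    induction hz using Submodule.span_induction with
    | mem x hx =>
      obtain ⟨a, ha, rfl⟩ := hx
      exact ⟨(1 : B) ⊗ₜ[A] (⟨algebraMap A C a, Ideal.mem_map_of_mem _ ha⟩ : J), by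
        simp [Algebra.TensorProduct.algebraMap_apply, Algebra.algebraMap_eq_smul_one, TensorProduct.smul_tmul,
          Algebra.TensorProduct.one_def]⟩
    | zero => exact zero_mem _
    | add x y _ _ hx hy => exact add_mem hx hy
    | smul r x hx' hx =>
      clear hx'
      obtain ⟨w, rfl⟩ := hx
      induction w using TensorProduct.induction_on with
      | zero => simp
      | add x y hx hy => rw [map_add, smul_add]; exact add_mem hx hy
      | tmul b j =>
        induction r using TensorProduct.induction_on with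
        | zero => simp
        | add x y hx hy => rw [add_smul]; exact add_mem hx hy
        | tmul b' c =>
          exact ⟨(b' * b) ⊗ₜ[A] (⟨c * j.1, Ideal.mul_mem_left _ c j.2⟩ : J), by simp⟩
  choose w hw using fun i => hJ (y i) (by
    have := hy.1 i
    exact Ideal.Quotient.eq_zero_iff_mem.1 this)
  let W : B ⊗[A] (Fin n → J) := (TensorProduct.piRight A A B (fun _ : Fin n => J)).symm w
  let M : (Fin n → J) →ₗ[A] (rels → C) :=
    { toFun := fun c r => ∑ i, MvPolynomial.aeval (val P k) (MvPolynomial.pderiv i r.1) * (c i : C)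
      map_add' := fun c c' => by ext r; simp [mul_add, Finset.sum_add_distrib]
      map_smul' := fun a c => by ext r; simp [Finset.smul_sum, mul_smul_comm] }
  have hM : ∀ (V : B ⊗[A] (Fin n → J)) (r : rels),
      TensorProduct.piRight A A B (fun _ : rels => C) (LinearMap.lTensor B M V) r =
        ∑ i, i0 (MvPolynomial.aeval (val P k) (MvPolynomial.pderiv i r.1)) *
          LinearMap.lTensor B J.subtype (TensorProduct.piRight A A B (fun _ : Fin n => J) V i) := by
    intro V r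
    induction V using TensorProduct.induction_on with
    | zero => simp
    | add x y hx hy => simp only [map_add, Pi.add_apply, hx, hy, mul_add, Finset.sum_add_distrib]
    | tmul b c => simp [M, i0, TensorProduct.tmul_sum]
  have hW : LinearMap.lTensor B M W = 0 := by
    refine (TensorProduct.piRight A A B (fun _ : rels => C)).injective (funext fun r => ?_)
    rw [hM W r, map_zero, Pi.zero_apply, LinearEquiv.apply_symm_apply]
    simp only [hw]
    have hv : val P (i0.comp k) = fun j => i0 (val P k j) := rfl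
    have := hy.2 r.1 r.2
    rw [hv] at this
    simpa [← MvPolynomial.comp_aeval (val P k) i0] using this
  have hex : Function.Exact (LinearMap.ker M).subtype M := LinearMap.exact_iff.2 (Submodule.range_subtype _).symm
  obtain ⟨v, hv⟩ := ((Module.Flat.lTensor_exact (N := ↥(LinearMap.ker M)) (N' := Fin n → J) (N'' := rels → C) B hex) W).1 hW
  let toVar : LinearMap.ker M →ₗ[A] Var P rels (qm I C) k :=
    { toFun := fun c => ⟨fun i => (c.1 i : C), fun i => Ideal.Quotient.eq_zero_iff_mem.2 (c.1 i).2,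
        fun r hr => congrFun (LinearMap.mem_ker.1 c.2) ⟨r, hr⟩⟩
      map_add' := fun _ _ => rfl
      map_smul' := fun _ _ => rfl }
  refine ⟨LinearMap.lTensor B toVar v, funext fun i => ?_⟩
  have : ∀ v : B ⊗[A] LinearMap.ker M, vec I P rels B k (LinearMap.lTensor B toVar v) i =
      LinearMap.lTensor B J.subtype
        (TensorProduct.piRight A A B (fun _ : Fin n => J) (LinearMap.lTensor B (LinearMap.ker M).subtype v) i) := by
    intro v
    induction v using TensorProduct.induction_on with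
    | zero => simp
    | add x y hx hy => simp only [map_add, Pi.add_apply, hx, hy]
    | tmul b c => simp [toVar]
  rw [this, hv, LinearEquiv.apply_symm_apply, hw]

end Vec

variable {S : Scheme.{u}} {str : Spec (CommRingCat.of A) ⟶ S} {F : Sp S} {D : Type u} [CommRing D] [Algebra A D]
  {p : (yon S).obj (pt str D) ⟶ F} {π : F ⟶ (yon S).obj (Over.mk str)}

/-- Over an affine base a lift on an etale covering can be corrected so as to descend. -/
theorem exists_corrected_lift (hp : RepWith @Etale p)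
    (hpπ : p ≫ π = (yon S).map (specChg (algebraMap A D) str)) [Algebra.FinitePresentation A D]
    (hI : I ^ 2 = ⊥) [Module.FaithfullyFlat A C] (k₀ : D →ₐ[A] C)
    (hc : ∀ (R : Type u) [CommRing R] [Algebra A R], (∀ a ∈ I, algebraMap A R a = 0) →
      ∀ g g' : C →ₐ[A] R, Φ str p (g.comp k₀) = Φ str p (g'.comp k₀)) :
    ∃ k : D →ₐ[A] C, (qm I C).comp k = (qm I C).comp k₀ ∧
      Φ str p ((Algebra.TensorProduct.includeLeft : C →ₐ[A] C ⊗[A] C).comp k) =
        Φ str p ((Algebra.TensorProduct.includeRight : C →ₐ[A] C ⊗[A] C).comp k) := by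
  classical
  obtain ⟨n, P, hP, rels, hrels⟩ := Algebra.FinitePresentation.out (R := A) (A := D)
  have hq : ∀ (C : Type u) [CommRing C] [Algebra A C], SqExt (qm I C) := fun C _ _ => sqExt_qm I hI
  have hzero : ∀ (R : Type u) [CommRing R] [Algebra A R], ∀ a ∈ I,
      algebraMap A (R ⧸ I.map (algebraMap A R)) a = 0 := fun R _ _ a ha =>
    Ideal.Quotient.eq_zero_iff_mem.2 (Ideal.mem_map_of_mem _ ha)
  let p₁ : C →ₐ[A] C ⊗[A] C := Algebra.TensorProduct.includeLeft
  let p₂ : C →ₐ[A] C ⊗[A] C := Algebra.TensorProduct.includeRight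
  have hΦ : Φ str p ((qb I p₂).comp ((qm I C).comp k₀)) = Φ str p ((qb I p₁).comp ((qm I C).comp k₀)) := by
    rw [← AlgHom.comp_assoc, ← AlgHom.comp_assoc]
    exact hc _ (hzero _) _ _
  let d := cobL hp hpπ P hP hrels (hq C) (hq (C ⊗[A] C)) p₁ p₂ (qb I p₁) (qb I p₂) (qb_comp I p₂) k₀ hΦ
  let bT := snd₁ hp hpπ (hq (C ⊗[A] C)) p₂ (qb I p₁) (qb I p₂) (qb_comp I p₂) k₀ hΦ k₀ rfl
  let x : Fin n → C ⊗[A] C := val P bT - val P (p₁.comp k₀)
  -- the situation after base change along `C`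
  let i₀ : C →ₐ[A] C ⊗[A] C := Algebra.TensorProduct.includeRight
  let l₀ : C →ₐ[A] C ⊗[A] C := Algebra.TensorProduct.includeLeft
  let i₁ : C ⊗[A] C →ₐ[A] C ⊗[A] (C ⊗[A] C) := Algebra.TensorProduct.includeRight
  let r₁ : C ⊗[A] C →ₐ[A] C ⊗[A] (C ⊗[A] C) := Algebra.TensorProduct.map (AlgHom.id A C) p₁
  let r₂ : C ⊗[A] C →ₐ[A] C ⊗[A] (C ⊗[A] C) := Algebra.TensorProduct.map (AlgHom.id A C) p₂
  have hc₁ : r₁.comp i₀ = i₁.comp p₁ := AlgHom.ext fun c => by simp [r₁, i₀, i₁]
  have hc₂ : r₂.comp i₀ = i₁.comp p₂ := AlgHom.ext fun c => by simp [r₂, i₀, i₁]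
  have hl : r₁.comp l₀ = r₂.comp l₀ := AlgHom.ext fun c => by
    simp [r₁, r₂, l₀, p₁, p₂, Algebra.TensorProduct.one_def]
  have hΨ : Φ str p ((qb I r₂).comp ((qm I (C ⊗[A] C)).comp (i₀.comp k₀))) =
      Φ str p ((qb I r₁).comp ((qm I (C ⊗[A] C)).comp (i₀.comp k₀))) := by
    simp only [← AlgHom.comp_assoc]
    exact hc _ (hzero _) _ _
  let d' := cobL hp hpπ P hP hrels (hq (C ⊗[A] C)) (hq (C ⊗[A] (C ⊗[A] C))) r₁ r₂ (qb I r₁) (qb I r₂)
    (qb_comp I r₂) (i₀.comp k₀) hΨ
  have hz₀ : Φ str p ((qm I (C ⊗[A] C)).comp (l₀.comp k₀)) = Φ str p ((qm I (C ⊗[A] C)).comp (i₀.comp k₀)) := by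
    simp only [← AlgHom.comp_assoc]
    exact hc _ (hzero _) _ _
  let z := tr hp hpπ (hq (C ⊗[A] C)) ((qm I (C ⊗[A] C)).comp (i₀.comp k₀)) (l₀.comp k₀) hz₀
  have hz := tr_spec hp hpπ (hq (C ⊗[A] C)) ((qm I (C ⊗[A] C)).comp (i₀.comp k₀)) (l₀.comp k₀) hz₀
  let y : Var P rels (qm I (C ⊗[A] C)) (i₀.comp k₀) :=
    ⟨val P z - val P (i₀.comp k₀), sub_mem_var P hrels (hq _) _ _ hz.1⟩
  have hu : (qb I i₁).comp ((qb I p₁).comp ((qm I C).comp k₀)) =
      (qb I r₁).comp ((qm I (C ⊗[A] C)).comp (i₀.comp k₀)) := by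
    refine AlgHom.ext fun d => ?_
    show Ideal.Quotient.mk _ (i₁ (p₁ (k₀ d))) = Ideal.Quotient.mk _ (r₁ (i₀ (k₀ d)))
    exact congrArg _ (DFunLike.congr_fun hc₁ _).symm
  have hy' : d' y = fun j => i₁ (x j) := by
    show cob hp hpπ P hP hrels (hq (C ⊗[A] C)) (hq (C ⊗[A] (C ⊗[A] C))) r₁ r₂ (qb I r₁) (qb I r₂) (qb_comp I r₂) (i₀.comp k₀) hΨ y = _
    rw [cob_eq hp hpπ P hP hrels (hq (C ⊗[A] C)) (hq (C ⊗[A] (C ⊗[A] C))) r₁ r₂ (qb I r₁) (qb I r₂) (qb_comp I r₂) (i₀.comp k₀) hΨ y hz.1 (add_sub_cancel _ _).symm]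
    have e1 : snd₁ hp hpπ (hq _) r₂ (qb I r₁) (qb I r₂) (qb_comp I r₂) (i₀.comp k₀) hΨ z hz.1 = r₁.comp z := by
      refine tr_unique hp hpπ _ _ ?_ ?_
      · rw [← AlgHom.comp_assoc, qb_comp, AlgHom.comp_assoc, hz.1]
      · rw [Φ_comp, Φ_comp, hz.2, ← Φ_comp, ← Φ_comp, ← AlgHom.comp_assoc, hl, AlgHom.comp_assoc]
    have e2 : snd₁ hp hpπ (hq _) r₂ (qb I r₁) (qb I r₂) (qb_comp I r₂) (i₀.comp k₀) hΨ (i₀.comp k₀) rfl =
        i₁.comp bT :=
      tr_natural hp hpπ (hq (C ⊗[A] C)) (hq _) i₁ (qb I i₁) (qb_comp I i₁) _ _ _ hu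
        (by rw [← AlgHom.comp_assoc, ← hc₂, AlgHom.comp_assoc]) _
    rw [e1, e2]
    funext j
    have e3 : r₁ (i₀ (k₀ (P (MvPolynomial.X j)))) = i₁ (p₁ (k₀ (P (MvPolynomial.X j)))) :=
      DFunLike.congr_fun hc₁ _
    simp only [y, x, val, Pi.sub_apply, AlgHom.comp_apply, map_sub, e3]
    ring
  obtain ⟨v, hv⟩ := exists_vec_eq I P rels C k₀ y.2
  -- the two coboundaries agree on the base change of the variations
  have hmem : ∀ v, vec I P rels C k₀ v ∈ Var P rels (qm I (C ⊗[A] C)) (i₀.comp k₀) := fun v => by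
    induction v using TensorProduct.induction_on with
    | zero => rw [map_zero]; exact zero_mem _
    | add a b ha hb => rw [map_add]; exact add_mem ha hb
    | tmul b c =>
      have : vec I P rels C k₀ (b ⊗ₜ[A] c) = l₀ b • fun j => i₀ (c.1 j) := by
        funext j; simp [l₀, i₀]
      rw [this]
      exact Submodule.smul_mem _ _ (comp_mem_var P k₀ i₀ (qb I i₀) (qb_comp I i₀) c.2)
  have hcompare : ∀ v, d' ⟨_, hmem v⟩ =
      TensorProduct.piRight A A C (fun _ : Fin n => C ⊗[A] C) (LinearMap.lTensor C d v) := fun v => by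
    induction v using TensorProduct.induction_on with
    | zero =>
      refine (congrArg d' (Subtype.ext (map_zero _) : (⟨_, hmem 0⟩ :
        Var P rels (qm I (C ⊗[A] C)) (i₀.comp k₀)) = 0)).trans ?_
      simp
    | add a b ha hb =>
      refine (congrArg d' (Subtype.ext (map_add _ a b) : (⟨_, hmem (a + b)⟩ :
        Var P rels (qm I (C ⊗[A] C)) (i₀.comp k₀)) = ⟨_, hmem a⟩ + ⟨_, hmem b⟩)).trans ?_
      rw [map_add d', ha, hb, map_add, map_add]
    | tmul b c =>
      let ci : Var P rels (qm I (C ⊗[A] C)) (i₀.comp k₀) :=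
        ⟨_, comp_mem_var P k₀ i₀ (qb I i₀) (qb_comp I i₀) c.2⟩
      have e : (⟨_, hmem (b ⊗ₜ[A] c)⟩ : Var P rels (qm I (C ⊗[A] C)) (i₀.comp k₀)) = l₀ b • ci :=
        Subtype.ext (funext fun j => by simp [ci, l₀, i₀])
      rw [e]
      show cob hp hpπ P hP hrels (hq (C ⊗[A] C)) (hq (C ⊗[A] (C ⊗[A] C))) r₁ r₂ (qb I r₁) (qb I r₂) (qb_comp I r₂) (i₀.comp k₀) hΨ (l₀ b • ci) = _
      rw [cob_smul hp hpπ P hP hrels (hq (C ⊗[A] C)) (hq (C ⊗[A] (C ⊗[A] C))) r₁ r₂ (qb I r₁) (qb I r₂) (qb_comp I r₂) (i₀.comp k₀) hΨ ci (l₀ b) (DFunLike.congr_fun hl b),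
        cob_natural hp hpπ P hP hrels (hq C) (hq (C ⊗[A] C)) p₁ p₂ (qb I p₁) (qb I p₂) (qb_comp I p₂) k₀ hΦ
          (hq (C ⊗[A] C)) (hq (C ⊗[A] (C ⊗[A] C))) i₀ (qb I i₀) (qb_comp I i₀) i₁ (qb I i₁) (qb_comp I i₁) r₁ r₂
          (qb I r₁) (qb I r₂) (qb_comp I r₂) hc₁ hc₂ (by rw [qb_qb, qb_qb, hc₁]) hΨ c]
      funext j
      simp [r₂, l₀, i₁, d, cobL, p₂, ← Algebra.TensorProduct.one_def]
  have hdx : LinearMap.lTensor C d v = (1 : C) ⊗ₜ[A] x := by
    refine (TensorProduct.piRight A A C (fun _ : Fin n => C ⊗[A] C)).injective ?_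
    rw [← hcompare, show (⟨_, hmem v⟩ : Var P rels (qm I (C ⊗[A] C)) (i₀.comp k₀)) = y from Subtype.ext hv, hy']
    funext j; simp [i₁]
  obtain ⟨δ, hδ⟩ : x ∈ LinearMap.range d := by
    rw [← Submodule.Quotient.mk_eq_zero]
    apply Module.FaithfullyFlat.tensorProduct_mk_injective (A := A) (B := C) (_ ⧸ LinearMap.range d)
    rw [map_zero]
    have h := congrArg (LinearMap.lTensor C (LinearMap.range d).mkQ) hdx
    rw [← LinearMap.lTensor_comp_apply, LinearMap.range_mkQ_comp, LinearMap.lTensor_zero, LinearMap.zero_apply] at h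
    simpa using h.symm
  obtain ⟨k, hk, vk⟩ := exists_vary P hP hrels (hq C) k₀ δ.2
  refine ⟨k, hk, ?_⟩
  have e : snd₁ hp hpπ (hq (C ⊗[A] C)) p₂ (qb I p₁) (qb I p₂) (qb_comp I p₂) k₀ hΦ k hk = p₁.comp k := by
    refine gen_ext P hP fun j => ?_
    have h1 := congrFun ((cob_eq hp hpπ P hP hrels (hq C) (hq (C ⊗[A] C)) p₁ p₂ (qb I p₁) (qb I p₂) (qb_comp I p₂) k₀ hΦ δ hk vk).symm.trans hδ) j
    have h2 := congrFun vk j
    simp only [x, bT, val, Pi.sub_apply, Pi.add_apply, AlgHom.comp_apply] at h1 h2 ⊢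
    rw [h2, map_add]
    linear_combination -h1
  rw [← show (p₁.comp k) = (Algebra.TensorProduct.includeLeft : C →ₐ[A] C ⊗[A] C).comp k from rfl, ← e]
  exact (tr_spec hp hpπ _ _ _ _).2

end Torsor
end Groth.Agent.SpFP87
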