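import Groth.Agent.SpFP87.ThickAffineGpd
/-!
A groupoid with a model is that of a faithfully flat cover of the ring of invariants.
-/

set_option autoImplicit false
set_option backward.isDefEq.respectTransparency false
universe u
open TensorProduct

namespace Groth.Agent.SpFP87.ThickAffine

variable {B R R3 : Type u} [CommRing B] [CommRing R] [CommRing R3] (s t : B →+* R)
  (p01 p02 p12 : R →+* R3) (h1 : ∀ b, p01 (t b) = p12 (s b)) (h2 : ∀ b, p01 (s b) = p02 (s b))
  (h3 : ∀ b, p12 (t b) = p02 (t b))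

include h1 h2 h3 in
/-- The ring of invariants, with its cover. -/
theorem exists_quotient (hpush : IsPush s t p01 p12) (e : R →+* B) (hes : ∀ b, e (s b) = b)
    (σ : R3 →+* R) (hσ1 : ∀ r, σ (p01 r) = s (e r)) (hσ2 : ∀ r, σ (p02 r) = r)
    {A' : Subring B} {C : Type u} [CommRing C] [Algebra A' C] [Algebra.Etale A' C] [Module.FaithfullyFlat A' C]
    (heq : ∀ a : A', s (a : B) = t (a : B)) (γ : C →ₐ[A'] B) (Ψ : B ⊗[A'] C →+* R)
    (hΨ : ∀ x c, Ψ (x ⊗ₜ c) = t x * s (γ c)) (hΨb : Function.Bijective Ψ) :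
    ∃ A₂ : Subring B, (∀ a : A₂, s (a : B) = t (a : B)) ∧ Algebra.Etale A₂ B ∧ Module.FaithfullyFlat A₂ B ∧
      ∃ Θ : B ⊗[A₂] B →+* R, (∀ x y, Θ (x ⊗ₜ y) = t x * s y) ∧ Function.Bijective Θ := by
  let sA : B →ₐ[A'] Via s :=
    { (Via.into s).comp s with commutes' := fun a => rfl }
  let tA : B →ₐ[A'] Via s :=
    { (Via.into s).comp t with commutes' := fun a => congrArg (Via.into s) (heq a).symm }
  let A₂ : Subalgebra A' B := AlgHom.equalizer sA tA
  have hA₂ : ∀ a : A₂, s (a : B) = t (a : B) := fun a => congrArg Via.out a.2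
  -- the relation is the model
  let eΨ : B ⊗[A'] C ≃ₐ[B] Via t := AlgEquiv.ofRingEquiv
    (f := (RingEquiv.ofBijective ((Via.into t).comp Ψ) hΨb : B ⊗[A'] C ≃+* Via t)) fun x => by
      change Ψ (x ⊗ₜ 1) = t x
      rw [hΨ, map_one, map_one, mul_one]
  obtain ⟨φ, hφ, hφb⟩ := hpush
  let E : Via s ⊗[A'] C ≃ₗ[A'] Via t ⊗[B] Via s :=
    ((TensorProduct.AlgebraTensorModule.cancelBaseChange A' B B (Via s) C).symm.trans
      ((TensorProduct.congr (LinearEquiv.refl B (Via s)) eΨ.toLinearEquiv).trans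
        (TensorProduct.comm B (Via s) (Via t)))).restrictScalars A'
  let Φ : Via s ⊗[A'] C →+ R3 := φ.toAddMonoidHom.comp E.toLinearMap.toAddMonoidHom
  have hΦ : ∀ r c, Φ (r ⊗ₜ c) = p01 (s (γ c)) * p12 (Via.out r) := fun r c => by
    change φ (TensorProduct.comm B (Via s) (Via t) (TensorProduct.congr (LinearEquiv.refl B (Via s))
      eΨ.toLinearEquiv ((TensorProduct.AlgebraTensorModule.cancelBaseChange A' B B (Via s) C).symm (r ⊗ₜ c)))) = _
    rw [TensorProduct.AlgebraTensorModule.cancelBaseChange_symm_tmul, TensorProduct.congr_tmul,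
      TensorProduct.comm_tmul, hφ]
    change p01 (Ψ (1 ⊗ₜ c)) * _ = _
    rw [hΨ, map_one, one_mul]
    rfl
  have hΦi : Function.Injective Φ := hφb.1.comp E.injective
  have hΦs : ∀ y, Φ (sA.toLinearMap.rTensor C y) = p01 (Ψ y) := fun y => by
    induction y using TensorProduct.induction_on with
    | zero => simp
    | tmul x c =>
      rw [LinearMap.rTensor_tmul, hΦ, hΨ, map_mul, h1, mul_comm]
      rfl
    | add x y hx hy => rw [map_add, map_add, hx, hy, map_add, map_add]
  have hΦt : ∀ y, Φ (tA.toLinearMap.rTensor C y) = p02 (Ψ y) := fun y => by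
    induction y using TensorProduct.induction_on with
    | zero => simp
    | tmul x c =>
      rw [LinearMap.rTensor_tmul, hΦ, hΨ, map_mul, ← h2, ← h3, mul_comm]
      rfl
    | add x y hx hy => rw [map_add, map_add, hx, hy, map_add, map_add]
  -- the cover of the invariants
  let j : A₂ ⊗[A'] C →ₐ[A₂] B := Algebra.TensorProduct.lift (Algebra.ofId A₂ B) γ fun _ _ => Commute.all _ _
  have hjΨ : ∀ z, Ψ (A₂.val.toLinearMap.rTensor C z) = s (j z) := fun z => by
    induction z using TensorProduct.induction_on with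
    | zero => simp
    | tmul a c =>
      rw [LinearMap.rTensor_tmul, hΨ, show (j (a ⊗ₜ c)) = (a : B) * γ c from
        Algebra.TensorProduct.lift_tmul _ _ _ _ _, map_mul, hA₂ a]
      rfl
    | add x y hx hy => rw [map_add, map_add, hx, hy, map_add, map_add]
  have hex : Function.Exact A₂.val.toLinearMap (sA.toLinearMap - tA.toLinearMap) := fun b => by
    rw [LinearMap.sub_apply, sub_eq_zero]
    exact ⟨fun h => ⟨⟨b, h⟩, rfl⟩, fun ⟨a, ha⟩ => ha ▸ a.2⟩
  have hj : Function.Bijective j := by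
    refine ⟨(injective_iff_map_eq_zero _).2 fun z hz => ?_, fun b => ?_⟩
    · apply Module.Flat.rTensor_preserves_injective_linearMap (M := C) A₂.val.toLinearMap Subtype.val_injective
      rw [map_zero]
      exact hΨb.1 (by rw [hjΨ, hz, map_zero, map_zero])
    · obtain ⟨y, hy⟩ := hΨb.2 (s b)
      have hy0 : (sA.toLinearMap - tA.toLinearMap).rTensor C y = 0 := by
        rw [LinearMap.rTensor_sub, LinearMap.sub_apply, sub_eq_zero]
        exact hΦi (by rw [hΦs, hΦt, hy, h2])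
      obtain ⟨z, hz⟩ := ((Module.Flat.rTensor_exact C hex) y).1 hy0
      refine ⟨z, ?_⟩
      rw [← hes (j z), ← hjΨ, hz, hy, hes]
  let ej : A₂ ⊗[A'] C ≃ₐ[A₂] B := AlgEquiv.ofBijective j hj
  haveI : Algebra.Etale A₂ B := Algebra.Etale.of_equiv (R := A₂) (A := A₂ ⊗[A'] C) ej
  haveI : Module.FaithfullyFlat A₂ B := Module.FaithfullyFlat.of_linearEquiv _ (A₂ ⊗[A'] C) ej.toLinearEquiv.symm
  let Θ₀ : B ⊗[A₂] B ≃ₐ[B] B ⊗[A'] C :=
    (Algebra.TensorProduct.congr (AlgEquiv.refl : B ≃ₐ[B] B) ej.symm).trans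
      (Algebra.TensorProduct.cancelBaseChange A' A₂ B B C)
  refine ⟨A₂.toSubring, hA₂, ‹Algebra.Etale A₂ B›, ‹Module.FaithfullyFlat A₂ B›, ?_⟩
  refine ⟨Ψ.comp Θ₀.toRingEquiv.toRingHom, fun (x : B) (y : B) => ?_, hΨb.comp Θ₀.bijective⟩
  obtain ⟨z, rfl⟩ := hj.2 y
  change Ψ (Algebra.TensorProduct.cancelBaseChange A' A₂ B B C (x ⊗ₜ[A₂] ej.symm (ej z))) = _
  rw [AlgEquiv.symm_apply_apply]
  induction z using TensorProduct.induction_on with
  | zero => simp
  | tmul a c =>
    rw [Algebra.TensorProduct.cancelBaseChange_tmul, hΨ, show (j (a ⊗ₜ c)) = (a : B) * γ c from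
      Algebra.TensorProduct.lift_tmul _ _ _ _ _, show a • x = (a : B) * x from rfl, map_mul, map_mul, hA₂ a]
    ring
  | add u v hu hv => rw [tmul_add, map_add, map_add, hu, hv, map_add, map_add, mul_add]

end Groth.Agent.SpFP87.ThickAffine
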