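import Groth.Agent.SpProper61.AffineSteps
/-!
Climbing a space with compact relations (no hypothesis on the base), after `SpProper61.climb`.
-/

universe u

set_option autoImplicit false
set_option backward.isDefEq.respectTransparency false

open CategoryTheory CategoryTheory.Limits AlgebraicGeometry Topology
open AlgSp Groth.Agent.SpFP87 Groth.Agent.SpPts86 Groth.Agent.SpProper61

namespace Groth.Agent.SpFP87.ThickAffine

variable {S : Scheme.{u}}

theorem climb_of_compact (Y : Space S) [CompactSpace (Points Y.obj)]
    (hrel : ∀ (U R : Over S) (a : (yon S).obj U ⟶ Y.obj) (t s : R ⟶ U), IsAffine U.left → RepWith @Etale a →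
      IsPullback ((yon S).map t) ((yon S).map s) a a → CompactSpace ↥R.left) (Φ : Set (Points Y.obj) → Prop) {O₀ : Set (Points Y.obj)}
    (ho : IsOpen O₀) (hc : IsCompact O₀) (h₀ : Φ O₀)
    (hstep : ∀ O O' T g, O₀ ⊆ O → AffStep O O' T g → Φ O → Φ O') : Φ Set.univ := by
  classical
  obtain ⟨U, a, hU, ha, has⟩ := exists_affine_chart_of_compactSpace Y.property
  obtain ⟨R, t, s, sq⟩ := exists_isPullback_yon Y.property.diag a a
  have := hrel U R a t s hU ha sq
  obtain ⟨N, hN⟩ := exists_Uset_eq_empty ha sq
  have hqca := repWith_quasiCompact_of_relation ha has sq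
  have cpt : ∀ n, IsCompact (Uset a (n + 1)) := fun n => by
    obtain ⟨W, -, -, hW⟩ := exists_dtup ha n
    have := hW hqca
    rw [show Uset a (n + 1) = Set.range (Points.ofPt ((yon S).map (W.π 0) ≫ a)) from
      Set.ext fun x => mem_Uset_iff W x]
    exact isCompact_range (Points.continuous_ofPt _)
  have main : ∀ m n, N = n + m → Φ (O₀ ∪ Uset a (n + 1)) := by
    intro m
    induction m with
    | zero =>
      intro n hn
      rw [show n = N from hn.symm, hN, Set.union_empty]
      exact h₀
    | succ m ih =>
      intro n hn
      obtain ⟨W, V, μ, f, -, hme, hms, hf, hfm, hinv, hcp⟩ := exists_tuple_quot ha n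
      have hVc : CompactSpace ↥V.left := (hcp hqca).2
      have hr : Set.range (Points.ofPt f) = Uset a (n + 1) := by
        ext x
        rw [mem_Uset_iff W, ← hfm]
        exact ⟨fun ⟨v, hv⟩ => by
          obtain ⟨w, rfl⟩ := μ.left.surjective v
          exact ⟨w, by rw [ofPt_comp, hv]⟩, fun ⟨w, hw⟩ => ⟨μ.left w, by rw [← hw, ofPt_comp]⟩⟩
      let C : Finset V.left.affineOpens → Set (Points Y.obj) := fun s =>
        (O₀ ∪ Uset a (n + 2)) ∪ ⋃ A ∈ s, Points.ofPt f '' ((A.1 : V.left.Opens) : Set ↥V.left)
      have hCo : ∀ s, IsOpen (C s) := fun s => (ho.union (isOpen_Uset ha _)).union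
        (isOpen_biUnion fun A _ => isOpenMap_ofPt hf _ A.1.isOpen)
      have hCc : ∀ s, IsCompact (C s) := fun s => (hc.union (cpt _)).union
        (s.isCompact_biUnion fun A _ => (A.2.isCompact).image (Points.continuous_ofPt f))
      have hC : ∀ s, Φ (C s) := by
        intro s
        induction s using Finset.induction with
        | empty =>
          simp only [C, Finset.notMem_empty, Set.iUnion_false, Set.iUnion_empty, Set.union_empty]
          exact ih (n + 1) (by omega)
        | insert A s _ ihs =>
          let T : Over S := Over.mk (A.1.ι ≫ V.hom)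
          let ι : T ⟶ V := Over.homMk A.1.ι rfl
          have : Etale ι.left := inferInstanceAs (Etale A.1.ι)
          refine hstep (C s) (C (insert A s)) T ((yon S).map ι ≫ f)
            (Set.subset_union_left.trans Set.subset_union_left)
            ⟨hCo s, hCc s, hCo _, hCc _, A.2, repWith_etale_comp ι hf, ?_, ?_⟩ ihs
          · have : Set.range (Points.ofPt ((yon S).map ι ≫ f)) = Points.ofPt f '' (A.1 : Set ↥V.left) := by
              rw [← show Set.range ι.left = (A.1 : Set ↥V.left) from A.1.range_ι, ← Set.range_comp]
              exact congrArg Set.range (funext fun v => ofPt_comp ι f v)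
            rw [this]
            simp only [C, Finset.set_biUnion_insert]
            ext x
            simp only [Set.mem_union]
            tauto
          · intro K _ _ str v₁ v₂ t e h
            have hv : v₁ ≫ ι = v₂ ≫ ι := quot_point_eq W μ f hme hms hfm hinv _ _
              (by rw [Functor.map_comp, Functor.map_comp, Category.assoc, Category.assoc, e]) t
              (fun hh => h (.inl (.inr (by rw [← Category.assoc, ← Functor.map_comp]; exact hh))))
            have : Mono ι.left := inferInstanceAs (Mono A.1.ι)
            exact Over.OverMorphism.ext ((cancel_mono ι.left).1 (congrArg CommaMorphism.left hv))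
      obtain ⟨s, hs⟩ := isCompact_univ.elim_finite_subcover (fun A : V.left.affineOpens => ((A.1 : V.left.Opens) : Set ↥V.left))
        (fun A => A.1.isOpen) fun v _ => by
          obtain ⟨A, hA, hv, -⟩ := exists_isAffineOpen_mem_and_subset (x := v) (U := (⊤ : V.left.Opens)) trivial
          exact Set.mem_iUnion.2 ⟨⟨A, hA⟩, hv⟩
      convert hC s using 1
      ext x
      simp only [C, Set.mem_union, Set.mem_iUnion₂]
      constructor
      · rintro (h | h)
        · exact .inl (.inl h)
        · obtain ⟨v, rfl⟩ := hr.ge h
          obtain ⟨A, hA, hv⟩ := Set.mem_iUnion₂.1 (hs (Set.mem_univ v))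
          exact .inr ⟨A, hA, v, hv, rfl⟩
      · rintro ((h | h) | ⟨A, -, v, -, rfl⟩)
        · exact .inl h
        · exact .inr (Uset_succ_subset _ h)
        · exact .inr (hr.le ⟨v, rfl⟩)
  have := main N 0 (by omega)
  rwa [Uset_one has, Set.union_univ] at this

end Groth.Agent.SpFP87.ThickAffine
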