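import Groth.Agent.SpFP87.ThickAffineSys
import Groth.Agent.SpFP87.ThickAffineClimb
/-!
Ideals of finite type containing given sections of the ideal of a thickening.
-/

set_option autoImplicit false
set_option linter.style.haveILetI false
set_option backward.isDefEq.respectTransparency false
universe u
open CategoryTheory CategoryTheory.Limits AlgebraicGeometry
open AlgSp Groth.Agent.SpPts86 Groth.Agent.SpProper61

namespace Groth.Agent.SpFP87.ThickAffine

/-- An ideal of finite type in an extended ideal is in the extension of one of finite type. -/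
theorem exists_fg_le_map {A B : Type u} [CommRing A] [CommRing B] (f : A →+* B) (K : Ideal A) {J : Ideal B}
    (hJ : J.FG) (hle : J ≤ K.map f) : ∃ L : Ideal A, L.FG ∧ L ≤ K ∧ J ≤ L.map f := by
  classical
  obtain ⟨G, rfl⟩ := hJ
  have : ∀ y ∈ G, ∃ L : Ideal A, L.FG ∧ L ≤ K ∧ y ∈ L.map f := fun y hy => by
    obtain ⟨T, hT, hx⟩ := Submodule.mem_span_finite_of_mem_span (hle (Ideal.subset_span hy))
    choose! r hr hre using fun z (hz : z ∈ T) => hT hz
    refine ⟨Ideal.span (T.image r), ⟨_, rfl⟩, Ideal.span_le.2 ?_, Submodule.span_le.2 ?_ hx⟩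
    · intro z hz
      obtain ⟨w, hw, rfl⟩ := Finset.mem_image.1 hz
      exact hr w hw
    · intro z hz
      exact hre z hz ▸ Ideal.mem_map_of_mem _ (Ideal.subset_span (Finset.mem_image_of_mem r hz))
  choose! L hL hLK hyL using this
  refine ⟨G.sup L, Submodule.fg_finset_sup G _ hL, Finset.sup_le hLK, Ideal.span_le.2 fun y hy => ?_⟩
  exact Ideal.map_mono (Finset.le_sup hy) (hyL y hy)

variable {S : Scheme.{u}} {X₀ : Over S} [IsAffine X₀.left] {X' : Sp S} {i : (yon S).obj X₀ ⟶ X'}
  {hi : IsThickMor i}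

theorem compactSpace_of_thick (hi : IsThickMor i) : CompactSpace (Points X') := by
  haveI : CompactSpace (Points ((yon S).obj X₀)) := (Points.schemeHomeo X₀).compactSpace
  exact (surjective_map_of_thick hi).compactSpace (Points.continuous_map i)

theorem exists_finite_charts (hi : IsThickMor i) (hX' : IsAlgSpace X') {O : Set (Points X')} (hO : IsOpen O)
    (hc : IsCompact O) :
    ∃ (ι : Type u) (_ : Finite ι) (T : ι → Over S) (_ : ∀ k, IsAffine (T k).left)
      (c : ∀ k, (yon S).obj (T k) ⟶ X'), (∀ k, RepWith @Etale (c k)) ∧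
        (∀ k, Set.range (Points.ofPt (c k)) ⊆ O) ∧ ∀ x ∈ O, ∃ k, x ∈ Set.range (Points.ofPt (c k)) := by
  classical
  haveI := compactSpace_of_thick hi
  obtain ⟨U, a, hU, ha, has⟩ := exists_affine_chart_of_compactSpace hX'
  let D : Γ(U.left, ⊤) → Set ↥U.left := fun x =>
    Set.range (specPt U (algebraMap Γ(U.left, ⊤) (Localization.Away x))).left
  have hD : ∀ x, IsOpen (D x) := fun x => by
    haveI := etale_specPt (V := U) (etale_algebraMap_away x)
    exact (specPt U (algebraMap Γ(U.left, ⊤) (Localization.Away x))).left.isOpenMap.isOpen_range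
  have hbase : ∀ p ∈ O, ∃ x, p ∈ Points.ofPt a '' D x ∧ D x ⊆ Points.ofPt a ⁻¹' O := by
    intro p hp
    obtain ⟨u', rfl⟩ := (surjective_ofPt has) p
    have hW : IsOpen (Points.ofPt a ⁻¹' O) := hO.preimage (Points.continuous_ofPt a)
    have hmem : (U.left.isoSpec.hom u' : PrimeSpectrum Γ(U.left, ⊤)) ∈
        U.left.isoSpec.inv ⁻¹' (Points.ofPt a ⁻¹' O) := by
      change Points.ofPt a (U.left.isoSpec.inv (U.left.isoSpec.hom u')) ∈ O
      rwa [show U.left.isoSpec.inv (U.left.isoSpec.hom u') = u' from congr($(U.left.isoSpec.hom_inv_id) u')]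
    obtain ⟨_, ⟨x, rfl⟩, hzx, hxW⟩ := PrimeSpectrum.isTopologicalBasis_basic_opens.exists_subset_of_mem_open
      hmem (hW.preimage U.left.isoSpec.inv.continuous)
    refine ⟨x, ⟨u', (range_specPt_away x u').2 hzx, rfl⟩, fun y hy => ?_⟩
    have := hxW ((range_specPt_away x y).1 hy)
    change Points.ofPt a (U.left.isoSpec.inv (U.left.isoSpec.hom y)) ∈ O at this
    rwa [show U.left.isoSpec.inv (U.left.isoSpec.hom y) = y from congr($(U.left.isoSpec.hom_inv_id) y)] at this
  choose! x hx hxO using hbase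
  obtain ⟨G, hG⟩ := hc.elim_finite_subcover (fun p : O => Points.ofPt a '' D (x p))
    (fun p => isOpenMap_ofPt ha _ (hD _)) fun p hp => Set.mem_iUnion.2 ⟨⟨p, hp⟩, hx p hp⟩
  have hr : ∀ p : O, Set.range (Points.ofPt ((yon S).map (specPt U (algebraMap Γ(U.left, ⊤)
      (Localization.Away (x p)))) ≫ a)) = Points.ofPt a '' D (x p) := fun p => by
    rw [← Set.range_comp]
    exact congrArg Set.range (funext fun v => ofPt_comp _ a v)
  let G' : Finset Γ(U.left, ⊤) := G.image fun p : O => x p.1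
  refine ⟨{k // k ∈ G'}, inferInstance, fun k => PT U (algebraMap Γ(U.left, ⊤) (Localization.Away k.1)),
    fun k => inferInstance,
    fun k => (yon S).map (specPt U (algebraMap Γ(U.left, ⊤) (Localization.Away k.1))) ≫ a,
    fun k => ?_, fun k => ?_, fun p hp => ?_⟩
  · haveI := etale_specPt (V := U) (etale_algebraMap_away k.1)
    exact repWith_etale_comp _ ha
  · obtain ⟨y, hy⟩ := k
    obtain ⟨p, -, rfl⟩ := Finset.mem_image.1 hy
    exact (hr p).le.trans (Set.image_subset_iff.2 (hxO _ p.2))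
  · obtain ⟨q, hq, hpq⟩ := Set.mem_iUnion₂.1 (hG hp)
    exact ⟨⟨x q.1, Finset.mem_image_of_mem _ hq⟩, by rw [hr]; exact hpq⟩

theorem isCompact_preimage (hi : IsThickMor i) (hX' : IsAlgSpace X') {O : Set (Points X')} (hO : IsOpen O)
    (hc : IsCompact O) {T : Over S} [IsAffine T.left] (g : (yon S).obj T ⟶ X') :
    IsCompact (Points.ofPt g ⁻¹' O) := by
  obtain ⟨ι, _, V, hV, c, hce, hcO, hcov⟩ := exists_finite_charts hi hX' hO hc
  choose P p q sq using fun k => exists_isPullback_yon hX'.diag g (c k)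
  haveI := fun k => isAffine_prod hi (sq k)
  have : Points.ofPt g ⁻¹' O = ⋃ k, Set.range (p k).left := by
    ext x
    constructor
    · intro hx
      obtain ⟨k, y, hy⟩ := hcov _ hx
      obtain ⟨z, hz, -⟩ := exists_of_isPullback (sq k) (Points.ofScheme T x) (Points.ofScheme (V k) y) (by
        rw [← Points.ofPt_eq_map_ofScheme, ← Points.ofPt_eq_map_ofScheme, hy])
      obtain ⟨w, rfl⟩ := (Points.schemeHomeo (P k)).surjective z
      refine Set.mem_iUnion.2 ⟨k, w, (Points.schemeHomeo T).injective ?_⟩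
      show Points.ofScheme T ((p k).left w) = Points.ofScheme T x
      rw [← hz]
      exact (ofPt_comp (p k) (𝟙 _) w).symm.trans (by rw [Category.comp_id, Points.ofPt_eq_map_ofScheme]; rfl)
    · rintro hx
      obtain ⟨k, w, rfl⟩ := Set.mem_iUnion.1 hx
      refine hcO k ⟨(q k).left w, ?_⟩
      rw [← ofPt_comp, ← ofPt_comp, (sq k).w]
  rw [this]
  exact isCompact_iUnion fun k => isCompact_range (p k).left.continuous

/-- Systems agreeing on a cover agree. -/
theorem IsSys.eq_of_cover {O O' : Set (Points X')} {J J' : IdFun X'} (hJ : IsSys hi O J) (hJ' : IsSys hi O' J')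
    (hX' : IsAlgSpace X') {ι : Type u} (V : ι → Over S) [∀ k, IsAffine (V k).left]
    (c : ∀ k, (yon S).obj (V k) ⟶ X') (hc : ∀ k, RepWith @Etale (c k))
    (hcO : ∀ k, Set.range (Points.ofPt (c k)) ⊆ O) (hcO' : ∀ k, Set.range (Points.ofPt (c k)) ⊆ O')
    (hcov : ∀ x ∈ O, ∃ k, x ∈ Set.range (Points.ofPt (c k)))
    (heq : ∀ k, J (V k) (c k) = J' (V k) (c k))
    {T : Over S} [IsAffine T.left] {g : (yon S).obj T ⟶ X'} (hg : RepWith @Etale g)
    (hgO : Set.range (Points.ofPt g) ⊆ O) (hgO' : Set.range (Points.ofPt g) ⊆ O') : J T g = J' T g := by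
  have key : ∀ x, ∃ (Q : Over S) (_ : IsAffine Q.left) (r : Q ⟶ T), Flat r.left ∧ x ∈ Set.range r.left ∧
      (J T g).map r.left.appTop.hom = (J' T g).map r.left.appTop.hom := by
    intro x
    obtain ⟨k, y, hy⟩ := hcov _ (hgO ⟨x, rfl⟩)
    obtain ⟨P, p, q, sq⟩ := exists_isPullback_yon hX'.diag g (c k)
    haveI := isAffine_prod hi sq
    obtain ⟨z, hz, -⟩ := exists_of_isPullback sq (Points.ofScheme T x) (Points.ofScheme (V k) y) (by
      rw [← Points.ofPt_eq_map_ofScheme, ← Points.ofPt_eq_map_ofScheme, hy])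
    obtain ⟨w, rfl⟩ := (Points.schemeHomeo P).surjective z
    haveI : Etale p.left := etale_snd_of_isPullback sq.flip (hc k)
    haveI : Etale q.left := etale_snd_of_isPullback sq hg
    refine ⟨P, inferInstance, p, inferInstance, ⟨w, (Points.schemeHomeo T).injective ?_⟩, ?_⟩
    · show Points.ofScheme T (p.left w) = Points.ofScheme T x
      rw [← hz]
      exact (ofPt_comp p (𝟙 _) w).symm.trans (by rw [Category.comp_id, Points.ofPt_eq_map_ofScheme]; rfl)
    · rw [← hJ.nat' hg hgO p (g' := (yon S).map q ≫ c k) sq.w, ← hJ'.nat' hg hgO' p (g' := (yon S).map q ≫ c k) sq.w,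
        hJ.nat' (hc k) (hcO k) q rfl, hJ'.nat' (hc k) (hcO' k) q rfl, heq]
  refine le_antisymm (ideal_le_of_cover fun x => ?_) (ideal_le_of_cover fun x => ?_)
  · obtain ⟨Q, hQ, r, hr, hx, he⟩ := key x; exact ⟨Q, hQ, r, hr, hx, he.le⟩
  · obtain ⟨Q, hQ, r, hr, hx, he⟩ := key x; exact ⟨Q, hQ, r, hr, hx, he.ge⟩

/-- The value of a system on a chart given by a ring map. -/
noncomputable def sysI (J : IdFun X') {T : Over S} [IsAffine T.left] (g : (yon S).obj T ⟶ X') {C : Type u}
    [CommRing C] (ψ : Γ(T.left, ⊤) →+* C) : Ideal C :=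
  (J (PT T ψ) ((yon S).map (specPt T ψ) ≫ g)).map (gam C).toRingHom

variable {O : Set (Points X')} {J : IdFun X'} {T : Over S} [IsAffine T.left] {g : (yon S).obj T ⟶ X'}
  {C : Type u} [CommRing C] {ψ : Γ(T.left, ⊤) →+* C}

theorem repWith_etale_specPt (hg : RepWith @Etale g) (hψ : ψ.Etale) :
    RepWith @Etale ((yon S).map (specPt T ψ) ≫ g) := by
  haveI := etale_specPt (V := T) hψ
  exact repWith_etale_comp _ hg

theorem sysI_le (hJ : IsSys hi O J) (hg : RepWith @Etale g) (hψ : ψ.Etale)
    (hO : Set.range (Points.ofPt ((yon S).map (specPt T ψ) ≫ g)) ⊆ O) :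
    sysI J g ψ ≤ (preIdeal (closed_of_thick hi) g).map ψ := by
  refine (Ideal.map_mono (hJ.le _ _ (repWith_etale_specPt hg hψ) hO)).trans (le_of_eq ?_)
  rw [preIdeal_comp, Ideal.map_map, gam_specPt]

theorem sysI_fg (hJ : IsSys hi O J) (hg : RepWith @Etale g) (hψ : ψ.Etale)
    (hO : Set.range (Points.ofPt ((yon S).map (specPt T ψ) ≫ g)) ⊆ O) : (sysI J g ψ).FG :=
  (hJ.fg _ _ (repWith_etale_specPt hg hψ) hO).map _

theorem sysI_nat (hJ : IsSys hi O J) (hg : RepWith @Etale g) (hψ : ψ.Etale)
    (hO : Set.range (Points.ofPt ((yon S).map (specPt T ψ) ≫ g)) ⊆ O) {C' : Type u} [CommRing C']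
    (χ : C →+* C') (hχ : (χ.comp ψ).Etale) : sysI J g (χ.comp ψ) = (sysI J g ψ).map χ := by
  obtain ⟨w, hw, hwΓ⟩ := exists_PT_hom ψ χ
  have he : (yon S).map w ≫ (yon S).map (specPt T ψ) ≫ g = (yon S).map (specPt T (χ.comp ψ)) ≫ g := by
    rw [← Category.assoc, ← Functor.map_comp, hw]
  rw [sysI, ← he, hJ.nat _ _ (repWith_etale_specPt hg hψ) hO _ w (he ▸ repWith_etale_specPt hg hχ),
    Ideal.map_map, hwΓ, ← Ideal.map_map]
  rfl

theorem sysI_eq_map (hJ : IsSys hi O J) (hg : RepWith @Etale g) (hgO : Set.range (Points.ofPt g) ⊆ O)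
    (hψ : ψ.Etale) : sysI J g ψ = (J T g).map ψ := by
  rw [sysI, hJ.nat T g hg hgO _ _ (repWith_etale_specPt hg hψ), Ideal.map_map, gam_specPt]

theorem sysI_comp (hJ : IsSys hi O J) (hg : RepWith @Etale g) {W : Over S} [IsAffine W.left] (a : W ⟶ T)
    {D : Type u} [CommRing D] (φ : Γ(W.left, ⊤) →+* D) (hφ : (φ.comp a.left.appTop.hom).Etale)
    (hO : Set.range (Points.ofPt ((yon S).map (specPt T (φ.comp a.left.appTop.hom)) ≫ g)) ⊆ O) :
    sysI J ((yon S).map a ≫ g) φ = sysI J g (φ.comp a.left.appTop.hom) := by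
  obtain ⟨w, hw, hwΓ⟩ := exists_PT_iso a φ
  haveI : IsIso w.hom.left := inferInstanceAs (IsIso ((Over.forget S).map w.hom))
  have he : (yon S).map w.hom ≫ (yon S).map (specPt T (φ.comp a.left.appTop.hom)) ≫ g =
      (yon S).map (specPt W φ) ≫ (yon S).map a ≫ g := by
    rw [← Category.assoc, ← Functor.map_comp, hw, Functor.map_comp, Category.assoc]
  rw [sysI, hJ.nat' (repWith_etale_specPt hg hφ) hO w.hom he, Ideal.map_map, hwΓ]
  rfl

/-- A property of systems: prescribed sections can be enlarged to a system on `O`. -/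
def Extends (hi : IsThickMor i) (O : Set (Points X')) : Prop :=
  ∀ (H : Over S) [IsAffine H.left] (h : (yon S).obj H ⟶ X'), RepWith @Etale h →
    Set.range (Points.ofPt h) ⊆ O → ∀ J₀ : Ideal Γ(H.left, ⊤), J₀.FG →
      J₀ ≤ preIdeal (closed_of_thick hi) h → ∃ J, IsSys hi O J ∧ J₀ ≤ J H h

theorem exists_sys_finset {O : Set (Points X')} (hE : Extends hi O) {κ : Type u} [Finite κ] (D : κ → Over S)
    [∀ k, IsAffine (D k).left] (d : ∀ k, (yon S).obj (D k) ⟶ X') (hd : ∀ k, RepWith @Etale (d k))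
    (hdO : ∀ k, Set.range (Points.ofPt (d k)) ⊆ O) (I : ∀ k, Ideal Γ((D k).left, ⊤)) (hI : ∀ k, (I k).FG)
    (hle : ∀ k, I k ≤ preIdeal (closed_of_thick hi) (d k)) :
    ∃ J, IsSys hi O J ∧ ∀ k, I k ≤ J (D k) (d k) := by
  classical
  have := Fintype.ofFinite κ
  suffices ∀ s : Finset κ, ∃ J, IsSys hi O J ∧ ∀ k ∈ s, I k ≤ J (D k) (d k) by
    obtain ⟨J, hJ, h⟩ := this Finset.univ
    exact ⟨J, hJ, fun k => h k (Finset.mem_univ k)⟩
  intro s
  induction s using Finset.induction with
  | empty => exact ⟨_, isSys_bot hi O, fun k hk => absurd hk (Finset.notMem_empty k)⟩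
  | insert k s _ ih =>
    obtain ⟨J, hJ, h⟩ := ih
    obtain ⟨J', hJ', h'⟩ := hE (D k) (d k) (hd k) (hdO k) (I k) (hI k) (hle k)
    refine ⟨_, isSys_sup hJ hJ', fun l hl => ?_⟩
    rcases Finset.mem_insert.1 hl with rfl | hl
    · exact h'.trans le_sup_right
    · exact (h l hl).trans le_sup_left

theorem extends_empty (hi : IsThickMor i) : Extends hi (∅ : Set (Points X')) := fun H _ h _ hO J₀ _ _ => by
  refine ⟨_, isSys_bot hi ∅, ?_⟩
  haveI : IsEmpty H.left := ⟨fun x => (hO ⟨x, rfl⟩).elim⟩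
  intro x _
  rw [Submodule.mem_bot]
  exact Subsingleton.elim _ _

/-- Two maps to a chart agreeing over the space agree near points outside `O`. -/
theorem exists_eq_near (hX' : IsAlgSpace X') (hg : RepWith @Etale g) (hinj : InjOutside O g) {Z : Over S}
    (a b : Z ⟶ T) (e : (yon S).map a ≫ g = (yon S).map b ≫ g) (z : Z.left)
    (hz : Points.ofPt g (a.left z) ∉ O) :
    ∃ W : Z.left.Opens, z ∈ W ∧ W.ι ≫ a.left = W.ι ≫ b.left := by
  obtain ⟨R, t, s, sq⟩ := exists_isPullback_yon hX'.diag g g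
  haveI : Etale t.left := etale_snd_of_isPullback sq.flip hg
  obtain ⟨l, hl⟩ := (yon S).map_surjective (sq.lift ((yon S).map a) ((yon S).map b) e)
  obtain ⟨δ, hδ⟩ := (yon S).map_surjective (sq.lift (𝟙 _) (𝟙 _) rfl)
  have hlt : l ≫ t = a := (yon S).map_injective (by rw [Functor.map_comp, hl, IsPullback.lift_fst])
  have hls : l ≫ s = b := (yon S).map_injective (by rw [Functor.map_comp, hl, IsPullback.lift_snd])
  have hδt : δ ≫ t = 𝟙 T := (yon S).map_injective (by
    rw [Functor.map_comp, hδ, IsPullback.lift_fst, CategoryTheory.Functor.map_id])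
  have hδs : δ ≫ s = 𝟙 T := (yon S).map_injective (by
    rw [Functor.map_comp, hδ, IsPullback.lift_snd, CategoryTheory.Functor.map_id])
  haveI : Etale (δ.left ≫ t.left) := by
    rw [← Over.comp_left, hδt]; exact inferInstanceAs (Etale (𝟙 T.left))
  haveI : Etale δ.left := Etale.of_comp δ.left t.left
  haveI : Mono (δ.left ≫ t.left) := by
    rw [← Over.comp_left, hδt]; exact inferInstanceAs (Mono (𝟙 T.left))
  haveI : Mono δ.left := mono_of_mono δ.left t.left
  haveI : IsOpenImmersion δ.left := IsOpenImmersion.of_flat_of_mono δ.left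
  let K : Type u := AlgebraicClosure (Z.left.residueField z)
  let σ : Spec (CommRingCat.of K) ⟶ Z.left :=
    Spec.map (CommRingCat.ofHom (algebraMap (Z.left.residueField z) K)) ≫ Z.left.fromSpecResidueField z
  obtain ⟨str, hstr⟩ : ∃ str, str = σ ≫ Z.hom := ⟨_, rfl⟩
  let G : Over.mk str ⟶ Z := Over.homMk σ hstr.symm
  have hσ : σ (IsLocalRing.closedPoint K : PrimeSpectrum K) = z := Scheme.fromSpecResidueField_apply z _
  have hab : G ≫ a = G ≫ b := hinj (G ≫ a) (G ≫ b) (IsLocalRing.closedPoint K : PrimeSpectrum K)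
    (by rw [Functor.map_comp, Functor.map_comp, Category.assoc, Category.assoc, e]) (by
      rw [Functor.map_comp, Category.assoc, ofPt_comp, ofPt_comp]
      change Points.ofPt g (a.left (σ _)) ∉ O
      rw [hσ]; exact hz)
  have hGl : G ≫ l = G ≫ a ≫ δ := (yon S).map_injective (sq.hom_ext (by
      rw [← Functor.map_comp, ← Functor.map_comp]
      exact congrArg (yon S).map (by simp only [Category.assoc, hlt, hδt, Category.comp_id])) (by
      rw [← Functor.map_comp, ← Functor.map_comp]
      exact congrArg (yon S).map (by simp only [Category.assoc, hls, hδs, Category.comp_id, hab])))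
  let W : Z.left.Opens := l.left ⁻¹ᵁ δ.left.opensRange
  refine ⟨W, ⟨a.left z, ?_⟩, ?_⟩
  · have := congrArg (fun φ : Over.mk str ⟶ R => φ.left (IsLocalRing.closedPoint K : PrimeSpectrum K)) hGl
    simp only [Over.comp_left, Scheme.Hom.comp_apply] at this
    change l.left (σ _) = δ.left (a.left (σ _)) at this
    rw [hσ] at this
    exact this.symm
  · obtain ⟨m, hm⟩ : ∃ m, m ≫ δ.left = W.ι ≫ l.left := ⟨IsOpenImmersion.lift δ.left (W.ι ≫ l.left) (by
      rintro _ ⟨w, rfl⟩
      exact w.2), IsOpenImmersion.lift_fac _ _ _⟩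
    have hδt' : δ.left ≫ t.left = 𝟙 T.left := by rw [← Over.comp_left, hδt]; rfl
    have hδs' : δ.left ≫ s.left = 𝟙 T.left := by rw [← Over.comp_left, hδs]; rfl
    rw [← hlt, ← hls, Over.comp_left, Over.comp_left, ← Category.assoc, ← Category.assoc, ← hm,
      Category.assoc, Category.assoc, hδt', hδs']

theorem extends_step (hi : IsThickMor i) (hX' : IsAlgSpace X') {Y : Space S} (hY : Y.obj = X')
    {O O' : Set (Points X')} {T : Over S} [IsAffine T.left] {g : (yon S).obj T ⟶ X'} (hg : RepWith @Etale g)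
    (hO : IsOpen O) (hOc : IsCompact O) (hinj : InjOutside O g)
    (hun : O ∪ Set.range (Points.ofPt g) = O') (hE : Extends hi O) : Extends hi O' := by
  classical
  intro H _ h hh hhO J₀ hJ₀ hJ₀K
  -- the piece over the new chart
  obtain ⟨P, p, q, sq⟩ := exists_isPullback_yon hX'.diag h g
  haveI := isAffine_prod hi sq
  haveI : Etale p.left := etale_snd_of_isPullback sq.flip hg
  haveI : Etale q.left := etale_snd_of_isPullback sq hh
  obtain ⟨L, hL, hLK, hJL⟩ := exists_fg_le_map q.left.appTop.hom (preIdeal (closed_of_thick hi) g)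
    (hJ₀.map p.left.appTop.hom) (by
      rw [← preIdeal_comp, ← sq.w, preIdeal_comp]
      exact Ideal.map_mono hJ₀K)
  obtain ⟨G, hGO, hGc⟩ := exists_finset_away (hO.preimage (Points.continuous_ofPt g))
    (isCompact_preimage hi hX' hO hOc g)
  obtain ⟨F, hFO, hFc⟩ := exists_finset_away (hO.preimage (Points.continuous_ofPt h))
    (isCompact_preimage hi hX' hO hOc h)
  have hDO : ∀ {V : Over S} [IsAffine V.left] (v : (yon S).obj V ⟶ X') (x : Γ(V.left, ⊤)),
      Set.range (specPt V (algebraMap Γ(V.left, ⊤) (Localization.Away x))).left ⊆ Points.ofPt v ⁻¹' O →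
      Set.range (Points.ofPt ((yon S).map (specPt V (algebraMap Γ(V.left, ⊤) (Localization.Away x))) ≫ v)) ⊆ O := by
    intro V _ v x hx
    rintro _ ⟨w, rfl⟩
    rw [ofPt_comp]
    exact hx ⟨w, rfl⟩
  -- a system on the old open
  obtain ⟨A, hA, hAG, hAF⟩ : ∃ A, IsSys hi O A ∧
      (∀ x ∈ G, L.map (algebraMap Γ(T.left, ⊤) (Localization.Away x)) ≤ sysI A g (algebraMap _ (Localization.Away x))) ∧
      (∀ x ∈ F, J₀.map (algebraMap Γ(H.left, ⊤) (Localization.Away x)) ≤ sysI A h (algebraMap _ (Localization.Away x))) := by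
    let D : {x // x ∈ G} ⊕ {x // x ∈ F} → Over S := Sum.elim
      (fun x => PT T (algebraMap Γ(T.left, ⊤) (Localization.Away x.1)))
      (fun x => PT H (algebraMap Γ(H.left, ⊤) (Localization.Away x.1)))
    let d : ∀ k, (yon S).obj (D k) ⟶ X' := fun k => match k with
      | Sum.inl x => (yon S).map (specPt T (algebraMap Γ(T.left, ⊤) (Localization.Away x.1))) ≫ g
      | Sum.inr x => (yon S).map (specPt H (algebraMap Γ(H.left, ⊤) (Localization.Away x.1))) ≫ h
    haveI : ∀ k, IsAffine (D k).left := fun k => match k with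
      | Sum.inl x => isAffine_PT T (algebraMap Γ(T.left, ⊤) (Localization.Away x.1))
      | Sum.inr x => isAffine_PT H (algebraMap Γ(H.left, ⊤) (Localization.Away x.1))
    let I : ∀ k, Ideal Γ((D k).left, ⊤) := fun k => match k with
      | Sum.inl x => L.map (specPt T (algebraMap Γ(T.left, ⊤) (Localization.Away x.1))).left.appTop.hom
      | Sum.inr x => J₀.map (specPt H (algebraMap Γ(H.left, ⊤) (Localization.Away x.1))).left.appTop.hom
    obtain ⟨A, hA, hA'⟩ := exists_sys_finset (κ := {x // x ∈ G} ⊕ {x // x ∈ F}) hE D d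
      (fun k => match k with
        | Sum.inl x => repWith_etale_specPt hg (etale_algebraMap_away x.1)
        | Sum.inr x => repWith_etale_specPt hh (etale_algebraMap_away x.1))
      (fun k => match k with
        | Sum.inl x => hDO g x.1 (hGO x.1 x.2)
        | Sum.inr x => hDO h x.1 (hFO x.1 x.2))
      I (fun k => match k with
        | Sum.inl x => hL.map _
        | Sum.inr x => hJ₀.map _)
      (fun k => match k with
        | Sum.inl x => (Ideal.map_mono hLK).trans (preIdeal_comp _ g _).ge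
        | Sum.inr x => (Ideal.map_mono hJ₀K).trans (preIdeal_comp _ h _).ge)
    refine ⟨A, hA, fun x hx => ?_, fun x hx => ?_⟩
    · have := Ideal.map_mono (f := (gam (Localization.Away x)).toRingHom) (hA' (Sum.inl ⟨x, hx⟩))
      refine le_trans (le_of_eq ?_) this
      exact ((Ideal.map_map _ _).trans (by rw [gam_specPt])).symm
    · have := Ideal.map_mono (f := (gam (Localization.Away x)).toRingHom) (hA' (Sum.inr ⟨x, hx⟩))
      refine le_trans (le_of_eq ?_) this
      exact ((Ideal.map_map _ _).trans (by rw [gam_specPt])).symm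
  -- its extension to the new chart
  have het : ∀ {B : Type u} [CommRing B] (x : B), (algebraMap B (Localization.Away x)).Etale := fun x =>
    etale_algebraMap_away x
  have hmul : ∀ (x y : Γ(T.left, ⊤)) (χ : Localization.Away x →+* Localization.Away (x * y)),
      χ.comp (algebraMap _ _) = algebraMap Γ(T.left, ⊤) (Localization.Away (x * y)) →
      x ∈ G → sysI A g (algebraMap _ (Localization.Away (x * y))) =
        (sysI A g (algebraMap _ (Localization.Away x))).map χ := fun x y χ hχ hx => by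
    rw [← hχ, sysI_nat hA hg (het x) (hDO g x (hGO x hx)) χ (hχ ▸ het _)]
  obtain ⟨L', hL', hL'K, hLL', hL'A⟩ := exists_ideal_of_away (preIdeal (closed_of_thick hi) g)
    (ι := {x // x ∈ G}) (fun x => (x.1 : Γ(T.left, ⊤))) (fun x => sysI A g (algebraMap _ (Localization.Away x.1)))
    (fun x => sysI_fg hA hg (het _) (hDO g _ (hGO _ x.2)))
    (fun x => sysI_le hA hg (het _) (hDO g _ (hGO _ x.2)))
    (fun x y χ χ' hχ hχ' => by
      rw [← hmul x.1 y.1 χ hχ x.2, ← hχ', sysI_nat hA hg (het _) (hDO g _ (hGO _ y.2)) χ' (hχ' ▸ het _)])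
    L hL hLK (fun x => hAG x.1 x.2)
  -- the two agree near points over the old open
  have hloc : ∀ {Z : Over S} [IsAffine Z.left] (a : Z ⟶ T), RepWith @Etale ((yon S).map a ≫ g) →
      ∀ x ∈ G, ∀ y : Γ(Z.left, ⊤), a.left.appTop.hom x ∣ y →
      (L'.map a.left.appTop.hom).map (algebraMap _ (Localization.Away y)) =
        sysI A ((yon S).map a ≫ g) (algebraMap _ (Localization.Away y)) := by
    intro Z _ a ha x hx y hy
    have hu : IsUnit (((algebraMap Γ(Z.left, ⊤) (Localization.Away y)).comp a.left.appTop.hom) x) :=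
      isUnit_of_dvd_unit (map_dvd (algebraMap Γ(Z.left, ⊤) (Localization.Away y)) hy)
        (IsLocalization.Away.algebraMap_isUnit y)
    let χ : Localization.Away x →+* Localization.Away y := IsLocalization.Away.lift x hu
    have hχ : χ.comp (algebraMap _ _) = (algebraMap Γ(Z.left, ⊤) (Localization.Away y)).comp a.left.appTop.hom :=
      IsLocalization.Away.lift_comp _ _
    haveI : Etale a.left := etale_of_comp_chart hX' hg ha
    have hφ : ((algebraMap Γ(Z.left, ⊤) (Localization.Away y)).comp a.left.appTop.hom).Etale :=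
      RingHom.Etale.stableUnderComposition _ _
        (HasRingHomProperty.appTop (P := @Etale.{u}) a.left inferInstance) (het y)
    rw [sysI_comp hA hg a _ hφ (by
      rintro _ ⟨w, rfl⟩
      rw [ofPt_comp]
      refine hGO x hx ((range_specPt_away x _).2 ?_)
      rw [specPt_range]
      intro hmem
      exact w.isPrime.ne_top (Ideal.eq_top_of_isUnit_mem _ (show _ ∈ w.asIdeal from hmem) hu)), Ideal.map_map, ← hχ,
      sysI_nat hA hg (het x) (hDO g x (hGO x hx)) χ (hχ ▸ hφ), ← hL'A ⟨x, hx⟩, Ideal.map_map]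
  have hGmem : ∀ {Z : Over S} [IsAffine Z.left] (a : Z ⟶ T) (P' : PrimeSpectrum Γ(Z.left, ⊤)),
      Points.ofPt g (a.left (Z.left.isoSpec.inv P')) ∈ O → ∃ x ∈ G, a.left.appTop.hom x ∉ P'.asIdeal := by
    intro Z _ a P' hP'
    obtain ⟨x, hx, hr⟩ := hGc _ hP'
    refine ⟨x, hx, fun hmem => (range_specPt_away x _).1 hr ?_⟩
    rw [← comap_isoSpec, show Z.left.isoSpec.hom (Z.left.isoSpec.inv P') = P' from congr($(Z.left.isoSpec.inv_hom_id) P')]
    exact hmem
  have haway : ∀ {B : Type u} [CommRing B] (y : B) (P' : PrimeSpectrum B), y ∉ P'.asIdeal → ∀ I I' : Ideal B,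
      I.map (algebraMap B (Localization.Away y)) = I'.map (algebraMap B (Localization.Away y)) →
      ∃ (C : Type u) (_ : CommRing C) (φ : B →+* C) (Q : PrimeSpectrum C),
        φ.Flat ∧ PrimeSpectrum.comap φ Q = P' ∧ I.map φ ≤ I'.map φ ∧ I'.map φ ≤ I.map φ := by
    intro B _ y P' hy I I' he
    obtain ⟨Q, hQ⟩ := (PrimeSpectrum.localization_away_comap_range (Localization.Away y) y).ge hy
    exact ⟨_, inferInstance, algebraMap B _, Q,
      RingHom.flat_algebraMap_iff.2 (IsLocalization.flat _ (Submonoid.powers y)), hQ, he.le, he.ge⟩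
  obtain ⟨ι, _, V, hV, c, hce, hcO, hcov⟩ := exists_finite_charts hi hX' hO hOc
  -- the mixed compatibility
  have hTk : ∀ (k : ι) (Z : Over S) [IsAffine Z.left] (a : Z ⟶ T) (b : Z ⟶ V k),
      RepWith @Etale ((yon S).map a ≫ g) → (yon S).map a ≫ g = (yon S).map b ≫ c k →
        L'.map a.left.appTop.hom = (A (V k) (c k)).map b.left.appTop.hom := by
    intro k Z _ a b ha e
    have hZO : Set.range (Points.ofPt ((yon S).map a ≫ g)) ⊆ O := by
      rw [e]; exact (range_comp_subset b (c k)).trans (hcO k)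
    have key : ∀ P' : PrimeSpectrum Γ(Z.left, ⊤), ∃ (C : Type u) (_ : CommRing C) (φ : Γ(Z.left, ⊤) →+* C)
        (Q : PrimeSpectrum C), φ.Flat ∧ PrimeSpectrum.comap φ Q = P' ∧
          (L'.map a.left.appTop.hom).map φ ≤ ((A (V k) (c k)).map b.left.appTop.hom).map φ ∧
          ((A (V k) (c k)).map b.left.appTop.hom).map φ ≤ (L'.map a.left.appTop.hom).map φ := by
      intro P'
      obtain ⟨x, hx, hxP⟩ := hGmem a P' (hZO ⟨_, ofPt_comp a g _⟩)
      refine haway _ P' hxP _ _ ?_
      rw [hloc a ha x hx _ dvd_rfl, sysI_eq_map hA ha hZO (het _), e]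
      rw [hA.nat (V k) (c k) (hce k) (hcO k) Z b (e ▸ ha)]
    refine le_antisymm (ideal_le_of_local fun P' => ?_) (ideal_le_of_local fun P' => ?_)
    · obtain ⟨C, _, φ, Q, h1, h2, h3, -⟩ := key P'; exact ⟨C, _, φ, Q, h1, h2, h3⟩
    · obtain ⟨C, _, φ, Q, h1, h2, -, h3⟩ := key P'; exact ⟨C, _, φ, Q, h1, h2, h3⟩
  have hTT : ∀ (Z : Over S) [IsAffine Z.left] (a b : Z ⟶ T), RepWith @Etale ((yon S).map a ≫ g) →
      (yon S).map a ≫ g = (yon S).map b ≫ g → L'.map a.left.appTop.hom = L'.map b.left.appTop.hom := by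
    intro Z _ a b ha e
    have key : ∀ P' : PrimeSpectrum Γ(Z.left, ⊤), ∃ (C : Type u) (_ : CommRing C) (φ : Γ(Z.left, ⊤) →+* C)
        (Q : PrimeSpectrum C), φ.Flat ∧ PrimeSpectrum.comap φ Q = P' ∧
          (L'.map a.left.appTop.hom).map φ ≤ (L'.map b.left.appTop.hom).map φ ∧
          (L'.map b.left.appTop.hom).map φ ≤ (L'.map a.left.appTop.hom).map φ := by
      intro P'
      by_cases hP : Points.ofPt g (a.left (Z.left.isoSpec.inv P')) ∈ O
      · obtain ⟨x, hx, hxP⟩ := hGmem a P' hP
        have hP' : Points.ofPt g (b.left (Z.left.isoSpec.inv P')) ∈ O := by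
          rwa [← ofPt_comp, ← e, ofPt_comp]
        obtain ⟨x', hx', hxP'⟩ := hGmem b P' hP'
        refine haway (a.left.appTop.hom x * b.left.appTop.hom x') P'
          (fun h => (P'.isPrime.mem_or_mem h).elim hxP hxP') _ _ ?_
        rw [hloc a ha x hx _ (dvd_mul_right _ _), hloc b (e ▸ ha) x' hx' _ (dvd_mul_left _ _), e]
      · obtain ⟨W, hzW, hW⟩ := exists_eq_near hX' hg hinj a b e _ hP
        obtain ⟨_, ⟨y, rfl⟩, hy, hyW⟩ := PrimeSpectrum.isTopologicalBasis_basic_opens.exists_subset_of_mem_open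
          (show P' ∈ Z.left.isoSpec.inv ⁻¹' (W : Set ↥Z.left) from hzW)
          (W.isOpen.preimage Z.left.isoSpec.inv.continuous)
        refine haway y P' hy _ _ ?_
        let σ := (specPt Z (algebraMap Γ(Z.left, ⊤) (Localization.Away y))).left
        obtain ⟨m, hm⟩ : ∃ m, m ≫ W.ι = σ := ⟨IsOpenImmersion.lift W.ι σ (by
          rintro _ ⟨w, rfl⟩
          rw [Scheme.Opens.range_ι]
          have := hyW ((PrimeSpectrum.localization_away_comap_range (Localization.Away y) y).subset ⟨w, rfl⟩)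
          exact this), IsOpenImmersion.lift_fac _ _ _⟩
        have h2 : σ ≫ a.left = σ ≫ b.left := by
          exact (congrArg (· ≫ a.left) hm).symm.trans ((Category.assoc _ _ _).trans
            ((congrArg (m ≫ ·) hW).trans ((Category.assoc _ _ _).symm.trans (congrArg (· ≫ b.left) hm))))
        have h3 := congrArg (fun φ => (gam (Localization.Away y)).toRingHom.comp φ.appTop.hom) h2
        simp only [Scheme.Hom.comp_appTop, CommRingCat.hom_comp, ← RingHom.comp_assoc, σ, gam_specPt] at h3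
        rw [Ideal.map_map, Ideal.map_map, h3]
    refine le_antisymm (ideal_le_of_local fun P' => ?_) (ideal_le_of_local fun P' => ?_)
    · obtain ⟨C, _, φ, Q, h1, h2, h3, -⟩ := key P'; exact ⟨C, _, φ, Q, h1, h2, h3⟩
    · obtain ⟨C, _, φ, Q, h1, h2, -, h3⟩ := key P'; exact ⟨C, _, φ, Q, h1, h2, h3⟩
  -- the new system
  let V' : Option ι → Over S := fun k => k.elim T V
  let c' : ∀ k, (yon S).obj (V' k) ⟶ X' := fun k => match k with
    | none => g
    | some k => c k
  haveI : ∀ k, IsAffine (V' k).left := fun k => match k with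
    | none => ‹IsAffine T.left›
    | some k => hV k
  let I' : ∀ k, Ideal Γ((V' k).left, ⊤) := fun k => match k with
    | none => L'
    | some k => A (V k) (c k)
  have hOO' : O ⊆ O' := hun ▸ Set.subset_union_left
  have hc'O : ∀ k, Set.range (Points.ofPt (c' k)) ⊆ O' := fun k => match k with
    | none => hun ▸ Set.subset_union_right
    | some k => (hcO k).trans hOO'
  obtain ⟨J, hJ, hJeq⟩ := exists_sys_of_family hi hX' V' c'
    (fun k => match k with
      | none => hg
      | some k => hce k) hc'O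
    (fun x hx => by
      rcases hun.ge hx with hx | hx
      · obtain ⟨k, hk⟩ := hcov x hx; exact ⟨some k, hk⟩
      · exact ⟨none, hx⟩) I'
    (fun k => match k with
      | none => hL'
      | some k => hA.fg _ _ (hce k) (hcO k))
    (fun k => match k with
      | none => hL'K
      | some k => hA.le _ _ (hce k) (hcO k))
    (fun k l Z _ a b ha e => match k, l with
      | none, none => hTT Z a b ha e
      | none, some l => hTk l Z a b ha e
      | some k, none => (hTk k Z b a (e ▸ ha) e.symm).symm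
      | some k, some l => by
        change (A (V k) (c k)).map a.left.appTop.hom = (A (V l) (c l)).map b.left.appTop.hom
        rw [← hA.nat (V k) (c k) (hce k) (hcO k) Z a ha, ← hA.nat (V l) (c l) (hce l) (hcO l) Z b (e ▸ ha)]
        exact congrArg (A Z) e)
  refine ⟨J, hJ, ideal_le_of_cover fun y => ?_⟩
  by_cases hy : Points.ofPt h y ∈ O
  · obtain ⟨x, hx, hr⟩ := hFc y hy
    let w := specPt H (algebraMap Γ(H.left, ⊤) (Localization.Away x))
    haveI : Etale w.left := etale_specPt (V := H) (het x)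
    refine ⟨_, inferInstance, w, inferInstance, hr, ?_⟩
    have hwO := hDO h x (hFO x hx)
    have h1 : J (PT H (algebraMap Γ(H.left, ⊤) (Localization.Away x))) ((yon S).map w ≫ h) =
        A _ ((yon S).map w ≫ h) :=
      IsSys.eq_of_cover (J := J) (O := O) ⟨fun T _ g hg hgO => hJ.fg T g hg (hgO.trans hOO'),
        fun T _ g hg hgO => hJ.le T g hg (hgO.trans hOO'),
        fun T _ g hg hgO => hJ.nat T g hg (hgO.trans hOO')⟩ hA hX' V c hce hcO hcO hcov
        (fun k => hJeq (some k)) (repWith_etale_specPt hh (het x)) hwO hwO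
    have h2 := hAF x hx
    rw [sysI, ← h1, hJ.nat H h hh hhO _ w (repWith_etale_specPt hh (het x)), Ideal.map_map] at h2
    have h3 : J₀.map ((gam (Localization.Away x)).toRingHom.comp w.left.appTop.hom) ≤
        (J H h).map ((gam (Localization.Away x)).toRingHom.comp w.left.appTop.hom) := by
      refine le_trans (le_of_eq ?_) h2
      rw [gam_specPt]
    rwa [← Ideal.map_map, ← Ideal.map_map, Ideal.map_le_iff_le_comap,
      Ideal.comap_map_of_bijective (gam (Localization.Away x)).toRingHom (gam (Localization.Away x)).bijective] at h3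
  · obtain ⟨t, ht⟩ : Points.ofPt h y ∈ Set.range (Points.ofPt g) :=
      ((hun.ge (hhO ⟨y, rfl⟩)).resolve_left hy)
    obtain ⟨z, hz, -⟩ := exists_of_isPullback sq (Points.ofScheme H y) (Points.ofScheme T t) (by
      rw [← Points.ofPt_eq_map_ofScheme, ← Points.ofPt_eq_map_ofScheme, ht])
    obtain ⟨w, rfl⟩ := (Points.schemeHomeo P).surjective z
    refine ⟨P, inferInstance, p, inferInstance, ⟨w, (Points.schemeHomeo H).injective ?_⟩, ?_⟩
    · show Points.ofScheme H (p.left w) = Points.ofScheme H y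
      rw [← hz]
      exact (ofPt_comp p (𝟙 _) w).symm.trans (by rw [Category.comp_id, Points.ofPt_eq_map_ofScheme]; rfl)
    · rw [← hJ.nat' hh hhO p (g' := (yon S).map q ≫ g) sq.w, hJ.nat' hg (hc'O none) q rfl,
        show J T g = L' from hJeq none]
      exact hJL.trans (Ideal.map_mono hLL')

/-- Finitely many sections of the ideal of a thickening of an affine scheme lie in a system. -/
theorem exists_sys (hi : IsThickMor i) (hX' : IsAlgSpace X') {H : Over S} [IsAffine H.left]
    (h : (yon S).obj H ⟶ X') (hh : RepWith @Etale h) (J₀ : Ideal Γ(H.left, ⊤)) (hJ₀ : J₀.FG)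
    (hle : J₀ ≤ preIdeal (closed_of_thick hi) h) : ∃ J, IsSys hi Set.univ J ∧ J₀ ≤ J H h := by
  haveI : CompactSpace (Points (⟨X', hX'⟩ : Space S).obj) := compactSpace_of_thick hi
  exact climb_of_compact ⟨X', hX'⟩ (fun U R a t s hU ha sq => by
      haveI : IsAffine U.left := hU
      haveI := isAffine_prod hi sq
      infer_instance)
    (Extends hi) isOpen_empty isCompact_empty (extends_empty hi)
    (fun O O' T g _ st hΦ => by
      haveI : IsAffine T.left := st.affine
      exact extends_step hi hX' (Y := ⟨X', hX'⟩) rfl st.etale st.isOpen st.isCompact st.inj st.union hΦ)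
    H h hh (Set.subset_univ _) J₀ hJ₀ hle

end Groth.Agent.SpFP87.ThickAffine
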