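import Groth.Agent.SpFP87.ThickAffineLift
import Groth.Agent.SpFP87.ThickAffineStep
import Groth.Agent.SpFP87.ThickAffineQuot
import Groth.Agent.SpPts86.Quot
/-!
A thickening of an affine scheme in algebraic spaces is an affine scheme.
-/

set_option autoImplicit false
set_option linter.style.haveILetI false
set_option backward.isDefEq.respectTransparency false
universe u
open CategoryTheory CategoryTheory.Limits AlgebraicGeometry TensorProduct
open AlgSp Groth.Agent.SpPts86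

namespace Groth.Agent.SpFP87.ThickAffine

/-- Global sections of a fibre product of affine schemes. -/
theorem exists_tensor_of_isPullback {Z X Y P : Scheme.{u}} [IsAffine Z] [IsAffine X] [IsAffine Y] {f : X ⟶ Z}
    {g : Y ⟶ Z} {fst : P ⟶ X} {snd : P ⟶ Y} (h : IsPullback fst snd f g) :
    ∃ φ : Via f.appTop.hom ⊗[Γ(Z, ⊤)] Via g.appTop.hom →+* Γ(P, ⊤),
      (∀ x y, φ (x ⊗ₜ y) = fst.appTop (Via.out x) * snd.appTop (Via.out y)) ∧ Function.Bijective φ := by
  have h1 : IsPushout f.appTop g.appTop fst.appTop snd.appTop := isPushout_appTop_of_isPullback h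
  have h2 : IsPushout f.appTop g.appTop
      (CommRingCat.ofHom (Algebra.TensorProduct.includeLeftRingHom :
        Via f.appTop.hom →+* Via f.appTop.hom ⊗[Γ(Z, ⊤)] Via g.appTop.hom))
      (CommRingCat.ofHom (Algebra.TensorProduct.includeRight :
        Via g.appTop.hom →ₐ[Γ(Z, ⊤)] Via f.appTop.hom ⊗[Γ(Z, ⊤)] Via g.appTop.hom).toRingHom) :=
    CommRingCat.isPushout_tensorProduct Γ(Z, ⊤) (Via f.appTop.hom) (Via g.appTop.hom)
  let e := h2.isoIsPushout _ _ h1
  refine ⟨e.hom.hom, fun x y => ?_, e.commRingCatIsoToRingEquiv.bijective⟩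
  have hl := congr($(h2.inl_isoIsPushout_hom _ _ h1) (Via.out x))
  have hr := congr($(h2.inr_isoIsPushout_hom _ _ h1) (Via.out y))
  rw [CommRingCat.comp_apply] at hl hr
  rw [← mul_one x, ← one_mul y, ← Algebra.TensorProduct.tmul_mul_tmul, map_mul, mul_one x, one_mul y]
  exact congrArg₂ (· * ·) hl hr

variable {S : Scheme.{u}} {X₀ : Over S} [IsAffine X₀.left] {X' : Sp S} {i : (yon S).obj X₀ ⟶ X'}

/-- A thickening of an affine scheme is an affine scheme. -/
theorem exists_affine_of_thick (hi : IsThickMor i) (hX' : IsAlgSpace X') :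
    ∃ D : Over S, IsAffine D.left ∧ Nonempty ((yon S).obj D ≅ X') := by
  classical
  haveI := compactSpace_of_thick hi
  obtain ⟨U, a, hU, ha, has⟩ := exists_affine_chart_of_compactSpace hX'
  obtain ⟨R, p₁, p₂, sq⟩ := exists_isPullback_yon hX'.diag a a
  haveI := isAffine_prod hi sq
  haveI hp₁ : Etale p₁.left := etale_snd_of_isPullback sq.flip ha
  haveI hp₂ : Etale p₂.left := etale_snd_of_isPullback sq ha
  -- the reduction
  obtain ⟨U₀, f, ι, sqU, hι, hιs⟩ := exists_reduction hi a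
  haveI : IsAffine U₀.left := isAffine_of_isAffineHom ι.left
  haveI hf : Etale f.left := etale_snd_of_isPullback sqU.flip ha
  have hfs : Surjective f.left := ⟨fun x => by
    obtain ⟨v, hv⟩ := surjective_ofPt has (Points.map i (Points.ofScheme X₀ x))
    obtain ⟨z, hz, -⟩ := exists_of_isPullback sqU (Points.ofScheme X₀ x) (Points.ofScheme U v) (by
      rw [← Points.ofPt_eq_map_ofScheme a, hv])
    obtain ⟨w, rfl⟩ := (Points.schemeHomeo U₀).surjective z
    refine ⟨w, (Points.schemeHomeo X₀).injective ?_⟩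
    show Points.ofScheme X₀ (f.left w) = Points.ofScheme X₀ x
    rw [← hz]
    exact (ofPt_comp f (𝟙 _) w).symm.trans (by rw [Category.comp_id, Points.ofPt_eq_map_ofScheme]; rfl)⟩
  letI algA : Algebra Γ(X₀.left, ⊤) Γ(U₀.left, ⊤) := f.left.appTop.hom.toAlgebra
  haveI : Algebra.Etale Γ(X₀.left, ⊤) Γ(U₀.left, ⊤) :=
    RingHom.etale_algebraMap.1 (HasRingHomProperty.appTop (P := @Etale.{u}) f.left hf)
  have hA : Function.Surjective (PrimeSpectrum.comap (algebraMap Γ(X₀.left, ⊤) Γ(U₀.left, ⊤))) := fun p => by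
    obtain ⟨x, hx⟩ := f.left.surjective (X₀.left.isoSpec.inv p)
    refine ⟨U₀.left.isoSpec.hom x, ?_⟩
    rw [show algebraMap Γ(X₀.left, ⊤) Γ(U₀.left, ⊤) = f.left.appTop.hom from rfl, comap_isoSpec, hx]
    exact congr($(X₀.left.isoSpec.inv_hom_id) p)
  -- three-fold product
  have hp02 : (yon S).map (pullback.fst p₂ p₁ ≫ p₁) ≫ a = (yon S).map (pullback.snd p₂ p₁ ≫ p₂) ≫ a := by
    rw [map_comp_sq (s := pullback.fst p₂ p₁) sq.w, ← map_comp_sq (s := pullback.snd p₂ p₁) sq.w,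
      pullback.condition]
  obtain ⟨p₀₂, hp₀₂⟩ := (yon S).map_surjective
    (sq.lift ((yon S).map (pullback.fst p₂ p₁ ≫ p₁)) ((yon S).map (pullback.snd p₂ p₁ ≫ p₂)) hp02)
  have hp₀₂1 : p₀₂ ≫ p₁ = pullback.fst p₂ p₁ ≫ p₁ :=
    (yon S).map_injective (by rw [Functor.map_comp, hp₀₂, IsPullback.lift_fst])
  have hp₀₂2 : p₀₂ ≫ p₂ = pullback.snd p₂ p₁ ≫ p₂ :=
    (yon S).map_injective (by rw [Functor.map_comp, hp₀₂, IsPullback.lift_snd])
  have hcomp : ∀ {A B C : Over S} (x : A ⟶ B) (y : B ⟶ C) (r : Γ(C.left, ⊤)),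
      x.left.appTop.hom (y.left.appTop.hom r) = (x ≫ y).left.appTop.hom r := fun x y r => by
    rw [Over.comp_left, Scheme.Hom.comp_appTop]; rfl
  have h1 : ∀ r, (pullback.fst p₂ p₁).left.appTop.hom (p₂.left.appTop.hom r) =
      (pullback.snd p₂ p₁).left.appTop.hom (p₁.left.appTop.hom r) := fun r => by
    rw [hcomp, hcomp, pullback.condition]
  have h2 : ∀ r, (pullback.fst p₂ p₁).left.appTop.hom (p₁.left.appTop.hom r) =
      p₀₂.left.appTop.hom (p₁.left.appTop.hom r) := fun r => by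
    rw [hcomp, hcomp, hp₀₂1]
  have h3 : ∀ r, (pullback.snd p₂ p₁).left.appTop.hom (p₂.left.appTop.hom r) =
      p₀₂.left.appTop.hom (p₂.left.appTop.hom r) := fun r => by
    rw [hcomp, hcomp, hp₀₂2]
  have hpush : IsPush p₁.left.appTop.hom p₂.left.appTop.hom (pullback.fst p₂ p₁).left.appTop.hom
      (pullback.snd p₂ p₁).left.appTop.hom :=
    exists_tensor_of_isPullback (Z := U.left) (X := R.left) (Y := R.left) (f := p₂.left) (g := p₁.left)
      ((IsPullback.of_hasPullback p₂ p₁).map (Over.forget S))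
  -- the reduction of the relation
  obtain ⟨w, hw1, hw2, sqP⟩ := exists_reduction_prod sq sqU sqU
  have hwt := hi.2 _ _ w sqP
  haveI : IsClosedImmersion w.left := hwt.1
  obtain ⟨φ, hφ, hφb⟩ := exists_tensor_of_isPullback (Z := X₀.left) (X := U₀.left) (Y := U₀.left)
    (f := f.left) (g := f.left) (fst := (pullback.fst f f).left) (snd := (pullback.snd f f).left)
    ((IsPullback.of_hasPullback f f).map (Over.forget S))
  let eφ : Γ(U₀.left, ⊤) ⊗[Γ(X₀.left, ⊤)] Γ(U₀.left, ⊤) ≃+* Γ((pullback f f).left, ⊤) :=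
    RingEquiv.ofBijective (φ : Γ(U₀.left, ⊤) ⊗[Γ(X₀.left, ⊤)] Γ(U₀.left, ⊤) →+* _) hφb
  let ρ : Γ(R.left, ⊤) →+* Γ(U₀.left, ⊤) ⊗[Γ(X₀.left, ⊤)] Γ(U₀.left, ⊤) :=
    eφ.symm.toRingHom.comp w.left.appTop.hom
  have hρs : ∀ b, ρ (p₁.left.appTop.hom b) = ι.left.appTop.hom b ⊗ₜ 1 := fun b => by
    apply eφ.injective
    change eφ (eφ.symm (w.left.appTop.hom (p₁.left.appTop.hom b))) = φ (ι.left.appTop.hom b ⊗ₜ 1)
    rw [RingEquiv.apply_symm_apply, hφ, map_one, map_one, mul_one, hcomp, hw1, ← hcomp]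
    rfl
  have hρt : ∀ b, ρ (p₂.left.appTop.hom b) = 1 ⊗ₜ ι.left.appTop.hom b := fun b => by
    apply eφ.injective
    change eφ (eφ.symm (w.left.appTop.hom (p₂.left.appTop.hom b))) = φ (1 ⊗ₜ ι.left.appTop.hom b)
    rw [RingEquiv.apply_symm_apply, hφ, map_one, map_one, one_mul, hcomp, hw2, ← hcomp]
    rfl
  have hKU : preIdeal (closed_of_thick hi) a = RingHom.ker ι.left.appTop.hom := preIdeal_eq _ a sqU
  have hKR : preIdeal (closed_of_thick hi) ((yon S).map p₁ ≫ a) = RingHom.ker w.left.appTop.hom := by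
    obtain ⟨g, hg⟩ := (yon S).map_surjective ((yon S).map (pullback.fst f f) ≫ (yon S).map f)
    exact preIdeal_eq _ _ sqP
  have hρk : RingHom.ker ρ ≤ (RingHom.ker ι.left.appTop.hom).map p₂.left.appTop.hom := fun x hx => by
    rw [← hKU, ← preIdeal_comp, ← sq.w, hKR]
    exact eφ.symm.injective (hx.trans (map_zero _).symm)
  have hstab : ∀ F : Finset Γ(R.left, ⊤), (F : Set Γ(R.left, ⊤)) ⊆ (RingHom.ker ι.left.appTop.hom).map p₂.left.appTop.hom →
      ∃ J : Ideal Γ(U.left, ⊤), J.FG ∧ J ≤ RingHom.ker ι.left.appTop.hom ∧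
        J.map p₁.left.appTop.hom = J.map p₂.left.appTop.hom ∧ (F : Set Γ(R.left, ⊤)) ⊆ J.map p₂.left.appTop.hom := by
    intro F hF
    have hR : RepWith @Etale ((yon S).map p₂ ≫ a) := repWith_etale_comp _ ha
    obtain ⟨J, hJ, hFJ⟩ := exists_sys hi hX' ((yon S).map p₂ ≫ a) hR (Ideal.span F) ⟨F, rfl⟩ (by
      rw [preIdeal_comp, hKU]; exact Ideal.span_le.2 hF)
    refine ⟨J U a, hJ.fg U a ha (Set.subset_univ _), hKU ▸ hJ.le U a ha (Set.subset_univ _), ?_, ?_⟩
    · rw [← hJ.nat' ha (Set.subset_univ _) p₁ (g' := (yon S).map p₂ ≫ a) sq.w,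
        ← hJ.nat' ha (Set.subset_univ _) p₂ rfl]
    · rw [← hJ.nat' ha (Set.subset_univ _) p₂ rfl]
      exact Ideal.span_le.1 hFJ
  have hπ : Function.Surjective ι.left.appTop.hom :=
    (IsClosedImmersion.isAffine_surjective_of_isAffine (f := ι.left)).2
  obtain ⟨A', C, _, _, hC, hff, heq, γ, Ψ, hΨ, hΨb⟩ := exists_groupoid_model hA p₁.left.appTop.hom
    p₂.left.appTop.hom (HasRingHomProperty.appTop (P := @Etale.{u}) p₂.left hp₂)
    (pullback.fst p₂ p₁).left.appTop.hom p₀₂.left.appTop.hom (pullback.snd p₂ p₁).left.appTop.hom h1 h2 h3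
    hpush ι.left.appTop.hom hπ (hKU ▸ preIdeal_le_nilradical hi a) ρ hρs hρt hρk hstab
  -- degeneracies
  obtain ⟨δ, hδ⟩ := (yon S).map_surjective (sq.lift (𝟙 _) (𝟙 _) rfl)
  have hδ1 : δ ≫ p₁ = 𝟙 U := (yon S).map_injective (by
    rw [Functor.map_comp, hδ, IsPullback.lift_fst, CategoryTheory.Functor.map_id])
  have hδ2 : δ ≫ p₂ = 𝟙 U := (yon S).map_injective (by
    rw [Functor.map_comp, hδ, IsPullback.lift_snd, CategoryTheory.Functor.map_id])
  have hes : ∀ b, δ.left.appTop.hom (p₁.left.appTop.hom b) = b := fun b => by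
    rw [hcomp, hδ1]
    change ((𝟙 U.left : _ ⟶ _).appTop).hom b = b
    rw [Scheme.Hom.id_appTop]
    rfl
  let σ : R ⟶ pullback p₂ p₁ := pullback.lift (p₁ ≫ δ) (𝟙 R) (by
    rw [Category.assoc, hδ2, Category.comp_id, Category.id_comp])
  have hσ1 : ∀ r, σ.left.appTop.hom ((pullback.fst p₂ p₁).left.appTop.hom r) =
      p₁.left.appTop.hom (δ.left.appTop.hom r) := fun r => by
    rw [hcomp, hcomp, pullback.lift_fst]
  have hσ02 : σ ≫ p₀₂ = 𝟙 R := (yon S).map_injective (sq.hom_ext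
    (by rw [← Functor.map_comp, ← Functor.map_comp, Category.assoc, hp₀₂1, pullback.lift_fst_assoc,
      Category.assoc, hδ1, Category.comp_id, Category.id_comp])
    (by rw [← Functor.map_comp, ← Functor.map_comp, Category.assoc, hp₀₂2, pullback.lift_snd_assoc]))
  have hσ2 : ∀ r, σ.left.appTop.hom (p₀₂.left.appTop.hom r) = r := fun r => by
    rw [hcomp, hσ02]
    change ((𝟙 R.left : _ ⟶ _).appTop).hom r = r
    rw [Scheme.Hom.id_appTop]
    rfl
  obtain ⟨A₂, heq₂, hA₂e, hA₂f, Θ, hΘ, hΘb⟩ := exists_quotient p₁.left.appTop.hom p₂.left.appTop.hom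
    (pullback.fst p₂ p₁).left.appTop.hom p₀₂.left.appTop.hom (pullback.snd p₂ p₁).left.appTop.hom h1 h2 h3
    hpush δ.left.appTop.hom hes σ.left.appTop.hom hσ1 hσ2 heq γ Ψ hΨ hΨb
  -- the quotient
  let qs : U.left ⟶ Spec (CommRingCat.of A₂) := U.left.isoSpec.hom ≫ Spec.map (CommRingCat.ofHom A₂.subtype)
  haveI : Etale (Spec.map (CommRingCat.ofHom A₂.subtype)) := (HasRingHomProperty.Spec_iff (P := @Etale.{u})).2
    (show A₂.subtype.Etale from RingHom.etale_algebraMap.2 hA₂e)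
  haveI hqe : Etale qs := inferInstanceAs (Etale (U.left.isoSpec.hom ≫ Spec.map (CommRingCat.ofHom A₂.subtype)))
  haveI : Surjective (Spec.map (CommRingCat.ofHom A₂.subtype)) :=
    ⟨PrimeSpectrum.comap_surjective_of_faithfullyFlat (A := A₂) (B := Γ(U.left, ⊤))⟩
  haveI hqs : Surjective qs :=
    inferInstanceAs (Surjective (U.left.isoSpec.hom ≫ Spec.map (CommRingCat.ofHom A₂.subtype)))
  haveI : QuasiCompact qs :=
    inferInstanceAs (QuasiCompact (U.left.isoSpec.hom ≫ Spec.map (CommRingCat.ofHom A₂.subtype)))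
  have hsqR : IsPullback p₂.left p₁.left qs qs := by
    have ht := isPullback_SpecMap_of_isPushout _ _ _ _
      (CommRingCat.isPushout_tensorProduct A₂ Γ(U.left, ⊤) Γ(U.left, ⊤))
    let eΘ : CommRingCat.of (Γ(U.left, ⊤) ⊗[A₂] Γ(U.left, ⊤)) ≅ Γ(R.left, ⊤) :=
      (RingEquiv.ofBijective Θ hΘb).toCommRingCatIso
    let e' : R.left ≅ Spec (CommRingCat.of (Γ(U.left, ⊤) ⊗[A₂] Γ(U.left, ⊤))) :=
      R.left.isoSpec ≪≫ Scheme.Spec.mapIso eΘ.op
    have he' : e'.hom = R.left.isoSpec.hom ≫ Spec.map eΘ.hom := rfl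
    refine IsPullback.of_iso ht e'.symm U.left.isoSpec.symm U.left.isoSpec.symm (Iso.refl _) ?_ ?_ ?_ ?_
    · rw [Iso.symm_hom, Iso.symm_hom, Iso.eq_inv_comp, he', Category.assoc, ← Category.assoc (Spec.map eΘ.hom), ← Spec.map_comp]
      rw [show CommRingCat.ofHom (Algebra.TensorProduct.includeLeftRingHom :
          Γ(U.left, ⊤) →+* Γ(U.left, ⊤) ⊗[A₂] Γ(U.left, ⊤)) ≫ eΘ.hom = p₂.left.appTop from CommRingCat.hom_ext
          (RingHom.ext fun x => by
            change Θ (x ⊗ₜ 1) = p₂.left.appTop.hom x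
            rw [hΘ, map_one, mul_one])]
      rw [← Category.assoc, Scheme.isoSpec_hom_naturality, Category.assoc, Iso.hom_inv_id, Category.comp_id]
    · rw [Iso.symm_hom, Iso.symm_hom, Iso.eq_inv_comp, he', Category.assoc, ← Category.assoc (Spec.map eΘ.hom), ← Spec.map_comp]
      rw [show CommRingCat.ofHom (Algebra.TensorProduct.includeRight :
          Γ(U.left, ⊤) →ₐ[A₂] Γ(U.left, ⊤) ⊗[A₂] Γ(U.left, ⊤)).toRingHom ≫ eΘ.hom = p₁.left.appTop from
          CommRingCat.hom_ext (RingHom.ext fun x => by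
            change Θ (1 ⊗ₜ x) = p₁.left.appTop.hom x
            rw [hΘ, map_one, one_mul])]
      rw [← Category.assoc, Scheme.isoSpec_hom_naturality, Category.assoc, Iso.hom_inv_id, Category.comp_id]
    · simp only [Iso.symm_hom, Iso.refl_hom, Category.comp_id, qs, Iso.inv_hom_id_assoc]
      rfl
    · simp only [Iso.symm_hom, Iso.refl_hom, Category.comp_id, qs, Iso.inv_hom_id_assoc]
      rfl
  have hU : ∀ {Z : Scheme.{u}} (g₁ g₂ : Z ⟶ U.left), g₁ ≫ qs = g₂ ≫ qs → g₁ ≫ U.hom = g₂ ≫ U.hom := by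
    intro Z g₁ g₂ e
    obtain ⟨k, hk1, hk2⟩ : ∃ k, k ≫ p₂.left = g₁ ∧ k ≫ p₁.left = g₂ :=
      ⟨_, hsqR.lift_fst g₁ g₂ e, hsqR.lift_snd g₁ g₂ e⟩
    rw [← hk1, ← hk2, Category.assoc, Category.assoc, Over.w, Over.w]
  obtain ⟨str, hstr⟩ : ∃ str : Spec (CommRingCat.of A₂) ⟶ S, qs ≫ str = U.hom :=
    ⟨EffectiveEpi.desc qs U.hom hU, EffectiveEpi.fac qs U.hom hU⟩
  let D : Over S := Over.mk str
  let q : U ⟶ D := Over.homMk qs hstr
  have sqR : IsPullback p₂ p₁ q q := by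
    refine IsPullback.of_map (Over.forget S) (Over.OverMorphism.ext hsqR.w) hsqR
  obtain ⟨h, hh⟩ := exists_desc (locLift_of_atlas ha has) ((yon S).map q) fun W l l' e => by
    obtain ⟨r, hr⟩ := (yon S).map_surjective (sq.lift _ _ e)
    have hr1 : r ≫ p₁ = l := (yon S).map_injective (by rw [Functor.map_comp, hr, IsPullback.lift_fst])
    have hr2 : r ≫ p₂ = l' := (yon S).map_injective (by rw [Functor.map_comp, hr, IsPullback.lift_snd])
    rw [← Functor.map_comp, ← Functor.map_comp, ← hr1, ← hr2, Category.assoc, Category.assoc, sqR.w]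
  have hpair : ∀ {W : Over S} (l l' : W ⟶ U), (yon S).map l ≫ a ≫ h = (yon S).map l' ≫ a ≫ h →
      (yon S).map l ≫ a = (yon S).map l' ≫ a := fun {W} l l' e => by
    rw [hh, ← Functor.map_comp, ← Functor.map_comp] at e
    have e' := (yon S).map_injective e
    obtain ⟨r, hr1, hr2⟩ : ∃ r, r ≫ p₁ = l ∧ r ≫ p₂ = l' :=
      ⟨_, sqR.lift_snd l' l e'.symm, sqR.lift_fst l' l e'.symm⟩
    rw [← hr1, ← hr2]
    exact map_comp_sq sq.w
  haveI : Mono h := mono_of_probe fun T u v e => by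
    obtain ⟨W₁, c₁, l₁, hc₁, hl₁⟩ := locLift_of_atlas ha has T u
    obtain ⟨W₂, c₂, l₂, hc₂, hl₂⟩ := locLift_of_atlas ha has W₁ ((yon S).map c₁ ≫ v)
    obtain ⟨l₁, rfl⟩ := (yon S).map_surjective l₁
    obtain ⟨l₂, rfl⟩ := (yon S).map_surjective l₂
    refine cover_hom_ext c₁ hc₁ (cover_hom_ext c₂ hc₂ ?_)
    rw [← hl₁, ← hl₂, ← Category.assoc, ← Functor.map_comp]
    refine hpair _ _ ?_
    rw [← Category.assoc, ← Category.assoc, hl₂, Functor.map_comp, Category.assoc ((yon S).map c₂), hl₁]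
    simp only [Category.assoc, e]
  have hLL : LocLift h := fun T g => by
    obtain ⟨g, rfl⟩ := (yon S).map_surjective g
    have sqg : IsPullback (pullback.fst g q).left (pullback.snd g q).left g.left q.left :=
      (IsPullback.of_hasPullback g q).map (Over.forget S)
    refine ⟨pullback g q, pullback.fst g q, (yon S).map (pullback.snd g q) ≫ a, ?_, ?_⟩
    · exact etale_surjective_le_fppfSurj _
        ⟨MorphismProperty.of_isPullback (P := @Etale) sqg.flip hqe,
          MorphismProperty.of_isPullback (P := @Surjective) sqg.flip hqs⟩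
    · rw [Category.assoc, hh, ← Functor.map_comp, ← Functor.map_comp, pullback.condition]
  haveI : IsIso h := isIso_of_mono_of_locLift h hLL
  exact ⟨D, inferInstanceAs (IsAffine (Spec (CommRingCat.of A₂))), ⟨(asIso h).symm⟩⟩

end Groth.Agent.SpFP87.ThickAffine
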