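import Groth.Agent.SpFP87.ThickAffineModel
/-!
Lifting functions along thickenings of affine etale groupoids.
-/

set_option autoImplicit false
set_option backward.isDefEq.respectTransparency false
universe u
open TensorProduct

namespace Groth.Agent.SpFP87.ThickAffine

/-- A ring seen as an algebra through a given map. -/
def Via {B R : Type u} [CommRing B] [CommRing R] (_f : B →+* R) : Type u := R

instance {B R : Type u} [CommRing B] [CommRing R] (f : B →+* R) : CommRing (Via f) :=
  inferInstanceAs (CommRing R)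

noncomputable instance {B R : Type u} [CommRing B] [CommRing R] (f : B →+* R) : Algebra B (Via f) :=
  RingHom.toAlgebra (S := Via f) f

/-- The underlying element. -/
def Via.out {B R : Type u} [CommRing B] [CommRing R] {f : B →+* R} : Via f →+* R := RingHom.id R

/-- View an element of the ring. -/
def Via.into {B R : Type u} [CommRing B] [CommRing R] (f : B →+* R) : R →+* Via f := RingHom.id R

theorem etale_quotientMap {B R : Type u} [CommRing B] [CommRing R] [Algebra B R] [Algebra.Etale B R]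
    (J : Ideal B) [Algebra (B ⧸ J) (R ⧸ J.map (algebraMap B R))]
    [IsScalarTower B (B ⧸ J) (R ⧸ J.map (algebraMap B R))] :
    Algebra.Etale (B ⧸ J) (R ⧸ J.map (algebraMap B R)) := by
  let f := (Algebra.TensorProduct.quotIdealMapEquivTensorQuot R J).symm.toAlgHom.toRingHom
  let h := (Algebra.TensorProduct.quotIdealMapEquivTensorQuot R J)
  let c : (B ⧸ J) ⊗[B] R ≃ₐ[B] R ⧸ J.map (algebraMap B R) :=
    (Algebra.TensorProduct.comm B (B ⧸ J) R).trans (h.symm.restrictScalars B)
  exact Algebra.Etale.of_equiv (AlgEquiv.ofRingEquiv (f := c.toRingEquiv) fun x => by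
    obtain ⟨b, rfl⟩ := Ideal.Quotient.mk_surjective x
    rw [← Ideal.Quotient.algebraMap_eq, ← IsScalarTower.algebraMap_apply, ← IsScalarTower.algebraMap_apply]
    exact c.commutes b)

section

variable {B R B₀ A : Type u} [CommRing B] [CommRing R] [CommRing B₀] [CommRing A] [Algebra A B₀]
  (s t : B →+* R) (π : B →+* B₀) (ρ : R →+* B₀ ⊗[A] B₀)
  (hρs : ∀ b, ρ (s b) = π b ⊗ₜ 1) (hρt : ∀ b, ρ (t b) = 1 ⊗ₜ π b)
  {A' : Subring B} {C : Type u} [CommRing C] [Algebra A' C]

/-- The comparison of a groupoid with its model, modulo a stable ideal. -/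
theorem exists_model_iso (hρk : RingHom.ker ρ ≤ (RingHom.ker π).map t) (ht : t.Etale)
    (hnil : RingHom.ker π ≤ nilradical B) [Algebra.Etale A' C] (γ : C →ₐ[A'] B)
    (Θ : B ⊗[A'] C →+* B₀ ⊗[A] B₀) (hΘ : ∀ x c, Θ (x ⊗ₜ c) = π (γ c) ⊗ₜ π x)
    (hΘs : Function.Surjective Θ)
    (hΘk : RingHom.ker Θ ≤ (RingHom.ker π).map (algebraMap B (B ⊗[A'] C)))
    (hρs : ∀ b, ρ (s b) = π b ⊗ₜ 1) (hρt : ∀ b, ρ (t b) = 1 ⊗ₜ π b)
    (J : Ideal B) (hJ : J ≤ RingHom.ker π) (heq : ∀ a : A', s (a : B) - t (a : B) ∈ J.map t) :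
    ∃ Ψ : (B ⧸ J) ⊗[A'] C →+* R ⧸ J.map t,
      (∀ x c, Ψ (Ideal.Quotient.mk J x ⊗ₜ c) = Ideal.Quotient.mk _ (t x * s (γ c))) ∧
      Function.Bijective Ψ := by
  letI : Algebra B R := t.toAlgebra
  haveI : Algebra.Etale B R := ht
  letI : Algebra (B ⧸ J) (R ⧸ J.map t) :=
    (Ideal.quotientMap (J.map t) t Ideal.le_comap_map).toAlgebra
  haveI : IsScalarTower B (B ⧸ J) (R ⧸ J.map t) := IsScalarTower.of_algebraMap_eq fun _ => rfl
  haveI : IsScalarTower A' (B ⧸ J) (R ⧸ J.map t) := IsScalarTower.of_algebraMap_eq fun _ => rfl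
  haveI : Algebra.Etale (B ⧸ J) (R ⧸ J.map t) := etale_quotientMap J
  let σ : C →ₐ[A'] R ⧸ J.map t :=
    { (Ideal.Quotient.mk (J.map t)).comp (s.comp γ.toRingHom) with
      commutes' := fun a => by
        change Ideal.Quotient.mk (J.map t) (s (γ (algebraMap A' C a))) = _
        rw [γ.commutes]
        exact Ideal.Quotient.eq.2 (heq a) }
  let Ψ : (B ⧸ J) ⊗[A'] C →ₐ[B ⧸ J] R ⧸ J.map t :=
    Algebra.TensorProduct.lift (Algebra.ofId _ _) σ fun _ _ => Commute.all _ _
  have hΨ : ∀ x c, Ψ (Ideal.Quotient.mk J x ⊗ₜ c) = Ideal.Quotient.mk _ (t x * s (γ c)) := fun x c => rfl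
  letI : Algebra ((B ⧸ J) ⊗[A'] C) (R ⧸ J.map t) := Ψ.toRingHom.toAlgebra
  haveI : IsScalarTower (B ⧸ J) ((B ⧸ J) ⊗[A'] C) (R ⧸ J.map t) :=
    IsScalarTower.of_algebraMap_eq fun x => (Ψ.commutes x).symm
  haveI : Algebra.Etale ((B ⧸ J) ⊗[A'] C) (R ⧸ J.map t) := Algebra.Etale.of_restrictScalars (B ⧸ J) _ _
  let q : B ⊗[A'] C →ₐ[A'] (B ⧸ J) ⊗[A'] C :=
    Algebra.TensorProduct.map (Ideal.Quotient.mkₐ A' J) (AlgHom.id A' C)
  have hq : Function.Surjective q :=
    Algebra.TensorProduct.map_surjective _ _ Ideal.Quotient.mk_surjective Function.surjective_id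
  have hρJ : J.map t ≤ RingHom.ker ρ := Ideal.map_le_iff_le_comap.2 fun j hj => by
    rw [Ideal.mem_comap, RingHom.mem_ker, hρt, show π j = 0 from hJ hj, tmul_zero]
  have key : ∀ z r, Ψ (q z) = Ideal.Quotient.mk _ r → ρ r = Θ z := fun z => by
    induction z using TensorProduct.induction_on with
    | zero =>
      intro r hr
      rw [map_zero, map_zero, eq_comm, Ideal.Quotient.eq_zero_iff_mem] at hr
      rw [map_zero]; exact hρJ hr
    | tmul x c =>
      intro r hr
      have h1 := hρJ (Ideal.Quotient.eq.1 (hr.symm.trans (hΨ x c)))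
      rw [RingHom.mem_ker, map_sub, sub_eq_zero] at h1
      rw [h1, map_mul, hρs, hρt, hΘ, Algebra.TensorProduct.tmul_mul_tmul, one_mul, mul_one]
    | add x y hx hy =>
      intro r hr
      obtain ⟨u, hu⟩ := Ideal.Quotient.mk_surjective (Ψ (q x))
      rw [map_add, map_add, ← hu] at hr
      have hr' : Ψ (q y) = Ideal.Quotient.mk _ (r - u) := by rw [map_sub, ← hr, add_sub_cancel_left]
      rw [map_add, ← hx u hu.symm, ← hy (r - u) hr', ← map_add, add_sub_cancel]
  refine ⟨Ψ.toRingHom, hΨ, ?_⟩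
  refine bijective_of_bijective_mod_nil ((RingHom.ker π).map ((q.toRingHom).comp (algebraMap B (B ⊗[A'] C))))
    (Ideal.map_le_iff_le_comap.2 fun b hb => (mem_nilradical.1 (hnil hb)).map _) (fun e => ?_) ?_
  · obtain ⟨r, rfl⟩ := Ideal.Quotient.mk_surjective e
    obtain ⟨z, hz⟩ := hΘs (ρ r)
    refine ⟨q z, ?_⟩
    obtain ⟨u, hu⟩ := Ideal.Quotient.mk_surjective (Ψ (q z))
    change Ideal.Quotient.mk _ r - Ψ (q z) ∈ _
    rw [← hu, ← map_sub]
    have h1 : r - u ∈ (RingHom.ker π).map t := hρk (by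
      rw [RingHom.mem_ker, map_sub, key z u hu.symm, hz, sub_self])
    have h2 := Ideal.mem_map_of_mem (Ideal.Quotient.mk (J.map t)) h1
    rw [Ideal.map_map] at h2 ⊢
    have he : (algebraMap ((B ⧸ J) ⊗[A'] C) (R ⧸ J.map t)).comp (q.toRingHom.comp (algebraMap B (B ⊗[A'] C))) =
        (Ideal.Quotient.mk (J.map t)).comp t := RingHom.ext fun b => by
      change Ψ (Ideal.Quotient.mk J b ⊗ₜ[A'] (1 : C)) = _
      rw [hΨ, map_one, map_one, mul_one]
      rfl
    rw [he]
    exact h2
  · intro w hw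
    obtain ⟨z, rfl⟩ := hq w
    have hz := key z 0 (by rw [map_zero]; exact hw)
    rw [map_zero] at hz
    have := Ideal.mem_map_of_mem q.toRingHom (hΘk hz.symm)
    rwa [Ideal.map_map] at this

end

/-- A module killed by `J` is acted upon by a model of the groupoid. -/
theorem exists_act {A' B C : Type u} [CommRing A'] [CommRing B] [CommRing C] [Algebra A' B] [Algebra A' C]
    (J : Ideal B) (M : Type u) [AddCommGroup M] [Module B M] [Module A' M] [IsScalarTower A' B M]
    (hM : ∀ j ∈ J, ∀ m : M, j • m = 0) :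
    ∃ L : (B ⧸ J) ⊗[A'] C →ₗ[B] (M →ₗ[B] M ⊗[A'] C), ∀ d m, L (1 ⊗ₜ d) m = m ⊗ₜ d := by
  let W₀ : C →ₗ[A'] (M →ₗ[B] M ⊗[A'] C) :=
    { toFun := fun d =>
        { toFun := fun m => m ⊗ₜ d
          map_add' := fun m n => add_tmul m n d
          map_smul' := fun b m => (smul_tmul' b m d).symm }
      map_add' := fun d d' => LinearMap.ext fun m => tmul_add m d d'
      map_smul' := fun a d => LinearMap.ext fun m => tmul_smul a m d }
  let W₁ : (B ⧸ J) →ₗ[B] (C →ₗ[A'] (M →ₗ[B] M ⊗[A'] C)) :=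
    Submodule.liftQ J ((LinearMap.toSpanSingleton B _ W₀)) (fun j hj => by
      refine LinearMap.mem_ker.2 (LinearMap.ext fun d => LinearMap.ext fun m => ?_)
      change j • (m ⊗ₜ[A'] d) = 0
      rw [smul_tmul', hM j hj m, zero_tmul])
  refine ⟨TensorProduct.AlgebraTensorModule.lift W₁, fun d m => ?_⟩
  rw [TensorProduct.AlgebraTensorModule.lift_tmul]
  change (1 : B) • (m ⊗ₜ[A'] d) = _
  rw [one_smul]

section

variable {B R R3 : Type u} [CommRing B] [CommRing R] [CommRing R3] (s t : B →+* R)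
  (p01 p02 p12 : R →+* R3) (h1 : ∀ b, p01 (t b) = p12 (s b)) (h2 : ∀ b, p01 (s b) = p02 (s b))
  (h3 : ∀ b, p12 (t b) = p02 (t b))

/-- Three-fold products are the pushout of two arrows. -/
def IsPush : Prop :=
  ∃ φ : Via t ⊗[B] Via s →+* R3, (∀ x y, φ (x ⊗ₜ y) = p01 (Via.out x) * p12 (Via.out y)) ∧
    Function.Bijective φ

variable {A' : Subring B} {C : Type u} [CommRing C] [Algebra A' C]

include h1 h2 h3 in
/-- Vanishing of the first cohomology of the graded pieces of a stable ideal. -/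
theorem exists_sub_mem (hpush : IsPush s t p01 p12) (ht : t.Flat) [Module.FaithfullyFlat A' C]
    (γ : C →ₐ[A'] B) (J I I' : Ideal B) (hIs : I.map s = I.map t) (hI's : I'.map s = I'.map t)
    (hJs : J.map s = J.map t) (hle : J * I ≤ I')
    (heq : ∀ a : A', s (a : B) - t (a : B) ∈ J.map t)
    (Ψ : (B ⧸ J) ⊗[A'] C →+* R ⧸ J.map t)
    (hΨ : ∀ x c, Ψ (Ideal.Quotient.mk J x ⊗ₜ c) = Ideal.Quotient.mk _ (t x * s (γ c)))
    (hΨb : Function.Bijective Ψ)
    (c : R) (hc : c ∈ I.map t) (hcoc : p01 c + p12 c = p02 c) :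
    ∃ k ∈ I, s k - t k - c ∈ I'.map t := by
  classical
  haveI : Module.Flat B (Via t) := ht
  -- the module of classes, linear for the first projection
  let Is : Ideal (Via s) := I.map (algebraMap B (Via s))
  let I's : Ideal (Via s) := I'.map (algebraMap B (Via s))
  let M : Submodule B (Via s ⧸ I's) := (Is.map (Ideal.Quotient.mk I's)).restrictScalars B
  let cls : ∀ r : R, r ∈ I.map t → M := fun r hr =>
    ⟨Ideal.Quotient.mk I's (Via.into s r), Ideal.mem_map_of_mem _ (show r ∈ I.map s from hIs.symm ▸ hr)⟩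
  have hJI : ∀ x ∈ J.map t, ∀ r ∈ I.map t, x * r ∈ I'.map s := fun x hx r hr => by
    rw [hI's]
    refine Ideal.map_mono hle ?_
    rw [Ideal.map_mul]
    exact Ideal.mul_mem_mul hx hr
  have hJM : ∀ j ∈ J, ∀ m : M, j • m = 0 := fun j hj m => by
    obtain ⟨r, hr, hrm⟩ := (Ideal.mem_map_iff_of_surjective _ Ideal.Quotient.mk_surjective).1 m.2
    refine Subtype.ext ?_
    rw [Submodule.coe_smul, ← hrm, Algebra.smul_def, IsScalarTower.algebraMap_apply B (Via s) (Via s ⧸ I's),
      Ideal.Quotient.algebraMap_eq, ← map_mul, ZeroMemClass.coe_zero, Ideal.Quotient.eq_zero_iff_mem]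
    exact hJI _ (hJs ▸ Ideal.mem_map_of_mem s hj) r (hIs ▸ hr : r ∈ I.map t)
  have hdI : ∀ k ∈ I, s k - t k ∈ I.map t := fun k hk =>
    sub_mem (hIs ▸ Ideal.mem_map_of_mem s hk) (Ideal.mem_map_of_mem t hk)
  let D : I →ₗ[A'] M :=
    { toFun := fun k => cls _ (hdI k.1 k.2)
      map_add' := fun k l => Subtype.ext (by
        simp only [cls, Submodule.coe_add, map_add, map_sub]; abel)
      map_smul' := fun a k => Subtype.ext (by
        change Ideal.Quotient.mk I's (Via.into s (s ((a : B) * k.1) - t ((a : B) * k.1))) =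
          Ideal.Quotient.mk I's (Via.into s (s (a : B)) * Via.into s (s k.1 - t k.1))
        rw [Ideal.Quotient.eq]
        change (s ((a : B) * k.1) - t ((a : B) * k.1)) - s (a : B) * (s k.1 - t k.1) ∈ I'.map s
        have := hJI _ (heq a) _ (Ideal.mem_map_of_mem t k.2)
        convert this using 1
        simp only [map_mul]
        ring) }
  -- the retraction to the model
  have heΨ : ∀ x, Ψ ((RingEquiv.ofBijective Ψ hΨb).symm x) = x := fun x =>
    (RingEquiv.ofBijective Ψ hΨb).apply_symm_apply x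
  let χ : Via t →ₗ[B] (B ⧸ J) ⊗[A'] C :=
    { toFun := fun r => (RingEquiv.ofBijective Ψ hΨb).symm (Ideal.Quotient.mk _ (Via.out r))
      map_add' := fun _ _ => by simp only [map_add]
      map_smul' := fun b r => by
        rw [RingHom.id_apply]
        apply hΨb.1
        have hsm : ∀ z : (B ⧸ J) ⊗[A'] C, b • z = (Ideal.Quotient.mk J b ⊗ₜ[A'] (1 : C)) * z := fun z => by
          induction z using TensorProduct.induction_on with
          | zero => simp
          | tmul x e =>
            rw [smul_tmul', Algebra.TensorProduct.tmul_mul_tmul, one_mul, Algebra.smul_def,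
              Ideal.Quotient.algebraMap_eq]
          | add x y hx hy => rw [smul_add, hx, hy, mul_add]
        rw [Algebra.smul_def, hsm]
        change Ψ ((RingEquiv.ofBijective Ψ hΨb).symm _) = Ψ ((Ideal.Quotient.mk J b ⊗ₜ[A'] (1 : C)) * _)
        rw [heΨ, map_mul Ψ, heΨ, hΨ,
          map_one, map_one, mul_one, map_mul Via.out, map_mul]
        rfl }
  have hχ : ∀ d, χ (Via.into t (s (γ d))) = 1 ⊗ₜ d := fun d => by
    apply hΨb.1
    refine (heΨ _).trans ?_
    rw [show (1 : B ⧸ J) = Ideal.Quotient.mk J 1 from rfl, hΨ, map_one, one_mul]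
    rfl
  obtain ⟨L, hL⟩ := exists_act (A' := A') (C := C) J M hJM
  let W : Via t ⊗[B] M →ₗ[B] M ⊗[A'] C := TensorProduct.lift (L.comp χ)
  have hW : ∀ d m, W (Via.into t (s (γ d)) ⊗ₜ m) = m ⊗ₜ d := fun d m => by
    change L (χ (Via.into t (s (γ d)))) m = _
    rw [hχ, hL]
  -- a preimage of the cocycle in the model
  have hgen : ∃ (n : ℕ) (k : Fin n → I) (d : Fin n → C), c - ∑ l, t (k l).1 * s (γ (d l)) ∈ I'.map t := by
    clear hcoc
    induction hc using Submodule.span_induction with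
    | mem x hx =>
      obtain ⟨i, hi, rfl⟩ := hx
      exact ⟨1, fun _ => ⟨i, hi⟩, fun _ => 1, by simp⟩
    | zero => exact ⟨0, Fin.elim0, Fin.elim0, by simp⟩
    | add x y _ _ hx hy =>
      obtain ⟨n, k, d, h⟩ := hx
      obtain ⟨m, k', d', h'⟩ := hy
      refine ⟨n + m, Fin.append k k', Fin.append d d', ?_⟩
      rw [Fin.sum_univ_add]
      simp only [Fin.append_left, Fin.append_right]
      convert add_mem h h' using 1
      abel
    | smul r x _ hx =>
      obtain ⟨n, k, d, h⟩ := hx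
      obtain ⟨z, hz⟩ := hΨb.2 (Ideal.Quotient.mk _ r)
      suffices ∀ z : (B ⧸ J) ⊗[A'] C, ∀ r, Ψ z = Ideal.Quotient.mk _ r →
          ∃ (m : ℕ) (k' : Fin m → I) (d' : Fin m → C),
            r * (∑ l, t (k l).1 * s (γ (d l))) - ∑ l, t (k' l).1 * s (γ (d' l)) ∈ I'.map t by
        obtain ⟨m, k', d', h'⟩ := this z r hz
        refine ⟨m, k', d', ?_⟩
        convert add_mem ((I'.map t).mul_mem_left r h) h' using 1
        simp only [smul_eq_mul]
        ring
      intro z
      induction z using TensorProduct.induction_on with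
      | zero =>
        intro r hr
        rw [map_zero, eq_comm, Ideal.Quotient.eq_zero_iff_mem] at hr
        refine ⟨0, Fin.elim0, Fin.elim0, ?_⟩
        rw [Fin.sum_univ_zero, sub_zero, Finset.mul_sum]
        exact Ideal.sum_mem _ fun l _ => hI's ▸ hJI r hr _ (Ideal.mul_mem_right _ _ (Ideal.mem_map_of_mem t (k l).2))
      | tmul x e =>
        obtain ⟨x, rfl⟩ := Ideal.Quotient.mk_surjective x
        intro r hr
        refine ⟨n, fun l => ⟨x * (k l).1, I.mul_mem_left x (k l).2⟩, fun l => e * d l, ?_⟩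
        rw [hΨ, Ideal.Quotient.eq] at hr
        rw [Finset.mul_sum, ← Finset.sum_sub_distrib]
        refine Ideal.sum_mem _ fun l _ => ?_
        have := hJI _ ((J.map t).neg_mem hr) _
          (Ideal.mul_mem_right (s (γ (d l))) _ (Ideal.mem_map_of_mem t (k l).2))
        rw [hI's] at this
        convert this using 1
        simp only [map_mul]
        ring
      | add y y' hy hy' =>
        intro r hr
        obtain ⟨u, hu⟩ := Ideal.Quotient.mk_surjective (Ψ y)
        rw [map_add, ← hu, eq_comm, ← sub_eq_iff_eq_add', ← map_sub] at hr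
        obtain ⟨m, k', d', h'⟩ := hy u hu.symm
        obtain ⟨m', k'', d'', h''⟩ := hy' (r - u) hr.symm
        refine ⟨m + m', Fin.append k' k'', Fin.append d' d'', ?_⟩
        rw [Fin.sum_univ_add]
        simp only [Fin.append_left, Fin.append_right]
        convert add_mem h' h'' using 1
        ring
  obtain ⟨n, k, d, hkd⟩ := hgen
  let m : M := cls c hc
  let w : Via t ⊗[B] M := (1 : Via t) ⊗ₜ m + ∑ l, Via.into t (s (γ (d l))) ⊗ₜ D (k l)
  -- it is zero, being zero in the three-fold product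
  have hw : w = 0 := by
    apply Module.Flat.lTensor_preserves_injective_linearMap (M := Via t) M.subtype M.injective_subtype
    rw [map_zero]
    let q : Via t ⊗[B] Via s →ₐ[B] Via t ⊗[B] (Via s ⧸ I's) :=
      Algebra.TensorProduct.map (AlgHom.id B (Via t)) (Ideal.Quotient.mkₐ B I's)
    let w' : Via t ⊗[B] Via s := (1 : Via t) ⊗ₜ Via.into s c +
      ∑ l, Via.into t (s (γ (d l))) ⊗ₜ Via.into s (s (k l).1 - t (k l).1)
    have hww : M.subtype.lTensor (Via t) w = q w' := by
      simp only [w, w', map_add, map_sum, LinearMap.lTensor_tmul, q, Algebra.TensorProduct.map_tmul]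
      rfl
    rw [hww]
    obtain ⟨φ, hφ, hφb⟩ := hpush
    have hker : I's.map (Algebra.TensorProduct.includeRight : Via s →ₐ[B] Via t ⊗[B] Via s) ≤
        RingHom.ker q.toRingHom := Ideal.map_le_iff_le_comap.2 fun y hy => by
      change q (1 ⊗ₜ y) = 0
      simp [q, Ideal.Quotient.eq_zero_iff_mem.2 hy]
    refine hker ?_
    have hmap : (I'.map s).map p12 ≤ (I's.map (Algebra.TensorProduct.includeRight : Via s →ₐ[B] Via t ⊗[B] Via s)).map φ := by
      rw [Ideal.map_le_iff_le_comap]
      intro y hy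
      rw [Ideal.mem_comap]
      have := Ideal.mem_map_of_mem φ (Ideal.mem_map_of_mem
        (Algebra.TensorProduct.includeRight : Via s →ₐ[B] Via t ⊗[B] Via s) (show Via.into s y ∈ I's from hy))
      rw [Algebra.TensorProduct.includeRight_apply, hφ, map_one, map_one, one_mul] at this
      exact this
    have hmem : φ w' ∈ (I'.map s).map p12 := by
      have h01 : (I'.map t).map p01 ≤ (I'.map s).map p12 := by
        rw [Ideal.map_map, Ideal.map_map]
        exact (congrArg (fun f => I'.map f) (RingHom.ext h1 : p01.comp t = p12.comp s)).le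
      have h02 : (I'.map t).map p02 ≤ (I'.map s).map p12 := by
        rw [hI's, Ideal.map_map, Ideal.map_map]
        exact (congrArg (fun f => I'.map f) (RingHom.ext h3 : p12.comp t = p02.comp t)).ge
      have e1 := sub_mem (h02 (Ideal.mem_map_of_mem p02 hkd)) (h01 (Ideal.mem_map_of_mem p01 hkd))
      have hφw : φ w' = p01 1 * p12 c + ∑ l, p01 (s (γ (d l))) * p12 (s (k l).1 - t (k l).1) := by
        simp only [w', map_add, map_sum, hφ]
        rfl
      convert e1 using 1
      rw [hφw]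
      simp only [map_add, map_sum, map_sub, map_mul, map_one, one_mul, mul_sub, Finset.sum_sub_distrib, ← h2, ← h3, ← h1]
      rw [← hcoc]
      simp only [mul_comm]
      abel
    obtain ⟨z, hz, hzw⟩ := (Ideal.mem_map_iff_of_surjective φ hφb.2).1 (hmap hmem)
    rwa [hφb.1 hzw] at hz
  have h0 := congrArg W hw
  rw [map_zero, map_add, map_sum] at h0
  have hone : W ((1 : Via t) ⊗ₜ m) = m ⊗ₜ (1 : C) := by
    rw [← hW 1 m, map_one, map_one, map_one]
  rw [hone] at h0
  simp only [hW] at h0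
  let Q := LinearMap.range D
  have hQ : (Q.mkQ m) ⊗ₜ[A'] (1 : C) = 0 := by
    have := congrArg (Q.mkQ.rTensor C) h0
    rw [map_zero, map_add, map_sum] at this
    simpa [LinearMap.rTensor_tmul, (Submodule.Quotient.mk_eq_zero Q).2 (LinearMap.mem_range_self D _)] using this
  have hm : m ∈ Q := by
    refine (Submodule.Quotient.mk_eq_zero Q).1
      ((Module.FaithfullyFlat.one_tmul_eq_zero_iff A' _ (A := C) (Q.mkQ m)).1 ?_)
    have := congrArg (TensorProduct.comm A' _ C) hQ
    rwa [map_zero, TensorProduct.comm_tmul] at this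
  obtain ⟨k₁, hk₁⟩ := hm
  refine ⟨k₁.1, k₁.2, ?_⟩
  have := Ideal.Quotient.eq.1 (congrArg Subtype.val hk₁)
  rw [← hI's]
  exact this

end

end Groth.Agent.SpFP87.ThickAffine
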