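import Groth.Agent.SpFP87.ThickAffineGpd
/-!
The etale groupoid of a thickening of an affine scheme comes from a faithfully flat cover.
-/

set_option autoImplicit false
set_option backward.isDefEq.respectTransparency false
universe u
open TensorProduct

namespace Groth.Agent.SpFP87.ThickAffine

/-- An etale groupoid, which is that of a faithfully flat etale cover modulo a nil ideal, is that of
a faithfully flat etale cover, if finitely many sections of the ideal lie in a stable one of finite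
type. -/
theorem exists_groupoid_model {B R R3 B₀ A : Type u} [CommRing B] [CommRing R] [CommRing R3] [CommRing B₀]
    [CommRing A] [Algebra A B₀] [Algebra.Etale A B₀]
    (hA : Function.Surjective (PrimeSpectrum.comap (algebraMap A B₀)))
    (s t : B →+* R) (ht : t.Etale) (p01 p02 p12 : R →+* R3) (h1 : ∀ b, p01 (t b) = p12 (s b))
    (h2 : ∀ b, p01 (s b) = p02 (s b)) (h3 : ∀ b, p12 (t b) = p02 (t b))
    (hpush : IsPush s t p01 p12) (π : B →+* B₀) (hπ : Function.Surjective π)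
    (hnil : RingHom.ker π ≤ nilradical B) (ρ : R →+* B₀ ⊗[A] B₀)
    (hρs : ∀ b, ρ (s b) = π b ⊗ₜ 1) (hρt : ∀ b, ρ (t b) = 1 ⊗ₜ π b)
    (hρk : RingHom.ker ρ ≤ (RingHom.ker π).map t)
    (hstab : ∀ F : Finset R, (F : Set R) ⊆ (RingHom.ker π).map t →
      ∃ J : Ideal B, J.FG ∧ J ≤ RingHom.ker π ∧ J.map s = J.map t ∧ (F : Set R) ⊆ J.map t) :
    ∃ (A' : Subring B) (C : Type u) (_ : CommRing C) (_ : Algebra A' C),
      Algebra.Etale A' C ∧ Module.FaithfullyFlat A' C ∧ (∀ a : A', s (a : B) = t (a : B)) ∧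
      ∃ (γ : C →ₐ[A'] B) (Ψ : B ⊗[A'] C →+* R),
        (∀ x c, Ψ (x ⊗ₜ c) = t x * s (γ c)) ∧ Function.Bijective Ψ := by
  classical
  obtain ⟨F, hF⟩ := exists_etale_model A B₀ hA
  choose g₀ hg₀ using fun a : A => hπ (algebraMap A B₀ a)
  have hdiff : ∀ g : A → B, (∀ f ∈ F, π (g f) = algebraMap A B₀ f) →
      ∀ f ∈ F, s (g f) - t (g f) ∈ (RingHom.ker π).map t := fun g hg f hf => hρk (by
    rw [RingHom.mem_ker, map_sub, hρs, hρt, hg f hf, sub_eq_zero]
    rw [Algebra.algebraMap_eq_smul_one, smul_tmul])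
  obtain ⟨J, hJfg, hJle, hJst, hJF⟩ := hstab (F.image fun f => s (g₀ f) - t (g₀ f)) (by
    intro x hx
    obtain ⟨f, hf, rfl⟩ := Finset.mem_image.1 (Finset.mem_coe.1 hx)
    exact hdiff g₀ (fun f _ => hg₀ f) f hf)
  -- a subring on which the two maps agree modulo a stable ideal
  have hclos : ∀ (K : Ideal R) (g : A → B), (∀ f ∈ F, s (g f) - t (g f) ∈ K) →
      ∀ a : (Subring.closure (g '' F) : Subring B), s (a : B) - t (a : B) ∈ K := by
    rintro K g hg ⟨a, ha⟩
    have hsub : Subring.closure (g '' F) ≤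
        RingHom.eqLocus ((Ideal.Quotient.mk K).comp s) ((Ideal.Quotient.mk K).comp t) :=
      Subring.closure_le.2 (by
        rintro _ ⟨f, hf, rfl⟩
        exact Ideal.Quotient.eq.2 (hg f hf))
    exact Ideal.Quotient.eq.1 (hsub ha)
  have main : ∀ n : ℕ, ∃ g : A → B, (∀ f ∈ F, π (g f) = algebraMap A B₀ f) ∧
      ∀ f ∈ F, s (g f) - t (g f) ∈ (J ^ (n + 1)).map t := by
    intro n
    induction n with
    | zero =>
      refine ⟨g₀, fun f _ => hg₀ f, fun f hf => ?_⟩
      rw [zero_add, pow_one]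
      exact hJF (Finset.mem_coe.2 (Finset.mem_image_of_mem _ hf))
    | succ n ih =>
      obtain ⟨g, hg, hgd⟩ := ih
      obtain ⟨C, _, _, hC, hff, γ, Θ, hΘ, hΘs, hΘk⟩ := hF B π hπ hnil g hg
      have heq := hclos ((J.map t)) g fun f hf =>
        Ideal.map_mono (Ideal.pow_le_self n.succ_ne_zero) (hgd f hf)
      obtain ⟨Ψ, hΨ, hΨb⟩ := exists_model_iso s t π ρ hρk ht hnil γ Θ hΘ hΘs hΘk hρs hρt J hJle heq
      have hk : ∀ f ∈ F, ∃ k ∈ J ^ (n + 1),
          s k - t k - (s (g f) - t (g f)) ∈ (J ^ (n + 2)).map t := fun f hf =>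
        exists_sub_mem s t p01 p02 p12 h1 h2 h3 hpush (letI := t.toAlgebra; haveI : Algebra.Etale B R := ht; (inferInstance : Module.Flat B R)) γ J (J ^ (n + 1)) (J ^ (n + 2))
          (by rw [Ideal.map_pow, Ideal.map_pow, hJst]) (by rw [Ideal.map_pow, Ideal.map_pow, hJst]) hJst
          (by rw [← pow_succ'])
          heq Ψ hΨ hΨb _ (hgd f hf) (by
            rw [map_sub, map_sub, map_sub, h1, h2, h3]; abel)
      choose! k hk hkd using hk
      refine ⟨fun f => g f - k f, fun f hf => ?_, fun f hf => ?_⟩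
      · rw [map_sub, hg f hf, show π (k f) = 0 from hJle (Ideal.pow_le_self n.succ_ne_zero (hk f hf)), sub_zero]
      · convert (Ideal.map t (J ^ (n + 1 + 1))).neg_mem (hkd f hf) using 1
        rw [map_sub, map_sub]; ring
  obtain ⟨N, hN⟩ := (Ideal.FG.isNilpotent_iff_le_nilradical hJfg).2 (hJle.trans hnil)
  obtain ⟨g, hg, hgd⟩ := main N
  obtain ⟨C, _, _, hC, hff, γ, Θ, hΘ, hΘs, hΘk⟩ := hF B π hπ hnil g hg
  have h0 : ∀ a : (Subring.closure (g '' F) : Subring B), s (a : B) - t (a : B) ∈ (⊥ : Ideal B).map t :=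
    hclos _ g fun f hf => by
      have := hgd f hf
      rwa [pow_succ, hN, Ideal.zero_eq_bot, Ideal.bot_mul] at this
  obtain ⟨Ψ, hΨ, hΨb⟩ := exists_model_iso s t π ρ hρk ht hnil γ Θ hΘ hΘs hΘk hρs hρt ⊥ bot_le h0
  refine ⟨_, C, inferInstance, inferInstance, hC, hff, fun a => sub_eq_zero.1 (by simpa using h0 a), γ, ?_⟩
  let eR : R ⧸ (⊥ : Ideal B).map t ≃+* R :=
    (Ideal.quotEquivOfEq Ideal.map_bot).trans (RingEquiv.quotientBot R)
  let q := Algebra.TensorProduct.map (Ideal.Quotient.mkₐ (Subring.closure (g '' F) : Subring B) (⊥ : Ideal B))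
    (AlgHom.id (Subring.closure (g '' F) : Subring B) C)
  refine ⟨eR.toRingHom.comp (Ψ.comp q.toRingHom), fun x c => ?_, ?_⟩
  · change eR (Ψ (q (x ⊗ₜ c))) = _
    simp only [q, Algebra.TensorProduct.map_tmul]
    exact (congrArg eR (hΨ x c)).trans rfl
  · refine eR.bijective.comp (hΨb.comp ⟨?_, Algebra.TensorProduct.map_surjective _ _ Ideal.Quotient.mk_surjective
      Function.surjective_id⟩)
    refine (injective_iff_map_eq_zero _).2 fun z hz => ?_
    have hq : RingHom.ker q = ⊥ := by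
      refine (Algebra.TensorProduct.rTensor_ker _ Ideal.Quotient.mk_surjective).trans ?_
      rw [show RingHom.ker (Ideal.Quotient.mkₐ (Subring.closure (g '' F) : Subring B) (⊥ : Ideal B)) = ⊥ from
        Ideal.mk_ker, Ideal.map_bot]
    exact hq.le (show z ∈ RingHom.ker q from hz)

end Groth.Agent.SpFP87.ThickAffine
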