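import Groth.Agent.SpFP87.ThickAffineRing
/-!
Finite models of etale covers of affine schemes, lifted along thickenings.
-/

set_option autoImplicit false
set_option backward.isDefEq.respectTransparency false
universe u
open TensorProduct

namespace Groth.Agent.SpFP87.ThickAffine

theorem nontrivial_tensor_field {k K : Type u} [Field k] [Field K] [Algebra k K] (W : Type u) [AddCommGroup W]
    [Module k W] [Nontrivial W] : Nontrivial (K ⊗[k] W) := by
  haveI : Module.Free k K := Module.Free.of_divisionRing _ _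
  haveI : Module.FaithfullyFlat k K := inferInstance
  exact (Module.FaithfullyFlat.nontrivial_tensorProduct_iff_right k K).2 inferInstance

/-- Being in the image of the spectrum is stable under base change. -/
theorem mem_range_comap_baseChange {A₀ A₁ B₀ : Type u} [CommRing A₀] [CommRing A₁] [CommRing B₀]
    [Algebra A₀ A₁] [Algebra A₀ B₀] (p : PrimeSpectrum A₁)
    (h : PrimeSpectrum.comap (algebraMap A₀ A₁) p ∈ Set.range (PrimeSpectrum.comap (algebraMap A₀ B₀))) :
    p ∈ Set.range (PrimeSpectrum.comap (algebraMap A₁ (A₁ ⊗[A₀] B₀))) := by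
  let p₀ := PrimeSpectrum.comap (algebraMap A₀ A₁) p
  haveI := (PrimeSpectrum.nontrivial_iff_mem_rangeComap p₀).2 h
  refine (PrimeSpectrum.nontrivial_iff_mem_rangeComap p).1 ?_
  let k₁ := p.asIdeal.ResidueField
  let k₀ := p₀.asIdeal.ResidueField
  let j : k₀ →ₐ[A₀] k₁ := Ideal.ResidueField.mapₐ _ _ (Algebra.ofId A₀ A₁) rfl
  letI : Algebra k₀ k₁ := j.toRingHom.toAlgebra
  haveI : IsScalarTower A₀ k₀ k₁ := IsScalarTower.of_algebraMap_eq fun a => (j.commutes a).symm
  haveI : Nontrivial (k₁ ⊗[k₀] (k₀ ⊗[A₀] B₀)) := nontrivial_tensor_field _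
  exact ((Algebra.TensorProduct.cancelBaseChange A₀ k₀ k₁ k₁ B₀).toRingEquiv.toEquiv.trans
    (Algebra.TensorProduct.cancelBaseChange A₀ A₁ k₁ k₁ B₀).toRingEquiv.toEquiv.symm).symm.nontrivial

/-- A faithfully flat etale algebra is defined, as such, over a finitely generated subring. -/
theorem exists_model_surjective (A B : Type u) [CommRing A] [CommRing B] [Algebra A B]
    [Algebra.Etale A B] (hs : Function.Surjective (PrimeSpectrum.comap (algebraMap A B))) :
    ∃ (F : Finset A) (B₁ : Type u) (_ : CommRing B₁) (_ : Algebra (Algebra.adjoin ℤ (F : Set A)) B₁),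
      Algebra.Etale (Algebra.adjoin ℤ (F : Set A)) B₁ ∧
      Function.Surjective (PrimeSpectrum.comap (algebraMap (Algebra.adjoin ℤ (F : Set A)) B₁)) ∧
      Nonempty (B ≃ₐ[A] A ⊗[Algebra.adjoin ℤ (F : Set A)] B₁) := by
  classical
  obtain ⟨A₀, B₀, _, _, hA₀, hE, ⟨e⟩⟩ := Algebra.Etale.exists_subalgebra_fg ℤ A B
  obtain ⟨G, hG⟩ := hA₀
  have hopen := isOpen_range_comap (A := A₀) (B := B₀)
  obtain ⟨T, hT⟩ := (PrimeSpectrum.isClosed_iff_zeroLocus _).1 hopen.isClosed_compl
  have hI : (Ideal.span T).map (algebraMap A₀ A) = ⊤ := by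
    by_contra hne
    obtain ⟨m, hm, hle⟩ := Ideal.exists_le_maximal _ hne
    obtain ⟨q, hq⟩ := hs ⟨m, hm.isPrime⟩
    have h1 : PrimeSpectrum.comap (algebraMap A₀ A) ⟨m, hm.isPrime⟩ ∈ PrimeSpectrum.zeroLocus T :=
      fun t ht => hle (Ideal.mem_map_of_mem _ (Ideal.subset_span ht))
    rw [← hT] at h1
    refine h1 ⟨PrimeSpectrum.comap ((e.symm.toAlgHom.restrictScalars A₀).comp
      (Algebra.TensorProduct.includeRight : B₀ →ₐ[A₀] A ⊗[A₀] B₀)).toRingHom q, ?_⟩
    rw [← hq, ← PrimeSpectrum.comap_comp_apply, ← PrimeSpectrum.comap_comp_apply]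
    refine congrArg (fun f => PrimeSpectrum.comap f q) (RingHom.ext fun a => ?_)
    simp only [RingHom.comp_apply, AlgHom.toRingHom_eq_coe, RingHom.coe_coe, AlgHom.commutes]
    exact IsScalarTower.algebraMap_apply A₀ A B a
  have h1 : (1 : A) ∈ Submodule.span A ((algebraMap A₀ A) '' (Ideal.span T : Ideal A₀)) := hI.ge trivial
  obtain ⟨n, c, g, hcg⟩ := Submodule.mem_span_set'.1 h1
  let F : Finset A := G ∪ Finset.univ.image c
  have hle : A₀ ≤ Algebra.adjoin ℤ (F : Set A) :=
    hG ▸ Algebra.adjoin_mono (Finset.coe_subset.2 Finset.subset_union_left)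
  let A₁ := Algebra.adjoin ℤ (F : Set A)
  letI : Algebra A₀ A₁ := (Subalgebra.inclusion hle).toRingHom.toAlgebra
  haveI : IsScalarTower A₀ A₁ A := IsScalarTower.of_algebraMap_eq fun _ => rfl
  refine ⟨F, A₁ ⊗[A₀] B₀, inferInstance, inferInstance, inferInstance, fun p => ?_,
    ⟨e.trans (Algebra.TensorProduct.cancelBaseChange A₀ A₁ A A B₀).symm⟩⟩
  let p₀ := PrimeSpectrum.comap (algebraMap A₀ A₁) p
  have hp₀ : p₀ ∈ Set.range (PrimeSpectrum.comap (algebraMap A₀ B₀)) := by
    by_contra hne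
    have hz : p₀ ∈ PrimeSpectrum.zeroLocus T := hT.le hne
    refine p.isPrime.ne_top ((Ideal.eq_top_iff_one _).2 ?_)
    choose w hw hwg using fun k => (g k).2
    have hone : (1 : A₁) = ∑ k, (⟨c k, Algebra.subset_adjoin (Finset.mem_coe.2
        (Finset.mem_union_right _ (Finset.mem_image_of_mem c (Finset.mem_univ k))))⟩ : A₁) *
          algebraMap A₀ A₁ (w k) := by
      refine Subtype.ext ?_
      rw [OneMemClass.coe_one, AddSubmonoidClass.coe_finsetSum, ← hcg]
      exact Finset.sum_congr rfl fun k _ => by rw [smul_eq_mul, ← hwg k]; rfl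
    rw [hone]
    refine Ideal.sum_mem _ fun k _ => Ideal.mul_mem_left _ _ ?_
    exact (Ideal.span_le.2 hz : Ideal.span T ≤ p₀.asIdeal) (hw k)
  exact mem_range_comap_baseChange p hp₀

/-- The finitely many functions whose lifts make a thickening affine, with the lifted etale cover. -/
theorem exists_etale_model (A B₀ : Type u) [CommRing A] [CommRing B₀] [Algebra A B₀]
    [Algebra.Etale A B₀] (hs : Function.Surjective (PrimeSpectrum.comap (algebraMap A B₀))) :
    ∃ F : Finset A, ∀ (B : Type u) [CommRing B] (π : B →+* B₀), Function.Surjective π →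
      RingHom.ker π ≤ nilradical B → ∀ g : A → B, (∀ f ∈ F, π (g f) = algebraMap A B₀ f) →
      ∃ (C : Type u) (_ : CommRing C) (_ : Algebra (Subring.closure (g '' F) : Subring B) C),
        Algebra.Etale (Subring.closure (g '' F) : Subring B) C ∧
        Module.FaithfullyFlat (Subring.closure (g '' F) : Subring B) C ∧
        ∃ (γ : C →ₐ[(Subring.closure (g '' F) : Subring B)] B)
          (Θ : B ⊗[(Subring.closure (g '' F) : Subring B)] C →+* B₀ ⊗[A] B₀),
          (∀ x c, Θ (x ⊗ₜ c) = π (γ c) ⊗ₜ π x) ∧ Function.Surjective Θ ∧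
          RingHom.ker Θ ≤ (RingHom.ker π).map (algebraMap B (B ⊗[(Subring.closure (g '' F) : Subring B)] C)) := by
  classical
  obtain ⟨F, B₁, _, _, hE, hs₁, ⟨e⟩⟩ := exists_model_surjective A B₀ hs
  refine ⟨F, fun B _ π hπ hnil g hg => ?_⟩
  haveI : Module.FaithfullyFlat A B₀ := Module.FaithfullyFlat.of_comap_surjective hs
  have hinj : Function.Injective (algebraMap A B₀) := FaithfulSMul.algebraMap_injective A B₀
  let A' : Subring B := Subring.closure (g '' F)
  let A₁ := Algebra.adjoin ℤ (F : Set A)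
  have hmem : ∀ a : A', ∃ a₁ : A₁, algebraMap A B₀ a₁ = π a := by
    rintro ⟨a, ha⟩
    induction ha using Subring.closure_induction with
    | mem x hx =>
      obtain ⟨f, hf, rfl⟩ := hx
      exact ⟨⟨f, Algebra.subset_adjoin hf⟩, (hg f hf).symm⟩
    | zero => exact ⟨0, by simp⟩
    | one => exact ⟨1, by simp⟩
    | add x y _ _ hx hy =>
      obtain ⟨a, ha⟩ := hx; obtain ⟨b, hb⟩ := hy
      exact ⟨a + b, by simp [ha, hb]⟩
    | neg x _ hx =>
      obtain ⟨a, ha⟩ := hx
      exact ⟨-a, by simp [ha]⟩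
    | mul x y _ _ hx hy =>
      obtain ⟨a, ha⟩ := hx; obtain ⟨b, hb⟩ := hy
      exact ⟨a * b, by simp [ha, hb]⟩
  choose r hr using hmem
  let ρ : A' →+* A₁ :=
    { toFun := r
      map_one' := Subtype.ext (hinj (by simp [hr]))
      map_zero' := Subtype.ext (hinj (by simp [hr]))
      map_add' := fun a b => Subtype.ext (hinj (by simp [hr]))
      map_mul' := fun a b => Subtype.ext (hinj (by simp [hr])) }
  have hρ : Function.Surjective ρ := by
    rintro ⟨a, ha⟩
    induction ha using Algebra.adjoin_induction with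
    | mem x hx =>
      exact ⟨⟨g x, Subring.subset_closure ⟨x, hx, rfl⟩⟩, Subtype.ext (hinj ((hr _).trans (hg x hx)))⟩
    | algebraMap n => exact ⟨n, (map_intCast ρ n).trans (Subtype.ext (by simp))⟩
    | add x y _ _ hx hy =>
      obtain ⟨a, ha⟩ := hx; obtain ⟨b, hb⟩ := hy
      exact ⟨a + b, (map_add ρ a b).trans (by rw [ha, hb]; rfl)⟩
    | mul x y _ _ hx hy =>
      obtain ⟨a, ha⟩ := hx; obtain ⟨b, hb⟩ := hy
      exact ⟨a * b, (map_mul ρ a b).trans (by rw [ha, hb]; rfl)⟩
  have hρnil : RingHom.ker ρ ≤ nilradical A' := fun a ha => by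
    have h0 : π a = 0 := by rw [← hr a, show r a = 0 from ha]; simp
    obtain ⟨n, hn⟩ := hnil h0
    exact ⟨n, Subtype.ext hn⟩
  letI : Algebra A' A₁ := ρ.toAlgebra
  letI : Algebra A' A := ((algebraMap A₁ A).comp ρ).toAlgebra
  letI : Algebra A' B₀ := (π.comp A'.subtype).toAlgebra
  letI : Algebra A' B₁ := ((algebraMap A₁ B₁).comp ρ).toAlgebra
  haveI : IsScalarTower A' A₁ A := IsScalarTower.of_algebraMap_eq fun _ => rfl
  haveI : IsScalarTower A₁ A B₀ := inferInstance
  haveI : IsScalarTower A' A₁ B₀ := IsScalarTower.of_algebraMap_eq fun a => (hr a).symm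
  haveI : IsScalarTower A' A B₀ := IsScalarTower.of_algebraMap_eq fun a => (hr a).symm
  haveI : IsScalarTower A' A₁ B₁ := IsScalarTower.of_algebraMap_eq fun _ => rfl
  obtain ⟨C, _, _, gC, hC, hgC, hgnil, hbij⟩ :=
    exists_etale_lift_of_nil (A := A') (Q := A₁) (B := B₁) hρ hρnil
  haveI := hC
  haveI hff : Module.FaithfullyFlat A' C := Module.FaithfullyFlat.of_comap_surjective fun p => by
    obtain ⟨p₁, hp₁⟩ : p ∈ Set.range (PrimeSpectrum.comap ρ) := by
      rw [range_comap_of_surjective _ _ hρ]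
      exact fun x hx => p.isPrime.mem_of_pow_mem _ (by rw [(hρnil hx).choose_spec]; exact zero_mem _)
    obtain ⟨q, hq⟩ := hs₁ p₁
    refine ⟨PrimeSpectrum.comap gC.toRingHom q, ?_⟩
    rw [← PrimeSpectrum.comap_comp_apply, ← hp₁, ← hq, ← PrimeSpectrum.comap_comp_apply]
    refine congrArg (fun f => PrimeSpectrum.comap f q) (RingHom.ext fun a => ?_)
    exact gC.commutes a
  let iR : B₁ →ₐ[A'] B₀ := ((e.symm.toAlgHom.restrictScalars A₁).comp
    (Algebra.TensorProduct.includeRight : B₁ →ₐ[A₁] A ⊗[A₁] B₁)).restrictScalars A'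
  let πA : B →ₐ[A'] B₀ := { π with commutes' := fun a => rfl }
  obtain ⟨γ, hγ⟩ := exists_algHom_lift_of_nil (K := A') πA hπ hnil (iR.comp gC)
  let e₂ : A₁ ⊗[A'] C ≃ₐ[A₁] B₁ := AlgEquiv.ofBijective
    (Algebra.TensorProduct.lift (Algebra.ofId A₁ B₁) gC fun _ _ => Commute.all _ _) (by
      have : ⇑(Algebra.TensorProduct.lift (Algebra.ofId A₁ B₁) gC fun _ _ => Commute.all _ _) =
          (Algebra.TensorProduct.productMap gC (IsScalarTower.toAlgHom A' A₁ B₁)) ∘
            (Algebra.TensorProduct.comm A' A₁ C) := by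
        funext z
        induction z using TensorProduct.induction_on with
        | zero => simp
        | tmul a c => simp [mul_comm]
        | add x y hx hy => simp only [Function.comp_apply, map_add] at hx hy ⊢; rw [hx, hy]
      rw [this]
      exact hbij.comp (Algebra.TensorProduct.comm A' A₁ C).bijective)
  let E : B₀ ⊗[A'] C ≃ₐ[B₀] B₀ ⊗[A] B₀ :=
    (Algebra.TensorProduct.cancelBaseChange A' A₁ B₀ B₀ C).symm.trans
      ((Algebra.TensorProduct.congr AlgEquiv.refl e₂).trans
        ((Algebra.TensorProduct.cancelBaseChange A₁ A B₀ B₀ B₁).symm.trans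
          (Algebra.TensorProduct.congr AlgEquiv.refl e.symm)))
  have hE' : ∀ (x : B₀) (c : C), E (x ⊗ₜ c) = x ⊗ₜ π (γ c) := fun x c => by
    simp only [E, AlgEquiv.trans_apply, Algebra.TensorProduct.cancelBaseChange_symm_tmul,
      Algebra.TensorProduct.congr_apply, Algebra.TensorProduct.map_tmul]
    change x ⊗ₜ[A] (e.symm (1 ⊗ₜ[A₁] (algebraMap A₁ B₁ 1 * gC c))) = _
    rw [map_one, one_mul]
    exact congrArg _ (DFunLike.congr_fun hγ c).symm
  let P : B ⊗[A'] C →ₐ[A'] B₀ ⊗[A'] C := Algebra.TensorProduct.map πA (AlgHom.id A' C)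
  let Θ : B ⊗[A'] C →+* B₀ ⊗[A] B₀ :=
    (Algebra.TensorProduct.comm A B₀ B₀).toRingEquiv.toRingHom.comp (E.toRingEquiv.toRingHom.comp P.toRingHom)
  refine ⟨C, inferInstance, inferInstance, hC, hff, γ, Θ, fun x c => ?_, ?_, fun z hz => ?_⟩
  · change Algebra.TensorProduct.comm A B₀ B₀ (E (P (x ⊗ₜ c))) = _
    simp [P, hE', πA]
  · exact (Algebra.TensorProduct.comm A B₀ B₀).surjective.comp (E.surjective.comp
      (Algebra.TensorProduct.map_surjective _ _ hπ Function.surjective_id))
  · have h0 : P z = 0 := E.injective ((Algebra.TensorProduct.comm A B₀ B₀).injective (by rw [map_zero, map_zero]; exact hz))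
    exact (Algebra.TensorProduct.rTensor_ker πA hπ).le h0

end Groth.Agent.SpFP87.ThickAffine
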