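import Groth.Agent.SpFP87.ThickAffineRing
import Groth.Agent.SpFP87.ThickTop
import Groth.Agent.SpFP87.GeomRed
import Groth.Agent.SpProper61.AffineSteps
import Groth.Agent.S0440
/-!
Charts of a thickening of an affine scheme: rings of charts, localisations, fibre products.
-/

set_option autoImplicit false
set_option linter.style.haveILetI false
set_option backward.isDefEq.respectTransparency false
universe u
open CategoryTheory CategoryTheory.Limits AlgebraicGeometry
open AlgSp Groth.Agent.SpPts86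

namespace Groth.Agent.SpFP87.ThickAffine

variable {S : Scheme.{u}}

/-- The affine chart of a ring map out of the global sections. -/
noncomputable abbrev PT (V : Over S) [IsAffine V.left] {C : Type u} [CommRing C]
    (ψ : Γ(V.left, ⊤) →+* C) : Over S :=
  Over.mk ((Spec.map (CommRingCat.ofHom ψ) ≫ V.left.isoSpec.inv) ≫ V.hom)

instance isAffine_PT (V : Over S) [IsAffine V.left] {C : Type u} [CommRing C]
    (ψ : Γ(V.left, ⊤) →+* C) : IsAffine (PT V ψ).left :=
  inferInstanceAs (IsAffine (Spec (CommRingCat.of C)))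

/-- Global sections of the spectrum. -/
noncomputable abbrev gam (C : Type u) [CommRing C] : Γ(Spec (CommRingCat.of C), ⊤) ≃+* C :=
  (Scheme.ΓSpecIso (CommRingCat.of C)).commRingCatIsoToRingEquiv

theorem gam_specPt {V : Over S} [IsAffine V.left] {C : Type u} [CommRing C]
    (ψ : Γ(V.left, ⊤) →+* C) : (gam C).toRingHom.comp (specPt V ψ).left.appTop.hom = ψ := by
  refine RingHom.ext fun x => ?_
  change (Scheme.ΓSpecIso (CommRingCat.of C)).hom ((specPt V ψ).left.appTop x) = ψ x
  rw [specPt_appTop, CommRingCat.comp_apply]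
  exact (CategoryTheory.Iso.inv_hom_id_apply (Scheme.ΓSpecIso (CommRingCat.of C)) _)

theorem specPt_range {V : Over S} [IsAffine V.left] {C : Type u} [CommRing C]
    (ψ : Γ(V.left, ⊤) →+* C) (z : PrimeSpectrum C) :
    V.left.isoSpec.hom ((specPt V ψ).left z) = PrimeSpectrum.comap ψ z := by
  change V.left.isoSpec.hom (V.left.isoSpec.inv (Spec.map (CommRingCat.ofHom ψ) z)) = _
  exact congr($(V.left.isoSpec.inv_hom_id) _)

theorem comap_isoSpec {V W : Scheme.{u}} [IsAffine V] [IsAffine W] (w : W ⟶ V) (x : W) :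
    PrimeSpectrum.comap w.appTop.hom (W.isoSpec.hom x) = V.isoSpec.hom (w x) :=
  congr($(Scheme.isoSpec_hom_naturality w) x)

/-- Factorisation of ring maps gives maps of charts. -/
theorem exists_PT_hom {V : Over S} [IsAffine V.left] {C C' : Type u} [CommRing C] [CommRing C']
    (ψ : Γ(V.left, ⊤) →+* C) (χ : C →+* C') :
    ∃ w : PT V (χ.comp ψ) ⟶ PT V ψ, w ≫ specPt V ψ = specPt V (χ.comp ψ) ∧
      (gam C').toRingHom.comp w.left.appTop.hom = χ.comp (gam C).toRingHom := by
  refine ⟨Over.homMk (Spec.map (CommRingCat.ofHom χ)) ?_, Over.OverMorphism.ext ?_, ?_⟩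
  · show Spec.map (CommRingCat.ofHom χ) ≫ (Spec.map (CommRingCat.ofHom ψ) ≫ V.left.isoSpec.inv) ≫ V.hom = _
    rw [← Category.assoc, ← Category.assoc, ← Spec.map_comp]
    rfl
  · show Spec.map (CommRingCat.ofHom χ) ≫ Spec.map (CommRingCat.ofHom ψ) ≫ V.left.isoSpec.inv = _
    rw [← Category.assoc, ← Spec.map_comp]
    rfl
  · refine RingHom.ext fun x => ?_
    exact congr($(Scheme.ΓSpecIso_naturality (CommRingCat.ofHom χ)) x)

/-- Precomposing a ring map with a map of affine schemes gives the same chart. -/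
theorem exists_PT_iso {V W : Over S} [IsAffine V.left] [IsAffine W.left] (a : W ⟶ V) {C : Type u} [CommRing C]
    (ψ : Γ(W.left, ⊤) →+* C) :
    ∃ w : PT W ψ ≅ PT V (ψ.comp a.left.appTop.hom),
      w.hom ≫ specPt V (ψ.comp a.left.appTop.hom) = specPt W ψ ≫ a ∧
      (gam C).toRingHom.comp w.hom.left.appTop.hom = (gam C).toRingHom := by
  have e : (specPt V (ψ.comp a.left.appTop.hom)).left = (specPt W ψ).left ≫ a.left := by
    change Spec.map (a.left.appTop ≫ CommRingCat.ofHom ψ) ≫ V.left.isoSpec.inv =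
      (Spec.map (CommRingCat.ofHom ψ) ≫ W.left.isoSpec.inv) ≫ a.left
    rw [Spec.map_comp, Category.assoc, Category.assoc, Scheme.isoSpec_inv_naturality]
  refine ⟨Over.isoMk (Iso.refl _) ?_, Over.OverMorphism.ext ((Category.id_comp _).trans e), ?_⟩
  · refine (Category.id_comp _).trans ?_
    show (specPt V (ψ.comp a.left.appTop.hom)).left ≫ V.hom = (specPt W ψ).left ≫ W.hom
    rw [e]; exact (Category.assoc _ _ _).trans (congrArg (_ ≫ ·) (Over.w a))
  · refine RingHom.ext fun x => ?_
    change gam C ((𝟙 (Spec (CommRingCat.of C)) : _ ⟶ _).appTop x) = gam C x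
    rw [Scheme.Hom.id_appTop]
    rfl

/-- An inclusion of ideals of an affine scheme can be tested flat locally. -/
theorem ideal_le_of_cover {Z : Over S} [IsAffine Z.left] {I J : Ideal Γ(Z.left, ⊤)}
    (h : ∀ z : Z.left, ∃ (P : Over S) (_ : IsAffine P.left) (w : P ⟶ Z), Flat w.left ∧ z ∈ Set.range w.left ∧
      I.map w.left.appTop.hom ≤ J.map w.left.appTop.hom) : I ≤ J := by
  refine ideal_le_of_local fun p => ?_
  obtain ⟨P, hP, w, hw, ⟨x, hx⟩, hle⟩ := h (Z.left.isoSpec.inv p)
  refine ⟨Γ(P.left, ⊤), inferInstance, w.left.appTop.hom, P.left.isoSpec.hom x,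
    HasRingHomProperty.appTop (P := @Flat.{u}) w.left hw, ?_, hle⟩
  rw [comap_isoSpec, hx]
  exact congr($(Z.left.isoSpec.inv_hom_id) p)

theorem etale_specPt {V : Over S} [IsAffine V.left] {C : Type u} [CommRing C]
    {ψ : Γ(V.left, ⊤) →+* C} (hψ : ψ.Etale) : Etale (specPt V ψ).left := by
  haveI : Etale (Spec.map (CommRingCat.ofHom ψ)) := (HasRingHomProperty.Spec_iff (P := @Etale.{u})).2 hψ
  exact inferInstanceAs (Etale (Spec.map (CommRingCat.ofHom ψ) ≫ V.left.isoSpec.inv))

theorem etale_algebraMap_away {R : Type u} [CommRing R] (x : R) :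
    (algebraMap R (Localization.Away x)).Etale :=
  RingHom.etale_algebraMap.2 inferInstance

theorem range_specPt_away {V : Over S} [IsAffine V.left] (x : Γ(V.left, ⊤)) (z : V.left) :
    z ∈ Set.range (specPt V (algebraMap Γ(V.left, ⊤) (Localization.Away x))).left ↔
      x ∉ (V.left.isoSpec.hom z : PrimeSpectrum Γ(V.left, ⊤)).asIdeal := by
  have hr := PrimeSpectrum.localization_away_comap_range (Localization.Away x) x
  constructor
  · rintro ⟨w, rfl⟩
    rw [specPt_range]
    exact hr.subset ⟨w, rfl⟩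
  · intro hz
    obtain ⟨w, hw⟩ := hr.ge (show (V.left.isoSpec.hom z : PrimeSpectrum Γ(V.left, ⊤)) ∈
      (PrimeSpectrum.basicOpen x : Set (PrimeSpectrum Γ(V.left, ⊤))) from hz)
    refine ⟨w, ?_⟩
    have : Function.Injective V.left.isoSpec.hom :=
      V.left.isoSpec.hom.isOpenEmbedding.injective
    apply this
    rw [specPt_range]
    exact hw

/-- A compact open of an affine scheme is a finite union of localisation charts. -/
theorem exists_finset_away {V : Over S} [IsAffine V.left] {W : Set ↥V.left} (hW : IsOpen W) (hc : IsCompact W) :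
    ∃ G : Finset Γ(V.left, ⊤),
      (∀ x ∈ G, Set.range (specPt V (algebraMap Γ(V.left, ⊤) (Localization.Away x))).left ⊆ W) ∧
      ∀ z ∈ W, ∃ x ∈ G, z ∈ Set.range (specPt V (algebraMap Γ(V.left, ⊤) (Localization.Away x))).left := by
  classical
  have hb : ∀ z ∈ W, ∃ x : Γ(V.left, ⊤), z ∈ Set.range (specPt V (algebraMap Γ(V.left, ⊤) (Localization.Away x))).left ∧
      Set.range (specPt V (algebraMap Γ(V.left, ⊤) (Localization.Away x))).left ⊆ W := by
    intro z hz
    have hO : IsOpen (V.left.isoSpec.inv ⁻¹' W) := hW.preimage V.left.isoSpec.inv.continuous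
    have hmem : (V.left.isoSpec.hom z : PrimeSpectrum Γ(V.left, ⊤)) ∈ V.left.isoSpec.inv ⁻¹' W := by
      change V.left.isoSpec.inv (V.left.isoSpec.hom z) ∈ W
      rwa [show V.left.isoSpec.inv (V.left.isoSpec.hom z) = z from congr($(V.left.isoSpec.hom_inv_id) z)]
    obtain ⟨_, ⟨x, rfl⟩, hzx, hxW⟩ :=
      PrimeSpectrum.isTopologicalBasis_basic_opens.exists_subset_of_mem_open hmem hO
    refine ⟨x, (range_specPt_away x z).2 hzx, fun y hy => ?_⟩
    have := hxW ((range_specPt_away x y).1 hy)
    change V.left.isoSpec.inv (V.left.isoSpec.hom y) ∈ W at this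
    rwa [show V.left.isoSpec.inv (V.left.isoSpec.hom y) = y from congr($(V.left.isoSpec.hom_inv_id) y)] at this
  choose! x hzx hxW using hb
  obtain ⟨G, hG⟩ := hc.elim_finite_subcover
    (fun z : W => Set.range (specPt V (algebraMap Γ(V.left, ⊤) (Localization.Away (x z)))).left)
    (fun z => by
      haveI := etale_specPt (V := V) (etale_algebraMap_away (x z))
      exact (specPt V (algebraMap Γ(V.left, ⊤) (Localization.Away (x z)))).left.isOpenMap.isOpen_range)
    (fun z hz => Set.mem_iUnion.2 ⟨⟨z, hz⟩, hzx z hz⟩)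
  refine ⟨G.image fun z : W => x z.1, fun y hy => ?_, fun z hz => ?_⟩
  · obtain ⟨w, -, rfl⟩ := Finset.mem_image.1 hy
    exact hxW w w.2
  · obtain ⟨w, hw, hzw⟩ := Set.mem_iUnion₂.1 (hG hz)
    exact ⟨x w, Finset.mem_image_of_mem _ hw, hzw⟩

variable {X₀ : Over S} [IsAffine X₀.left] {X' : Sp S} {i : (yon S).obj X₀ ⟶ X'}

theorem exists_reduction (hi : IsThickMor i) {T : Over S} (g : (yon S).obj T ⟶ X') :
    ∃ (T₀ : Over S) (f : T₀ ⟶ X₀) (ι : T₀ ⟶ T), IsPullback ((yon S).map f) ((yon S).map ι) i g ∧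
      IsClosedImmersion ι.left ∧ Surjective ι.left := by
  obtain ⟨T₀, ι, fst, sq⟩ := hi.1 g
  obtain ⟨f, rfl⟩ := (yon S).map_surjective fst
  exact ⟨T₀, f, ι, sq, (hi.2 g _ ι sq).1, (hi.2 g _ ι sq).2⟩

/-- The reduction of a fibre product of charts is the fibre product of their reductions. -/
theorem exists_reduction_prod {H T P H₀ T₀ : Over S} {h : (yon S).obj H ⟶ X'} {g : (yon S).obj T ⟶ X'}
    {p : P ⟶ H} {q : P ⟶ T} (sq : IsPullback ((yon S).map p) ((yon S).map q) h g)
    {fH : H₀ ⟶ X₀} {ιH : H₀ ⟶ H} (sqH : IsPullback ((yon S).map fH) ((yon S).map ιH) i h)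
    {fT : T₀ ⟶ X₀} {ιT : T₀ ⟶ T} (sqT : IsPullback ((yon S).map fT) ((yon S).map ιT) i g) :
    ∃ w : pullback fH fT ⟶ P, w ≫ p = pullback.fst fH fT ≫ ιH ∧ w ≫ q = pullback.snd fH fT ≫ ιT ∧
      IsPullback ((yon S).map (pullback.fst fH fT) ≫ (yon S).map fH) ((yon S).map w) i ((yon S).map p ≫ h) := by
  have sqW : IsPullback (pullback.fst fH fT) (pullback.snd fH fT) fH fT := IsPullback.of_hasPullback _ _
  have sqW' := sqW.map (yon S)
  obtain ⟨w, hw1, hw2⟩ : ∃ w : pullback fH fT ⟶ P, (yon S).map w ≫ (yon S).map p =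
      (yon S).map (pullback.fst fH fT) ≫ (yon S).map ιH ∧
      (yon S).map w ≫ (yon S).map q = (yon S).map (pullback.snd fH fT) ≫ (yon S).map ιT := by
    obtain ⟨w, hw⟩ := (yon S).map_surjective (sq.lift ((yon S).map (pullback.fst fH fT) ≫ (yon S).map ιH)
      ((yon S).map (pullback.snd fH fT) ≫ (yon S).map ιT) (by
        rw [Category.assoc, Category.assoc, ← sqH.w, ← sqT.w, ← Category.assoc, sqW'.w, Category.assoc]))
    exact ⟨w, by rw [hw, sq.lift_fst], by rw [hw, sq.lift_snd]⟩
  have sqP : IsPullback ((yon S).map (pullback.fst fH fT) ≫ (yon S).map fH) ((yon S).map w) i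
      ((yon S).map p ≫ h) := by
    refine ⟨⟨?_⟩, ⟨PullbackCone.IsLimit.mk _ (fun c => sqW'.lift
      (sqH.lift c.fst (c.snd ≫ (yon S).map p) (by rw [Category.assoc]; exact c.condition))
      (sqT.lift c.fst (c.snd ≫ (yon S).map q) (by
        rw [Category.assoc, ← sq.w]; exact c.condition))
      (by rw [sqH.lift_fst, sqT.lift_fst])) ?_ ?_ ?_⟩⟩
    · rw [Category.assoc, sqH.w, ← Category.assoc, ← Category.assoc, hw1]
    · intro c
      rw [← Category.assoc, sqW'.lift_fst, sqH.lift_fst]
    · intro c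
      apply sq.hom_ext
      · rw [Category.assoc, hw1, ← Category.assoc, sqW'.lift_fst, sqH.lift_snd]
      · rw [Category.assoc, hw2, ← Category.assoc, sqW'.lift_snd, sqT.lift_snd]
    · intro c m h1 h2
      apply sqW'.hom_ext
      · rw [sqW'.lift_fst]
        apply sqH.hom_ext
        · rw [sqH.lift_fst, Category.assoc, h1]
        · rw [sqH.lift_snd, Category.assoc, ← hw1, ← Category.assoc, h2]
      · rw [sqW'.lift_snd]
        apply sqT.hom_ext
        · rw [sqT.lift_fst, Category.assoc, ← sqW'.w, h1]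
        · rw [sqT.lift_snd, Category.assoc, ← hw2, ← Category.assoc, h2]
  exact ⟨w, (yon S).map_injective (by rw [Functor.map_comp, Functor.map_comp, hw1]),
    (yon S).map_injective (by rw [Functor.map_comp, Functor.map_comp, hw2]), sqP⟩

/-- Fibre products of affine charts of a thickening of an affine scheme are affine. -/
theorem isAffine_prod (hi : IsThickMor i) {H T : Over S} [IsAffine H.left] [IsAffine T.left]
    {h : (yon S).obj H ⟶ X'} {g : (yon S).obj T ⟶ X'} {P : Over S} {p : P ⟶ H} {q : P ⟶ T}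
    (sq : IsPullback ((yon S).map p) ((yon S).map q) h g) : IsAffine P.left := by
  obtain ⟨H₀, fH, ιH, sqH, hcH, -⟩ := exists_reduction hi h
  obtain ⟨T₀, fT, ιT, sqT, hcT, -⟩ := exists_reduction hi g
  haveI : IsAffine H₀.left := isAffine_of_isAffineHom ιH.left
  haveI : IsAffine T₀.left := isAffine_of_isAffineHom ιT.left
  -- the product over the affine scheme
  have sqW : IsPullback (pullback.fst fH fT) (pullback.snd fH fT) fH fT := IsPullback.of_hasPullback _ _
  haveI : IsAffine (pullback ((Over.forget S).map fH) ((Over.forget S).map fT)) :=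
    inferInstanceAs (IsAffine (pullback fH.left fT.left))
  haveI : IsAffine (pullback fH fT).left :=
    IsAffine.of_isIso ((sqW.map (Over.forget S)).isoPullback.hom :
      (pullback fH fT).left ⟶ pullback fH.left fT.left)
  obtain ⟨w, -, -, sqP⟩ := exists_reduction_prod sq sqH sqT
  have ht := hi.2 ((yon S).map p ≫ h) _ w sqP
  haveI : IsClosedImmersion w.left := ht.1
  exact Groth.Agent.S0440.result w.left ht.2.surj

end Groth.Agent.SpFP87.ThickAffine
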