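import Groth.Agent.SpFP87.NilLift
import Groth.Agent.SpFP87.ClosedIdeal
import Mathlib
/-!
Commutative algebra for thickenings of affine schemes: etale maps modulo nil ideals, descent of
ideals along a finite flat family, finite models of etale covers.
-/

set_option autoImplicit false
universe u
open TensorProduct

namespace Groth.Agent.SpFP87.ThickAffine

/-- An etale algebra which is trivial modulo a nil ideal is trivial. -/
theorem bijective_of_bijective_mod_nil {D E : Type u} [CommRing D] [CommRing E] [Algebra D E]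
    [Algebra.Etale D E] (K : Ideal D) (hK : K ≤ nilradical D)
    (hs : ∀ e : E, ∃ d, e - algebraMap D E d ∈ K.map (algebraMap D E))
    (hk : RingHom.ker (algebraMap D E) ≤ K) : Function.Bijective (algebraMap D E) := by
  classical
  have hsurj : Function.Surjective (algebraMap D E) := by
    obtain ⟨G, hG⟩ := (inferInstance : Algebra.FiniteType D E).out
    choose d hd using hs
    have hfin : ∀ e, ∃ K₀ : Ideal D, K₀.FG ∧ K₀ ≤ K ∧ e - algebraMap D E (d e) ∈ K₀.map (algebraMap D E) := by
      intro e
      obtain ⟨T, hT, hx⟩ := Submodule.mem_span_finite_of_mem_span (hd e)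
      choose! r hr hre using fun z (hz : z ∈ T) => hT hz
      refine ⟨Ideal.span (T.image r), ⟨_, rfl⟩, Ideal.span_le.2 ?_, Submodule.span_le.2 ?_ hx⟩
      · intro z hz
        obtain ⟨w, hw, rfl⟩ := Finset.mem_image.1 hz
        exact hr w hw
      · intro z hz
        exact hre z hz ▸ Ideal.mem_map_of_mem _ (Ideal.subset_span (Finset.mem_image_of_mem r hz))
    choose K₀ hK₀fg hK₀le hK₀ using hfin
    let J : Ideal D := G.sup K₀
    have hJ : IsNilpotent J := by
      rw [Ideal.FG.isNilpotent_iff_le_nilradical (Submodule.fg_finset_sup G _ fun e _ => hK₀fg e)]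
      exact (Finset.sup_le fun e _ => hK₀le e).trans hK
    let N : Submodule D E := LinearMap.range (Algebra.linearMap D E)
    let q : E →ₐ[D] E ⧸ J.map (algebraMap D E) := Ideal.Quotient.mkₐ D _
    have htop : (⊤ : Submodule D E) ≤ N ⊔ J • ⊤ := by
      intro e he
      clear he
      have hx : e ∈ Algebra.adjoin D (G : Set E) := hG.ge trivial
      obtain ⟨r, hr⟩ : q e ∈ (Algebra.ofId D (E ⧸ J.map (algebraMap D E))).range := by
        induction hx using Algebra.adjoin_induction with
        | mem x hx =>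
          refine ⟨d x, Eq.symm (Ideal.Quotient.eq.2 ?_)⟩
          exact Ideal.map_mono (Finset.le_sup hx) (hK₀ x)
        | algebraMap r => exact ⟨r, rfl⟩
        | add x y _ _ hx hy => exact (map_add q x y).symm ▸ add_mem hx hy
        | mul x y _ _ hx hy => exact (map_mul q x y).symm ▸ mul_mem hx hy
      refine Submodule.mem_sup.2 ⟨_, ⟨r, rfl⟩, e - algebraMap D E r, ?_, add_sub_cancel _ _⟩
      rw [Ideal.smul_top_eq_map, Submodule.restrictScalars_mem]
      exact Ideal.Quotient.eq.1 hr.symm
    have hn : ∀ n, (⊤ : Submodule D E) ≤ N ⊔ J ^ n • ⊤ := fun n => by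
      induction n with
      | zero => simp [Ideal.map_top]
      | succ n ih =>
        refine ih.trans (sup_le le_sup_left ((Submodule.smul_mono le_rfl htop).trans ?_))
        rw [Submodule.smul_sup, ← Submodule.smul_assoc, Ideal.smul_eq_mul, ← pow_succ]
        exact sup_le (Submodule.smul_le_right.trans le_sup_left) le_sup_right
    obtain ⟨n, hn0⟩ := hJ
    have := hn n
    rw [hn0, Ideal.zero_eq_bot, Submodule.bot_smul, sup_bot_eq] at this
    intro e
    exact this trivial
  refine ⟨(injective_iff_map_eq_zero _).2 fun x hx => ?_, hsurj⟩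
  obtain ⟨e, he, hfe⟩ := (Ideal.isIdempotentElem_iff_of_fg _
    (Algebra.FinitePresentation.ker_fG_of_surjective (Algebra.ofId D E) hsurj)).1
      ((Algebra.FormallyEtale.iff_of_surjective (R := D) (S := E) hsurj).1 inferInstance)
  have hmem : e ∈ RingHom.ker (algebraMap D E) := by
    have := Submodule.mem_span_singleton_self (R := D) e
    rwa [← hfe] at this
  have he0 : e = 0 := by
    obtain ⟨n, hn⟩ := hK (hk hmem)
    rw [← he.pow_succ_eq n, pow_succ, hn, zero_mul]
  have : x ∈ (Submodule.span D {e} : Submodule D D) := hfe ▸ hx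
  simpa [he0] using this

/-- An inclusion of ideals can be tested locally for a flat topology. -/
theorem ideal_le_of_local {A : Type u} [CommRing A] {I J : Ideal A}
    (h : ∀ p : PrimeSpectrum A, ∃ (C : Type u) (_ : CommRing C) (ψ : A →+* C) (q : PrimeSpectrum C),
      ψ.Flat ∧ PrimeSpectrum.comap ψ q = p ∧ I.map ψ ≤ J.map ψ) : I ≤ J := by
  intro x hx
  by_contra hxJ
  let Jx : Ideal A := Submodule.colon J (Ideal.span {x} : Ideal A)
  have hne : Jx ≠ ⊤ := fun h => hxJ (by
    have h1 : (1 : A) ∈ Jx := h ▸ trivial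
    simpa using Submodule.mem_colon.1 h1 x (Ideal.subset_span rfl))
  obtain ⟨m, hm, hle⟩ := Ideal.exists_le_maximal _ hne
  obtain ⟨C, _, ψ, q, hψ, hq, hIJ⟩ := h ⟨m, hm.isPrime⟩
  obtain ⟨s, hs, hsx⟩ := exists_notMem_mul_mem ψ hψ q (hIJ (Ideal.mem_map_of_mem ψ hx))
  have : s ∈ Jx := Submodule.mem_colon.2 fun z hz => by
    obtain ⟨a, rfl⟩ := Ideal.mem_span_singleton'.1 hz
    rw [smul_eq_mul, mul_left_comm]
    exact J.mul_mem_left a hsx
  exact hs (show s ∈ (PrimeSpectrum.comap ψ q).asIdeal by rw [hq]; exact hle this)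

section descent

variable {A : Type u} [CommRing A] {ι : Type u} [Finite ι] (B : ι → Type u) [∀ i, CommRing (B i)]
  [∀ i, Algebra A (B i)] [∀ i, Module.Flat A (B i)]
  (hsurj : ∀ p : PrimeSpectrum A, ∃ i q, PrimeSpectrum.comap (algebraMap A (B i)) q = p)
  (I : ∀ i, Ideal (B i))
  (hI : ∀ i j, (I i).map (Algebra.TensorProduct.includeLeft : B i →ₐ[A] B i ⊗[A] B j) =
    (I j).map (Algebra.TensorProduct.includeRight : B j →ₐ[A] B i ⊗[A] B j))

include hI in
/-- A compatible family of ideals on a flat family is generated by its intersection with the base. -/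
theorem map_iInf_comap_eq (i : ι) :
    (⨅ j, (I j).comap (algebraMap A (B j))).map (algebraMap A (B i)) = I i := by
  classical
  have := Fintype.ofFinite ι
  let I₀ : Ideal A := ⨅ j, (I j).comap (algebraMap A (B j))
  refine le_antisymm (Ideal.map_le_iff_le_comap.2 (iInf_le _ i)) fun x hx => ?_
  let f : (A ⧸ I₀) →ₗ[A] ∀ j, B j ⧸ I j :=
    Submodule.liftQ _ (LinearMap.pi fun j => ((Ideal.Quotient.mkₐ A (I j)).toLinearMap.comp (Algebra.linearMap A (B j))))
      (fun a ha => LinearMap.mem_ker.2 (funext fun j => Ideal.Quotient.eq_zero_iff_mem.2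
        ((Submodule.mem_iInf _).1 ha j)))
  have hf : Function.Injective f := by
    rw [injective_iff_map_eq_zero]
    intro z hz
    obtain ⟨a, rfl⟩ := Submodule.Quotient.mk_surjective _ z
    exact (Submodule.Quotient.mk_eq_zero _).2 ((Submodule.mem_iInf _).2 fun j =>
      Ideal.mem_comap.2 ((Ideal.Quotient.eq_zero_iff_mem (I := I j)).1 (congrFun hz j)))
  have h0 : x ⊗ₜ[A] (Submodule.Quotient.mk (1 : A) : A ⧸ I₀) = 0 := by
    apply Module.Flat.lTensor_preserves_injective_linearMap (M := B i) f hf
    rw [LinearMap.lTensor_tmul, map_zero]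
    apply (TensorProduct.piRight A A (B i) fun j => B j ⧸ I j).injective
    rw [map_zero]
    funext j
    rw [TensorProduct.piRight_apply, TensorProduct.piRightHom_tmul]
    change x ⊗ₜ[A] (Ideal.Quotient.mk (I j) (algebraMap A (B j) 1)) = 0
    let m : B i ⊗[A] B j →ₐ[A] B i ⊗[A] (B j ⧸ I j) :=
      Algebra.TensorProduct.map (AlgHom.id A (B i)) (Ideal.Quotient.mkₐ A (I j))
    have hm : (I j).map (Algebra.TensorProduct.includeRight : B j →ₐ[A] B i ⊗[A] B j) ≤ RingHom.ker m.toRingHom :=
      Ideal.map_le_iff_le_comap.2 fun y hy => by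
        change m (1 ⊗ₜ y) = 0
        rw [Algebra.TensorProduct.map_tmul]
        change (1 : B i) ⊗ₜ[A] Ideal.Quotient.mk (I j) y = 0
        rw [Ideal.Quotient.eq_zero_iff_mem.2 hy, tmul_zero]
    have := hm (hI i j ▸ Ideal.mem_map_of_mem _ hx)
    rw [map_one]
    simpa [m] using this
  have h1 := congrArg (fun z => (Algebra.TensorProduct.quotIdealMapEquivTensorQuot (B i) I₀).symm z) h0
  simp only [map_zero] at h1
  rw [← Ideal.Quotient.eq_zero_iff_mem, ← h1]
  symm
  rw [AlgEquiv.symm_apply_eq]
  rfl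

include hsurj hI in
theorem fg_iInf_comap (hfg : ∀ i, (I i).FG) : (⨅ j, (I j).comap (algebraMap A (B j))).FG := by
  classical
  have := Fintype.ofFinite ι
  let I₀ : Ideal A := ⨅ j, (I j).comap (algebraMap A (B j))
  have hfin : ∀ i, ∃ K : Ideal A, K.FG ∧ K ≤ I₀ ∧ I i ≤ K.map (algebraMap A (B i)) := fun i => by
    obtain ⟨G, hG⟩ := hfg i
    have : ∀ y ∈ G, ∃ K : Ideal A, K.FG ∧ K ≤ I₀ ∧ y ∈ K.map (algebraMap A (B i)) := fun y hy => by
      have hy' : y ∈ I₀.map (algebraMap A (B i)) := by
        rw [map_iInf_comap_eq B I hI i, ← hG]; exact Ideal.subset_span hy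
      obtain ⟨T, hT, hx⟩ := Submodule.mem_span_finite_of_mem_span hy'
      choose! r hr hre using fun z (hz : z ∈ T) => hT hz
      refine ⟨Ideal.span (T.image r), ⟨_, rfl⟩, Ideal.span_le.2 ?_, Submodule.span_le.2 ?_ hx⟩
      · intro z hz
        obtain ⟨w, hw, rfl⟩ := Finset.mem_image.1 hz
        exact hr w hw
      · intro z hz
        exact hre z hz ▸ Ideal.mem_map_of_mem _ (Ideal.subset_span (Finset.mem_image_of_mem r hz))
    choose! K hK hKle hyK using this
    refine ⟨G.sup K, Submodule.fg_finset_sup G _ fun y hy => hK y hy, Finset.sup_le fun y hy => hKle y hy, ?_⟩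
    rw [← hG, Ideal.span_le]
    exact fun y hy => Ideal.map_mono (Finset.le_sup hy) (hyK y hy)
  choose K hK hKle hIK using hfin
  have heq : I₀ = Finset.univ.sup K := le_antisymm (ideal_le_of_local fun p => by
      obtain ⟨i, q, hq⟩ := hsurj p
      refine ⟨B i, inferInstance, algebraMap A (B i), q,
        (RingHom.flat_algebraMap_iff).2 inferInstance, hq, ?_⟩
      rw [map_iInf_comap_eq B I hI i]
      exact (hIK i).trans (Ideal.map_mono (Finset.le_sup (Finset.mem_univ i))))
    (Finset.sup_le fun i _ => hKle i)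
  change I₀.FG
  rw [heq]
  exact Submodule.fg_finset_sup _ _ fun i _ => hK i

end descent

end Groth.Agent.SpFP87.ThickAffine
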