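import Groth.Agent.SpFP87.ThickAffinePT
import Groth.Agent.SpFP87.LiftThick
/-!
Ideals of finite type on the etale charts of a thickening of an affine scheme.
-/

set_option autoImplicit false
set_option linter.style.haveILetI false
set_option backward.isDefEq.respectTransparency false
universe u
open CategoryTheory CategoryTheory.Limits AlgebraicGeometry TensorProduct
open AlgSp Groth.Agent.SpPts86

namespace Groth.Agent.SpFP87.ThickAffine

/-- Ideals of finite type on a finite union of basic opens extend. -/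
theorem exists_ideal_of_away {A : Type u} [CommRing A] (K : Ideal A) {ι : Type u} [Finite ι] (ψ : ι → A)
    (I : ∀ l, Ideal (Localization.Away (ψ l))) (hfg : ∀ l, (I l).FG)
    (hK : ∀ l, I l ≤ K.map (algebraMap A _))
    (hI : ∀ (l l' : ι) (χ : Localization.Away (ψ l) →+* Localization.Away (ψ l * ψ l'))
      (χ' : Localization.Away (ψ l') →+* Localization.Away (ψ l * ψ l')),
      χ.comp (algebraMap A _) = algebraMap A _ → χ'.comp (algebraMap A _) = algebraMap A _ →
        (I l).map χ = (I l').map χ')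
    (L : Ideal A) (hL : L.FG) (hLK : L ≤ K) (hLI : ∀ l, L.map (algebraMap A _) ≤ I l) :
    ∃ L' : Ideal A, L'.FG ∧ L' ≤ K ∧ L ≤ L' ∧ ∀ l, L'.map (algebraMap A _) = I l := by
  classical
  have := Fintype.ofFinite ι
  have hpow : ∀ (l : ι) (s : Submonoid.powers (ψ l)),
      IsUnit (algebraMap A (Localization.Away (ψ l)) s) := fun l s => IsLocalization.map_units _ s
  have hgen : ∀ l, ∃ G : Finset A, (G : Set A) ⊆ K ∧ (Ideal.span (G : Set A)).map (algebraMap A _) = I l := by
    intro l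
    obtain ⟨Y, hY⟩ := hfg l
    have : ∀ y ∈ Y, ∃ m ∈ K, ∃ s : Submonoid.powers (ψ l),
        y * algebraMap A _ (s : A) = algebraMap A (Localization.Away (ψ l)) m := fun y hy => by
      obtain ⟨⟨⟨m, hm⟩, s⟩, h⟩ := (IsLocalization.mem_map_algebraMap_iff (Submonoid.powers (ψ l)) _).1
        (hK l (hY ▸ Ideal.subset_span hy))
      exact ⟨m, hm, s, h⟩
    choose! m hm s hms using this
    refine ⟨Y.image m, fun x hx => ?_, le_antisymm ?_ ?_⟩
    · obtain ⟨y, hy, rfl⟩ := Finset.mem_image.1 (Finset.mem_coe.1 hx)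
      exact hm y hy
    · rw [Ideal.map_span, Ideal.span_le]
      rintro _ ⟨_, hx, rfl⟩
      obtain ⟨y, hy, rfl⟩ := Finset.mem_image.1 (Finset.mem_coe.1 hx)
      rw [SetLike.mem_coe, ← hms y hy]
      exact Ideal.mul_mem_right _ _ (hY ▸ Ideal.subset_span hy)
    · rw [← hY, Ideal.span_le]
      intro y hy
      rw [SetLike.mem_coe, ← Ideal.mul_unit_mem_iff_mem _ (hpow l (s y)), hms y hy]
      exact Ideal.mem_map_of_mem _ (Ideal.subset_span (Finset.mem_image_of_mem _ hy))
  choose G hGK hGI using hgen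
  have hden : ∀ (l : ι), ∀ m ∈ G l, ∀ l', ∃ M, algebraMap A (Localization.Away (ψ l')) (ψ l ^ M * m) ∈ I l' := by
    intro l m hm l'
    let C := Localization.Away (ψ l * ψ l')
    have hu : ∀ a : A, a ∣ ψ l * ψ l' → IsUnit (algebraMap A C a) := fun a ⟨b, hb⟩ =>
      isUnit_of_mul_isUnit_left (y := algebraMap A C b) (by
        rw [← map_mul, ← hb]; exact IsLocalization.Away.algebraMap_isUnit _)
    let χ : Localization.Away (ψ l) →+* C := IsLocalization.Away.lift _ (hu _ (dvd_mul_right _ _))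
    let χ' : Localization.Away (ψ l') →+* C := IsLocalization.Away.lift _ (hu _ (dvd_mul_left _ _))
    have hχ : χ.comp (algebraMap A _) = algebraMap A C := IsLocalization.Away.lift_comp _ _
    have hχ' : χ'.comp (algebraMap A _) = algebraMap A C := IsLocalization.Away.lift_comp _ _
    have hm' : algebraMap A C m ∈ ((I l').comap (algebraMap A (Localization.Away (ψ l')))).map (algebraMap A C) := by
      rw [← hχ', ← Ideal.map_map, IsLocalization.map_comap (Submonoid.powers (ψ l')), ← hI l l' χ χ' hχ hχ',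
        ← hGI l, Ideal.map_map, hχ]
      rw [hχ']
      exact Ideal.mem_map_of_mem (algebraMap A C) (Ideal.subset_span hm)
    rw [IsLocalization.algebraMap_mem_map_algebraMap_iff (Submonoid.powers (ψ l * ψ l'))] at hm'
    obtain ⟨_, ⟨M, rfl⟩, hM⟩ := hm'
    refine ⟨M, ?_⟩
    have h := Ideal.mem_comap.1 hM
    change algebraMap A _ ((ψ l * ψ l') ^ M * m) ∈ I l' at h
    rw [mul_pow, mul_right_comm, map_mul] at h
    exact (Ideal.mul_unit_mem_iff_mem _ (hpow l' ⟨_, M, rfl⟩)).1 h
  choose! M hM using hden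
  let N : ι → A → ℕ := fun l m => Finset.univ.sup (M l m)
  let L' := L ⊔ Finset.univ.sup fun l => Ideal.span (((G l).image fun m => ψ l ^ N l m * m : Finset A) : Set A)
  refine ⟨L', Submodule.FG.sup hL (Submodule.fg_finset_sup _ _ fun l _ => ⟨_, rfl⟩), sup_le hLK (Finset.sup_le fun l _ => ?_),
    le_sup_left, fun l => le_antisymm ?_ ?_⟩
  · refine Ideal.span_le.2 fun x hx => ?_
    obtain ⟨m, hm, rfl⟩ := Finset.mem_image.1 (Finset.mem_coe.1 hx)
    exact K.mul_mem_left _ (hGK l hm)
  · refine Ideal.map_le_iff_le_comap.2 (sup_le (Ideal.map_le_iff_le_comap.1 (hLI l)) (Finset.sup_le fun k _ => ?_))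
    refine Ideal.span_le.2 fun x hx => ?_
    obtain ⟨m, hm, rfl⟩ := Finset.mem_image.1 (Finset.mem_coe.1 hx)
    rw [SetLike.mem_coe, Ideal.mem_comap]
    obtain ⟨d, hd⟩ := Nat.exists_eq_add_of_le (Finset.le_sup (f := M k m) (Finset.mem_univ l))
    change algebraMap A _ (ψ k ^ N k m * m) ∈ I l
    rw [show N k m = M k m l + d from hd, pow_add, mul_right_comm, map_mul]
    exact Ideal.mul_mem_right _ _ (hM k m hm l)
  · rw [← hGI l, Ideal.map_span, Ideal.span_le]
    rintro _ ⟨m, hm, rfl⟩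
    rw [SetLike.mem_coe, ← Ideal.unit_mul_mem_iff_mem _ (hpow l ⟨_, N l m, rfl⟩), ← map_mul]
    exact Ideal.mem_map_of_mem _ (Ideal.mem_sup_right
      (Finset.le_sup (f := fun l => Ideal.span (((G l).image fun m => ψ l ^ N l m * m : Finset A) : Set A))
        (Finset.mem_univ l) (Ideal.subset_span (Finset.mem_image_of_mem _ hm))))

variable {S : Scheme.{u}}

theorem map_comp_sq {Z P U T : Over S} {X' : Sp S} {p : P ⟶ U} {q : P ⟶ T} {g : (yon S).obj U ⟶ X'}
    {c : (yon S).obj T ⟶ X'} (w : (yon S).map p ≫ g = (yon S).map q ≫ c) {s : Z ⟶ P} :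
    (yon S).map (s ≫ p) ≫ g = (yon S).map (s ≫ q) ≫ c := by
  rw [Functor.map_comp, Functor.map_comp, Category.assoc, Category.assoc, w]

/-- Maps into an affine scheme given by rings. -/
theorem exists_PT_map {V W W' : Over S} [IsAffine V.left] [IsAffine W.left] [IsAffine W'.left] (a : W ⟶ V)
    (a' : W' ⟶ V) {C : Type u} [CommRing C] {ψ : Γ(W.left, ⊤) →+* C} {ψ' : Γ(W'.left, ⊤) →+* C}
    (he : ψ.comp a.left.appTop.hom = ψ'.comp a'.left.appTop.hom) :
    ∃ b : PT W ψ ⟶ W', b ≫ a' = specPt W ψ ≫ a ∧ (gam C).toRingHom.comp b.left.appTop.hom = ψ' := by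
  have key : ∀ {U : Over S} [IsAffine U.left] (c : U ⟶ V) (φ : Γ(U.left, ⊤) →+* C),
      (specPt U φ).left ≫ c.left = (specPt V (φ.comp c.left.appTop.hom)).left := fun {U} _ c φ => by
    change (Spec.map (CommRingCat.ofHom φ) ≫ U.left.isoSpec.inv) ≫ c.left =
      Spec.map (c.left.appTop ≫ CommRingCat.ofHom φ) ≫ V.left.isoSpec.inv
    rw [Spec.map_comp, Category.assoc, Category.assoc, Scheme.isoSpec_inv_naturality]
  have e : (specPt W' ψ').left ≫ a'.left = (specPt W ψ).left ≫ a.left := by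
    rw [key a' ψ', key a ψ, he]
  refine ⟨Over.homMk (specPt W' ψ').left ?_, Over.OverMorphism.ext e, gam_specPt ψ'⟩
  show (specPt W' ψ').left ≫ W'.hom = (specPt W ψ).left ≫ W.hom
  exact ((congrArg (_ ≫ ·) (Over.w a').symm).trans (Category.assoc _ _ _).symm).trans
    (((congrArg (· ≫ V.hom) e).trans (Category.assoc _ _ _)).trans (congrArg (_ ≫ ·) (Over.w a)))

variable {X₀ : Over S} [IsAffine X₀.left] {X' : Sp S} {i : (yon S).obj X₀ ⟶ X'}

theorem closed_of_thick (hi : IsThickMor i) : RepWith @IsClosedImmersion i := repWith_mono (fun _ _ _ h => h.1) hi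

theorem preIdeal_le_nilradical (hi : IsThickMor i) {T : Over S} [IsAffine T.left] (g : (yon S).obj T ⟶ X') :
    preIdeal (closed_of_thick hi) g ≤ nilradical Γ(T.left, ⊤) := by
  obtain ⟨T₀, f, ι, sq, hc, hs⟩ := exists_reduction hi g
  haveI : IsAffine T₀.left := isAffine_of_isAffineHom ι.left
  rw [preIdeal_eq _ g sq]
  refine ker_le_nilradical_of_comap_surjective _ fun p => ?_
  obtain ⟨x, hx⟩ := ι.left.surjective (T.left.isoSpec.inv p)
  refine ⟨T₀.left.isoSpec.hom x, ?_⟩
  rw [comap_isoSpec, hx]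
  exact congr($(T.left.isoSpec.inv_hom_id) p)

/-- An assignment of ideals to maps from schemes. -/
abbrev IdFun (X' : Sp S) : Type (u + 1) := ∀ (T : Over S), ((yon S).obj T ⟶ X') → Ideal Γ(T.left, ⊤)

/-- An ideal of finite type inside that of the thickening, on the charts into `O`. -/
structure IsSys (hi : IsThickMor i) (O : Set (Points X')) (J : IdFun X') : Prop where
  fg : ∀ (T : Over S) [IsAffine T.left] (g : (yon S).obj T ⟶ X'), RepWith @Etale g →
    Set.range (Points.ofPt g) ⊆ O → (J T g).FG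
  le : ∀ (T : Over S) [IsAffine T.left] (g : (yon S).obj T ⟶ X'), RepWith @Etale g →
    Set.range (Points.ofPt g) ⊆ O → J T g ≤ preIdeal (closed_of_thick hi) g
  nat : ∀ (T : Over S) [IsAffine T.left] (g : (yon S).obj T ⟶ X'), RepWith @Etale g →
    Set.range (Points.ofPt g) ⊆ O → ∀ (P : Over S) [IsAffine P.left] (w : P ⟶ T),
      RepWith @Etale ((yon S).map w ≫ g) → J P ((yon S).map w ≫ g) = (J T g).map w.left.appTop.hom

theorem range_comp_subset {T P : Over S} (w : P ⟶ T) (g : (yon S).obj T ⟶ X') :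
    Set.range (Points.ofPt ((yon S).map w ≫ g)) ⊆ Set.range (Points.ofPt g) := by
  rintro _ ⟨x, rfl⟩
  exact ⟨w.left x, (ofPt_comp w g x).symm⟩

theorem IsSys.nat' {hi : IsThickMor i} {O : Set (Points X')} {J : IdFun X'} (hJ : IsSys hi O J) {T P : Over S}
    [IsAffine T.left] [IsAffine P.left] {g : (yon S).obj T ⟶ X'} (hg : RepWith @Etale g)
    (hgO : Set.range (Points.ofPt g) ⊆ O) (w : P ⟶ T) [Etale w.left] {g' : (yon S).obj P ⟶ X'}
    (h : (yon S).map w ≫ g = g') : J P g' = (J T g).map w.left.appTop.hom := by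
  subst h
  exact hJ.nat T g hg hgO P w (repWith_etale_comp w hg)

theorem isSys_sup {hi : IsThickMor i} {O : Set (Points X')} {J J' : IdFun X'} (hJ : IsSys hi O J)
    (hJ' : IsSys hi O J') : IsSys hi O fun T g => J T g ⊔ J' T g where
  fg := fun T _ g hg hgO => Submodule.FG.sup (hJ.fg T g hg hgO) (hJ'.fg T g hg hgO)
  le := fun T _ g hg hgO => sup_le (hJ.le T g hg hgO) (hJ'.le T g hg hgO)
  nat := fun T _ g hg hgO P _ w hw => by rw [Ideal.map_sup, hJ.nat T g hg hgO P w hw, hJ'.nat T g hg hgO P w hw]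

theorem isSys_bot (hi : IsThickMor i) (O : Set (Points X')) : IsSys hi O fun _ _ => ⊥ where
  fg := fun _ _ _ _ _ => Submodule.fg_bot
  le := fun _ _ _ _ _ => bot_le
  nat := fun _ _ _ _ _ _ _ _ _ => Ideal.map_bot.symm

/-- A finite compatible family of ideals on a covering family of charts gives a system. -/
theorem exists_sys_of_family (hi : IsThickMor i) (hX' : IsAlgSpace X') {O : Set (Points X')} {ι : Type u}
    [Finite ι] (T : ι → Over S) [∀ k, IsAffine (T k).left] (c : ∀ k, (yon S).obj (T k) ⟶ X')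
    (hc : ∀ k, RepWith @Etale (c k)) (hcO : ∀ k, Set.range (Points.ofPt (c k)) ⊆ O)
    (hcov : ∀ x ∈ O, ∃ k, x ∈ Set.range (Points.ofPt (c k)))
    (I : ∀ k, Ideal Γ((T k).left, ⊤)) (hfg : ∀ k, (I k).FG)
    (hle : ∀ k, I k ≤ preIdeal (closed_of_thick hi) (c k))
    (hcomp : ∀ (k l : ι) (Z : Over S) [IsAffine Z.left] (a : Z ⟶ T k) (b : Z ⟶ T l),
      RepWith @Etale ((yon S).map a ≫ c k) → (yon S).map a ≫ c k = (yon S).map b ≫ c l →
        (I k).map a.left.appTop.hom = (I l).map b.left.appTop.hom) :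
    ∃ J : IdFun X', IsSys hi O J ∧ ∀ k, J (T k) (c k) = I k := by
  classical
  choose P p q sq using fun (U : Over S) (g : (yon S).obj U ⟶ X') (k : ι) =>
    exists_isPullback_yon hX'.diag g (c k)
  let J : IdFun X' := fun U g =>
    ⨅ k, ((I k).map (q U g k).left.appTop.hom).comap (p U g k).left.appTop.hom
  have haff : ∀ (U : Over S) [IsAffine U.left] (g : (yon S).obj U ⟶ X') k, IsAffine (P U g k).left :=
    fun U _ g k => isAffine_prod hi (sq U g k)
  have hp : ∀ (U : Over S) (g : (yon S).obj U ⟶ X') k, Etale (p U g k).left :=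
    fun U g k => etale_snd_of_isPullback (sq U g k).flip (hc k)
  have hcover : ∀ (U : Over S) (g : (yon S).obj U ⟶ X'), Set.range (Points.ofPt g) ⊆ O →
      ∀ x : U.left, ∃ k, x ∈ Set.range (p U g k).left := fun U g hgO x => by
    obtain ⟨k, y, hy⟩ := hcov _ (hgO ⟨x, rfl⟩)
    obtain ⟨z, hz, -⟩ := exists_of_isPullback (sq U g k) (Points.ofScheme U x) (Points.ofScheme (T k) y) (by
      rw [← Points.ofPt_eq_map_ofScheme, ← Points.ofPt_eq_map_ofScheme, hy])
    obtain ⟨w, rfl⟩ := (Points.schemeHomeo (P U g k)).surjective z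
    refine ⟨k, w, (Points.schemeHomeo U).injective ?_⟩
    show Points.ofScheme U ((p U g k).left w) = Points.ofScheme U x
    rw [← hz]
    exact (ofPt_comp (p U g k) (𝟙 _) w).symm.trans (by rw [Category.comp_id, Points.ofPt_eq_map_ofScheme]; rfl)
  -- on each of the pieces the system is the given ideal
  have hmap : ∀ (U : Over S) [IsAffine U.left] (g : (yon S).obj U ⟶ X'), RepWith @Etale g →
      (∀ k, (J U g).map (p U g k).left.appTop.hom = (I k).map (q U g k).left.appTop.hom) ∧
      (Set.range (Points.ofPt g) ⊆ O → (J U g).FG) := by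
    intro U _ g hg
    letI := fun k => (p U g k).left.appTop.hom.toAlgebra
    haveI := fun k => haff U g k
    haveI : ∀ k, Module.Flat Γ(U.left, ⊤) Γ((P U g k).left, ⊤) := fun k => by
      haveI := hp U g k
      exact HasRingHomProperty.appTop (P := @Flat.{u}) (p U g k).left inferInstance
    haveI : ∀ k, Algebra.Etale Γ(U.left, ⊤) Γ((P U g k).left, ⊤) := fun k =>
      RingHom.etale_algebraMap.1 (HasRingHomProperty.appTop (P := @Etale.{u}) (p U g k).left (hp U g k))
    have hI : ∀ k l, ((I k).map (q U g k).left.appTop.hom).map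
        (Algebra.TensorProduct.includeLeft : Γ((P U g k).left, ⊤) →ₐ[Γ(U.left, ⊤)]
          Γ((P U g k).left, ⊤) ⊗[Γ(U.left, ⊤)] Γ((P U g l).left, ⊤)) =
        ((I l).map (q U g l).left.appTop.hom).map
        (Algebra.TensorProduct.includeRight : Γ((P U g l).left, ⊤) →ₐ[Γ(U.left, ⊤)]
          Γ((P U g k).left, ⊤) ⊗[Γ(U.left, ⊤)] Γ((P U g l).left, ⊤)) := by
      intro k l
      let ψ := (Algebra.TensorProduct.includeLeft : Γ((P U g k).left, ⊤) →ₐ[Γ(U.left, ⊤)]
          Γ((P U g k).left, ⊤) ⊗[Γ(U.left, ⊤)] Γ((P U g l).left, ⊤)).toRingHom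
      let ψ' := (Algebra.TensorProduct.includeRight : Γ((P U g l).left, ⊤) →ₐ[Γ(U.left, ⊤)]
          Γ((P U g k).left, ⊤) ⊗[Γ(U.left, ⊤)] Γ((P U g l).left, ⊤)).toRingHom
      have he : ψ.comp (p U g k).left.appTop.hom = ψ'.comp (p U g l).left.appTop.hom :=
        RingHom.ext fun x => ((Algebra.TensorProduct.includeLeft : Γ((P U g k).left, ⊤) →ₐ[Γ(U.left, ⊤)]
          Γ((P U g k).left, ⊤) ⊗[Γ(U.left, ⊤)] Γ((P U g l).left, ⊤)).commutes x).trans
          ((Algebra.TensorProduct.includeRight : Γ((P U g l).left, ⊤) →ₐ[Γ(U.left, ⊤)]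
          Γ((P U g k).left, ⊤) ⊗[Γ(U.left, ⊤)] Γ((P U g l).left, ⊤)).commutes x).symm
      obtain ⟨b, hb, hbψ⟩ := exists_PT_map (p U g k) (p U g l) he
      haveI : Etale (specPt (P U g k) ψ).left :=
        etale_specPt (RingHom.etale_algebraMap.2 (inferInstance : Algebra.Etale Γ((P U g k).left, ⊤)
          (Γ((P U g k).left, ⊤) ⊗[Γ(U.left, ⊤)] Γ((P U g l).left, ⊤))))
      haveI := hp U g k
      haveI : Etale (specPt (P U g k) ψ ≫ p U g k).left :=
        inferInstanceAs (Etale ((specPt (P U g k) ψ).left ≫ (p U g k).left))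
      have h := hcomp k l _ (specPt (P U g k) ψ ≫ q U g k) (b ≫ q U g l) (by
          rw [← map_comp_sq (sq U g k).w]
          exact repWith_etale_comp _ hg) (by
          rw [← map_comp_sq (sq U g k).w, ← map_comp_sq (sq U g l).w, hb])
      have h2 := congrArg (Ideal.map (gam (Γ((P U g k).left, ⊤) ⊗[Γ(U.left, ⊤)] Γ((P U g l).left, ⊤))).toRingHom) h
      simp only [Over.comp_left, Scheme.Hom.comp_appTop, CommRingCat.hom_comp] at h2
      simp only [← Ideal.map_map] at h2
      rw [Ideal.map_map, gam_specPt, Ideal.map_map (g := (gam _).toRingHom), hbψ] at h2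
      exact h2
    refine ⟨fun k => ?_, fun hgO => ?_⟩
    · exact map_iInf_comap_eq (fun k => Γ((P U g k).left, ⊤)) (fun k => (I k).map (q U g k).left.appTop.hom) hI k
    · refine fg_iInf_comap (fun k => Γ((P U g k).left, ⊤)) (fun x => ?_)
        (fun k => (I k).map (q U g k).left.appTop.hom) hI fun k => (hfg k).map _
      obtain ⟨k, w, hw⟩ := hcover U g hgO (U.left.isoSpec.inv x)
      refine ⟨k, (P U g k).left.isoSpec.hom w, ?_⟩
      rw [show algebraMap Γ(U.left, ⊤) Γ((P U g k).left, ⊤) = (p U g k).left.appTop.hom from rfl, comap_isoSpec, hw]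
      exact congr($(U.left.isoSpec.inv_hom_id) x)
  refine ⟨J, ⟨fun U _ g hg hgO => (hmap U g hg).2 hgO, fun U _ g hg hgO => ?_, ?_⟩, fun k => ?_⟩
  · refine ideal_le_of_cover fun x => ?_
    obtain ⟨k, hk⟩ := hcover U g hgO x
    haveI := haff U g k
    haveI := hp U g k
    refine ⟨_, haff U g k, p U g k, inferInstance, hk, ?_⟩
    rw [(hmap U g hg).1, ← preIdeal_comp, (sq U g k).w, preIdeal_comp]
    exact Ideal.map_mono (hle k)
  · intro U _ g hg hgO V _ w hw
    have hwO : Set.range (Points.ofPt ((yon S).map w ≫ g)) ⊆ O := (range_comp_subset w g).trans hgO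
    have key : ∀ x, ∃ (Q : Over S) (_ : IsAffine Q.left) (r : Q ⟶ V), Flat r.left ∧ x ∈ Set.range r.left ∧
        (J V ((yon S).map w ≫ g)).map r.left.appTop.hom = ((J U g).map w.left.appTop.hom).map r.left.appTop.hom := by
      intro x
      obtain ⟨k, hk⟩ := hcover V _ hwO x
      haveI := haff V ((yon S).map w ≫ g) k
      haveI := haff U g k
      haveI := hp V ((yon S).map w ≫ g) k
      obtain ⟨e, he⟩ := (yon S).map_surjective ((sq U g k).lift
        ((yon S).map (p V ((yon S).map w ≫ g) k ≫ w)) ((yon S).map (q V ((yon S).map w ≫ g) k))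
        (by rw [Functor.map_comp, Category.assoc]; exact (sq V ((yon S).map w ≫ g) k).w))
      have e1 : e ≫ p U g k = p V ((yon S).map w ≫ g) k ≫ w :=
        (yon S).map_injective (by rw [Functor.map_comp, he, IsPullback.lift_fst])
      have e2 : e ≫ q U g k = q V ((yon S).map w ≫ g) k :=
        (yon S).map_injective (by rw [Functor.map_comp, he, IsPullback.lift_snd])
      refine ⟨_, haff V ((yon S).map w ≫ g) k, p V ((yon S).map w ≫ g) k, inferInstance, hk, ?_⟩
      rw [(hmap V _ hw).1, Ideal.map_map, ← CommRingCat.hom_comp, ← Scheme.Hom.comp_appTop, ← Over.comp_left,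
        ← e1, ← e2]
      simp only [Over.comp_left, Scheme.Hom.comp_appTop, CommRingCat.hom_comp]
      rw [← Ideal.map_map, ← Ideal.map_map, (hmap U g hg).1]
    refine le_antisymm (ideal_le_of_cover fun x => ?_) (ideal_le_of_cover fun x => ?_)
    · obtain ⟨Q, hQ, r, hr, hx, he⟩ := key x; exact ⟨Q, hQ, r, hr, hx, he.le⟩
    · obtain ⟨Q, hQ, r, hr, hx, he⟩ := key x; exact ⟨Q, hQ, r, hr, hx, he.ge⟩
  · have key : ∀ x, ∃ (Q : Over S) (_ : IsAffine Q.left) (r : Q ⟶ T k), Flat r.left ∧ x ∈ Set.range r.left ∧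
        (J (T k) (c k)).map r.left.appTop.hom = (I k).map r.left.appTop.hom := by
      intro x
      obtain ⟨l, hl⟩ := hcover (T k) (c k) (hcO k) x
      haveI := haff (T k) (c k) l
      haveI := hp (T k) (c k) l
      refine ⟨_, haff (T k) (c k) l, p (T k) (c k) l, inferInstance, hl, ?_⟩
      rw [(hmap (T k) (c k) (hc k)).1]
      exact (hcomp k l _ _ _ (repWith_etale_comp _ (hc k)) (sq (T k) (c k) l).w).symm
    refine le_antisymm (ideal_le_of_cover fun x => ?_) (ideal_le_of_cover fun x => ?_)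
    · obtain ⟨Q, hQ, r, hr, hx, he⟩ := key x; exact ⟨Q, hQ, r, hr, hx, he.le⟩
    · obtain ⟨Q, hQ, r, hr, hx, he⟩ := key x; exact ⟨Q, hQ, r, hr, hx, he.ge⟩

end Groth.Agent.SpFP87.ThickAffine
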