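import Groth.Agent.SpFP87.FOBase
import Groth.Agent.SpFP87.UnivThick
import Groth.Agent.Om3.UnivExists
/-!
Universal first order thickenings of formally unramified morphisms of schemes, in the category of
algebraic spaces.
-/

set_option autoImplicit false
set_option linter.style.haveILetI false
set_option backward.isDefEq.respectTransparency false
universe u
open CategoryTheory CategoryTheory.Limits AlgebraicGeometry Opposite
open AlgSp

namespace Groth.Agent.SpFP87

variable {S : Scheme.{u}}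

theorem sqZero_of_openPullback {X Y U V : Scheme.{u}} {f : X ⟶ Y} {f' : U ⟶ V} {iU : U ⟶ X} {iV : V ⟶ Y}
    [IsOpenImmersion iV] [QuasiCompact f] (H : IsPullback f' iU iV f) (hf : sqZero f) : sqZero f' := by
  refine Scheme.IdealSheafData.ext (funext fun W => ?_)
  have h1 := congrArg (fun J : Y.IdealSheafData => J.ideal ⟨iV ''ᵁ W, W.2.image_of_isOpenImmersion _⟩) hf
  simp only [Scheme.IdealSheafData.ideal_mul, Pi.mul_apply, Scheme.IdealSheafData.ideal_bot, Pi.bot_apply] at h1 ⊢
  rw [Scheme.ker_ideal_of_isPullback_of_isOpenImmersion f f' iU iV H W]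
  rw [eq_bot_iff]
  refine (Ideal.le_comap_mul _).trans ?_
  rw [h1]
  intro x hx
  exact (map_eq_zero_iff _ (ConcreteCategory.bijective_of_isIso (iV.appIso W).inv).1).1 hx

theorem isFOThickMor_yon_map {U V : Over S} (g : U ⟶ V) (hg : MoreMor.IsFirstOrderThickening g.left) :
    IsFOThickMor ((yon S).map g) := by
  have hj : RepWith thick ((yon S).map g) := (isThickMor_yon_map_iff g).2 hg.1
  refine isFOThickMor_of_atlas (b := 𝟙 _) hj (repWith_id _ V) (repWith_id _ V) fun U₀ hU₀ => ?_
  haveI : IsClosedImmersion g.left := ((thick_iff _).2 hg.1).1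
  have sq := hj.rep.isPullback ((yon S).map (Over.homMk U₀.ι rfl : Over.mk (U₀.ι ≫ V.hom) ⟶ V) ≫ 𝟙 _)
  obtain ⟨r, hr⟩ : ∃ r, (yon S).map r = hj.rep.fst ((yon S).map (Over.homMk U₀.ι rfl : Over.mk (U₀.ι ≫ V.hom) ⟶ V) ≫ 𝟙 _) :=
    (yon S).map_surjective _
  generalize hs : hj.rep.snd ((yon S).map (Over.homMk U₀.ι rfl : Over.mk (U₀.ι ≫ V.hom) ⟶ V) ≫ 𝟙 _) = s at *
  rw [← hr] at sq
  have sq' : IsPullback ((yon S).map r) ((yon S).map s) ((yon S).map g)
      ((yon S).map (Over.homMk U₀.ι rfl : Over.mk (U₀.ι ≫ V.hom) ⟶ V)) :=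
    sq.of_iso (Iso.refl _) (Iso.refl _) (Iso.refl _) (Iso.refl _) (by simp) (by simp) (by simp) (by simp)
  exact sqZero_of_openPullback (f := g.left) (iV := U₀.ι) (isPullback_left sq').flip hg.2

/-- The universal first order thickening of a formally unramified morphism of schemes over `S`. -/
theorem exists_univ_scheme {U V : Over S} (k : U ⟶ V) (hk : FormallyUnramified k.left) :
    ∃ (U' : Over S) (i : U ⟶ U') (h' : U' ⟶ V), MoreMor.IsThickening i.left ∧
      IsUnivFOThick ((yon S).map k) ((yon S).map i) ((yon S).map h') := by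
  obtain ⟨Z, i₀, h₀, hi₀, hw, huniv⟩ := Om3.exists_univ k.left
  let U' : Over S := Over.mk (h₀ ≫ V.hom)
  let i : U ⟶ U' := Over.homMk i₀ (by show i₀ ≫ h₀ ≫ V.hom = U.hom; rw [← Category.assoc, hw]; exact Over.w k)
  let h' : U' ⟶ V := Over.homMk h₀ rfl
  have hw' : i ≫ h' = k := Over.OverMorphism.ext hw
  refine ⟨U', i, h', hi₀.1, isUnivFOThick_of_affine_test _ _ _ (isFOThickMor_yon_map i hi₀)
    (by rw [← Functor.map_comp, hw']) fun T T' j hT' hj a b hab => ?_⟩
  obtain ⟨a, rfl⟩ := (yon S).map_surjective a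
  obtain ⟨b, rfl⟩ := (yon S).map_surjective b
  simp only [← Functor.map_comp] at hab
  obtain ⟨m, ⟨hm1, hm2⟩, hmu⟩ := huniv _ _ j.left b.left a.left
    (isFirstOrderThickening_of_isFOThickMor_yon_map hT' hj) (congrArg CommaMorphism.left ((yon S).map_injective hab))
  let m' : T' ⟶ U' := Over.homMk m (by show m ≫ h₀ ≫ V.hom = T'.hom; rw [← Category.assoc, hm2]; exact Over.w b)
  refine ⟨(yon S).map m', ⟨?_, ?_⟩, fun y hy => ?_⟩
  · rw [← Functor.map_comp, ← Functor.map_comp]
    exact congrArg _ (Over.OverMorphism.ext hm1)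
  · rw [← Functor.map_comp]
    exact congrArg _ (Over.OverMorphism.ext hm2)
  · obtain ⟨y, rfl⟩ := (yon S).map_surjective y
    simp only [← Functor.map_comp] at hy
    refine congrArg _ (Over.OverMorphism.ext (hmu _ ⟨?_, ?_⟩))
    · exact congrArg CommaMorphism.left ((yon S).map_injective hy.1)
    · exact congrArg CommaMorphism.left ((yon S).map_injective hy.2)

end Groth.Agent.SpFP87
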